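import Groth.Agent.Lib.helper11.AWNLoc

/-! Functoriality of the absolute weak normalization of rings and compatibility with
localization. -/

set_option autoImplicit false
universe u
open CategoryTheory CategoryTheory.Limits AlgebraicGeometry MorphismProperty TensorProduct

namespace Groth.Agent.Lib.helper11.AWNFun

open Groth.Agent.Lib.helper11.UHRing Groth.Agent.Lib.helper11.AWNRing
open Groth.Agent.Lib.helper11.AWNLoc

section
variable {A B C D : Type u} [CommRing A] [CommRing B] [CommRing C] [CommRing D]

/-- A universal homeomorphism to an absolutely weakly normal ring is an absolute weak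
normalization. -/
theorem isRingAWN_of_uh_awn (φ : A →+* B) (hφ : UH φ) (hB : HTop.IsAWNRing B) :
    HTop.IsRingAWN φ := by
  obtain ⟨W, _, ω, hω⟩ := Groth.Agent.S7422.result A
  obtain ⟨χ, hχ, -⟩ := hω.2 B φ hφ
  have hbij : Function.Bijective χ := (Groth.Agent.S7423.result ω hω φ hφ χ hχ).mpr hB
  let e : B ≃+* W := RingEquiv.ofBijective χ hbij
  have he : ∀ b, e b = χ b := fun b => rfl
  refine ⟨hφ, fun C _ ψ hψ => ?_⟩
  obtain ⟨θ, hθ, hθu⟩ := hω.2 C ψ hψ
  refine ⟨e.symm.toRingHom.comp θ, ?_, ?_⟩
  · ext a
    have h1 := congrArg (fun g : A →+* W => g a) hθ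
    have h2 := congrArg (fun g : A →+* W => g a) hχ
    simp only [RingHom.comp_apply] at h1 h2
    show e.symm (θ (ψ a)) = φ a
    rw [h1, ← h2, ← he, e.symm_apply_apply]
  · intro θ' hθ'
    have : χ.comp θ' = θ := hθu _ (by
      show (χ.comp θ').comp ψ = ω
      rw [RingHom.comp_assoc, hθ', hχ])
    ext c
    have h1 := congrArg (fun g : C →+* W => g c) this
    simp only [RingHom.comp_apply] at h1
    show θ' c = e.symm (θ c)
    rw [← h1, ← he, e.symm_apply_apply]

/-- base change of a universal homeomorphism along `A → D`. -/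
theorem uh_includeLeft [Algebra A B] [Algebra A D] (hφ : UH (algebraMap A B)) :
    UH (Algebra.TensorProduct.includeLeftRingHom : D →+* D ⊗[A] B) := by
  have hpb := isPullback_SpecMap_of_isPushout _ _ _ _ (CommRingCat.isPushout_tensorProduct A D B)
  exact (MorphismProperty.universally_isStableUnderBaseChange _).of_isPullback hpb.flip hφ

/-- maps out of a universal homeomorphism into an absolutely weakly normal ring extend
uniquely. -/
theorem existsUnique_lift (φ : A →+* B) (hφ : UH φ) (hD : HTop.IsAWNRing D) (ψ : A →+* D) :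
    ∃! χ : B →+* D, χ.comp φ = ψ := by
  letI := φ.toAlgebra
  letI := ψ.toAlgebra
  have hι : UH (Algebra.TensorProduct.includeLeftRingHom : D →+* D ⊗[A] B) :=
    uh_includeLeft (A := A) (B := B) (D := D) hφ
  obtain ⟨r, hr, hru⟩ := (isRingAWN_of_uh_awn (RingHom.id D) uh_id hD).2 (D ⊗[A] B) _ hι
  have hr' : ∀ d : D, r (d ⊗ₜ[A] (1 : B)) = d := fun d =>
    congrArg (fun g : D →+* D => g d) hr
  refine ⟨r.comp (Algebra.TensorProduct.includeRight : B →ₐ[A] D ⊗[A] B).toRingHom, ?_, ?_⟩
  · ext a
    simp only [RingHom.comp_apply, AlgHom.toRingHom_eq_coe, RingHom.coe_coe,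
      Algebra.TensorProduct.includeRight_apply]
    have : (1 : D) ⊗ₜ[A] φ a = ψ a ⊗ₜ[A] (1 : B) := by
      have h1 : φ a = a • (1 : B) := by rw [Algebra.smul_def, mul_one]; rfl
      have h2 : ψ a = a • (1 : D) := by rw [Algebra.smul_def, mul_one]; rfl
      rw [h1, h2, TensorProduct.tmul_smul, TensorProduct.smul_tmul']
    rw [this, hr']
  · intro χ' hχ'
    let g : B →ₐ[A] D := { χ' with commutes' := fun a => congrArg (fun g : A →+* D => g a) hχ' }
    have hg : ∀ b, g b = χ' b := fun b => rfl
    have := hru (Algebra.TensorProduct.productMap (AlgHom.id A D) g).toRingHom (by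
      ext d
      simp)
    ext b
    have h1 := congrArg (fun k : D ⊗[A] B →+* D => k ((1 : D) ⊗ₜ[A] b)) this
    simp only [AlgHom.toRingHom_eq_coe, RingHom.coe_coe,
      Algebra.TensorProduct.productMap_apply_tmul, map_one, one_mul] at h1
    simp only [RingHom.comp_apply, AlgHom.toRingHom_eq_coe, RingHom.coe_coe,
      Algebra.TensorProduct.includeRight_apply]
    rw [← h1, hg]

/-- two absolute weak normalizations are uniquely isomorphic. -/
theorem exists_equiv (φ : A →+* B) (hφ : HTop.IsRingAWN φ) (φ' : A →+* C)
    (hφ' : HTop.IsRingAWN φ') : ∃ e : B ≃+* C, e.toRingHom.comp φ = φ' := by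
  obtain ⟨χ, hχ, -⟩ := hφ'.2 B φ hφ.1
  have := (Groth.Agent.S7423.result φ' hφ' φ hφ.1 χ hχ).mpr (final_isAWNRing φ hφ)
  exact ⟨RingEquiv.ofBijective χ this, hχ⟩

end

section choice

/-- chosen absolute weak normalization of a ring. -/
noncomputable def awnRing (A : Type u) [CommRing A] : Type u :=
  (Groth.Agent.S7422.result A).choose

noncomputable instance (A : Type u) [CommRing A] : CommRing (awnRing A) :=
  (Groth.Agent.S7422.result A).choose_spec.choose

noncomputable def awnMap (A : Type u) [CommRing A] : A →+* awnRing A :=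
  (Groth.Agent.S7422.result A).choose_spec.choose_spec.choose

theorem awnMap_spec (A : Type u) [CommRing A] : HTop.IsRingAWN (awnMap A) :=
  (Groth.Agent.S7422.result A).choose_spec.choose_spec.choose_spec

theorem awnRing_isAWN (A : Type u) [CommRing A] : HTop.IsAWNRing (awnRing A) :=
  final_isAWNRing _ (awnMap_spec A)

variable {A A' A'' : Type u} [CommRing A] [CommRing A'] [CommRing A'']

noncomputable def awnLift (g : A →+* A') : awnRing A →+* awnRing A' :=
  (existsUnique_lift (awnMap A) (awnMap_spec A).1 (awnRing_isAWN A') ((awnMap A').comp g)).exists.choose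

theorem awnLift_comp_awnMap (g : A →+* A') :
    (awnLift g).comp (awnMap A) = (awnMap A').comp g :=
  (existsUnique_lift (awnMap A) (awnMap_spec A).1 (awnRing_isAWN A')
    ((awnMap A').comp g)).exists.choose_spec

theorem awnLift_unique (g : A →+* A') (χ : awnRing A →+* awnRing A')
    (h : χ.comp (awnMap A) = (awnMap A').comp g) : χ = awnLift g :=
  (existsUnique_lift (awnMap A) (awnMap_spec A).1 (awnRing_isAWN A')
    ((awnMap A').comp g)).unique h (awnLift_comp_awnMap g)

theorem awnLift_id : awnLift (RingHom.id A) = RingHom.id (awnRing A) :=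
  (awnLift_unique _ _ (by rw [RingHom.id_comp, RingHom.comp_id])).symm

theorem awnLift_comp (g : A →+* A') (g' : A' →+* A'') :
    awnLift (g'.comp g) = (awnLift g').comp (awnLift g) :=
  (awnLift_unique _ _ (by
    rw [RingHom.comp_assoc, awnLift_comp_awnMap, ← RingHom.comp_assoc, awnLift_comp_awnMap,
      RingHom.comp_assoc])).symm

/-- the absolute weak normalization commutes with localization away from an element. -/
theorem awn_isLocalization [Algebra A A'] (r : A) [IsLocalization.Away r A'] :
    letI := (awnLift (algebraMap A A')).toAlgebra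
    IsLocalization.Away (awnMap A r) (awnRing A') := by
  letI := (awnLift (algebraMap A A')).toAlgebra
  -- the localization of `awnRing A`
  let Bb := Localization.Away (awnMap A r)
  have hunit : IsUnit (((algebraMap (awnRing A) Bb).comp (awnMap A)) r) :=
    IsLocalization.Away.algebraMap_isUnit (awnMap A r)
  let g' : A' →+* Bb := IsLocalization.Away.lift r hunit
  have hg' : g'.comp (algebraMap A A') = (algebraMap (awnRing A) Bb).comp (awnMap A) :=
    IsLocalization.Away.lift_comp r hunit
  haveI : IsLocalization ((Submonoid.powers r).map (awnMap A)) Bb := by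
    rw [Submonoid.map_powers]
    infer_instance
  have hpo := CommRingCat.isPushout_of_isLocalization (awnMap A) g' hg' (Submonoid.powers r)
  have hpb := isPullback_SpecMap_of_isPushout _ _ _ _ hpo
  have huh : UH g' :=
    (MorphismProperty.universally_isStableUnderBaseChange _).of_isPullback hpb (awnMap_spec A).1
  have hBb : HTop.IsAWNRing Bb := awn_away (awnMap A r) (awnRing_isAWN A)
  obtain ⟨e, he⟩ := exists_equiv (awnMap A') (awnMap_spec A') g' (isRingAWN_of_uh_awn g' huh hBb)
  have hcomm : e.toRingHom.comp (awnLift (algebraMap A A')) = algebraMap (awnRing A) Bb := by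
    refine (existsUnique_lift (awnMap A) (awnMap_spec A).1 hBb
      ((algebraMap (awnRing A) Bb).comp (awnMap A))).unique ?_ rfl
    rw [RingHom.comp_assoc, awnLift_comp_awnMap, ← RingHom.comp_assoc, he, hg']
  let e' : awnRing A' ≃ₐ[awnRing A] Bb :=
    { e with commutes' := fun b => congrArg (fun k : awnRing A →+* Bb => k b) hcomm }
  exact IsLocalization.isLocalization_of_algEquiv (Submonoid.powers (awnMap A r)) e'.symm

end choice

end Groth.Agent.Lib.helper11.AWNFun
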