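import Groth.Agent.Lib.helper11.UHRing
import Mathlib.FieldTheory.IsAlgClosed.Basic
import Mathlib.FieldTheory.IsAlgClosed.AlgebraicClosure

/-! Lifting geometric points along integral ring maps surjective on spectra. -/

set_option autoImplicit false
universe u
open CategoryTheory CategoryTheory.Limits AlgebraicGeometry MorphismProperty

namespace Groth.Agent.Lib.helper11.GeomLift

open Groth.Agent.Lib.helper11.UnivHomeo Groth.Agent.Lib.helper11.SqCube
open Groth.Agent.Lib.helper11.UHRing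

theorem exists_lift_algClosed {A C K : Type u} [CommRing A] [CommRing C] [Field K]
    [IsAlgClosed K] (ψ : A →+* C) (hint : ψ.IsIntegral) (hnil : ∀ a, ψ a = 0 → IsNilpotent a)
    (ι : A →+* K) : ∃ σ : C →+* K, σ.comp ψ = ι := by
  haveI : (RingHom.ker ι).IsPrime := RingHom.ker_isPrime ι
  obtain ⟨q, hq, hqp⟩ := spec_surj ψ hint hnil (RingHom.ker ι)
  haveI := hq
  let f : A ⧸ q.comap ψ →+* C ⧸ q := Ideal.quotientMap q ψ le_rfl
  have hf : Function.Injective f := Ideal.quotientMap_injective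
  have hfint : f.IsIntegral := hint.quotient
  let ι' : A ⧸ q.comap ψ →+* K := Ideal.Quotient.lift (q.comap ψ) ι (fun a ha => by
    rw [hqp] at ha
    exact ha)
  have hι' : Function.Injective ι' := by
    apply RingHom.lift_injective_of_ker_le_ideal
    rw [hqp]
  letI : Algebra (A ⧸ q.comap ψ) (C ⧸ q) := f.toAlgebra
  letI : Algebra (A ⧸ q.comap ψ) K := ι'.toAlgebra
  haveI : Module.IsTorsionFree (A ⧸ q.comap ψ) (C ⧸ q) :=
    Module.isTorsionFree_iff_algebraMap_injective.mpr hf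
  haveI : Module.IsTorsionFree (A ⧸ q.comap ψ) K :=
    Module.isTorsionFree_iff_algebraMap_injective.mpr hι'
  haveI : Algebra.IsIntegral (A ⧸ q.comap ψ) (C ⧸ q) := ⟨hfint⟩
  let σ₀ : C ⧸ q →ₐ[A ⧸ q.comap ψ] K := IsAlgClosed.lift
  refine ⟨σ₀.toRingHom.comp (Ideal.Quotient.mk q), ?_⟩
  ext a
  have h1 : σ₀ (algebraMap (A ⧸ q.comap ψ) (C ⧸ q) (Ideal.Quotient.mk _ a)) =
      algebraMap (A ⧸ q.comap ψ) K (Ideal.Quotient.mk _ a) := σ₀.commutes _
  have h2 : algebraMap (A ⧸ q.comap ψ) (C ⧸ q) (Ideal.Quotient.mk _ a) =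
      Ideal.Quotient.mk q (ψ a) := Ideal.quotientMap_mk
  have h3 : algebraMap (A ⧸ q.comap ψ) K (Ideal.Quotient.mk _ a) = ι a :=
    Ideal.Quotient.lift_mk _ _ _
  rw [h2, h3] at h1
  exact h1

end Groth.Agent.Lib.helper11.GeomLift
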