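import Groth.Prelude.Def_Flat
import Mathlib.AlgebraicGeometry.Morphisms.UniversallyInjective
import Mathlib.AlgebraicGeometry.Morphisms.Integral
import Mathlib.RingTheory.Ideal.GoingUp
import Mathlib.RingTheory.IntegralClosure.IsIntegralClosure.Basic

/-! Universal homeomorphisms: characterisation and ring-level criteria. -/

set_option autoImplicit false
universe u
open CategoryTheory CategoryTheory.Limits AlgebraicGeometry MorphismProperty

namespace Groth.Agent.Lib.helper11.UnivHomeo

theorem isUnivHomeo_iff {X Y : Scheme.{u}} (f : X ⟶ Y) :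
    FlatMor.IsUnivHomeo f ↔ UniversallyClosed f ∧ UniversallyInjective f ∧ Surjective f := by
  constructor
  · intro H
    refine ⟨⟨?_⟩, ⟨?_⟩, ⟨?_⟩⟩
    · have hle : (topologically fun f => IsHomeomorph f) ≤
          (topologically @IsClosedMap : MorphismProperty Scheme.{u}) :=
        fun _ _ g hg => IsHomeomorph.isClosedMap hg
      exact universally_mono hle _ H
    · have hle : (topologically fun f => IsHomeomorph f) ≤
          (topologically (Function.Injective ·) : MorphismProperty Scheme.{u}) :=
        fun _ _ g hg => IsHomeomorph.injective hg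
      exact universally_mono hle _ H
    · exact (H _ _ _ IsPullback.of_id_snd : IsHomeomorph f).surjective
  · rintro ⟨h1, h2, h3⟩ X' Y' i₁ i₂ f' hpb
    have h1' : UniversallyClosed f' := MorphismProperty.of_isPullback hpb.flip h1
    have h2' : UniversallyInjective f' := MorphismProperty.of_isPullback hpb.flip h2
    have h3' : Surjective f' := MorphismProperty.of_isPullback hpb.flip h3
    change IsHomeomorph f'
    rw [isHomeomorph_iff_continuous_isClosedMap_bijective]
    exact ⟨f'.continuous, f'.isClosedMap, f'.injective, f'.surjective⟩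

/-- if `g ≫ f'` is universally injective and `g` is surjective then `f'` is universally
injective. -/
theorem univInj_of_comp_surj {X Y Z : Scheme.{u}} (g : X ⟶ Y) (f' : Y ⟶ Z) [Surjective g]
    [UniversallyInjective (g ≫ f')] : UniversallyInjective f' := by
  refine ⟨fun Y' T i₁ i₂ f'' hpb => ?_⟩
  have h1 : IsPullback (pullback.fst i₁ g) (pullback.snd i₁ g) i₁ g := .of_hasPullback _ _
  have h2 : IsPullback (pullback.fst i₁ g ≫ f'') (pullback.snd i₁ g) i₂ (g ≫ f') :=
    (h1.flip.paste_vert hpb.flip).flip
  have h3 : Function.Injective (pullback.fst i₁ g ≫ f'') :=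
    UniversallyInjective.universally_injective _ _ _ h2
  intro y₁ y₂ hy
  obtain ⟨x₁, rfl⟩ := (pullback.fst i₁ g).surjective y₁
  obtain ⟨x₂, rfl⟩ := (pullback.fst i₁ g).surjective y₂
  have : x₁ = x₂ := h3 (by rw [Scheme.Hom.comp_apply, Scheme.Hom.comp_apply]; exact hy)
  rw [this]

section Ring

variable {A B : Type u} [CommRing A] [CommRing B] (α : A →+* B)

theorem univInj_SpecMap_iff :
    UniversallyInjective (Spec.map (CommRingCat.ofHom α)) ↔
      ∀ (K : Type u) [Field K] (φ ψ : B →+* K), φ.comp α = ψ.comp α → φ = ψ := by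
  have htfae := (tfae_universallyInjective (Spec.map (CommRingCat.ofHom α))).out 0 1
  rw [htfae]
  constructor
  · intro H K _ φ ψ h
    have := @H K _ (Spec.map (CommRingCat.ofHom φ)) (Spec.map (CommRingCat.ofHom ψ)) (by
      change Spec.map (CommRingCat.ofHom φ) ≫ Spec.map (CommRingCat.ofHom α) =
        Spec.map (CommRingCat.ofHom ψ) ≫ Spec.map (CommRingCat.ofHom α)
      rw [← Spec.map_comp, ← Spec.map_comp, ← CommRingCat.ofHom_comp, ← CommRingCat.ofHom_comp, h])
    have h2 := Spec.map_injective this
    exact congrArg CommRingCat.Hom.hom h2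
  · intro H K _ g₁ g₂ h
    obtain ⟨φ, rfl⟩ := Spec.map_surjective g₁
    obtain ⟨ψ, rfl⟩ := Spec.map_surjective g₂
    have h' : Spec.map (CommRingCat.ofHom α ≫ φ) = Spec.map (CommRingCat.ofHom α ≫ ψ) := by
      rw [Spec.map_comp, Spec.map_comp]
      exact h
    have h2 := Spec.map_injective h'
    have := H K φ.hom ψ.hom (congrArg CommRingCat.Hom.hom h2)
    congr 1
    exact CommRingCat.hom_ext this

theorem surjective_SpecMap_of_forall
    (h : ∀ p : PrimeSpectrum A, ∃ q : PrimeSpectrum B, PrimeSpectrum.comap α q = p) :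
    Surjective (Spec.map (CommRingCat.ofHom α)) :=
  ⟨fun p => h p⟩

theorem surjective_SpecMap_of_field_points
    (h : ∀ p : PrimeSpectrum A, ∃ (K : Type u) (_ : Field K) (φ : B →+* K),
      RingHom.ker (φ.comp α) = p.asIdeal) :
    Surjective (Spec.map (CommRingCat.ofHom α)) := by
  refine surjective_SpecMap_of_forall α fun p => ?_
  obtain ⟨K, _, φ, hφ⟩ := h p
  refine ⟨⟨RingHom.ker φ, RingHom.ker_isPrime φ⟩, PrimeSpectrum.ext ?_⟩
  change Ideal.comap α (RingHom.ker φ) = _
  rw [RingHom.comap_ker, hφ]

theorem univClosed_SpecMap_of_isIntegral (h : α.IsIntegral) :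
    UniversallyClosed (Spec.map (CommRingCat.ofHom α)) := by
  haveI : IsIntegralHom (Spec.map (CommRingCat.ofHom α)) := IsIntegralHom.SpecMap_iff.mpr h
  infer_instance

theorem isIntegral_of_univClosed_SpecMap [UniversallyClosed (Spec.map (CommRingCat.ofHom α))] :
    α.IsIntegral := by
  have : IsIntegralHom (Spec.map (CommRingCat.ofHom α)) :=
    IsIntegralHom.iff_universallyClosed_and_isAffineHom.mpr ⟨inferInstance, inferInstance⟩
  exact IsIntegralHom.SpecMap_iff.mp this

/-- a ring map from a field to a residue field `q.ResidueField` whose range contains the image of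
the ring is surjective. -/
theorem surjective_of_range_algebraMap_le {K : Type u} [Field K] (q : Ideal B) [q.IsPrime]
    (ρ : K →+* q.ResidueField) (h : ∀ b : B, algebraMap B q.ResidueField b ∈ ρ.range) :
    Function.Surjective ρ := by
  intro z
  obtain ⟨bq, sq, hsq, rfl⟩ := IsFractionRing.div_surjective (A := B ⧸ q) z
  obtain ⟨b, rfl⟩ := Ideal.Quotient.mk_surjective bq
  obtain ⟨s, rfl⟩ := Ideal.Quotient.mk_surjective sq
  rw [Ideal.algebraMap_quotient_residueField_mk, Ideal.algebraMap_quotient_residueField_mk]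
  obtain ⟨u, hu⟩ := h b
  obtain ⟨v, hv⟩ := h s
  exact ⟨u / v, by rw [map_div₀, hu, hv]⟩

/-- the residue field map of `Spec.map α`, transported to `Ideal.ResidueField`. -/
theorem exists_residueFieldMap_transport (q : Spec (CommRingCat.of B)) :
    ∃ ρ : (Spec.map (CommRingCat.ofHom α) q).asIdeal.ResidueField →+* q.asIdeal.ResidueField,
      ρ.comp (algebraMap A _) = (algebraMap B _).comp α ∧
      (Function.Surjective ρ →
        Function.Surjective ((Spec.map (CommRingCat.ofHom α)).residueFieldMap q)) := by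
  let isoP := Scheme.Spec.residueFieldIso (CommRingCat.of A) (Spec.map (CommRingCat.ofHom α) q)
  let isoQ := Scheme.Spec.residueFieldIso (CommRingCat.of B) q
  let ρ₀ := (Spec.map (CommRingCat.ofHom α)).residueFieldMap q
  let ρ'' : CommRingCat.of (Spec.map (CommRingCat.ofHom α) q).asIdeal.ResidueField ⟶
      CommRingCat.of q.asIdeal.ResidueField :=
    isoP.inv ≫ ρ₀ ≫ isoQ.hom
  have key : CommRingCat.ofHom
      (algebraMap A (Spec.map (CommRingCat.ofHom α) q).asIdeal.ResidueField) ≫ ρ'' =
      CommRingCat.ofHom α ≫ CommRingCat.ofHom (algebraMap B q.asIdeal.ResidueField) := by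
    apply Spec.map_injective
    simp only [Spec.map_comp, ρ'', ρ₀, Category.assoc]
    rw [Scheme.Spec.map_residueFieldIso_inv_eq_fromSpecResidueField,
      Scheme.Hom.SpecMap_residueFieldMap_fromSpecResidueField,
      ← Scheme.Spec.map_residueFieldIso_inv_eq_fromSpecResidueField, ← Category.assoc,
      ← Category.assoc, ← Spec.map_comp, Iso.inv_hom_id, Spec.map_id, Category.id_comp]
  refine ⟨ρ''.hom, ?_, fun hsurj => ?_⟩
  · exact congrArg CommRingCat.Hom.hom key
  · have h1 : ρ₀ = isoP.hom ≫ ρ'' ≫ isoQ.inv := by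
      simp only [ρ'', Category.assoc, Iso.hom_inv_id, Category.comp_id, Iso.hom_inv_id_assoc]
    change Function.Surjective ρ₀
    rw [h1]
    have e1 : Function.Bijective isoP.hom := ConcreteCategory.bijective_of_isIso isoP.hom
    have e2 : Function.Bijective isoQ.inv := ConcreteCategory.bijective_of_isIso isoQ.inv
    intro z
    obtain ⟨z₁, rfl⟩ := e2.surjective z
    obtain ⟨z₂, rfl⟩ := hsurj z₁
    obtain ⟨z₃, rfl⟩ := e1.surjective z₂
    exact ⟨z₃, rfl⟩

/-- **trivial residue fields from a section**: if ring maps from `B` to fields are determined by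
their restriction to `A`, and the fibre over `p = α⁻¹ q` has a `κ(p)`-point, then the residue
field extension at `q` is trivial. -/
theorem residueFieldMap_surjective_of_section
    (hα : ∀ (K : Type u) [Field K] (φ ψ : B →+* K), φ.comp α = ψ.comp α → φ = ψ)
    (q : Spec (CommRingCat.of B))
    (σ : B →+* (Spec.map (CommRingCat.ofHom α) q).asIdeal.ResidueField)
    (hσ : σ.comp α = algebraMap A _) :
    Function.Surjective ((Spec.map (CommRingCat.ofHom α)).residueFieldMap q) := by
  obtain ⟨ρ, hρ, hsurj⟩ := exists_residueFieldMap_transport α q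
  apply hsurj
  have h2 : ρ.comp σ = algebraMap B q.asIdeal.ResidueField := by
    apply hα
    rw [RingHom.comp_assoc, hσ, hρ]
  refine surjective_of_range_algebraMap_le q.asIdeal ρ fun b => ⟨σ b, ?_⟩
  rw [← h2]
  rfl

end Ring

section PolyQuot

open Polynomial

variable {A : Type u} [CommRing A] (I : Ideal A[X])

theorem isIntegral_quot (p : A[X]) (hp : p.Monic) (hpI : p ∈ I) :
    (algebraMap A (A[X] ⧸ I)).IsIntegral := by
  have hmk : ∀ P : A[X], Ideal.Quotient.mk I P = aeval (Ideal.Quotient.mk I X) P := by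
    intro P
    have := Polynomial.aeval_algHom_apply (Ideal.Quotient.mkₐ A I) (X : A[X]) P
    rw [Polynomial.aeval_X_left_apply] at this
    exact this.symm
  have ht : IsIntegral A (Ideal.Quotient.mk I (X : A[X])) := by
    refine ⟨p, hp, ?_⟩
    change aeval (Ideal.Quotient.mk I X) p = 0
    rw [← hmk]
    exact Ideal.Quotient.eq_zero_iff_mem.mpr hpI
  intro b
  obtain ⟨P, rfl⟩ := Ideal.Quotient.mk_surjective b
  change IsIntegral A _
  rw [hmk]
  exact (_root_.adjoin_le_integralClosure ht) (Polynomial.aeval_mem_adjoin_singleton _ _)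

theorem hom_ext_quot {K : Type u} [CommRing K] (φ ψ : A[X] ⧸ I →+* K)
    (h : φ.comp (algebraMap A _) = ψ.comp (algebraMap A _))
    (ht : φ (Ideal.Quotient.mk I X) = ψ (Ideal.Quotient.mk I X)) : φ = ψ := by
  apply Ideal.Quotient.ringHom_ext
  apply Polynomial.ringHom_ext
  · intro a
    exact congrArg (fun f : A →+* K => f a) h
  · exact ht

theorem exists_lift_quot {K : Type u} [CommRing K] (ι : A →+* K) (τ : K) (S : Set A[X])
    (hI : I = Ideal.span S) (h : ∀ p ∈ S, eval₂ ι τ p = 0) :
    ∃ φ : A[X] ⧸ I →+* K, φ.comp (algebraMap A _) = ι ∧ φ (Ideal.Quotient.mk I X) = τ := by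
  have hle : ∀ a ∈ I, (eval₂RingHom ι τ) a = 0 := by
    intro a ha
    rw [hI] at ha
    have : Ideal.span S ≤ RingHom.ker (eval₂RingHom ι τ) :=
      Ideal.span_le.mpr fun p hp => h p hp
    exact this ha
  refine ⟨Ideal.Quotient.lift I (eval₂RingHom ι τ) hle, ?_, ?_⟩
  · ext a
    change Ideal.Quotient.lift I (eval₂RingHom ι τ) hle (Ideal.Quotient.mk I (C a)) = ι a
    rw [Ideal.Quotient.lift_mk]
    simp
  · rw [Ideal.Quotient.lift_mk]
    simp

end PolyQuot

end Groth.Agent.Lib.helper11.UnivHomeo
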