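import Groth.Agent.Lib.helper11.SqCube2

/-! Structure of universal homeomorphisms `A ⊆ B`, part 3: the prime case. -/

set_option autoImplicit false
universe u
open CategoryTheory CategoryTheory.Limits AlgebraicGeometry MorphismProperty

namespace Groth.Agent.Lib.helper11.SqCube

open Groth.Agent.Lib.helper11.UnivHomeo Groth.Agent.Lib.helper11.TrivRes

section
variable {A B : Type u} [CommRing A] [CommRing B] (φ : A →+* B)

theorem trivAt_iff_mem_range (Q : Ideal B) [Q.IsPrime] (b : B) :
    TrivAt φ Q b ↔ algebraMap B Q.ResidueField b ∈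
      (Ideal.ResidueField.map (Q.comap φ) Q φ rfl).range := by
  set ρ := Ideal.ResidueField.map (Q.comap φ) Q φ rfl with hρdef
  have hρ' : ∀ a : A, ρ (algebraMap A _ a) = algebraMap B Q.ResidueField (φ a) :=
    fun a => Ideal.ResidueField.map_algebraMap _ _ _ _ a
  constructor
  · rintro ⟨a, s, hs, hmem⟩
    refine ⟨algebraMap A _ a / algebraMap A _ s, ?_⟩
    rw [map_div₀, hρ', hρ']
    have hne : algebraMap B Q.ResidueField (φ s) ≠ 0 := by
      rw [Ne, Ideal.algebraMap_residueField_eq_zero]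
      exact hs
    rw [div_eq_iff hne]
    have := (Ideal.algebraMap_residueField_eq_zero (I := Q)).mpr hmem
    rw [map_sub, map_mul, sub_eq_zero] at this
    rw [← this, mul_comm]
  · rintro ⟨z, hz⟩
    obtain ⟨aq, sq, hsq, rfl⟩ := IsFractionRing.div_surjective (A := A ⧸ (Q.comap φ)) z
    obtain ⟨a, rfl⟩ := Ideal.Quotient.mk_surjective aq
    obtain ⟨s, rfl⟩ := Ideal.Quotient.mk_surjective sq
    rw [Ideal.algebraMap_quotient_residueField_mk, Ideal.algebraMap_quotient_residueField_mk,
      map_div₀, hρ', hρ'] at hz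
    have hs : φ s ∉ Q := by
      intro hmem
      have : Ideal.Quotient.mk (Q.comap φ) s = 0 := by
        rw [Ideal.Quotient.eq_zero_iff_mem]
        exact hmem
      rw [this] at hsq
      exact zero_notMem_nonZeroDivisors hsq
    have hne : algebraMap B Q.ResidueField (φ s) ≠ 0 := by
      rw [Ne, Ideal.algebraMap_residueField_eq_zero]
      exact hs
    rw [div_eq_iff hne] at hz
    refine ⟨a, s, hs, ?_⟩
    rw [← Ideal.algebraMap_residueField_eq_zero, map_sub, map_mul, sub_eq_zero, hz, mul_comm]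

variable {φ}

theorem prime_case (h : Hyp φ) (Q : Ideal B) [hQprime : Q.IsPrime]
    (hQ : ∀ f ∈ Q, ∃ s, φ s ∉ Q ∧ φ s * f ∈ φ.range) (b : B) (hb : ¬ TrivAt φ Q b) :
    ∃ (p : ℕ) (b : B), p.Prime ∧ b ∉ φ.range ∧ (p : B) * b ∈ φ.range ∧ b ^ p ∈ φ.range := by
  classical
  set ρ := Ideal.ResidueField.map (Q.comap φ) Q φ rfl with hρdef
  have hρ' : ∀ a : A, ρ (algebraMap A _ a) = algebraMap B Q.ResidueField (φ a) :=
    fun a => Ideal.ResidueField.map_algebraMap _ _ _ _ a
  letI : Algebra (Q.comap φ).ResidueField Q.ResidueField := ρ.toAlgebra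
  have hrange : (algebraMap (Q.comap φ).ResidueField Q.ResidueField).range = ρ.range := rfl
  haveI : Nonempty (Q.ResidueField →+* AlgebraicClosure Q.ResidueField) := ⟨algebraMap _ _⟩
  haveI : IsPurelyInseparable (Q.comap φ).ResidueField Q.ResidueField := by
    refine IsPurelyInseparable.of_injective_comp_algebraMap _ _
      (AlgebraicClosure Q.ResidueField) ?_
    intro f g hfg
    apply Ideal.ResidueField.ringHom_ext
    apply h.epi
    ext a
    have := congrArg (fun k : (Q.comap φ).ResidueField →+* AlgebraicClosure Q.ResidueField =>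
      k (algebraMap A _ a)) hfg
    simp only [RingHom.comp_apply] at this ⊢
    have e : algebraMap (Q.comap φ).ResidueField Q.ResidueField (algebraMap A _ a) =
        algebraMap B Q.ResidueField (φ a) := hρ' a
    rw [e] at this
    exact this
  obtain ⟨q, hq⟩ := ExpChar.exists (Q.comap φ).ResidueField
  set x := algebraMap B Q.ResidueField b with hx
  have hxr : x ∉ ρ.range := fun hmem => hb ((trivAt_iff_mem_range φ Q b).mpr hmem)
  have hex : ∃ n : ℕ, x ^ q ^ n ∈ ρ.range := by
    have := IsPurelyInseparable.pow_mem (Q.comap φ).ResidueField q x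
    rw [hrange] at this
    exact this
  have hn0 : Nat.find hex ≠ 0 := by
    intro h0
    have := Nat.find_spec hex
    rw [h0, pow_zero, pow_one] at this
    exact hxr this
  obtain ⟨m, hm⟩ := Nat.exists_eq_succ_of_ne_zero hn0
  have hPm : x ^ q ^ m ∉ ρ.range := Nat.find_min hex (by omega)
  have hPm1 : x ^ q ^ (m + 1) ∈ ρ.range := by
    have := Nat.find_spec hex
    rw [hm] at this
    exact this
  -- q is prime
  have hqprime : q.Prime ∧ (q : B) ∈ Q := by
    cases hq with
    | zero =>
      exfalso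
      apply hxr
      simpa using hPm1
    | prime hprime =>
      refine ⟨hprime, ?_⟩
      have h0 : algebraMap A (Q.comap φ).ResidueField (q : A) = 0 := by
        rw [map_natCast]
        exact CharP.cast_eq_zero _ q
      rw [Ideal.algebraMap_residueField_eq_zero, Ideal.mem_comap, map_natCast] at h0
      exact h0
  obtain ⟨hprime, hqQ⟩ := hqprime
  -- the element b' = b ^ (q ^ m)
  have hb' : ¬ TrivAt φ Q (b ^ q ^ m) := by
    rw [trivAt_iff_mem_range, map_pow]
    exact hPm
  have hb'q : TrivAt φ Q ((b ^ q ^ m) ^ q) := by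
    rw [trivAt_iff_mem_range, map_pow, map_pow, ← pow_mul, ← pow_succ]
    exact hPm1
  set b' := b ^ q ^ m with hb'def
  obtain ⟨a, s, hs, hmem⟩ := hb'q
  obtain ⟨s', hs', a', ha'⟩ := hQ _ hmem
  -- u = s' * s
  have hu : φ (s' * s) ∉ Q := by
    rw [map_mul]
    exact fun hh => (hQprime.mem_or_mem hh).elim hs' hs
  have hu2 : φ (s' * s) * b' ^ q ∈ φ.range := by
    refine ⟨a' + s' * a, ?_⟩
    rw [map_add, ha', map_mul, map_mul]
    ring
  have hb2 : (φ (s' * s) * b') ^ q ∈ φ.range := by
    have : (φ (s' * s) * b') ^ q = φ (s' * s) ^ (q - 1) * (φ (s' * s) * b' ^ q) := by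
      rw [mul_pow, ← mul_assoc, ← pow_succ, Nat.sub_add_cancel hprime.one_le]
    rw [this]
    exact φ.range.mul_mem (φ.range.pow_mem ⟨_, rfl⟩ _) hu2
  have hmem2 : (q : B) * (φ (s' * s) * b') ∈ Q := Q.mul_mem_right _ hqQ
  obtain ⟨s'', hs'', a'', ha''⟩ := hQ _ hmem2
  refine ⟨q, φ s'' * (φ (s' * s) * b'), hprime, ?_, ?_, ?_⟩
  · rintro ⟨c, hc⟩
    apply hb'
    refine ⟨c, s'' * (s' * s), ?_, ?_⟩
    · rw [map_mul]
      exact fun hh => (hQprime.mem_or_mem hh).elim hs'' hu
    · rw [hc, map_mul, mul_assoc, sub_self]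
      exact Q.zero_mem
  · refine ⟨a'', ?_⟩
    rw [ha'']
    ring
  · rw [mul_pow]
    exact φ.range.mul_mem (φ.range.pow_mem ⟨_, rfl⟩ _) hb2

end

end Groth.Agent.Lib.helper11.SqCube
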