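import Groth.Agent.Lib.helper11.SqCube
import Mathlib.FieldTheory.PurelyInseparable.Basic
import Mathlib.RingTheory.LocalRing.ResidueField.Ideal

/-! Structure of universal homeomorphisms `A ⊆ B`, part 2: reductions and the prime case. -/

set_option autoImplicit false
universe u
open CategoryTheory CategoryTheory.Limits AlgebraicGeometry MorphismProperty

namespace Groth.Agent.Lib.helper11.SqCube

open Groth.Agent.Lib.helper11.UnivHomeo Groth.Agent.Lib.helper11.TrivRes

section ring
variable {A B : Type u} [CommRing A] [CommRing B] (α : A →+* B)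

theorem ker_nil_of_surjective (h : Surjective (Spec.map (CommRingCat.ofHom α)))
    (a : A) (ha : α a = 0) : IsNilpotent a := by
  rw [← mem_nilradical, nilradical_eq_sInf, Ideal.mem_sInf]
  intro p hp
  haveI : p.IsPrime := hp
  obtain ⟨q, hq⟩ := h.surj ⟨p, hp⟩
  have : a ∈ (Spec.map (CommRingCat.ofHom α) q).asIdeal := by
    change α a ∈ q.asIdeal
    rw [ha]
    exact zero_mem _
  rw [hq] at this
  exact this

theorem surjective_of_integral_of_ker_nil (hint : α.IsIntegral)
    (h : ∀ a, α a = 0 → IsNilpotent a) : Surjective (Spec.map (CommRingCat.ofHom α)) := by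
  refine surjective_SpecMap_of_forall α fun p => ?_
  letI := α.toAlgebra
  haveI : Algebra.IsIntegral A B := ⟨hint⟩
  obtain ⟨Q, -, hQ, hQ'⟩ := Ideal.exists_ideal_over_prime_of_isIntegral p.asIdeal (⊥ : Ideal B) (by
    intro a ha
    rw [Ideal.mem_comap, Ideal.mem_bot] at ha
    obtain ⟨n, hn⟩ := h a ha
    exact Ideal.IsPrime.mem_of_pow_mem inferInstance n (by rw [hn]; exact zero_mem _))
  exact ⟨⟨Q, hQ⟩, PrimeSpectrum.ext hQ'⟩

/-- ring-level hypotheses for an extension inducing a universal homeomorphism. -/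
structure Hyp : Prop where
  inj : Function.Injective α
  int : α.IsIntegral
  epi : ∀ (K : Type u) [Field K] (σ τ : B →+* K), σ.comp α = τ.comp α → σ = τ

theorem hyp_of_univHomeo (hinj : Function.Injective α)
    (hU : FlatMor.IsUnivHomeo (Spec.map (CommRingCat.ofHom α))) : Hyp α := by
  rw [isUnivHomeo_iff] at hU
  obtain ⟨h1, h2, -⟩ := hU
  exact ⟨hinj, isIntegral_of_univClosed_SpecMap α, (univInj_SpecMap_iff α).mp h2⟩

variable {α}

theorem Hyp.spec_inj (h : Hyp α) (Q₁ Q₂ : Ideal B) (h₁ : Q₁.IsPrime) (h₂ : Q₂.IsPrime)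
    (e : Q₁.comap α = Q₂.comap α) : Q₁ = Q₂ := by
  haveI : UniversallyInjective (Spec.map (CommRingCat.ofHom α)) := (univInj_SpecMap_iff α).mpr h.epi
  have hi := (Spec.map (CommRingCat.ofHom α)).injective
  have : (⟨Q₁, h₁⟩ : Spec (CommRingCat.of B)) = ⟨Q₂, h₂⟩ := hi (PrimeSpectrum.ext e)
  exact congrArg PrimeSpectrum.asIdeal this

theorem Hyp.spec_surj (h : Hyp α) (p : Ideal A) [p.IsPrime] :
    ∃ Q : Ideal B, Q.IsPrime ∧ Q.comap α = p := by
  have := surjective_of_integral_of_ker_nil α h.int (fun a ha => by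
    have : a = 0 := h.inj (by rw [ha, map_zero])
    rw [this]
    exact IsNilpotent.zero)
  obtain ⟨q, hq⟩ := this.surj ⟨p, inferInstance⟩
  exact ⟨q.asIdeal, q.2, congrArg PrimeSpectrum.asIdeal hq⟩

end ring

section sub
variable {A B : Type u} [CommRing A] [CommRing B] [Algebra A B]

theorem hyp_val (h : Hyp (algebraMap A B)) (S : Subalgebra A B) :
    Function.Injective (S.val : S →+* B) ∧ (S.val : S →+* B).IsIntegral :=
  ⟨Subtype.val_injective, fun b => IsIntegral.tower_top (R := A) (h.int b)⟩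

theorem surj_val (h : Hyp (algebraMap A B)) (S : Subalgebra A B) :
    Surjective (Spec.map (CommRingCat.ofHom (S.val : S →+* B))) :=
  surjective_of_integral_of_ker_nil _ (hyp_val h S).2 (fun a ha => by
    have : a = 0 := (hyp_val h S).1 (by rw [ha, map_zero])
    rw [this]
    exact IsNilpotent.zero)

theorem Hyp.sub (h : Hyp (algebraMap A B)) (S : Subalgebra A B) : Hyp (algebraMap A S) := by
  refine ⟨?_, ?_, ?_⟩
  · intro a a' haa'
    apply h.inj
    exact congrArg Subtype.val haa'
  · intro s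
    exact (isIntegral_algHom_iff S.val Subtype.val_injective).mp (h.int s.1)
  · haveI := surj_val h S
    have hfg : Spec.map (CommRingCat.ofHom (S.val : S →+* B)) ≫
        Spec.map (CommRingCat.ofHom (algebraMap A S)) =
        Spec.map (CommRingCat.ofHom (algebraMap A B)) := by
      rw [← Spec.map_comp, ← CommRingCat.ofHom_comp]
      rfl
    haveI : UniversallyInjective (Spec.map (CommRingCat.ofHom (S.val : S →+* B)) ≫
        Spec.map (CommRingCat.ofHom (algebraMap A S))) := by
      rw [hfg]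
      exact (univInj_SpecMap_iff _).mpr h.epi
    exact (univInj_SpecMap_iff _).mp (univInj_of_comp_surj
      (Spec.map (CommRingCat.ofHom (S.val : S →+* B))) _)

theorem trivRes_sub (h : Hyp (algebraMap A B)) (ht : TrivRes (algebraMap A B))
    (S : Subalgebra A B) : TrivRes (algebraMap A S) := by
  intro Q' _ s
  obtain ⟨q, hq⟩ := (surj_val h S).surj ⟨Q', inferInstance⟩
  have hq' : ∀ x : S, x ∈ Q' ↔ (x : B) ∈ q.asIdeal := fun x => by
    have : ((Spec.map (CommRingCat.ofHom (S.val : S →+* B))) q).asIdeal = Q' :=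
      congrArg PrimeSpectrum.asIdeal hq
    rw [← this]
    rfl
  obtain ⟨a, t, ht1, ht2⟩ := ht q.asIdeal s.1
  refine ⟨a, t, ?_, ?_⟩
  · rw [hq']
    exact ht1
  · rw [hq']
    exact ht2

end sub

end Groth.Agent.Lib.helper11.SqCube
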