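import Groth.Agent.Lib.helper11.UHRing
import Groth.Prelude.Def_HTop2
import Groth.Agent.S7402
import Groth.Agent.S7403
import Groth.Agent.S7399

/-! Absolutely weakly normal rings and absolute weak normalization of rings. -/

set_option autoImplicit false
universe u
open CategoryTheory CategoryTheory.Limits AlgebraicGeometry MorphismProperty Polynomial

namespace Groth.Agent.Lib.helper11.AWNRing

open Groth.Agent.Lib.helper11.UnivHomeo Groth.Agent.Lib.helper11.SqCube
open Groth.Agent.Lib.helper11.UHRing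

section basic
variable {R : Type u} [CommRing R]

theorem eq_of_sq_cube [IsReduced R] (s t : R) (h2 : s ^ 2 = t ^ 2) (h3 : s ^ 3 = t ^ 3) :
    s = t := by
  have : (s - t) ^ 3 = 0 := by
    have e1 : s ^ 2 * t = t ^ 3 := by rw [h2]; ring
    have e2 : s * t ^ 2 = s ^ 3 := by rw [← h2]; ring
    calc (s - t) ^ 3 = s ^ 3 - 3 * (s ^ 2 * t) + 3 * (s * t ^ 2) - t ^ 3 := by ring
      _ = 0 := by rw [e1, e2, h3]; ring
  exact sub_eq_zero.mp (IsReduced.eq_zero _ ⟨3, this⟩)

theorem isReduced_of_seminormal (h : HTop.IsSeminormalRing R) : IsReduced R := by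
  rw [isReduced_iff_pow_one_lt 2 one_lt_two]
  intro b hb
  obtain ⟨a, ⟨ha1, ha2⟩, -⟩ := h 0 b (by rw [hb]; ring)
  have : a ^ 3 = 0 := by rw [pow_succ, ← ha1, zero_mul]
  rw [ha2, this]

theorem isReduced_of_awn (h : HTop.IsAWNRing R) : IsReduced R := isReduced_of_seminormal h.1

theorem IsAWNRing.of_equiv {S : Type u} [CommRing S] (e : R ≃+* S) (h : HTop.IsAWNRing S) :
    HTop.IsAWNRing R := by
  constructor
  · intro x y hxy
    obtain ⟨a, ⟨ha1, ha2⟩, hau⟩ := h.1 (e x) (e y) (by rw [← map_pow, ← map_pow, hxy])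
    refine ⟨e.symm a, ⟨?_, ?_⟩, ?_⟩
    · apply e.injective
      rw [map_pow, e.apply_symm_apply, ha1]
    · apply e.injective
      rw [map_pow, e.apply_symm_apply, ha2]
    · rintro a' ⟨h1, h2⟩
      have := hau (e a') ⟨by rw [h1, map_pow], by rw [h2, map_pow]⟩
      rw [← this, e.symm_apply_apply]
  · intro p hp x y hxy
    obtain ⟨a, ⟨ha1, ha2⟩, hau⟩ := h.2 p hp (e x) (e y) (by
      rw [← map_pow, ← hxy, map_mul, map_pow, map_natCast])
    refine ⟨e.symm a, ⟨?_, ?_⟩, ?_⟩
    · apply e.injective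
      rw [map_pow, e.apply_symm_apply, ha1]
    · apply e.injective
      rw [map_mul, map_natCast, e.apply_symm_apply, ha2]
    · rintro a' ⟨h1, h2⟩
      have := hau (e a') ⟨by rw [h1, map_pow], by rw [h2, map_mul, map_natCast]⟩
      rw [← this, e.symm_apply_apply]

end basic

section final
variable {A W : Type u} [CommRing A] [CommRing W] (φ : A →+* W) (hφ : HTop.IsRingAWN φ)

include hφ

theorem eq_id (χ : W →+* W) (h : χ.comp φ = φ) : χ = RingHom.id W :=
  (hφ.2 W φ hφ.1).unique h (RingHom.id_comp φ)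

/-- retraction of any universal homeomorphism out of `W`. -/
theorem exists_retraction {C : Type u} [CommRing C] (ι : W →+* C) (hι : UH ι) :
    ∃ χ : C →+* W, χ.comp ι = RingHom.id W := by
  obtain ⟨χ, hχ, -⟩ := hφ.2 C (ι.comp φ) (uh_comp φ ι hφ.1 hι)
  exact ⟨χ, eq_id φ hφ _ (by rw [RingHom.comp_assoc]; exact hχ)⟩

theorem final_reduced : IsReduced W := by
  obtain ⟨χ, hχ⟩ := exists_retraction φ hφ (Ideal.Quotient.mk (nilradical W))
    (uh_of_surjective _ Ideal.Quotient.mk_surjective (fun a ha => by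
      rw [Ideal.Quotient.eq_zero_iff_mem] at ha
      exact ha))
  refine ⟨fun w hw => ?_⟩
  have h0 : Ideal.Quotient.mk (nilradical W) w = 0 := by
    rw [Ideal.Quotient.eq_zero_iff_mem]
    exact hw
  have := congrArg (fun f : W →+* W => f w) hχ
  simp only [RingHom.comp_apply, RingHom.id_apply] at this
  rw [← this, h0, map_zero]

theorem final_isAWNRing : HTop.IsAWNRing W := by
  haveI := final_reduced φ hφ
  constructor
  · intro x y hxy
    obtain ⟨χ, hχ⟩ := exists_retraction φ hφ _ (Groth.Agent.S7402.result W x y hxy).1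
    have hχ' : ∀ w : W, χ (algebraMap W _ w) = w := fun w =>
      congrArg (fun f : W →+* W => f w) hχ
    refine ⟨χ (Ideal.Quotient.mk _ X), ⟨?_, ?_⟩, ?_⟩
    · rw [← map_pow, Groth.Agent.S7402.t_sq, hχ']
    · rw [← map_pow, Groth.Agent.S7402.t_cube, hχ']
    · rintro a' ⟨h1, h2⟩
      refine eq_of_sq_cube _ _ ?_ ?_
      · rw [← h1, ← map_pow, Groth.Agent.S7402.t_sq, hχ']
      · rw [← h2, ← map_pow, Groth.Agent.S7402.t_cube, hχ']
  · intro p hp x y hxy
    obtain ⟨χ, hχ⟩ := exists_retraction φ hφ _ (Groth.Agent.S7403.result W p hp x y hxy)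
    have hχ' : ∀ w : W, χ (algebraMap W _ w) = w := fun w =>
      congrArg (fun f : W →+* W => f w) hχ
    have e1 : (χ (Ideal.Quotient.mk _ X)) ^ p = x := by
      rw [← map_pow, Groth.Agent.S7403.t_pow, hχ']
    have e2 : (p : W) * χ (Ideal.Quotient.mk _ X) = y := by
      have := congrArg χ (Groth.Agent.S7403.t_mul p x y)
      rw [map_mul, map_natCast, hχ'] at this
      exact this
    refine ⟨χ (Ideal.Quotient.mk _ X), ⟨e1.symm, e2.symm⟩, ?_⟩
    rintro a' ⟨h1, h2⟩
    refine Groth.Agent.S7403.eq_of_pow_prime p hp _ _ ?_ ?_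
    · rw [e1, h1]
    · rw [e2, h2]

end final

section bij
variable {B W : Type u} [CommRing B] [CommRing W]

/-- a universal homeomorphism from an absolutely weakly normal ring to a reduced ring is
bijective. -/
theorem bijective_of_awn (χ : B →+* W) (hχ : UH χ) (hB : HTop.IsAWNRing B) [IsReduced W] :
    Function.Bijective χ := by
  haveI := isReduced_of_awn hB
  have hinj : Function.Injective χ := by
    rw [injective_iff_map_eq_zero]
    intro b hb
    exact IsReduced.eq_zero _ (((uh_iff χ).mp hχ).2.2 b hb)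
  refine ⟨hinj, ?_⟩
  by_contra hns
  rcases Groth.Agent.S7399.result χ hinj hns hχ with ⟨c, hc, ⟨x, hx⟩, ⟨y, hy⟩⟩ |
    ⟨p, c, hp, hc, ⟨y, hy⟩, ⟨x, hx⟩⟩
  · have hxy : x ^ 3 = y ^ 2 := by
      apply hinj
      rw [map_pow, map_pow, hx, hy]
      ring
    obtain ⟨a, ⟨ha1, ha2⟩, -⟩ := hB.1 x y hxy
    apply hc
    refine ⟨a, ?_⟩
    refine eq_of_sq_cube _ _ ?_ ?_
    · rw [← map_pow, ← ha1, hx]
    · rw [← map_pow, ← ha2, hy]
  · have hxy : (p : B) ^ p * x = y ^ p := by
      apply hinj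
      rw [map_mul, map_pow, map_pow, map_natCast, hx, hy]
      ring
    obtain ⟨a, ⟨ha1, ha2⟩, -⟩ := hB.2 p hp x y hxy
    apply hc
    refine ⟨a, ?_⟩
    refine Groth.Agent.S7403.eq_of_pow_prime p hp _ _ ?_ ?_
    · rw [← map_pow, ← ha1, hx]
    · rw [← hy, ha2, map_mul, map_natCast]

end bij

end Groth.Agent.Lib.helper11.AWNRing
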