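import Groth.Agent.Lib.helper11.AWNRing
import Groth.Agent.S7422
import Groth.Agent.S7423

/-! Localization of seminormal / absolutely weakly normal rings, local-to-global, and
functoriality of the absolute weak normalization of rings. -/

set_option autoImplicit false
universe u
open CategoryTheory CategoryTheory.Limits AlgebraicGeometry MorphismProperty TensorProduct

namespace Groth.Agent.Lib.helper11.AWNLoc

open Groth.Agent.Lib.helper11.UHRing Groth.Agent.Lib.helper11.AWNRing

section away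
variable {R S : Type u} [CommRing R] [CommRing S] [Algebra R S] (f : R) [IsLocalization.Away f S]

theorem exists_rep (x : S) :
    ∃ K₀, ∀ K, K₀ ≤ K → ∃ u : R, x * algebraMap R S f ^ K = algebraMap R S u := by
  obtain ⟨n, a, h⟩ := IsLocalization.Away.surj f x
  refine ⟨n, fun K hK => ⟨a * f ^ (K - n), ?_⟩⟩
  obtain ⟨j, rfl⟩ := Nat.exists_eq_add_of_le hK
  rw [Nat.add_sub_cancel_left, pow_add, ← mul_assoc, h, map_mul, map_pow]

include S in
theorem exists_eq (a b : R) (h : algebraMap R S a = algebraMap R S b) :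
    ∃ N, ∀ n, N ≤ n → f ^ n * a = f ^ n * b := by
  obtain ⟨N, hN⟩ := IsLocalization.Away.exists_of_eq (S := S) f h
  refine ⟨N, fun n hn => ?_⟩
  obtain ⟨j, rfl⟩ := Nat.exists_eq_add_of_le hn
  rw [pow_add, mul_comm (f ^ N), mul_assoc, hN, mul_assoc]

include f in
theorem isReduced_away [IsReduced R] : IsReduced S :=
  isReduced_localizationPreserves (Submonoid.powers f) S inferInstance

include f in
theorem seminormal_away (hR : HTop.IsSeminormalRing R) : HTop.IsSeminormalRing S := by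
  haveI : IsReduced R := isReduced_of_seminormal hR
  haveI : IsReduced S := isReduced_away f
  intro x y hxy
  obtain ⟨G, hFG⟩ : ∃ G, algebraMap R S f * G = 1 :=
    ⟨IsLocalization.Away.invSelf f, IsLocalization.Away.mul_invSelf f⟩
  obtain ⟨K₁, h₁⟩ := exists_rep f x
  obtain ⟨K₂, h₂⟩ := exists_rep f y
  obtain ⟨u, hu⟩ := h₁ (2 * (K₁ + K₂)) (by omega)
  obtain ⟨v, hv⟩ := h₂ (3 * (K₁ + K₂)) (by omega)
  generalize K₁ + K₂ = K at hu hv
  have e : algebraMap R S (u ^ 3) = algebraMap R S (v ^ 2) := by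
    rw [map_pow, map_pow, ← hu, ← hv, mul_pow, mul_pow, hxy, ← pow_mul, ← pow_mul]
    congr 2
    ring
  obtain ⟨N, hN⟩ := exists_eq (S := S) f _ _ e
  have hN6 := hN (6 * N) (by omega)
  obtain ⟨a₀, ⟨ha1, ha2⟩, -⟩ := hR (u * f ^ (2 * N)) (v * f ^ (3 * N)) (by
    calc (u * f ^ (2 * N)) ^ 3 = f ^ (6 * N) * u ^ 3 := by ring
      _ = f ^ (6 * N) * v ^ 2 := hN6
      _ = (v * f ^ (3 * N)) ^ 2 := by ring)
  set F := algebraMap R S f with hF
  have e1 : algebraMap R S a₀ ^ 2 = x * F ^ (2 * K) * F ^ (2 * N) := by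
    rw [← map_pow, ← ha1, map_mul, map_pow, hu]
  have e2 : algebraMap R S a₀ ^ 3 = y * F ^ (3 * K) * F ^ (3 * N) := by
    rw [← map_pow, ← ha2, map_mul, map_pow, hv]
  have hx : x = (algebraMap R S a₀ * G ^ (K + N)) ^ 2 := by
    calc x = x * (F * G) ^ (2 * K + 2 * N) := by rw [hFG, one_pow, mul_one]
      _ = (x * F ^ (2 * K) * F ^ (2 * N)) * G ^ (2 * K + 2 * N) := by ring
      _ = _ := by rw [← e1]; ring
  have hy : y = (algebraMap R S a₀ * G ^ (K + N)) ^ 3 := by
    calc y = y * (F * G) ^ (3 * K + 3 * N) := by rw [hFG, one_pow, mul_one]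
      _ = (y * F ^ (3 * K) * F ^ (3 * N)) * G ^ (3 * K + 3 * N) := by ring
      _ = _ := by rw [← e2]; ring
  refine ⟨algebraMap R S a₀ * G ^ (K + N), ⟨hx, hy⟩, ?_⟩
  rintro a' ⟨h1, h2⟩
  exact eq_of_sq_cube _ _ (by rw [← h1, ← hx]) (by rw [← h2, ← hy])

include f in
theorem awn_away (hR : HTop.IsAWNRing R) : HTop.IsAWNRing S := by
  haveI : IsReduced R := isReduced_of_awn hR
  haveI : IsReduced S := isReduced_away f
  refine ⟨seminormal_away f hR.1, ?_⟩
  intro p hp x y hxy
  obtain ⟨G, hFG⟩ : ∃ G, algebraMap R S f * G = 1 :=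
    ⟨IsLocalization.Away.invSelf f, IsLocalization.Away.mul_invSelf f⟩
  obtain ⟨K₁, h₁⟩ := exists_rep f x
  obtain ⟨K₂, h₂⟩ := exists_rep f y
  have hp1 : 1 ≤ p := hp.one_lt.le
  obtain ⟨u, hu⟩ := h₁ (p * (K₁ + K₂)) (by nlinarith)
  obtain ⟨v, hv⟩ := h₂ (K₁ + K₂) (by omega)
  generalize K₁ + K₂ = K at hu hv
  have e : algebraMap R S ((p : R) ^ p * u) = algebraMap R S (v ^ p) := by
    rw [map_mul, map_pow, map_pow, map_natCast, ← hu, ← hv, mul_pow, ← hxy, ← pow_mul]
    ring
  obtain ⟨N, hN⟩ := exists_eq (S := S) f _ _ e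
  have hNp := hN (p * N) (by nlinarith)
  obtain ⟨a₀, ⟨ha1, ha2⟩, -⟩ := hR.2 p hp (u * f ^ (p * N)) (v * f ^ N) (by
    calc (p : R) ^ p * (u * f ^ (p * N)) = f ^ (p * N) * ((p : R) ^ p * u) := by ring
      _ = f ^ (p * N) * v ^ p := hNp
      _ = (v * f ^ N) ^ p := by ring)
  set F := algebraMap R S f with hF
  have e1 : algebraMap R S a₀ ^ p = x * F ^ (p * K) * F ^ (p * N) := by
    rw [← map_pow, ← ha1, map_mul, map_pow, hu]
  have e2 : (p : S) * algebraMap R S a₀ = y * F ^ K * F ^ N := by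
    rw [← map_natCast (algebraMap R S), ← map_mul, ← ha2, map_mul, map_pow, hv]
  have hx : x = (algebraMap R S a₀ * G ^ (K + N)) ^ p := by
    calc x = x * (F * G) ^ (p * K + p * N) := by rw [hFG, one_pow, mul_one]
      _ = (x * F ^ (p * K) * F ^ (p * N)) * G ^ (p * K + p * N) := by ring
      _ = _ := by rw [← e1]; ring
  have hy : y = (p : S) * (algebraMap R S a₀ * G ^ (K + N)) := by
    calc y = y * (F * G) ^ (K + N) := by rw [hFG, one_pow, mul_one]
      _ = (y * F ^ K * F ^ N) * G ^ (K + N) := by ring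
      _ = _ := by rw [← e2]; ring
  refine ⟨algebraMap R S a₀ * G ^ (K + N), ⟨hx, hy⟩, ?_⟩
  rintro a' ⟨h1, h2⟩
  exact Groth.Agent.S7403.eq_of_pow_prime p hp _ _ (by rw [← h1, ← hx]) (by rw [← h2, ← hy])

end away

section glue
variable {R : Type u} [CommRing R]

theorem mem_of_pow_smul_mem {M : Type*} [AddCommGroup M] [Module R M] (N : Submodule R M)
    (s : Set R) (hs : Ideal.span s = ⊤) (t : M) (h : ∀ f ∈ s, ∃ k : ℕ, f ^ k • t ∈ N) : t ∈ N := by
  let I : Ideal R := N.comap (LinearMap.toSpanSingleton R M t)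
  suffices I = ⊤ by simpa [I] using I.eq_top_iff_one.mp this
  by_contra ne
  obtain ⟨r, hrs, disj⟩ := Ideal.exists_disjoint_powers_of_span_eq_top s hs I ne
  obtain ⟨k, hk⟩ := h r hrs
  exact Set.disjoint_left.mp disj (show r ^ k ∈ I by simpa [I] using hk) ⟨k, rfl⟩

instance pi_isReduced {ι : Type*} (T : ι → Type*) [∀ i, CommRing (T i)] [∀ i, IsReduced (T i)] :
    IsReduced (∀ i, T i) := by
  refine ⟨fun x hx => ?_⟩
  obtain ⟨n, hn⟩ := hx
  funext i
  exact IsReduced.eq_zero _ ⟨n, by simpa using congrFun hn i⟩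

variable (s : Set R) (hs : Ideal.span s = ⊤)

include hs in
theorem exists_of_local (t : ∀ a : s, Localization.Away a.1)
    (h : ∀ f : s, ∃ (k : ℕ) (c : R), algebraMap R (∀ a : s, Localization.Away a.1) (f.1 ^ k) * t =
      algebraMap R _ c) : ∃ a : R, algebraMap R (∀ a : s, Localization.Away a.1) a = t := by
  have := mem_of_pow_smul_mem (LinearMap.range (Algebra.linearMap R (∀ a : s, Localization.Away a.1)))
    s hs t (fun f hf => by
      obtain ⟨k, c, hc⟩ := h ⟨f, hf⟩
      exact ⟨k, c, by rw [Algebra.smul_def, hc]; rfl⟩)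
  obtain ⟨a, ha⟩ := this
  exact ⟨a, ha⟩

include hs in
theorem isReduced_of_local (h : ∀ f : s, IsReduced (Localization.Away f.1)) : IsReduced R := by
  refine ⟨fun x hx => ?_⟩
  apply Localization.algebraMap_injective_of_span_eq_top s hs
  rw [map_zero]
  exact IsReduced.eq_zero _ (hx.map _)

include hs in
theorem seminormal_of_local (h : ∀ f : s, HTop.IsSeminormalRing (Localization.Away f.1)) :
    HTop.IsSeminormalRing R := by
  haveI : ∀ f : s, IsReduced (Localization.Away f.1) := fun f => isReduced_of_seminormal (h f)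
  haveI := isReduced_of_local s hs this
  have hinj := Localization.algebraMap_injective_of_span_eq_top s hs
  intro x y hxy
  have hex : ∀ f : s, ∃ a : Localization.Away f.1, algebraMap R _ x = a ^ 2 ∧
      algebraMap R _ y = a ^ 3 := fun f =>
    (h f (algebraMap R _ x) (algebraMap R _ y) (by rw [← map_pow, ← map_pow, hxy])).exists
  choose t ht2 ht3 using hex
  have key : ∀ f : s, ∃ (k : ℕ) (c : R),
      algebraMap R (∀ a : s, Localization.Away a.1) (f.1 ^ k) * t = algebraMap R _ c := by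
    intro f
    obtain ⟨K₀, hK⟩ := exists_rep (S := Localization.Away f.1) f.1 (t f)
    obtain ⟨c, hc⟩ := hK K₀ le_rfl
    have e2 : algebraMap R (Localization.Away f.1) (c ^ 2) = algebraMap R _ (x * f.1 ^ (2 * K₀)) := by
      rw [map_pow, ← hc, mul_pow, ← ht2, map_mul, map_pow, ← pow_mul, mul_comm K₀]
    have e3 : algebraMap R (Localization.Away f.1) (c ^ 3) = algebraMap R _ (y * f.1 ^ (3 * K₀)) := by
      rw [map_pow, ← hc, mul_pow, ← ht3, map_mul, map_pow, ← pow_mul, mul_comm K₀]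
    obtain ⟨N₁, hN₁⟩ := exists_eq (S := Localization.Away f.1) f.1 _ _ e2
    obtain ⟨N₂, hN₂⟩ := exists_eq (S := Localization.Away f.1) f.1 _ _ e3
    have h2 := hN₁ (2 * (N₁ + N₂)) (by omega)
    have h3 := hN₂ (3 * (N₁ + N₂)) (by omega)
    generalize N₁ + N₂ = N at h2 h3
    refine ⟨K₀ + N, c * f.1 ^ N, ?_⟩
    refine eq_of_sq_cube _ _ ?_ ?_
    · have : t ^ 2 = algebraMap R (∀ a : s, Localization.Away a.1) x := by
        funext a; exact (ht2 a).symm
      rw [mul_pow, this, ← map_pow, ← map_pow, ← map_mul]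
      congr 1
      calc (f.1 ^ (K₀ + N)) ^ 2 * x = f.1 ^ (2 * N) * (x * f.1 ^ (2 * K₀)) := by ring
        _ = f.1 ^ (2 * N) * c ^ 2 := (h2).symm
        _ = _ := by ring
    · have : t ^ 3 = algebraMap R (∀ a : s, Localization.Away a.1) y := by
        funext a; exact (ht3 a).symm
      rw [mul_pow, this, ← map_pow, ← map_pow, ← map_mul]
      congr 1
      calc (f.1 ^ (K₀ + N)) ^ 3 * y = f.1 ^ (3 * N) * (y * f.1 ^ (3 * K₀)) := by ring
        _ = f.1 ^ (3 * N) * c ^ 3 := (h3).symm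
        _ = _ := by ring
  obtain ⟨a, ha⟩ := exists_of_local s hs t key
  have hx : x = a ^ 2 := by
    apply hinj
    rw [map_pow, ha]
    funext b; exact ht2 b
  have hy : y = a ^ 3 := by
    apply hinj
    rw [map_pow, ha]
    funext b; exact ht3 b
  refine ⟨a, ⟨hx, hy⟩, ?_⟩
  rintro a' ⟨h1, h2⟩
  exact eq_of_sq_cube _ _ (by rw [← h1, ← hx]) (by rw [← h2, ← hy])

include hs in
theorem awn_of_local (h : ∀ f : s, HTop.IsAWNRing (Localization.Away f.1)) :
    HTop.IsAWNRing R := by
  haveI : ∀ f : s, IsReduced (Localization.Away f.1) := fun f => isReduced_of_awn (h f)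
  haveI := isReduced_of_local s hs this
  have hinj := Localization.algebraMap_injective_of_span_eq_top s hs
  refine ⟨seminormal_of_local s hs (fun f => (h f).1), ?_⟩
  intro p hp x y hxy
  have hex : ∀ f : s, ∃ a : Localization.Away f.1, algebraMap R _ x = a ^ p ∧
      algebraMap R _ y = (p : Localization.Away f.1) * a := fun f =>
    ((h f).2 p hp (algebraMap R _ x) (algebraMap R _ y) (by
      rw [← map_pow, ← hxy, map_mul, map_pow, map_natCast])).exists
  choose t ht2 ht3 using hex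
  have key : ∀ f : s, ∃ (k : ℕ) (c : R),
      algebraMap R (∀ a : s, Localization.Away a.1) (f.1 ^ k) * t = algebraMap R _ c := by
    intro f
    obtain ⟨K₀, hK⟩ := exists_rep (S := Localization.Away f.1) f.1 (t f)
    obtain ⟨c, hc⟩ := hK K₀ le_rfl
    have e2 : algebraMap R (Localization.Away f.1) (c ^ p) = algebraMap R _ (x * f.1 ^ (p * K₀)) := by
      rw [map_pow, ← hc, mul_pow, ← ht2, map_mul, map_pow, ← pow_mul, mul_comm K₀]
    have e3 : algebraMap R (Localization.Away f.1) ((p : R) * c) = algebraMap R _ (y * f.1 ^ K₀) := by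
      rw [map_mul, map_natCast, ← hc, ← mul_assoc, ← ht3, map_mul, map_pow]
    obtain ⟨N₁, hN₁⟩ := exists_eq (S := Localization.Away f.1) f.1 _ _ e2
    obtain ⟨N₂, hN₂⟩ := exists_eq (S := Localization.Away f.1) f.1 _ _ e3
    have hp1 : 1 ≤ p := hp.one_lt.le
    have h2 := hN₁ (p * (N₁ + N₂)) (by nlinarith)
    have h3 := hN₂ (N₁ + N₂) (by omega)
    generalize N₁ + N₂ = N at h2 h3
    refine ⟨K₀ + N, c * f.1 ^ N, ?_⟩
    refine Groth.Agent.S7403.eq_of_pow_prime p hp _ _ ?_ ?_
    · have : t ^ p = algebraMap R (∀ a : s, Localization.Away a.1) x := by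
        funext a; exact (ht2 a).symm
      rw [mul_pow, this, ← map_pow, ← map_pow, ← map_mul]
      congr 1
      calc (f.1 ^ (K₀ + N)) ^ p * x = f.1 ^ (p * N) * (x * f.1 ^ (p * K₀)) := by ring
        _ = f.1 ^ (p * N) * c ^ p := (h2).symm
        _ = _ := by ring
    · have : ((p : ℕ) : ∀ a : s, Localization.Away a.1) * t =
          algebraMap R (∀ a : s, Localization.Away a.1) y := by
        funext a; exact (ht3 a).symm
      have e : ((p : ℕ) : ∀ a : s, Localization.Away a.1) = algebraMap R _ (p : R) := by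
        rw [map_natCast]
      rw [mul_left_comm, this, e, ← map_mul, ← map_mul]
      congr 1
      calc f.1 ^ (K₀ + N) * y = f.1 ^ N * (y * f.1 ^ K₀) := by ring
        _ = f.1 ^ N * ((p : R) * c) := (h3).symm
        _ = _ := by ring
  obtain ⟨a, ha⟩ := exists_of_local s hs t key
  have hx : x = a ^ p := by
    apply hinj
    rw [map_pow, ha]
    funext b; exact ht2 b
  have hy : y = (p : R) * a := by
    apply hinj
    rw [map_mul, map_natCast, ha]
    funext b; exact ht3 b
  refine ⟨a, ⟨hx, hy⟩, ?_⟩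
  rintro a' ⟨h1, h2⟩
  exact Groth.Agent.S7403.eq_of_pow_prime p hp _ _ (by rw [← h1, ← hx]) (by rw [← h2, ← hy])

end glue

section transport
variable {R : Type u} [CommRing R]

theorem IsSeminormalRing.of_equiv {S : Type u} [CommRing S] (e : R ≃+* S)
    (h : HTop.IsSeminormalRing S) : HTop.IsSeminormalRing R := by
  intro x y hxy
  obtain ⟨a, ⟨ha1, ha2⟩, hau⟩ := h (e x) (e y) (by rw [← map_pow, ← map_pow, hxy])
  refine ⟨e.symm a, ⟨?_, ?_⟩, ?_⟩
  · apply e.injective
    rw [map_pow, e.apply_symm_apply, ha1]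
  · apply e.injective
    rw [map_pow, e.apply_symm_apply, ha2]
  · rintro a' ⟨h1, h2⟩
    have := hau (e a') ⟨by rw [h1, map_pow], by rw [h2, map_pow]⟩
    rw [← this, e.symm_apply_apply]

theorem seminormal_of_local' (s : Set R) (hs : Ideal.span s = ⊤)
    (h : ∀ f : s, ∃ (S : Type u) (_ : CommRing S) (_ : Algebra R S),
      IsLocalization.Away f.1 S ∧ HTop.IsSeminormalRing S) : HTop.IsSeminormalRing R := by
  refine seminormal_of_local s hs (fun f => ?_)
  obtain ⟨S, _, _, hS, hsn⟩ := h f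
  exact IsSeminormalRing.of_equiv
    (IsLocalization.algEquiv (Submonoid.powers f.1) (Localization.Away f.1) S).toRingEquiv hsn

theorem awn_of_local' (s : Set R) (hs : Ideal.span s = ⊤)
    (h : ∀ f : s, ∃ (S : Type u) (_ : CommRing S) (_ : Algebra R S),
      IsLocalization.Away f.1 S ∧ HTop.IsAWNRing S) : HTop.IsAWNRing R := by
  refine awn_of_local s hs (fun f => ?_)
  obtain ⟨S, _, _, hS, hsn⟩ := h f
  exact IsAWNRing.of_equiv
    (IsLocalization.algEquiv (Submonoid.powers f.1) (Localization.Away f.1) S).toRingEquiv hsn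

end transport

end Groth.Agent.Lib.helper11.AWNLoc
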