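import Groth.Agent.Lib.helper11.AWNFun
import Groth.Agent.S7427
import Mathlib.AlgebraicGeometry.Sites.SmallAffineZariski
import Mathlib.AlgebraicGeometry.Morphisms.Affine

/-! The absolute weak normalization of a scheme, by relative gluing. -/

set_option autoImplicit false
universe u
open CategoryTheory CategoryTheory.Limits AlgebraicGeometry MorphismProperty Opposite

namespace Groth.Agent.Lib.helper11.AWNSch

open Groth.Agent.Lib.helper11.UHRing Groth.Agent.Lib.helper11.AWNRing
open Groth.Agent.Lib.helper11.AWNLoc Groth.Agent.Lib.helper11.AWNFun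
open Groth.Agent.Lib.helper11.UnivHomeo
open AlgebraicGeometry.Scheme AlgebraicGeometry.Scheme.AffineZariskiSite

/-- the absolute weak normalization as a functor on commutative rings. -/
noncomputable def awnFunctor : CommRingCat.{u} ⥤ CommRingCat.{u} where
  obj A := CommRingCat.of (awnRing A)
  map f := CommRingCat.ofHom (awnLift f.hom)
  map_id A := by
    ext1
    exact awnLift_id
  map_comp f g := by
    ext1
    exact awnLift_comp f.hom g.hom

variable (X : Scheme.{u})

/-- the presheaf `U ↦ Γ(X, U)^awn` on affine opens. -/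
noncomputable def F : X.AffineZariskiSiteᵒᵖ ⥤ CommRingCat.{u} :=
  ((toOpensFunctor X).op ⋙ X.presheaf) ⋙ awnFunctor

noncomputable def α : (toOpensFunctor X).op ⋙ X.presheaf ⟶ F X where
  app U := CommRingCat.ofHom (awnMap _)
  naturality {U V} i := by
    ext1
    exact (awnLift_comp_awnMap _).symm

theorem coequifibered : (α X).Coequifibered := by
  refine coequifibered_iff_forall_isLocalizationAway.mpr fun U f => ?_
  haveI := U.2.isLocalization_basicOpen f
  exact awn_isLocalization (A := Γ(X, U.1)) (A' := Γ(X, X.basicOpen f)) f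

/-- the relative gluing data. -/
noncomputable def gd : (directedCover X).RelativeGluingData := relativeGluingData (coequifibered X)

instance : ((gd X).functor ⋙ Scheme.forget).IsLocallyDirected :=
  Cover.RelativeGluingData.instIsLocallyDirectedI₀CompFunctorForgetOfIsThin ..

/-- the absolute weak normalization of `X`. -/
noncomputable def awnScheme : Scheme.{u} := (gd X).glued

noncomputable def ν : awnScheme X ⟶ X := (gd X).toBase

/-- the charts `Spec Γ(X,U)^awn → X^awn`. -/
noncomputable def chart (U : X.AffineZariskiSite) :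
    Spec (CommRingCat.of (awnRing Γ(X, U.1))) ⟶ awnScheme X :=
  colimit.ι (gd X).functor U

instance (U : X.AffineZariskiSite) : IsOpenImmersion (chart X U) :=
  inferInstanceAs (IsOpenImmersion (colimit.ι (gd X).functor U))

theorem natTrans_app (U : X.AffineZariskiSite) :
    (gd X).natTrans.app U = Spec.map (CommRingCat.ofHom (awnMap Γ(X, U.1))) ≫ U.2.isoSpec.inv := by
  simp [gd, relativeGluingData, α]
  rfl

theorem chart_ν (U : X.AffineZariskiSite) :
    chart X U ≫ ν X = Spec.map (CommRingCat.ofHom (awnMap Γ(X, U.1))) ≫ U.2.fromSpec := by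
  have h := (gd X).ι_toBase U
  rw [natTrans_app] at h
  rw [chart, ν]
  refine h.trans ?_
  exact Category.assoc _ _ _

theorem chart_jointly_surjective (x : awnScheme X) :
    ∃ (U : X.AffineZariskiSite) (y : Spec (CommRingCat.of (awnRing Γ(X, U.1)))),
      chart X U y = x :=
  Scheme.IsLocallyDirected.ι_jointly_surjective (gd X).functor x

theorem chart_comp {U V : X.AffineZariskiSite} (i : U ⟶ V) :
    Spec.map (CommRingCat.ofHom (awnLift
      (X.presheaf.map (homOfLE (toOpens_mono i.le)).op).hom)) ≫ chart X V = chart X U :=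
  colimit.w (gd X).functor i

section general

open Groth.Agent.S7427

theorem isUnivHomeo_of_openCover {X Y : Scheme.{u}} (f : X ⟶ Y) (𝒰 : Y.OpenCover)
    (h : ∀ i, FlatMor.IsUnivHomeo (𝒰.pullbackHom f i)) : FlatMor.IsUnivHomeo f := by
  rw [isUnivHomeo_iff]
  refine ⟨(IsZariskiLocalAtTarget.iff_of_openCover (P := @UniversallyClosed) 𝒰).mpr
    fun i => ((isUnivHomeo_iff _).mp (h i)).1,
    (IsZariskiLocalAtTarget.iff_of_openCover (P := @UniversallyInjective) 𝒰).mpr
    fun i => ((isUnivHomeo_iff _).mp (h i)).2.1,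
    (IsZariskiLocalAtTarget.iff_of_openCover (P := @Surjective) 𝒰).mpr
    fun i => ((isUnivHomeo_iff _).mp (h i)).2.2⟩

theorem isUnivHomeo_baseChange {X Y X' Y' : Scheme.{u}} {f : X ⟶ Y} {f' : X' ⟶ Y'}
    {i₁ : X' ⟶ X} {i₂ : Y' ⟶ Y} (H : IsPullback i₁ f' f i₂) (hf : FlatMor.IsUnivHomeo f) :
    FlatMor.IsUnivHomeo f' :=
  (MorphismProperty.universally_isStableUnderBaseChange _).of_isPullback H hf

theorem isAffineHom_of_uh {X Y : Scheme.{u}} (f : X ⟶ Y) (h : FlatMor.IsUnivHomeo f) :
    IsAffineHom f := by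
  have hhomeo : IsHomeomorph f := h _ _ _ IsPullback.of_id_snd
  exact isAffineHom_of_isInducing f hhomeo.isInducing hhomeo.isClosedEmbedding.isClosed_range

end general

theorem isUnivHomeo_ν : FlatMor.IsUnivHomeo (ν X) := by
  refine isUnivHomeo_of_openCover (ν X) (directedCover X) (fun U => ?_)
  have hpb := ((gd X).isPullback_natTrans_ι_toBase U).flip
  have h1 : FlatMor.IsUnivHomeo ((gd X).natTrans.app U) := by
    rw [natTrans_app]
    exact Groth.Agent.S7427.isUnivHomeo_comp _ _ (awnMap_spec _).1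
      (Groth.Agent.S7427.isUnivHomeo_of_isIso _)
  have h2 : pullback.snd (ν X) ((directedCover X).f U) =
      hpb.isoPullback.inv ≫ (gd X).natTrans.app U :=
    (Iso.eq_inv_comp _).mpr hpb.isoPullback_hom_snd
  show FlatMor.IsUnivHomeo (pullback.snd (ν X) ((directedCover X).f U))
  rw [h2]
  exact Groth.Agent.S7427.isUnivHomeo_comp _ _ (Groth.Agent.S7427.isUnivHomeo_of_isIso _) h1

section univ
variable {X} {Y : Scheme.{u}} (π : Y ⟶ X) (hπ : FlatMor.IsUnivHomeo π)

include hπ in
theorem isAffineOpen_preimage (U : X.AffineZariskiSite) : IsAffineOpen (π ⁻¹ᵁ U.1) :=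
  haveI := isAffineHom_of_uh π hπ
  U.2.preimage π

include hπ in
theorem fromSpec_π (U : X.AffineZariskiSite) :
    (isAffineOpen_preimage π hπ U).fromSpec ≫ π = Spec.map (π.app U.1) ≫ U.2.fromSpec := by
  rw [Scheme.Hom.app_eq_appLE]
  exact (IsAffineOpen.SpecMap_appLE_fromSpec π U.2 (isAffineOpen_preimage π hπ U) le_rfl).symm

include hπ in
theorem uh_app (U : X.AffineZariskiSite) : UH (π.app U.1).hom := by
  have hV := isAffineOpen_preimage π hπ U
  have hpb := IsOpenImmersion.isPullback (Spec.map (π.app U.1)) hV.fromSpec U.2.fromSpec π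
    (fromSpec_π π hπ U) (by rw [U.2.opensRange_fromSpec, hV.opensRange_fromSpec])
  exact isUnivHomeo_baseChange hpb.flip hπ

noncomputable def χ (U : X.AffineZariskiSite) : Γ(Y, π ⁻¹ᵁ U.1) →+* awnRing Γ(X, U.1) :=
  ((awnMap_spec Γ(X, U.1)).2 _ (π.app U.1).hom (uh_app π hπ U)).exists.choose

theorem χ_comp (U : X.AffineZariskiSite) :
    (χ π hπ U).comp (π.app U.1).hom = awnMap Γ(X, U.1) :=
  ((awnMap_spec Γ(X, U.1)).2 _ (π.app U.1).hom (uh_app π hπ U)).exists.choose_spec

theorem χ_unique (U : X.AffineZariskiSite) (θ : Γ(Y, π ⁻¹ᵁ U.1) →+* awnRing Γ(X, U.1))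
    (h : θ.comp (π.app U.1).hom = awnMap Γ(X, U.1)) : θ = χ π hπ U :=
  ((awnMap_spec Γ(X, U.1)).2 _ (π.app U.1).hom (uh_app π hπ U)).unique h (χ_comp π hπ U)

noncomputable def hU (U : X.AffineZariskiSite) :
    Spec (CommRingCat.of (awnRing Γ(X, U.1))) ⟶ Y :=
  Spec.map (CommRingCat.ofHom (χ π hπ U)) ≫ (isAffineOpen_preimage π hπ U).fromSpec

theorem hU_π (U : X.AffineZariskiSite) : hU π hπ U ≫ π = chart X U ≫ ν X := by
  rw [chart_ν, hU, Category.assoc, fromSpec_π π hπ U, ← Category.assoc, ← Spec.map_comp]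
  congr 2
  ext1
  exact χ_comp π hπ U

theorem hU_nat {U V : X.AffineZariskiSite} (i : U ⟶ V) :
    Spec.map (CommRingCat.ofHom (awnLift
      (X.presheaf.map (homOfLE (toOpens_mono i.le)).op).hom)) ≫ hU π hπ V = hU π hπ U := by
  have hle : π ⁻¹ᵁ U.1 ≤ π ⁻¹ᵁ V.1 := π.preimage_mono (toOpens_mono i.le)
  have key : (awnLift (X.presheaf.map (homOfLE (toOpens_mono i.le)).op).hom).comp (χ π hπ V) =
      (χ π hπ U).comp (Y.presheaf.map (homOfLE hle).op).hom := by
    refine (existsUnique_lift (π.app V.1).hom (uh_app π hπ V) (awnRing_isAWN Γ(X, U.1))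
      ((awnMap Γ(X, U.1)).comp (X.presheaf.map (homOfLE (toOpens_mono i.le)).op).hom)).unique ?_ ?_
    · rw [RingHom.comp_assoc, χ_comp, awnLift_comp_awnMap]
    · have hn : (Y.presheaf.map (homOfLE hle).op).hom.comp (π.app V.1).hom =
          (π.app U.1).hom.comp (X.presheaf.map (homOfLE (toOpens_mono i.le)).op).hom := by
        rw [← CommRingCat.hom_comp, ← CommRingCat.hom_comp]
        congr 1
        exact (π.naturality (homOfLE (toOpens_mono i.le)).op).symm
      rw [RingHom.comp_assoc, hn, ← RingHom.comp_assoc, χ_comp]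
  rw [hU, hU, ← Category.assoc, ← Spec.map_comp, ← CommRingCat.ofHom_comp, key,
    CommRingCat.ofHom_comp, Spec.map_comp, Category.assoc]
  congr 1
  exact (isAffineOpen_preimage π hπ V).map_fromSpec (isAffineOpen_preimage π hπ U) (homOfLE hle).op

end univ

section final
variable {X} {Y : Scheme.{u}} (π : Y ⟶ X) (hπ : FlatMor.IsUnivHomeo π)

theorem eq_hU (U : X.AffineZariskiSite) (g : Spec (CommRingCat.of (awnRing Γ(X, U.1))) ⟶ Y)
    (hg : g ≫ π = chart X U ≫ ν X) : g = hU π hπ U := by
  have hV := isAffineOpen_preimage π hπ U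
  have hrange : Set.range g ⊆ Set.range hV.fromSpec := by
    rw [hV.range_fromSpec]
    rintro _ ⟨z, rfl⟩
    show π (g z) ∈ U.1
    rw [← Scheme.Hom.comp_apply, hg, chart_ν, Scheme.Hom.comp_apply]
    have : U.2.fromSpec (Spec.map (CommRingCat.ofHom (awnMap Γ(X, U.1))) z) ∈
        Set.range U.2.fromSpec := ⟨_, rfl⟩
    rw [U.2.range_fromSpec] at this
    exact this
  let k := IsOpenImmersion.lift hV.fromSpec g hrange
  have hk : k ≫ hV.fromSpec = g := IsOpenImmersion.lift_fac _ _ _
  let θ := Spec.preimage k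
  have hθ : Spec.map θ = k := Spec.map_preimage k
  have h1 : Spec.map (π.app U.1 ≫ θ) = Spec.map (CommRingCat.ofHom (awnMap Γ(X, U.1))) := by
    rw [← cancel_mono U.2.fromSpec, Spec.map_comp, Category.assoc, ← fromSpec_π π hπ U,
      ← Category.assoc, hθ, hk, hg, chart_ν]
  have h2 : π.app U.1 ≫ θ = CommRingCat.ofHom (awnMap Γ(X, U.1)) := Spec.map_injective h1
  have h3 : θ.hom = χ π hπ U := χ_unique π hπ U θ.hom (by
    rw [← CommRingCat.hom_comp, h2]
    rfl)
  rw [hU, ← h3, ← hk, ← hθ]
  rfl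

theorem isAWNormalization_ν (X : Scheme.{u}) : HTop.IsAWNormalization (ν X) := by
  refine ⟨isUnivHomeo_ν X, fun Y π hπ => ?_⟩
  let c : Cocone (gd X).functor :=
    { pt := Y
      ι := { app := fun U => hU π hπ U
             naturality := fun U V i => by
               simp only [Functor.const_obj_obj, Functor.const_obj_map, Category.comp_id]
               exact hU_nat π hπ i } }
  refine ⟨colimit.desc (gd X).functor c, ?_, ?_⟩
  · show colimit.desc (gd X).functor c ≫ π = ν X
    apply colimit.hom_ext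
    intro U
    rw [colimit.ι_desc_assoc]
    exact hU_π π hπ U
  · intro h' hh'
    apply colimit.hom_ext
    intro U
    rw [colimit.ι_desc]
    refine eq_hU π hπ U _ ?_
    exact (Category.assoc _ _ _).trans (congrArg (fun m => chart X U ≫ m) hh')

end final

end Groth.Agent.Lib.helper11.AWNSch
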