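import Groth.Agent.Lib.helper11.AWNSch
import Groth.Agent.S7420
import Mathlib.AlgebraicGeometry.Morphisms.IsIso
import Mathlib.AlgebraicGeometry.Morphisms.Proper

/-! Further properties of absolutely weakly normal schemes. -/

set_option autoImplicit false
universe u
open CategoryTheory CategoryTheory.Limits AlgebraicGeometry MorphismProperty Opposite

namespace Groth.Agent.Lib.helper11.AWNSch

open Groth.Agent.Lib.helper11.UHRing Groth.Agent.Lib.helper11.AWNRing
open Groth.Agent.Lib.helper11.AWNLoc Groth.Agent.Lib.helper11.AWNFun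
open Groth.Agent.Lib.helper11.UnivHomeo
open AlgebraicGeometry.Scheme AlgebraicGeometry.Scheme.AffineZariskiSite

/-- a scheme covered by spectra of absolutely weakly normal rings is absolutely weakly normal. -/
theorem isAWN_of_charts (T : Scheme.{u})
    (h : ∀ x : T, ∃ (R : CommRingCat.{u}) (f : Spec R ⟶ T) (_ : IsOpenImmersion f),
      x ∈ Set.range f ∧ HTop.IsAWNRing R) : HTop.IsAWN T := by
  intro x
  obtain ⟨R, f, hf, hx, hR⟩ := h x
  refine ⟨⟨f.opensRange, isAffineOpen_opensRange f⟩, hx, ?_⟩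
  let e : Γ(T, f.opensRange) ≅ R := (IsOpenImmersion.ΓIsoTop f).symm ≪≫ Scheme.ΓSpecIso R
  exact IsAWNRing.of_equiv e.commRingCatIsoToRingEquiv hR

theorem isAWN_awnScheme (X : Scheme.{u}) : HTop.IsAWN (awnScheme X) := by
  refine isAWN_of_charts _ (fun x => ?_)
  obtain ⟨U, y, hy⟩ := chart_jointly_surjective X x
  exact ⟨_, chart X U, inferInstance, ⟨y, hy⟩, awnRing_isAWN _⟩

theorem isAWN_of_iso {T T' : Scheme.{u}} (e : T ≅ T') (h : HTop.IsAWN T) : HTop.IsAWN T' := by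
  intro x'
  obtain ⟨U, hxU, hU⟩ := h (e.inv x')
  have hU' : IsAffineOpen (e.inv ⁻¹ᵁ U.1) := U.2.preimage_of_isIso e.inv
  refine ⟨⟨e.inv ⁻¹ᵁ U.1, hU'⟩, hxU, ?_⟩
  exact IsAWNRing.of_equiv (asIso (e.inv.app U.1)).symm.commRingCatIsoToRingEquiv hU

theorem isReduced_of_isAWN {T : Scheme.{u}} (h : HTop.IsAWN T) : AlgebraicGeometry.IsReduced T := by
  haveI : ∀ x : T, _root_.IsReduced (T.presheaf.stalk x) := fun x => by
    obtain ⟨U, hxU, hU⟩ := h x
    have hred : _root_.IsReduced Γ(T, U.1) := isReduced_of_awn hU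
    letI := TopCat.Presheaf.algebra_section_stalk T.presheaf ⟨x, hxU⟩
    haveI := U.2.isLocalization_stalk ⟨x, hxU⟩
    exact isReduced_localizationPreserves (U.2.primeIdealOf ⟨x, hxU⟩).asIdeal.primeCompl
      (T.presheaf.stalk x) hred
  exact isReduced_of_isReduced_stalk T

/-- an affine morphism which is bijective on sections over all affine opens is an
isomorphism. -/
theorem isIso_of_forall_app_bijective {X Y : Scheme.{u}} (π : Y ⟶ X)
    (hπ : FlatMor.IsUnivHomeo π)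
    (h : ∀ U : X.AffineZariskiSite, Function.Bijective (π.app U.1).hom) : IsIso π := by
  refine (IsZariskiLocalAtTarget.iff_of_openCover (P := isomorphisms Scheme)
    (directedCover X)).mpr (fun U => ?_)
  have hV := isAffineOpen_preimage π hπ U
  have H : hV.fromSpec ≫ π = (Spec.map (π.app U.1) ≫ U.2.isoSpec.inv) ≫ U.1.ι := by
    rw [fromSpec_π π hπ U, Category.assoc]
    rfl
  have hpb := IsOpenImmersion.isPullback (Spec.map (π.app U.1) ≫ U.2.isoSpec.inv) hV.fromSpec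
    U.1.ι π H (by rw [Scheme.Opens.opensRange_ι, hV.opensRange_fromSpec])
  haveI : IsIso (Spec.map (π.app U.1)) := isIso_SpecMap_iff.mpr (h U)
  have h2 : pullback.snd π ((directedCover X).f U) =
      hpb.flip.isoPullback.inv ≫ (Spec.map (π.app U.1) ≫ U.2.isoSpec.inv) :=
    (Iso.eq_inv_comp _).mpr hpb.flip.isoPullback_hom_snd
  show IsIso (pullback.snd π ((directedCover X).f U))
  rw [h2]
  infer_instance

/-- a universal homeomorphism from a reduced scheme to an absolutely weakly normal scheme is an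
isomorphism. -/
theorem isIso_of_uh_of_isAWN {X Y : Scheme.{u}} (π : Y ⟶ X) (hπ : FlatMor.IsUnivHomeo π)
    [AlgebraicGeometry.IsReduced Y] (hX : HTop.IsAWN X) : IsIso π := by
  refine isIso_of_forall_app_bijective π hπ (fun U => ?_)
  have hU : HTop.IsAWNRing Γ(X, U.1) := (Groth.Agent.S7420.result X).2.mp hX ⟨U.1, U.2⟩
  exact bijective_of_awn (π.app U.1).hom (uh_app π hπ U) hU

theorem isUnivHomeo_of_comp {X' Y X : Scheme.{u}} (h : X' ⟶ Y) (π : Y ⟶ X)
    (hπ : FlatMor.IsUnivHomeo π) (hν : FlatMor.IsUnivHomeo (h ≫ π)) : FlatMor.IsUnivHomeo h := by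
  haveI : IsAffineHom π := isAffineHom_of_uh π hπ
  have hπ' := (isUnivHomeo_iff π).mp hπ
  rw [isUnivHomeo_iff] at hν ⊢
  obtain ⟨c1, c2, c3⟩ := hν
  refine ⟨UniversallyClosed.of_comp_of_isSeparated h π, ?_, ?_⟩
  · refine ((tfae_universallyInjective h).out 0 1).mpr ?_
    intro K _ g₁ g₂ hg
    have h2 := ((tfae_universallyInjective (h ≫ π)).out 0 1).mp c2
    refine h2 K ?_
    show g₁ ≫ h ≫ π = g₂ ≫ h ≫ π
    rw [← Category.assoc, ← Category.assoc]
    exact congrArg (· ≫ π) hg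
  · haveI := hπ'.2.1
    refine ⟨fun y => ?_⟩
    obtain ⟨x', hx'⟩ := c3.surj (π y)
    refine ⟨x', π.injective ?_⟩
    rw [← Scheme.Hom.comp_apply]
    exact hx'

/-- two absolute weak normalizations are isomorphic. -/
theorem exists_iso_of_isAWNormalization {X X₁ X₂ : Scheme.{u}} (ν₁ : X₁ ⟶ X) (ν₂ : X₂ ⟶ X)
    (h₁ : HTop.IsAWNormalization ν₁) (h₂ : HTop.IsAWNormalization ν₂) :
    ∃ e : X₁ ≅ X₂, e.hom ≫ ν₂ = ν₁ := by
  obtain ⟨a, ha, -⟩ := h₁.2 X₂ ν₂ h₂.1
  obtain ⟨b, hb, -⟩ := h₂.2 X₁ ν₁ h₁.1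
  have hab : a ≫ b = 𝟙 X₁ :=
    (h₁.2 X₁ ν₁ h₁.1).unique (by rw [Category.assoc, hb, ha]) (Category.id_comp _)
  have hba : b ≫ a = 𝟙 X₂ :=
    (h₂.2 X₂ ν₂ h₂.1).unique (by rw [Category.assoc, ha, hb]) (Category.id_comp _)
  exact ⟨⟨a, b, hab, hba⟩, ha⟩

theorem isAWN_of_isAWNormalization {X X' : Scheme.{u}} (ν : X' ⟶ X)
    (hν : HTop.IsAWNormalization ν) : HTop.IsAWN X' := by
  obtain ⟨e, -⟩ := exists_iso_of_isAWNormalization ν (AWNSch.ν X) hν (isAWNormalization_ν X)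
  exact isAWN_of_iso e.symm (isAWN_awnScheme X)

theorem isAWNormalization_of_iso {X X' X'' : Scheme.{u}} (ν : X' ⟶ X)
    (hν : HTop.IsAWNormalization ν) (e : X'' ≅ X') : HTop.IsAWNormalization (e.hom ≫ ν) := by
  refine ⟨Groth.Agent.S7427.isUnivHomeo_comp _ _ (Groth.Agent.S7427.isUnivHomeo_of_isIso _) hν.1,
    fun Y π hπ => ?_⟩
  obtain ⟨a, ha, hau⟩ := hν.2 Y π hπ
  refine ⟨e.hom ≫ a, by show (e.hom ≫ a) ≫ π = e.hom ≫ ν; rw [Category.assoc, ha], fun b hb => ?_⟩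
  have : e.inv ≫ b = a := hau _ (by
    show (e.inv ≫ b) ≫ π = ν
    rw [Category.assoc, hb, Iso.inv_hom_id_assoc])
  rw [← this, Iso.hom_inv_id_assoc]

end Groth.Agent.Lib.helper11.AWNSch
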