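import Groth.Agent.Lib.helper11.FlatDiag
import Mathlib.RingTheory.Ideal.Pure
import Mathlib.RingTheory.KrullDimension.Zero
import Mathlib.RingTheory.LocalProperties.Reduced
import Mathlib.RingTheory.Flat.Localization
import Mathlib.RingTheory.Ideal.MinimalPrime.Basic
import Mathlib.Tactic

/-! Absolutely flat (von Neumann regular) rings, and weakly étale over reduced is reduced. -/

namespace Groth.Agent.Lib.helper11.AbsFlat

open TensorProduct

universe u

/-- von Neumann regular: every `x` is `x * x * z`. -/
def IsVNR (A : Type u) [CommRing A] : Prop := ∀ x : A, ∃ z : A, x = x * x * z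

theorem vnr_of_flat (A : Type u) [CommRing A]
    (h : ∀ (M : Type u) [AddCommGroup M] [Module A M], Module.Flat A M) : IsVNR A := by
  intro x
  have : (Ideal.span {x}).Pure := h _
  obtain ⟨y, hy, hxy⟩ := Ideal.exists_eq_mul_of_pure (I := Ideal.span {x})
    (Ideal.subset_span (Set.mem_singleton x))
  rw [Ideal.mem_span_singleton'] at hy
  obtain ⟨z, rfl⟩ := hy
  exact ⟨z, by linear_combination hxy⟩

theorem isReduced_of_vnr (A : Type u) [CommRing A] (h : IsVNR A) : IsReduced A := by
  rw [isReduced_iff_pow_one_lt 2 one_lt_two]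
  intro x hx
  obtain ⟨z, hz⟩ := h x
  rw [hz, ← pow_two, hx, zero_mul]

theorem isMaximal_of_vnr (A : Type u) [CommRing A] (h : IsVNR A) (p : Ideal A) (hp : p.IsPrime) :
    p.IsMaximal := by
  rw [Ideal.isMaximal_iff]
  refine ⟨fun h1 => hp.ne_top ((Ideal.eq_top_iff_one p).2 h1), ?_⟩
  intro J x hpJ hxp hxJ
  obtain ⟨z, hz⟩ := h x
  have h0 : x * (1 - x * z) = 0 := by
    have : x * (1 - x * z) = x - x * x * z := by ring
    rw [this, ← hz, sub_self]
  have h1 : 1 - x * z ∈ p := by
    have : x * (1 - x * z) ∈ p := by rw [h0]; exact p.zero_mem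
    rcases hp.mem_or_mem this with h2 | h2
    · exact absurd h2 hxp
    · exact h2
  have : (1 : A) = (1 - x * z) + x * z := by ring
  rw [this]
  exact J.add_mem (hpJ h1) (J.mul_mem_right z hxJ)

theorem isField_localization (A : Type u) [CommRing A] [IsReduced A]
    (hmax : ∀ p : Ideal A, p.IsPrime → p.IsMaximal) (p : Ideal A) [hp : p.IsPrime] :
    IsField (Localization.AtPrime p) := by
  have : Ring.KrullDimLE 0 A := Ring.krullDimLE_zero_iff.mpr hmax
  have hpmin : p ∈ minimalPrimes A := by
    rw [Ring.KrullDimLE.minimalPrimes_eq_setOfPred_isPrime]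
    exact hp
  have : Ring.KrullDimLE 0 (Localization.AtPrime p) :=
    Ring.KrullDimLE.of_isLocalization p hpmin _
  exact Ring.KrullDimLE.isField_of_isReduced

theorem flat_of_isField_localization (A : Type u) [CommRing A]
    (h : ∀ (p : Ideal A) [p.IsPrime], IsField (Localization.AtPrime p))
    (M : Type u) [AddCommGroup M] [Module A M] : Module.Flat A M := by
  apply Module.flat_of_localized_maximal
  intro P hP
  letI : Field (Localization.AtPrime P) := (h P).toField
  have : Module.Flat (Localization.AtPrime P) (LocalizedModule P.primeCompl M) := inferInstance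
  exact Module.Flat.trans A (Localization.AtPrime P) (LocalizedModule P.primeCompl M)

theorem flat_of_vnr (A : Type u) [CommRing A] (h : IsVNR A)
    (M : Type u) [AddCommGroup M] [Module A M] : Module.Flat A M := by
  have := isReduced_of_vnr A h
  exact flat_of_isField_localization A
    (fun p _ => isField_localization A (isMaximal_of_vnr A h) p) M

/-- A product of rings which are fields is von Neumann regular. -/
theorem vnr_pi {ι : Type u} (K : ι → Type u) [∀ i, CommRing (K i)] (hK : ∀ i, IsField (K i)) :
    IsVNR (∀ i, K i) := by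
  classical
  intro x
  have : ∀ i, ∃ z : K i, x i = x i * x i * z := by
    intro i
    by_cases hx : x i = 0
    · exact ⟨0, by rw [hx]; ring⟩
    · obtain ⟨y, hy⟩ := (hK i).mul_inv_cancel hx
      exact ⟨y, by rw [mul_assoc, hy, mul_one]⟩
  choose z hz using this
  exact ⟨z, funext hz⟩

section reduced

variable (A : Type u) [CommRing A]

instance (p : minimalPrimes A) : p.1.IsPrime := p.2.1.1

/-- The product of the localizations at minimal primes. -/
abbrev MinProd : Type u := ∀ p : minimalPrimes A, Localization.AtPrime p.1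

theorem vnr_minProd [IsReduced A] : IsVNR (MinProd A) := by
  apply vnr_pi
  intro p
  have : Ring.KrullDimLE 0 (Localization.AtPrime p.1) :=
    Ring.KrullDimLE.of_isLocalization p.1 p.2 _
  exact Ring.KrullDimLE.isField_of_isReduced

theorem algebraMap_minProd_injective [IsReduced A] :
    Function.Injective (algebraMap A (MinProd A)) := by
  rw [injective_iff_map_eq_zero]
  intro a ha
  by_contra hne
  have hnil : ¬ IsNilpotent a := fun hn => hne (hn.eq_zero)
  rw [nilpotent_iff_mem_prime] at hnil
  push Not at hnil
  obtain ⟨q, hq, haq⟩ := hnil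
  obtain ⟨p, hp, hpq⟩ := Ideal.exists_minimalPrimes_le (I := ⊥) (J := q) bot_le
  have hap : a ∉ p := fun h => haq (hpq h)
  haveI : p.IsPrime := hp.1.1
  have h1 := congrFun ha ⟨p, hp⟩
  change algebraMap A (Localization.AtPrime p) a = 0 at h1
  have hunit : IsUnit (algebraMap A (Localization.AtPrime p) a) :=
    IsLocalization.map_units (M := p.primeCompl) _ ⟨a, hap⟩
  rw [h1] at hunit
  exact not_isUnit_zero hunit

end reduced

/-- A weakly étale algebra over a reduced ring is reduced. -/
theorem isReduced_of_weaklyEtale (A B : Type u) [CommRing A] [CommRing B] [Algebra A B] [IsReduced A]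
    [Algebra.WeaklyEtale A B] : IsReduced B := by
  have hA' : IsVNR (MinProd A) := vnr_minProd A
  -- all modules over B' are flat
  have hB'flat : ∀ (M : Type u) [AddCommGroup M] [Module (MinProd A ⊗[A] B) M],
      Module.Flat (MinProd A ⊗[A] B) M := by
    intro M _ _
    letI : Module (MinProd A) M := Module.compHom M (algebraMap (MinProd A) (MinProd A ⊗[A] B))
    have : IsScalarTower (MinProd A) (MinProd A ⊗[A] B) M := ⟨fun a c m => by
      have h1 : a • c = algebraMap (MinProd A) (MinProd A ⊗[A] B) a * c := Algebra.smul_def a c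
      rw [h1, mul_smul]; rfl⟩
    have : Module.Flat (MinProd A) M := flat_of_vnr _ hA' M
    exact FlatDiag.flat_of_flat_lmul (MinProd A) (MinProd A ⊗[A] B)
      (Algebra.WeaklyEtale.flat_lmul' (MinProd A) (MinProd A ⊗[A] B)) M
  have hB'red : IsReduced (MinProd A ⊗[A] B) := isReduced_of_vnr _ (vnr_of_flat _ hB'flat)
  have hinj : Function.Injective
      (Algebra.TensorProduct.includeRight : B →ₐ[A] MinProd A ⊗[A] B) := by
    have h1 : Function.Injective ((Algebra.linearMap A (MinProd A)).rTensor B) :=
      Module.Flat.rTensor_preserves_injective_linearMap _ (algebraMap_minProd_injective A)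
    have h2 : ∀ b : B, (Algebra.TensorProduct.includeRight : B →ₐ[A] MinProd A ⊗[A] B) b =
        (Algebra.linearMap A (MinProd A)).rTensor B ((TensorProduct.lid A B).symm b) := by
      intro b
      simp
    intro b₁ b₂ hb
    rw [h2, h2] at hb
    exact (TensorProduct.lid A B).symm.injective (h1 hb)
  exact isReduced_of_injective
    (Algebra.TensorProduct.includeRight : B →ₐ[A] MinProd A ⊗[A] B) hinj

end Groth.Agent.Lib.helper11.AbsFlat
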