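import Groth.Prelude.Def_W4stkschemesremainderFib
import Mathlib.AlgebraicGeometry.Pullbacks
import Mathlib.AlgebraicGeometry.ResidueField
import Mathlib.AlgebraicGeometry.Fiber
import Mathlib.LinearAlgebra.Dimension.Constructions
import Mathlib.RingTheory.TensorProduct.Finite

/-! Bounded fibre degrees: basic invariance lemmas. -/

set_option autoImplicit false
universe u
open CategoryTheory CategoryTheory.Limits AlgebraicGeometry BddFib TensorProduct

namespace Groth.Agent.Lib.helper11.BddFib1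

/-- ring-level: `A` is a finite `K`-module of rank at most `n` via `φ`. -/
def RingFinLE {K A : Type*} [CommRing K] [CommRing A] (φ : K →+* A) (n : ℕ) : Prop :=
  letI := φ.toAlgebra
  Module.Finite K A ∧ Module.finrank K A ≤ n

theorem ringFinLE_of_equiv {K A B : Type*} [CommRing K] [CommRing A] [CommRing B] (φ : K →+* A)
    (ψ : K →+* B) (e : A ≃+* B) (h : ∀ x, e (φ x) = ψ x) (n : ℕ) (H : RingFinLE φ n) :
    RingFinLE ψ n := by
  letI := φ.toAlgebra
  letI := ψ.toAlgebra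
  let e' : A ≃ₐ[K] B := { e with commutes' := h }
  obtain ⟨h1, h2⟩ := H
  exact ⟨Module.Finite.equiv e'.toLinearEquiv, by rw [← e'.toLinearEquiv.finrank_eq]; exact h2⟩

theorem finiteOfDegLE_iff {K : CommRingCat.{u}} {T : Scheme.{u}} (p : T ⟶ Spec K) (n : ℕ) :
    FiniteOfDegLE K p n ↔
      IsAffine T ∧ RingFinLE ((Scheme.ΓSpecIso K).inv ≫ p.appTop).hom n := Iff.rfl

theorem finiteOfDegLE_of_iso {K : CommRingCat.{u}} {T T' : Scheme.{u}} (p : T ⟶ Spec K)
    (p' : T' ⟶ Spec K) (e : T ≅ T') (he : e.hom ≫ p' = p) (n : ℕ) (H : FiniteOfDegLE K p' n) :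
    FiniteOfDegLE K p n := by
  rw [finiteOfDegLE_iff] at H ⊢
  obtain ⟨hA, hR⟩ := H
  refine ⟨.of_isIso e.hom, ?_⟩
  let i : Γ(T', ⊤) ≅ Γ(T, ⊤) :=
    ⟨e.hom.appTop, e.inv.appTop, by rw [← Scheme.Hom.comp_appTop, e.inv_hom_id, Scheme.Hom.id_appTop],
      by rw [← Scheme.Hom.comp_appTop, e.hom_inv_id, Scheme.Hom.id_appTop]⟩
  refine ringFinLE_of_equiv _ _ i.commRingCatIsoToRingEquiv (fun x => ?_) n hR
  have hx : ((Scheme.ΓSpecIso K).inv ≫ p'.appTop) ≫ i.hom = (Scheme.ΓSpecIso K).inv ≫ p.appTop := by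
    rw [Category.assoc, ← he, Scheme.Hom.comp_appTop]
  exact ConcreteCategory.congr_hom hx x

theorem finiteOfDegLE_SpecMap {K A : CommRingCat.{u}} (φ : K ⟶ A) (n : ℕ) :
    FiniteOfDegLE K (Spec.map φ) n ↔ RingFinLE φ.hom n := by
  rw [finiteOfDegLE_iff]
  have hnat := Scheme.ΓSpecIso_inv_naturality φ
  constructor
  · rintro ⟨-, hR⟩
    refine ringFinLE_of_equiv _ _ (Scheme.ΓSpecIso A).commRingCatIsoToRingEquiv (fun x => ?_) n hR
    have hx : ((Scheme.ΓSpecIso K).inv ≫ (Spec.map φ).appTop) ≫ (Scheme.ΓSpecIso A).hom = φ := by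
      rw [← hnat, Category.assoc, Iso.inv_hom_id, Category.comp_id]
    exact ConcreteCategory.congr_hom hx x
  · intro hR
    refine ⟨inferInstance, ?_⟩
    refine ringFinLE_of_equiv _ _ (Scheme.ΓSpecIso A).symm.commRingCatIsoToRingEquiv
      (fun x => ?_) n hR
    exact ConcreteCategory.congr_hom hnat x

theorem ringFinLE_algebraMap {K A : Type*} [CommRing K] [CommRing A] [inst : Algebra K A] (n : ℕ) :
    RingFinLE (algebraMap K A) n ↔ Module.Finite K A ∧ Module.finrank K A ≤ n := by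
  have : (algebraMap K A).toAlgebra = inst := Algebra.algebra_ext _ _ (fun r => rfl)
  change @Module.Finite K A _ _ (algebraMap K A).toAlgebra.toModule ∧
    @Module.finrank K A _ _ (algebraMap K A).toAlgebra.toModule ≤ n ↔ _
  rw [this]

theorem ringFinLE_includeRight {K A k : Type u} [CommRing K] [CommRing A] [CommRing k]
    (hK : IsField K) (hk : IsField k) (φ : K →+* A) (ψ : K →+* k) (n : ℕ) (H : RingFinLE φ n) :
    letI := φ.toAlgebra
    letI := ψ.toAlgebra
    RingFinLE (Algebra.TensorProduct.includeRight : k →ₐ[K] A ⊗[K] k).toRingHom n := by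
  letI := hK.toField
  letI := hk.toField
  letI := φ.toAlgebra
  letI := ψ.toAlgebra
  obtain ⟨h1, h2⟩ := H
  have h3 : Module.Finite k (k ⊗[K] A) := inferInstance
  have h4 : Module.finrank k (k ⊗[K] A) = Module.finrank K A := Module.finrank_baseChange
  refine ringFinLE_of_equiv (algebraMap k (k ⊗[K] A)) _
    (Algebra.TensorProduct.comm K k A).toRingEquiv (fun x => ?_) n
    ((ringFinLE_algebraMap n).mpr ⟨h3, h4.trans_le h2⟩)
  simp [Algebra.TensorProduct.algebraMap_apply]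

theorem eq_isoSpec_comp {K : CommRingCat.{u}} {T : Scheme.{u}} [IsAffine T] (p : T ⟶ Spec K) :
    p = T.isoSpec.hom ≫ Spec.map ((Scheme.ΓSpecIso K).inv ≫ p.appTop) := by
  rw [Scheme.isoSpec_hom, Spec.map_comp, ← Scheme.toSpecΓ_naturality_assoc,
    toSpecΓ_SpecMap_ΓSpecIso_inv, Category.comp_id]

theorem finiteOfDegLE_of_isPullback {K k : CommRingCat.{u}} (hK : IsField K) (hk : IsField k)
    (ψ : K ⟶ k) {T P : Scheme.{u}} (p : T ⟶ Spec K) (fst : P ⟶ T) (snd : P ⟶ Spec k)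
    (h : IsPullback fst snd p (Spec.map ψ)) (n : ℕ) (H : FiniteOfDegLE K p n) :
    FiniteOfDegLE k snd n := by
  obtain ⟨hA, hR⟩ := (finiteOfDegLE_iff p n).mp H
  set φ : K ⟶ Γ(T, ⊤) := (Scheme.ΓSpecIso K).inv ≫ p.appTop with hφ
  have hp : p = T.isoSpec.hom ≫ Spec.map φ := eq_isoSpec_comp p
  letI := φ.hom.toAlgebra
  letI := ψ.hom.toAlgebra
  have h1 : IsPullback (fst ≫ T.isoSpec.hom) snd (Spec.map φ) (Spec.map ψ) := by
    have := h.paste_horiz (IsPullback.of_horiz_isIso (fst := T.isoSpec.hom) (snd := p)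
      (f := Spec.map φ) (g := 𝟙 _) ⟨by rw [Category.comp_id]; exact hp.symm⟩)
    rwa [Category.comp_id] at this
  have h2 := isPullback_SpecMap_of_isPushout _ _ _ _
    (CommRingCat.isPushout_tensorProduct K Γ(T, ⊤) k)
  let e := h1.isoIsPullback _ _ h2
  have he : e.hom ≫ Spec.map (CommRingCat.ofHom (S := Γ(T, ⊤) ⊗[K] k)
      (Algebra.TensorProduct.includeRight : k →ₐ[K] Γ(T, ⊤) ⊗[K] k).toRingHom) = snd :=
    h1.isoIsPullback_hom_snd _ _ h2
  refine finiteOfDegLE_of_iso snd _ e he n ?_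
  rw [finiteOfDegLE_SpecMap]
  exact ringFinLE_includeRight hK hk φ.hom ψ.hom n hR

theorem finiteOfDegLE_of_fibreDegLE {X Y : Scheme.{u}} (f : X ⟶ Y) (n : ℕ) (hf : FibreDegLE f n)
    (k : Type u) [Field k] (g : Spec (CommRingCat.of k) ⟶ Y) {P : Scheme.{u}} (fst : P ⟶ X)
    (snd : P ⟶ Spec (CommRingCat.of k)) (h : IsPullback fst snd f g) :
    FiniteOfDegLE (CommRingCat.of k) snd n := by
  obtain ⟨y, ψ, rfl⟩ : ∃ (y : Y) (ψ : Y.residueField y ⟶ CommRingCat.of k),
      Spec.map ψ ≫ Y.fromSpecResidueField y = g :=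
    ⟨_, _, (Scheme.SpecToEquivOfField k Y).symm_apply_apply g⟩
  let l : P ⟶ f.fiber y := pullback.lift fst (snd ≫ Spec.map ψ) (by rw [h.w, Category.assoc])
  have hr : IsPullback (f.fiberι y) (f.fiberToSpecResidueField y) f (Y.fromSpecResidueField y) :=
    IsPullback.of_hasPullback _ _
  have hl : IsPullback l snd (f.fiberToSpecResidueField y) (Spec.map ψ) := by
    refine IsPullback.of_right ?_ (pullback.lift_snd _ _ _) hr
    have : l ≫ f.fiberι y = fst := pullback.lift_fst _ _ _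
    rw [this]
    exact h
  exact finiteOfDegLE_of_isPullback (Field.toIsField _) (Field.toIsField k) ψ _ l snd hl n (hf y)

theorem fibreDegLE_iff {X Y : Scheme.{u}} (f : X ⟶ Y) (n : ℕ) :
    FibreDegLE f n ↔ ∀ (k : Type u) [Field k] (g : Spec (CommRingCat.of k) ⟶ Y),
      FiniteOfDegLE (CommRingCat.of k) (pullback.snd f g) n := by
  constructor
  · intro hf k _ g
    exact finiteOfDegLE_of_fibreDegLE f n hf k g _ _ (IsPullback.of_hasPullback f g)
  · intro H y
    exact H (Y.residueField y) (Y.fromSpecResidueField y)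

end Groth.Agent.Lib.helper11.BddFib1
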