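import Mathlib.RingTheory.Artinian.Ring
import Mathlib.RingTheory.Artinian.Algebra
import Mathlib.RingTheory.Ideal.Quotient.Operations
import Mathlib.LinearAlgebra.Dimension.Constructions
import Mathlib.RingTheory.Spectrum.Maximal.Basic
import Mathlib.LinearAlgebra.Dimension.Free
import Mathlib.LinearAlgebra.FreeModule.Finite.Basic
import Mathlib.LinearAlgebra.Basis.VectorSpace

/-! Nakayama-type bound for modules over Artinian algebras. -/

set_option autoImplicit false
open Function

namespace Groth.Agent.Lib.helper11.BddFib1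

section Nak
variable {B M : Type*} [CommRing B] [AddCommGroup M] [Module B M]

theorem sup_mul_smul_top (N : Submodule B M) (I J : Ideal B)
    (hI : N ⊔ I • (⊤ : Submodule B M) = ⊤) (hJ : N ⊔ J • (⊤ : Submodule B M) = ⊤) :
    N ⊔ (I * J) • (⊤ : Submodule B M) = ⊤ := by
  rw [eq_top_iff]
  calc (⊤ : Submodule B M) = N ⊔ I • (⊤ : Submodule B M) := hI.symm
    _ = N ⊔ I • (N ⊔ J • (⊤ : Submodule B M)) := by rw [hJ]
    _ = N ⊔ (I • N ⊔ I • (J • (⊤ : Submodule B M))) := by rw [Submodule.smul_sup]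
    _ ≤ N ⊔ (I * J) • (⊤ : Submodule B M) := by
        rw [Submodule.mul_smul]
        refine sup_le le_sup_left (sup_le (le_trans Submodule.smul_le_right le_sup_left) le_sup_right)

theorem sup_prod_smul_top {ι : Type*} (N : Submodule B M) (I : ι → Ideal B) (S : Finset ι)
    (h : ∀ i ∈ S, N ⊔ I i • (⊤ : Submodule B M) = ⊤) :
    N ⊔ (∏ i ∈ S, I i) • (⊤ : Submodule B M) = ⊤ := by
  classical
  induction S using Finset.induction_on with
  | empty => simp [Ideal.one_eq_top]
  | insert a S ha ih =>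
    rw [Finset.prod_insert ha]
    exact sup_mul_smul_top N _ _ (h a (Finset.mem_insert_self a S))
      (ih fun i hi => h i (Finset.mem_insert_of_mem hi))

theorem sup_pow_smul_top (N : Submodule B M) (I : Ideal B)
    (hI : N ⊔ I • (⊤ : Submodule B M) = ⊤) (k : ℕ) : N ⊔ (I ^ k) • (⊤ : Submodule B M) = ⊤ := by
  induction k with
  | zero => simp [Ideal.one_eq_top]
  | succ k ih => rw [pow_succ]; exact sup_mul_smul_top N _ _ ih hI

theorem eq_top_of_sup_nilpotent (N : Submodule B M) (I : Ideal B) (hnil : IsNilpotent I)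
    (hI : N ⊔ I • (⊤ : Submodule B M) = ⊤) : N = ⊤ := by
  obtain ⟨k, hk⟩ := hnil
  have := sup_pow_smul_top N I hI k
  rwa [hk, Ideal.zero_eq_bot, Submodule.bot_smul, sup_bot_eq] at this

end Nak

section Gen
variable {B M : Type*} [CommRing B] [IsArtinianRing B] [AddCommGroup M] [Module B M]

open scoped Function in
theorem exists_common_gens (n : ℕ)
    (h : ∀ 𝔪 : MaximalSpectrum B, ∃ s : Fin n → M,
      Submodule.span B (Set.range s) ⊔ 𝔪.asIdeal • (⊤ : Submodule B M) = ⊤) :
    ∃ g : Fin n → M, Submodule.span B (Set.range g) = ⊤ := by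
  classical
  haveI : Fintype (MaximalSpectrum B) := Fintype.ofFinite _
  choose s hs using h
  have hcop : Pairwise (IsCoprime on fun 𝔪 : MaximalSpectrum B => 𝔪.asIdeal) := by
    intro i j hij
    change IsCoprime i.asIdeal j.asIdeal
    exact MaximalSpectrum.isCoprime_of_ne hij
  have he : ∀ 𝔪₀ : MaximalSpectrum B, ∃ r : B, ∀ 𝔪 : MaximalSpectrum B,
      r - (if 𝔪 = 𝔪₀ then 1 else 0) ∈ 𝔪.asIdeal := fun 𝔪₀ =>
    Ideal.exists_forall_sub_mem_ideal hcop (fun 𝔪 => if 𝔪 = 𝔪₀ then 1 else 0)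
  choose e he using he
  let g : Fin n → M := fun k => ∑ 𝔪' : MaximalSpectrum B, e 𝔪' • s 𝔪' k
  refine ⟨g, ?_⟩
  set N := Submodule.span B (Set.range g) with hN
  have key : ∀ 𝔪 : MaximalSpectrum B, N ⊔ 𝔪.asIdeal • (⊤ : Submodule B M) = ⊤ := by
    intro 𝔪
    suffices hsuf : Submodule.span B (Set.range (s 𝔪)) ≤ N ⊔ 𝔪.asIdeal • (⊤ : Submodule B M) by
      rw [eq_top_iff]
      calc (⊤ : Submodule B M)
          = Submodule.span B (Set.range (s 𝔪)) ⊔ 𝔪.asIdeal • (⊤ : Submodule B M) := (hs 𝔪).symm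
        _ ≤ _ := sup_le hsuf le_sup_right
    rw [Submodule.span_le]
    rintro _ ⟨k, rfl⟩
    have h1 : g k - s 𝔪 k = ∑ 𝔪' : MaximalSpectrum B, (e 𝔪' - (if 𝔪 = 𝔪' then 1 else 0)) • s 𝔪' k := by
      simp only [g, sub_smul, Finset.sum_sub_distrib, ite_smul, one_smul, zero_smul,
        Finset.sum_ite_eq, Finset.mem_univ, if_true]
    have h2 : g k - s 𝔪 k ∈ 𝔪.asIdeal • (⊤ : Submodule B M) := by
      rw [h1]
      exact Submodule.sum_mem _ fun 𝔪' _ =>
        Submodule.smul_mem_smul (he 𝔪' 𝔪) Submodule.mem_top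
    have h3 : s 𝔪 k = g k - (g k - s 𝔪 k) := by abel
    rw [h3]
    exact Submodule.sub_mem _ (Submodule.mem_sup_left (Submodule.subset_span ⟨k, rfl⟩))
      (Submodule.mem_sup_right h2)
  have hprod := sup_prod_smul_top N (fun 𝔪 : MaximalSpectrum B => 𝔪.asIdeal) Finset.univ
    (fun 𝔪 _ => key 𝔪)
  refine eq_top_of_sup_nilpotent N _ ?_ hprod
  have hle : (∏ 𝔪 : MaximalSpectrum B, 𝔪.asIdeal) ≤ nilradical B := by
    rw [IsArtinianRing.nilradical_eq_iInf]
    exact Ideal.prod_le_inf.trans (by simp [Finset.inf_eq_iInf])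
  obtain ⟨k, hk⟩ := IsArtinianRing.isNilpotent_nilradical (R := B)
  refine ⟨k, le_bot_iff.mp ?_⟩
  have := Ideal.pow_right_mono hle k
  rwa [hk] at this

end Gen

theorem finrank_le_of_span_eq_top {K B M : Type*} [Field K] [CommRing B] [Algebra K B]
    [Module.Finite K B] [AddCommGroup M] [Module B M] [Module K M] [IsScalarTower K B M] (n : ℕ)
    (g : Fin n → M) (hg : Submodule.span B (Set.range g) = ⊤) :
    Module.Finite K M ∧ Module.finrank K M ≤ n * Module.finrank K B := by
  let L : (Fin n → B) →ₗ[B] M := Fintype.linearCombination B g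
  have hL : Surjective L := by
    rw [← LinearMap.range_eq_top, Fintype.range_linearCombination, hg]
  let LK : (Fin n → B) →ₗ[K] M := L.restrictScalars K
  have hLK : Surjective LK := hL
  refine ⟨Module.Finite.of_surjective LK hLK, ?_⟩
  have h0 := LinearMap.finrank_le_finrank_of_surjective hLK
  rwa [Module.finrank_pi_fintype, Finset.sum_const, Finset.card_univ, Fintype.card_fin,
    smul_eq_mul] at h0

theorem finrank_le_mul_of_local_gens {K B M : Type*} [Field K] [CommRing B] [Algebra K B]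
    [Module.Finite K B] [AddCommGroup M] [Module B M] [Module K M] [IsScalarTower K B M] (n : ℕ)
    (h : ∀ 𝔪 : MaximalSpectrum B, ∃ s : Fin n → M,
      Submodule.span B (Set.range s) ⊔ 𝔪.asIdeal • (⊤ : Submodule B M) = ⊤) :
    Module.Finite K M ∧ Module.finrank K M ≤ n * Module.finrank K B := by
  haveI : IsArtinianRing B := IsArtinianRing.of_finite K B
  obtain ⟨g, hg⟩ := exists_common_gens n h
  exact finrank_le_of_span_eq_top n g hg

end Groth.Agent.Lib.helper11.BddFib1
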