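import Groth.Agent.Lib.helper11.BddFib5
import Groth.Agent.Lib.helper11.BddFibNak
import Mathlib.LinearAlgebra.TensorProduct.Quotient

/-! Bounded fibre degrees: composition. -/

set_option autoImplicit false
universe u
open CategoryTheory CategoryTheory.Limits AlgebraicGeometry BddFib TensorProduct

namespace Groth.Agent.Lib.helper11.BddFib1


theorem exists_spanning_fin {k Q : Type*} [Field k] [AddCommGroup Q] [Module k Q] [Module.Finite k Q]
    (n : ℕ) (h : Module.finrank k Q ≤ n) :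
    ∃ t : Fin n → Q, Submodule.span k (Set.range t) = ⊤ := by
  let b := Module.finBasis k Q
  refine ⟨fun i => if h' : (i : ℕ) < Module.finrank k Q then b ⟨i, h'⟩ else 0, ?_⟩
  rw [eq_top_iff, ← b.span_eq]
  refine Submodule.span_mono ?_
  rintro _ ⟨j, rfl⟩
  refine ⟨⟨j, j.2.trans_le h⟩, ?_⟩
  simp

theorem exists_local_gens {B C : Type u} [CommRing B] [CommRing C] [Algebra B C] (𝔪 : Ideal B)
    [h𝔪 : 𝔪.IsMaximal] (n : ℕ)
    (H : RingFinLE (Algebra.TensorProduct.includeRight : B ⧸ 𝔪 →ₐ[B] C ⊗[B] (B ⧸ 𝔪)).toRingHom n) :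
    ∃ s : Fin n → C, Submodule.span B (Set.range s) ⊔ 𝔪 • (⊤ : Submodule B C) = ⊤ := by
  letI : Field (B ⧸ 𝔪) := Ideal.Quotient.field 𝔪
  letI alg : Algebra (B ⧸ 𝔪) (C ⊗[B] (B ⧸ 𝔪)) :=
    (Algebra.TensorProduct.includeRight : B ⧸ 𝔪 →ₐ[B] C ⊗[B] (B ⧸ 𝔪)).toRingHom.toAlgebra
  obtain ⟨h1, h2⟩ := H
  haveI : IsScalarTower B (B ⧸ 𝔪) (C ⊗[B] (B ⧸ 𝔪)) := by
    refine IsScalarTower.of_algebraMap_smul fun r x => ?_
    change (Algebra.TensorProduct.includeRight (Ideal.Quotient.mk 𝔪 r)) * x = r • x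
    induction x using TensorProduct.induction_on with
    | zero => simp
    | tmul c y =>
      rw [Algebra.TensorProduct.includeRight_apply, Algebra.TensorProduct.tmul_mul_tmul, one_mul,
        ← TensorProduct.tmul_smul, Algebra.smul_def]
      rfl
    | add a b ha hb => rw [mul_add, ha, hb, smul_add]
  obtain ⟨t, ht⟩ := exists_spanning_fin (k := B ⧸ 𝔪) (Q := C ⊗[B] (B ⧸ 𝔪)) n h2
  have ht' : Submodule.span B (Set.range t) = ⊤ := by
    rw [← Submodule.restrictScalars_span B (B ⧸ 𝔪) Ideal.Quotient.mk_surjective, ht]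
    rfl
  let π : C →ₗ[B] C ⊗[B] (B ⧸ 𝔪) :=
    (tensorQuotEquivQuotSMul C 𝔪).symm.toLinearMap ∘ₗ (𝔪 • (⊤ : Submodule B C)).mkQ
  have hπs : Function.Surjective π :=
    (tensorQuotEquivQuotSMul C 𝔪).symm.surjective.comp (Submodule.mkQ_surjective _)
  have hker : LinearMap.ker π = 𝔪 • (⊤ : Submodule B C) := by
    rw [LinearMap.ker_comp, LinearEquiv.ker, Submodule.comap_bot, Submodule.ker_mkQ]
  choose s hs using fun i => hπs (t i)
  refine ⟨s, ?_⟩
  rw [eq_top_iff]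
  intro c _
  have hc : π c ∈ Submodule.map π (Submodule.span B (Set.range s)) := by
    rw [Submodule.map_span, ← Set.range_comp]
    have : π ∘ s = t := funext hs
    rw [this, ht']
    exact Submodule.mem_top
  obtain ⟨c', hc', hcc'⟩ := hc
  have hsub : c - c' ∈ 𝔪 • (⊤ : Submodule B C) := by
    rw [← hker, LinearMap.mem_ker, map_sub, hcc', sub_self]
  have : c = c' + (c - c') := by abel
  rw [this]
  exact Submodule.add_mem _ (Submodule.mem_sup_left hc') (Submodule.mem_sup_right hsub)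



theorem discreteTopology_of_fibers {A B : Type*} [TopologicalSpace A] [TopologicalSpace B]
    [DiscreteTopology B] (q : A → B) (hq : Continuous q)
    (h : ∀ b, DiscreteTopology (q ⁻¹' {b})) : DiscreteTopology A := by
  rw [discreteTopology_iff_isOpen_singleton]
  intro a
  have hopen : IsOpen (q ⁻¹' {q a}) := (isOpen_discrete _).preimage hq
  have h1 : IsOpen ({⟨a, rfl⟩} : Set (q ⁻¹' {q a})) := isOpen_discrete _
  have h2 := hopen.isOpenEmbedding_subtypeVal.isOpenMap _ h1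
  simpa using h2

theorem finite_discrete_of_fibreDegLE_over {W V : Scheme.{u}} (q : W ⟶ V) (n : ℕ)
    (hq : FibreDegLE q n) [Finite V] [DiscreteTopology V] : Finite W ∧ DiscreteTopology W := by
  have h : ∀ v : V, Finite (q ⁻¹' {v}) ∧ DiscreteTopology (q ⁻¹' {v}) := by
    intro v
    obtain ⟨h1, h2⟩ := finite_discrete_of_finiteOfDegLE (Field.toIsField _) _ n (hq v)
    exact ⟨Finite.of_equiv _ (q.fiberHomeo v).toEquiv,
      (q.fiberHomeo v).symm.isEmbedding.discreteTopology⟩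
  haveI : ∀ v : V, Finite { x // q x = v } := fun v => (h v).1
  exact ⟨Finite.of_equiv _ (Equiv.sigmaFiberEquiv q),
    discreteTopology_of_fibers q q.continuous fun v => (h v).2⟩


theorem fibreDegLE_of_isPullback {X Y X' Y' : Scheme.{u}} (f : X ⟶ Y) (g : Y' ⟶ Y) (f' : X' ⟶ Y')
    (g' : X' ⟶ X) (h : IsPullback g' f' f g) (n : ℕ) (hf : FibreDegLE f n) : FibreDegLE f' n := by
  rw [fibreDegLE_iff]
  intro k _ gk
  exact finiteOfDegLE_of_fibreDegLE f n hf k (gk ≫ g) (pullback.fst f' gk ≫ g') (pullback.snd f' gk)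
    ((IsPullback.of_hasPullback f' gk).paste_horiz h)

theorem finiteOfDegLE_comp {K : CommRingCat.{u}} (hK : IsField K) {W V : Scheme.{u}} (q : W ⟶ V)
    (p : V ⟶ Spec K) (n m : ℕ) (hq : FibreDegLE q n) (hp : FiniteOfDegLE K p m) :
    FiniteOfDegLE K (q ≫ p) (n * m) := by
  obtain ⟨hVf, hVd⟩ := finite_discrete_of_finiteOfDegLE hK p m hp
  haveI : IsAffine V := hp.1
  obtain ⟨hWf, hWd⟩ := finite_discrete_of_fibreDegLE_over q n hq
  haveI : IsAffine W := inferInstance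
  rw [finiteOfDegLE_iff] at hp ⊢
  refine ⟨inferInstance, ?_⟩
  obtain ⟨-, hfinB, hrkB⟩ := hp
  have hcomp : ((Scheme.ΓSpecIso K).inv ≫ (q ≫ p).appTop).hom =
      q.appTop.hom.comp ((Scheme.ΓSpecIso K).inv ≫ p.appTop).hom := by
    rw [Scheme.Hom.comp_appTop, ← Category.assoc, CommRingCat.hom_comp]
  rw [hcomp]
  letI := hK.toField
  letI algKB : Algebra K Γ(V, ⊤) := ((Scheme.ΓSpecIso K).inv ≫ p.appTop).hom.toAlgebra
  letI algBC : Algebra Γ(V, ⊤) Γ(W, ⊤) := q.appTop.hom.toAlgebra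
  letI algKC : Algebra K Γ(W, ⊤) :=
    (q.appTop.hom.comp ((Scheme.ΓSpecIso K).inv ≫ p.appTop).hom).toAlgebra
  haveI : IsScalarTower K Γ(V, ⊤) Γ(W, ⊤) := IsScalarTower.of_algebraMap_eq (fun x => rfl)
  haveI : Module.Finite K Γ(V, ⊤) := hfinB
  have hloc : ∀ 𝔪 : MaximalSpectrum Γ(V, ⊤), ∃ s : Fin n → Γ(W, ⊤),
      Submodule.span Γ(V, ⊤) (Set.range s) ⊔ 𝔪.asIdeal • (⊤ : Submodule Γ(V, ⊤) Γ(W, ⊤)) = ⊤ := by
    intro 𝔪
    haveI := 𝔪.isMaximal
    letI : Field (Γ(V, ⊤) ⧸ 𝔪.asIdeal) := Ideal.Quotient.field 𝔪.asIdeal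
    refine exists_local_gens 𝔪.asIdeal n ?_
    have hpush := CommRingCat.isPushout_tensorProduct Γ(V, ⊤) Γ(W, ⊤) (Γ(V, ⊤) ⧸ 𝔪.asIdeal)
    have hpb0 := isPullback_SpecMap_of_isPushout _ _ _ _ hpush
    have hpb := hpb0.of_iso (Iso.refl _) W.isoSpec.symm (Iso.refl _) V.isoSpec.symm
      (f' := q) (Category.id_comp _).symm ((Category.comp_id _).trans (Category.id_comp _).symm)
      (Scheme.isoSpec_inv_naturality q) (Category.id_comp _).symm
    have := finiteOfDegLE_of_fibreDegLE q n hq (Γ(V, ⊤) ⧸ 𝔪.asIdeal) _ _ _ hpb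
    exact (finiteOfDegLE_SpecMap _ n).mp this
  obtain ⟨h1, h2⟩ := finrank_le_mul_of_local_gens (K := K) (B := Γ(V, ⊤)) (M := Γ(W, ⊤)) n hloc
  exact ⟨h1, h2.trans (Nat.mul_le_mul_left n hrkB)⟩

theorem fibreDegLE_comp {X Y Z : Scheme.{u}} (f : X ⟶ Y) (g : Y ⟶ Z) (n m : ℕ)
    (hf : FibreDegLE f n) (hg : FibreDegLE g m) : FibreDegLE (f ≫ g) (n * m) := by
  intro z
  let fz : (f ≫ g).fiber z ⟶ g.fiber z :=
    pullback.lift ((f ≫ g).fiberι z ≫ f) ((f ≫ g).fiberToSpecResidueField z)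
      (by rw [Category.assoc]; exact pullback.condition)
  have hfz : fz ≫ g.fiberToSpecResidueField z = (f ≫ g).fiberToSpecResidueField z :=
    pullback.lift_snd _ _ _
  have hsq : IsPullback fz ((f ≫ g).fiberι z) (g.fiberι z) f := by
    have hr : IsPullback (g.fiberToSpecResidueField z) (g.fiberι z) (Z.fromSpecResidueField z) g :=
      (IsPullback.of_hasPullback g (Z.fromSpecResidueField z)).flip
    have hb : IsPullback ((f ≫ g).fiberToSpecResidueField z) ((f ≫ g).fiberι z)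
        (Z.fromSpecResidueField z) (f ≫ g) :=
      (IsPullback.of_hasPullback (f ≫ g) (Z.fromSpecResidueField z)).flip
    rw [← hfz] at hb
    exact IsPullback.of_right hb (pullback.lift_fst _ _ _) hr
  have hq : FibreDegLE fz n := fibreDegLE_of_isPullback f _ fz _ hsq.flip n hf
  rw [← hfz]
  exact finiteOfDegLE_comp (Field.toIsField _) fz _ n m hq (hg z)

end Groth.Agent.Lib.helper11.BddFib1
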