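import Mathlib
import Groth.Prelude
import Groth.Agent.Lib.helper11.BddFib6

/-! bounded fibre degrees: finite open covers -/

set_option autoImplicit false
universe u
open CategoryTheory CategoryTheory.Limits AlgebraicGeometry BddFib Function TensorProduct

namespace Groth.Agent.Lib.helper11.BddFib1

theorem ringFinLE_of_jointly_injective {K A : Type*} [CommRing K] [CommRing A]
    (hK : IsField K) (φ : K →+* A) {ι : Type*} [Fintype ι] {B : ι → Type*} [∀ i, CommRing (B i)]
    (j : ∀ i, A →+* B i) (hj : ∀ a, (∀ i, j i a = 0) → a = 0) (n : ι → ℕ)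
    (H : ∀ i, RingFinLE ((j i).comp φ) (n i)) : RingFinLE φ (∑ i, n i) := by
  classical
  letI := hK.toField
  letI := φ.toAlgebra
  letI : ∀ i, Algebra K (B i) := fun i => ((j i).comp φ).toAlgebra
  haveI : ∀ i, Module.Finite K (B i) := fun i => (H i).1
  let jl : A →ₗ[K] (∀ i, B i) := LinearMap.pi fun i =>
    { toFun := j i
      map_add' := map_add (j i)
      map_smul' := fun c x => (map_mul (j i) (φ c) x) }
  have hjl : Function.Injective jl := by
    rw [injective_iff_map_eq_zero]
    intro a ha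
    exact hj a fun i => congrFun ha i
  refine ⟨Module.Finite.of_injective jl hjl, (LinearMap.finrank_le_finrank_of_injective hjl).trans ?_⟩
  rw [Module.finrank_pi_fintype]
  exact Finset.sum_le_sum fun i _ => (H i).2

theorem finiteOfDegLE_of_openCover {K : CommRingCat.{u}} (hK : IsField K) {T : Scheme.{u}}
    (p : T ⟶ Spec K) {ι : Type*} [Fintype ι] (V : ι → T.Opens) (hV : ⨆ i, V i = ⊤) (n : ι → ℕ)
    (H : ∀ i, FiniteOfDegLE K ((V i).ι ≫ p) (n i)) : FiniteOfDegLE K p (∑ i, n i) := by
  have hfd := fun i => finite_discrete_of_finiteOfDegLE hK _ (n i) (H i)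
  have hcov : ∀ x : T, ∃ i, x ∈ V i := by
    intro x
    have : x ∈ ⨆ i, V i := by rw [hV]; trivial
    simpa [TopologicalSpace.Opens.mem_iSup] using this
  haveI : Finite T := by
    rw [← Set.finite_univ_iff]
    have : (Set.univ : Set T) = ⋃ i, (V i : Set T) := by
      ext x; simpa using hcov x
    rw [this]
    refine Set.finite_iUnion fun i => ?_
    haveI : Finite ↥(V i) := (hfd i).1
    exact Set.finite_coe_iff.mp this
  haveI : DiscreteTopology T := by
    rw [discreteTopology_iff_isOpen_singleton]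
    intro x
    obtain ⟨i, hi⟩ := hcov x
    haveI : DiscreteTopology (V i) := (hfd i).2
    have h1 : IsOpen ({⟨x, hi⟩} : Set (V i)) := isOpen_discrete _
    have h2 := (V i).2.isOpenEmbedding_subtypeVal.isOpenMap _ h1
    have h3 : (Subtype.val '' ({⟨x, hi⟩} : Set (V i)) : Set T) = {x} := Set.image_singleton
    rw [← h3]; exact h2
  rw [finiteOfDegLE_iff]
  refine ⟨inferInstance, ?_⟩
  refine ringFinLE_of_jointly_injective hK _ (fun i => ((V i).ι.appTop).hom) ?_ n ?_
  · intro a ha
    refine T.sheaf.eq_of_locally_eq' (fun i => (V i).ι ''ᵁ ⊤) ⊤ (fun i => homOfLE le_top) ?_ a 0 ?_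
    · intro x _
      obtain ⟨i, hi⟩ := hcov x
      rw [TopologicalSpace.Opens.mem_iSup]
      exact ⟨i, by rw [Scheme.Opens.ι_image_top]; exact hi⟩
    · intro i
      rw [map_zero]
      exact ha i
  · intro i
    have := ((finiteOfDegLE_iff _ _).mp (H i)).2
    rw [Scheme.Hom.comp_appTop, ← Category.assoc, CommRingCat.hom_comp] at this
    exact this

theorem fibreDegLE_of_openCover {X Y : Scheme.{u}} (f : X ⟶ Y) {ι : Type*} [Fintype ι]
    (W : ι → X.Opens) (hW : ⨆ i, W i = ⊤) (n : ι → ℕ)
    (H : ∀ i, FibreDegLE ((W i).ι ≫ f) (n i)) : FibreDegLE f (∑ i, n i) := by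
  rw [fibreDegLE_iff]
  intro k _ g
  refine finiteOfDegLE_of_openCover (Field.toIsField k) (pullback.snd f g)
    (fun i => (pullback.fst f g) ⁻¹ᵁ (W i)) ?_ n fun i => ?_
  · ext x
    have : (pullback.fst f g) x ∈ ⨆ i, W i := by rw [hW]; trivial
    simpa [TopologicalSpace.Opens.mem_iSup] using this
  · have htop := isPullback_morphismRestrict (pullback.fst f g) (W i)
    have hbot : IsPullback (pullback.fst f g) (pullback.snd f g) f g := IsPullback.of_hasPullback f g
    exact finiteOfDegLE_of_fibreDegLE ((W i).ι ≫ f) (n i) (H i) k g _ _ (htop.paste_vert hbot)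

theorem ringFinLE_includeRight_of_span {A C k : Type u} [CommRing A] [CommRing C] [Field k]
    [Algebra A C] [Algebra A k] (m : ℕ) (g : Fin m → C)
    (hg : Submodule.span A (Set.range g) = ⊤) :
    RingFinLE (Algebra.TensorProduct.includeRight : k →ₐ[A] C ⊗[A] k).toRingHom m := by
  have hspan : Submodule.span k (Set.range fun j => (1 : k) ⊗ₜ[A] g j) = ⊤ := by
    have h1 := Submodule.baseChange_span (R := A) (A := k) (M := C) (Set.range g)
    rw [hg, Submodule.baseChange_top] at h1
    rw [h1, ← Set.range_comp]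
    rfl
  have h2 := finrank_le_of_span_eq_top (K := k) (B := k) (M := k ⊗[A] C) m _ hspan
  rw [Module.finrank_self, mul_one] at h2
  refine ringFinLE_of_equiv (algebraMap k (k ⊗[A] C)) _
    (Algebra.TensorProduct.comm A k C).toRingEquiv (fun x => ?_) m
    ((ringFinLE_algebraMap m).mpr h2)
  simp [Algebra.TensorProduct.algebraMap_apply]

theorem fibreDegLE_SpecMap_of_span {A C : CommRingCat.{u}} (φ : A ⟶ C) (m : ℕ) (g : Fin m → C)
    (hg : letI := φ.hom.toAlgebra; Submodule.span A (Set.range g) = ⊤) :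
    FibreDegLE (Spec.map φ) m := by
  rw [fibreDegLE_iff]
  intro k _ gk
  obtain ⟨ψ, rfl⟩ : ∃ ψ : A ⟶ CommRingCat.of k, Spec.map ψ = gk :=
    ⟨Spec.preimage gk, Spec.map_preimage gk⟩
  letI := φ.hom.toAlgebra
  letI := ψ.hom.toAlgebra
  have h1 : IsPullback (pullback.fst (Spec.map φ) (Spec.map ψ)) (pullback.snd (Spec.map φ) (Spec.map ψ))
      (Spec.map φ) (Spec.map ψ) := IsPullback.of_hasPullback _ _
  have h2 := isPullback_SpecMap_of_isPushout _ _ _ _
    (CommRingCat.isPushout_tensorProduct A C (CommRingCat.of k))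
  let e := h1.isoIsPullback _ _ h2
  have he : e.hom ≫ Spec.map (CommRingCat.ofHom (S := C ⊗[A] k)
      (Algebra.TensorProduct.includeRight : k →ₐ[A] C ⊗[A] k).toRingHom) =
      pullback.snd (Spec.map φ) (Spec.map ψ) :=
    h1.isoIsPullback_hom_snd _ _ h2
  refine finiteOfDegLE_of_iso (pullback.snd (Spec.map φ) (Spec.map ψ)) _ e he m ?_
  rw [finiteOfDegLE_SpecMap]
  exact ringFinLE_includeRight_of_span m g hg

end Groth.Agent.Lib.helper11.BddFib1
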