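import Mathlib
import Groth.Prelude
import Groth.Agent.Lib.helper11.BddFib10

/-! locally quasi-finite + quasi-compact ⇒ universally bounded fibres -/

set_option autoImplicit false
universe u
open CategoryTheory CategoryTheory.Limits AlgebraicGeometry BddFib Function TensorProduct

namespace Groth.Agent.Lib.helper11.BddFib1

theorem exists_fibreDegLE_away (A B : Type u) [CommRing A] [CommRing B] [Algebra A B]
    [Algebra.FiniteType A B] (q : Ideal B) [q.IsPrime] [Algebra.QuasiFiniteAt A q] :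
    ∃ r : B, r ∉ q ∧ ∃ n : ℕ, FibreDegLE
      (Spec.map (CommRingCat.ofHom (algebraMap B (Localization.Away r))) ≫
        Spec.map (CommRingCat.ofHom (algebraMap A B))) n := by
  obtain ⟨S', hS', r, hrq, hbij⟩ :=
    Algebra.QuasiFiniteAt.exists_fg_and_exists_notMem_and_awayMap_bijective (R := A) q
  haveI : Module.Finite A S' := ⟨(Submodule.fg_top _).mpr hS'⟩
  obtain ⟨m, g, hg⟩ := Module.Finite.exists_fin (R := A) (M := S')
  refine ⟨r.1, hrq, 1 * m, ?_⟩
  -- π : Spec S' ⟶ Spec A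
  have hπ : FibreDegLE (Spec.map (CommRingCat.ofHom (algebraMap A S'))) m := by
    refine fibreDegLE_SpecMap_of_span (CommRingCat.ofHom (algebraMap A S')) m g ?_
    have : (CommRingCat.ofHom (algebraMap A S')).hom.toAlgebra = (inferInstance : Algebra A S') :=
      Algebra.algebra_ext _ _ (fun r => rfl)
    rw [this]
    exact hg
  -- j : Spec B_r ⟶ Spec S'
  let j1 : CommRingCat.of S' ⟶ CommRingCat.of (Localization.Away r) :=
    CommRingCat.ofHom (algebraMap S' (Localization.Away r))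
  let j2 : CommRingCat.of (Localization.Away r) ⟶ CommRingCat.of (Localization.Away r.1) :=
    CommRingCat.ofHom (Localization.awayMap S'.val.toRingHom r)
  haveI : IsOpenImmersion (Spec.map j1) := IsOpenImmersion.of_isLocalization r
  haveI : IsIso j2 := (ConcreteCategory.isIso_iff_bijective j2).mpr hbij
  have hj : FibreDegLE (Spec.map j2 ≫ Spec.map j1) 1 := fibreDegLE_one_of_isImmersion _
  have hcomp := fibreDegLE_comp _ _ 1 m hj hπ
  convert hcomp using 1
  rw [← Spec.map_comp, ← Spec.map_comp, ← Spec.map_comp]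
  congr 1
  ext a
  simp only [j1, j2, CommRingCat.hom_comp, CommRingCat.hom_ofHom, RingHom.comp_apply]
  erw [IsLocalization.map_eq]
  rfl

theorem exists_open_fibreDegLE {X Y : Scheme.{u}} (f : X ⟶ Y) [LocallyQuasiFinite f]
    [LocallyOfFiniteType f] (x : X) :
    ∃ (W : X.Opens) (n : ℕ), x ∈ W ∧ FibreDegLE (W.ι ≫ f) n := by
  obtain ⟨_, ⟨U, hU, rfl⟩, hxU, -⟩ :=
    Y.isBasis_affineOpens.exists_subset_of_mem_open (Set.mem_univ (f x)) isOpen_univ
  obtain ⟨_, ⟨V, hV, rfl⟩, hxV, hVU⟩ :=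
    X.isBasis_affineOpens.exists_subset_of_mem_open hxU (f ⁻¹ᵁ U).2
  have hVU' : V ≤ f ⁻¹ᵁ U := hVU
  let φ := f.appLE U V hVU'
  letI : Algebra Γ(Y, U) Γ(X, V) := φ.hom.toAlgebra
  haveI : Algebra.FiniteType Γ(Y, U) Γ(X, V) := f.finiteType_appLE hU hV hVU'
  haveI : Algebra.QuasiFiniteAt Γ(Y, U) (hV.primeIdealOf ⟨x, hxV⟩).asIdeal :=
    (f.quasiFiniteAt x).quasiFiniteAt hV hU hVU' hxV
  obtain ⟨r, hrq, n, hn⟩ :=
    exists_fibreDegLE_away Γ(Y, U) Γ(X, V) (hV.primeIdealOf ⟨x, hxV⟩).asIdeal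
  have hW : IsAffineOpen (X.basicOpen r) := hV.basicOpen r
  refine ⟨X.basicOpen r, 1 * n * 1, ?_, ?_⟩
  · have h1 : hV.primeIdealOf ⟨x, hxV⟩ ∈ hV.fromSpec ⁻¹ᵁ X.basicOpen r := by
      rw [hV.fromSpec_preimage_basicOpen]
      exact hrq
    have h2 : hV.fromSpec (hV.primeIdealOf ⟨x, hxV⟩) = x := hV.fromSpec_primeIdealOf ⟨x, hxV⟩
    rw [← h2]
    exact h1
  · haveI := hV.isLocalization_basicOpen r
    let ε : Localization.Away r ≃ₐ[Γ(X, V)] Γ(X, X.basicOpen r) :=
      IsLocalization.algEquiv (.powers r) _ _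
    let res : Γ(X, V) ⟶ Γ(X, X.basicOpen r) :=
      X.presheaf.map (homOfLE (X.basicOpen_le r)).op
    have hres : res = CommRingCat.ofHom (algebraMap Γ(X, V) (Localization.Away r)) ≫
        CommRingCat.ofHom ε.toRingEquiv.toRingHom := by
      ext b
      exact (ε.commutes b).symm
    have hdecomp : (X.basicOpen r).ι ≫ f =
        ((hW.isoSpec.hom ≫ Spec.map (CommRingCat.ofHom ε.toRingEquiv.toRingHom)) ≫
          (Spec.map (CommRingCat.ofHom (algebraMap Γ(X, V) (Localization.Away r))) ≫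
            Spec.map (CommRingCat.ofHom (algebraMap Γ(Y, U) Γ(X, V))))) ≫ hU.fromSpec := by
      have e1 : Spec.map (CommRingCat.ofHom (algebraMap Γ(Y, U) Γ(X, V))) = Spec.map φ := rfl
      rw [e1, ← hW.isoSpec_hom_fromSpec, ← hV.map_fromSpec hW (homOfLE (X.basicOpen_le r)).op]
      simp only [Category.assoc]
      rw [← IsAffineOpen.SpecMap_appLE_fromSpec f hU hV hVU']
      change _ ≫ Spec.map res ≫ _ = _
      rw [hres, Spec.map_comp]
      simp only [Category.assoc]
      rfl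
    rw [hdecomp]
    haveI : IsIso (CommRingCat.ofHom ε.toRingEquiv.toRingHom) :=
      (ConcreteCategory.isIso_iff_bijective _).mpr ε.bijective
    exact fibreDegLE_comp _ _ _ _
      (fibreDegLE_comp _ _ _ _ (fibreDegLE_one_of_isImmersion _) hn)
      (fibreDegLE_one_of_isImmersion _)

theorem univBounded_of_locallyQuasiFinite {X Y : Scheme.{u}} (f : X ⟶ Y) [LocallyQuasiFinite f]
    [LocallyOfFiniteType f] [CompactSpace X] : UnivBounded f := by
  classical
  choose W n hxW hWn using exists_open_fibreDegLE f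
  obtain ⟨s, hs⟩ := CompactSpace.elim_nhds_subcover (fun x => (W x : Set X))
    (fun x => (W x).isOpen.mem_nhds (hxW x))
  refine ⟨∑ i : s, n i.1, fibreDegLE_of_openCover f (fun i : s => W i.1) ?_ (fun i : s => n i.1)
    (fun i => hWn i.1)⟩
  ext x
  have hx : x ∈ ⋃ y ∈ s, (W y : Set X) := by rw [hs]; trivial
  simp only [Set.mem_iUnion] at hx
  obtain ⟨y, hys, hy⟩ := hx
  simp only [TopologicalSpace.Opens.coe_iSup, Set.mem_iUnion, TopologicalSpace.Opens.coe_top,
    Set.mem_univ, iff_true]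
  exact ⟨⟨y, hys⟩, hy⟩

end Groth.Agent.Lib.helper11.BddFib1
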