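import Groth.Agent.Lib.helper11.BddFib1
import Mathlib.RingTheory.Spectrum.Prime.Noetherian
import Mathlib.RingTheory.Artinian.Algebra

/-! Bounded fibre degrees: counting points. -/

set_option autoImplicit false
universe u
open CategoryTheory CategoryTheory.Limits AlgebraicGeometry BddFib TensorProduct

namespace Groth.Agent.Lib.helper11.BddFib1

theorem card_primeSpectrum_le {k B : Type*} [Field k] [CommRing B] [Algebra k B]
    [Module.Finite k B] :
    Finite (PrimeSpectrum B) ∧ Nat.card (PrimeSpectrum B) ≤ Module.finrank k B := by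
  haveI : IsArtinianRing B := IsArtinianRing.of_finite k B
  refine ⟨inferInstance, ?_⟩
  haveI : Fintype (PrimeSpectrum B) := Fintype.ofFinite _
  rw [IsArtinianRing.finrank_eq_sum_primeSpectrum (R := B) k, Nat.card_eq_fintype_card,
    Fintype.card_eq_sum_ones]
  refine Finset.sum_le_sum (fun p _ => ?_)
  have : Module.Finite k (Localization.AtPrime p.asIdeal) :=
    Module.Finite.of_surjective (Algebra.algHom k B (Localization.AtPrime p.asIdeal)).toLinearMap
      (IsArtinianRing.localization_surjective p.asIdeal.primeCompl (Localization.AtPrime p.asIdeal))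
  exact Module.finrank_pos

theorem card_le_of_finiteOfDegLE {K : CommRingCat.{u}} (hK : IsField K) {T : Scheme.{u}}
    (p : T ⟶ Spec K) (n : ℕ) (H : FiniteOfDegLE K p n) : Finite T ∧ Nat.card T ≤ n := by
  obtain ⟨hA, hR⟩ := (finiteOfDegLE_iff p n).mp H
  letI := hK.toField
  letI := ((Scheme.ΓSpecIso K).inv ≫ p.appTop).hom.toAlgebra
  obtain ⟨h1, h2⟩ := hR
  obtain ⟨h3, h4⟩ := card_primeSpectrum_le (k := K) (B := Γ(T, ⊤))
  let e : T ≃ PrimeSpectrum Γ(T, ⊤) := (Scheme.homeoOfIso T.isoSpec).toEquiv
  exact ⟨Finite.of_equiv _ e.symm, (Nat.card_congr e).trans_le (h4.trans h2)⟩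

end Groth.Agent.Lib.helper11.BddFib1
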