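import Groth.Agent.Lib.helper11.BddFib2
import Groth.Prelude.Def_Mor2
import Mathlib.AlgebraicGeometry.Morphisms.Immersion
import Mathlib.AlgebraicGeometry.Morphisms.FlatRank

set_option autoImplicit false
universe u
open CategoryTheory CategoryTheory.Limits AlgebraicGeometry BddFib TensorProduct

namespace Groth.Agent.Lib.helper11.BddFib1

theorem ringFinLE_one_of_surjective {K B : Type*} [CommRing K] [Nontrivial K] [CommRing B] (φ : K →+* B)
    (h : Function.Surjective φ) : RingFinLE φ 1 := by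
  letI := φ.toAlgebra
  have hs : Function.Surjective (Algebra.linearMap K B) := h
  refine ⟨Module.Finite.of_surjective _ hs, ?_⟩
  have := LinearMap.finrank_le_finrank_of_surjective hs
  rwa [Module.finrank_self] at this

theorem finiteOfDegLE_one_of_isImmersion {K : CommRingCat.{u}} (hK : IsField K) {T : Scheme.{u}}
    (p : T ⟶ Spec K) [IsImmersion p] : FiniteOfDegLE K p 1 := by
  letI := hK.toField
  haveI : Subsingleton (Spec K) := (inferInstance : Subsingleton (PrimeSpectrum K))
  haveI : IsClosedImmersion p := .of_isPreimmersion _ (isClosed_discrete _)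
  obtain ⟨h1, h2⟩ := IsClosedImmersion.isAffine_surjective_of_isAffine p
  rw [finiteOfDegLE_iff]
  refine ⟨h1, ringFinLE_one_of_surjective _ ?_⟩
  rw [CommRingCat.hom_comp, RingHom.coe_comp]
  exact h2.comp (ConcreteCategory.bijective_of_isIso (Scheme.ΓSpecIso K).inv).surjective


theorem finiteOfDegLE_of_finite_flat {K : CommRingCat.{u}} (hK : IsField K) {T : Scheme.{u}}
    (p : T ⟶ Spec K) [IsFinite p] [Flat p] (d : ℕ) (hd : ∀ s, p.finrank s = d) :
    FiniteOfDegLE K p d := by
  letI := hK.toField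
  haveI : IsAffine T := isAffine_of_isAffineHom p
  rw [finiteOfDegLE_iff]
  refine ⟨inferInstance, ?_⟩
  obtain ⟨φ, hφ⟩ : ∃ φ : K ⟶ Γ(T, ⊤), φ = (Scheme.ΓSpecIso K).inv ≫ p.appTop := ⟨_, rfl⟩
  rw [← hφ]
  have hp : p = T.isoSpec.hom ≫ Spec.map φ := hφ ▸ eq_isoSpec_comp p
  have hq : Spec.map φ = T.isoSpec.inv ≫ p := by rw [hp, Iso.inv_hom_id_assoc]
  have hfin : IsFinite (Spec.map φ) := by rw [hq]; infer_instance
  have hflat : Flat (Spec.map φ) := by rw [hq]; infer_instance
  have h1 : φ.hom.Finite := (IsFinite.SpecMap_iff φ).mp hfin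
  have h2 : φ.hom.Flat := Flat.SpecMap_iff.mp hflat
  have h3 : (Spec.map φ).finrank = φ.hom.finrank := Scheme.Hom.finrank_SpecMap_eq_finrank h1 h2
  have h4 : p.finrank = (Spec.map φ).finrank := by
    rw [hp]; exact Scheme.Hom.finrank_comp_left_of_isIso _ _
  letI := φ.hom.toAlgebra
  have h5 : Module.Finite K Γ(T, ⊤) := h1
  refine ⟨h5, le_of_eq ?_⟩
  have := hd (IsLocalRing.closedPoint K)
  rw [h4, h3] at this
  rw [← this]
  unfold RingHom.finrank
  rw [Module.rankAtStalk_eq_finrank_of_free]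
  rfl

theorem fibreDegLE_one_of_isImmersion {X Y : Scheme.{u}} (f : X ⟶ Y) [IsImmersion f] :
    FibreDegLE f 1 := by
  intro y
  haveI : IsImmersion (f.fiberToSpecResidueField y) :=
    inferInstanceAs (IsImmersion (pullback.snd f (Y.fromSpecResidueField y)))
  exact finiteOfDegLE_one_of_isImmersion (Field.toIsField _) _

theorem fibreDegLE_of_isFinLocFreeOfDeg {X Y : Scheme.{u}} (f : X ⟶ Y) (d : ℕ)
    (hf : Mor2.IsFinLocFreeOfDeg d f) : FibreDegLE f d := by
  obtain ⟨⟨h1, h2, -⟩, h3⟩ := hf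
  intro y
  haveI : IsFinite (f.fiberToSpecResidueField y) :=
    inferInstanceAs (IsFinite (pullback.snd f (Y.fromSpecResidueField y)))
  haveI : Flat (f.fiberToSpecResidueField y) :=
    inferInstanceAs (Flat (pullback.snd f (Y.fromSpecResidueField y)))
  refine finiteOfDegLE_of_finite_flat (Field.toIsField _) _ d (fun s => ?_)
  exact (Scheme.Hom.finrank_pullback_snd f (Y.fromSpecResidueField y) s).trans (h3 _)

end Groth.Agent.Lib.helper11.BddFib1
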