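import Groth.Agent.Lib.helper11.BddFib3
import Mathlib.AlgebraicGeometry.Morphisms.UniversallyOpen
import Mathlib.LinearAlgebra.Dimension.Free

/-! Bounded fibre degrees: descent along field extensions. -/

set_option autoImplicit false
universe u
open CategoryTheory CategoryTheory.Limits AlgebraicGeometry BddFib TensorProduct

namespace Groth.Agent.Lib.helper11.BddFib1

theorem ringFinLE_of_includeRight {K A k : Type u} [CommRing K] [CommRing A] [CommRing k]
    (hK : IsField K) (hk : IsField k) (φ : K →+* A) (ψ : K →+* k) (n : ℕ)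
    (H : letI := φ.toAlgebra
      letI := ψ.toAlgebra
      RingFinLE (Algebra.TensorProduct.includeRight : k →ₐ[K] A ⊗[K] k).toRingHom n) :
    RingFinLE φ n := by
  letI := hK.toField
  letI := hk.toField
  letI := φ.toAlgebra
  letI := ψ.toAlgebra
  have H' : RingFinLE (algebraMap k (k ⊗[K] A)) n := by
    refine ringFinLE_of_equiv _ _ (Algebra.TensorProduct.comm K A k).toRingEquiv (fun x => ?_) n H
    simp [Algebra.TensorProduct.algebraMap_apply]
  rw [ringFinLE_algebraMap] at H'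
  obtain ⟨h3, h4⟩ := H'
  have hr : Module.rank k (k ⊗[K] A) = Module.rank K A := by
    simpa using Module.rank_baseChange (R := k) (S := K) (M' := A)
  have hfin : Module.Finite K A := by
    rw [← Module.rank_lt_aleph0_iff, ← hr, Module.rank_lt_aleph0_iff]
    exact h3
  refine ⟨hfin, ?_⟩
  rw [← Module.finrank_baseChange (R := k) (S := K) (M' := A)]
  exact h4

theorem finiteOfDegLE_descent {K k : CommRingCat.{u}} (hK : IsField K) (hk : IsField k)
    (ψ : K ⟶ k) {T P : Scheme.{u}} [IsAffine T] (p : T ⟶ Spec K) (fst : P ⟶ T)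
    (snd : P ⟶ Spec k) (h : IsPullback fst snd p (Spec.map ψ)) (n : ℕ)
    (H : FiniteOfDegLE k snd n) : FiniteOfDegLE K p n := by
  rw [finiteOfDegLE_iff]
  refine ⟨inferInstance, ?_⟩
  obtain ⟨φ, hφ⟩ : ∃ φ : K ⟶ Γ(T, ⊤), φ = (Scheme.ΓSpecIso K).inv ≫ p.appTop := ⟨_, rfl⟩
  rw [← hφ]
  have hp : p = T.isoSpec.hom ≫ Spec.map φ := hφ ▸ eq_isoSpec_comp p
  letI := φ.hom.toAlgebra
  letI := ψ.hom.toAlgebra
  have h1 : IsPullback (fst ≫ T.isoSpec.hom) snd (Spec.map φ) (Spec.map ψ) := by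
    have := h.paste_horiz (IsPullback.of_horiz_isIso (fst := T.isoSpec.hom) (snd := p)
      (f := Spec.map φ) (g := 𝟙 _) ⟨by rw [Category.comp_id]; exact hp.symm⟩)
    rwa [Category.comp_id] at this
  have h2 := isPullback_SpecMap_of_isPushout _ _ _ _
    (CommRingCat.isPushout_tensorProduct K Γ(T, ⊤) k)
  let e := h1.isoIsPullback _ _ h2
  have he : e.inv ≫ snd = Spec.map (CommRingCat.ofHom (S := Γ(T, ⊤) ⊗[K] k)
      (Algebra.TensorProduct.includeRight : k →ₐ[K] Γ(T, ⊤) ⊗[K] k).toRingHom) :=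
    h1.isoIsPullback_inv_snd _ _ h2
  have H2 := finiteOfDegLE_of_iso _ snd e.symm he n H
  rw [finiteOfDegLE_SpecMap] at H2
  exact ringFinLE_of_includeRight hK hk φ.hom ψ.hom n H2

theorem finite_discrete_of_finiteOfDegLE {K : CommRingCat.{u}} (hK : IsField K) {T : Scheme.{u}}
    (p : T ⟶ Spec K) (n : ℕ) (H : FiniteOfDegLE K p n) : Finite T ∧ DiscreteTopology T := by
  obtain ⟨hA, hR⟩ := (finiteOfDegLE_iff p n).mp H
  letI := hK.toField
  letI := ((Scheme.ΓSpecIso K).inv ≫ p.appTop).hom.toAlgebra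
  obtain ⟨h1, h2⟩ := hR
  haveI : IsArtinianRing Γ(T, ⊤) := IsArtinianRing.of_finite K Γ(T, ⊤)
  let e : T ≃ₜ PrimeSpectrum Γ(T, ⊤) := Scheme.homeoOfIso T.isoSpec
  exact ⟨Finite.of_equiv _ e.symm.toEquiv, e.isEmbedding.discreteTopology⟩

theorem discreteTopology_of_surjective_isOpenMap {A B : Type*} [TopologicalSpace A]
    [TopologicalSpace B] [DiscreteTopology A] (q : A → B) (hs : Function.Surjective q)
    (ho : IsOpenMap q) : DiscreteTopology B := by
  rw [discreteTopology_iff_forall_isOpen]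
  intro s
  rw [← Set.image_preimage_eq s hs]
  exact ho _ (isOpen_discrete _)

end Groth.Agent.Lib.helper11.BddFib1
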