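import Groth.Agent.Lib.helper11.BddFib4
import Mathlib.RingTheory.RingHom.FaithfullyFlat

/-! Bounded fibre degrees: descent along surjective base change; flat surjective triangles. -/

set_option autoImplicit false
universe u
open CategoryTheory CategoryTheory.Limits AlgebraicGeometry BddFib TensorProduct

namespace Groth.Agent.Lib.helper11.BddFib1


theorem fibreDegLE_of_isPullback_of_surjective {X Y X' Y' : Scheme.{u}} (f : X ⟶ Y) (g : Y' ⟶ Y)
    [Surjective g] (f' : X' ⟶ Y') (g' : X' ⟶ X) (h : IsPullback g' f' f g) (n : ℕ)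
    (hf' : FibreDegLE f' n) : FibreDegLE f n := by
  intro y
  obtain ⟨y', rfl⟩ := g.surjective y
  have hsq := isPullback_fiberToSpecResidueField_of_isPullback h y'
  have H' := hf' y'
  obtain ⟨hfin, hdisc⟩ := finite_discrete_of_finiteOfDegLE (Field.toIsField _) _ n H'
  haveI : Subsingleton (Spec (Y.residueField (g y'))) :=
    (inferInstance : Subsingleton (PrimeSpectrum (Y.residueField (g y'))))
  have hs0 : Surjective (Spec.map (g.residueFieldMap y')) :=
    ⟨fun x => ⟨IsLocalRing.closedPoint _, Subsingleton.elim _ _⟩⟩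
  have hsurj := MorphismProperty.of_isPullback (P := @Surjective) hsq.flip hs0
  have hopen := MorphismProperty.of_isPullback (P := @UniversallyOpen) hsq.flip inferInstance
  haveI : Finite ↥(pullback f' (Y'.fromSpecResidueField y')) := hfin
  haveI : DiscreteTopology ↥(pullback f' (Y'.fromSpecResidueField y')) := hdisc
  haveI : Finite ↥(pullback f (Y.fromSpecResidueField (g y'))) := Finite.of_surjective _ hsurj.surj
  haveI : DiscreteTopology ↥(pullback f (Y.fromSpecResidueField (g y'))) :=
    discreteTopology_of_surjective_isOpenMap _ hsurj.surj (Scheme.Hom.isOpenMap _)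
  haveI : IsAffine (pullback f (Y.fromSpecResidueField (g y'))) := inferInstance
  haveI : IsAffine (f.fiber (g y')) := this
  exact finiteOfDegLE_descent (Field.toIsField _) (Field.toIsField _) (g.residueFieldMap y') _ _ _
    hsq n H'



theorem ringFinLE_of_injective {K A B : Type*} [CommRing K] [CommRing A] [CommRing B]
    (hK : IsField K) (φ : K →+* A) (j : A →+* B) (hj : Function.Injective j) (n : ℕ)
    (H : RingFinLE (j.comp φ) n) : RingFinLE φ n := by
  letI := hK.toField
  letI := φ.toAlgebra
  letI := (j.comp φ).toAlgebra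
  obtain ⟨h1, h2⟩ := H
  let jl : A →ₗ[K] B :=
    { toFun := j
      map_add' := map_add j
      map_smul' := fun c x => (map_mul j (φ c) x) }
  have hjl : Function.Injective jl := hj
  exact ⟨Module.Finite.of_injective jl hjl, (LinearMap.finrank_le_finrank_of_injective hjl).trans h2⟩

theorem quasiCompact_of_finite {T S : Scheme.{u}} [Finite T] (q : T ⟶ S) : QuasiCompact q :=
  ⟨fun _ _ _ => (Set.toFinite _).isCompact⟩

theorem appTop_injective_of_flat_surjective {T S : Scheme.{u}} [IsAffine T] [IsAffine S]
    (q : T ⟶ S) [Flat q] [Surjective q] : Function.Injective q.appTop.hom := by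
  have hq : Spec.map q.appTop = T.isoSpec.inv ≫ q ≫ S.isoSpec.hom := by
    rw [← Scheme.isoSpec_hom_naturality, Iso.inv_hom_id_assoc]
  have h1 : Flat (Spec.map q.appTop) := by rw [hq]; infer_instance
  have h2 : Surjective (Spec.map q.appTop) := by rw [hq]; infer_instance
  exact ((flat_and_surjective_SpecMap_iff _).mp ⟨h1, h2⟩).injective

theorem finiteOfDegLE_of_flat_surjective {K : CommRingCat.{u}} (hK : IsField K) {T S : Scheme.{u}}
    (q : T ⟶ S) [Flat q] [Surjective q] (p : S ⟶ Spec K) (n : ℕ)
    (H : FiniteOfDegLE K (q ≫ p) n) : FiniteOfDegLE K p n := by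
  obtain ⟨hfin, hdisc⟩ := finite_discrete_of_finiteOfDegLE hK _ n H
  haveI : IsAffine T := H.1
  haveI := quasiCompact_of_finite q
  have hquot : Topology.IsQuotientMap q := Flat.isQuotientMap_of_surjective q
  haveI : Finite S := Finite.of_surjective _ q.surjective
  haveI : DiscreteTopology S := by
    rw [discreteTopology_iff_forall_isOpen]
    intro s
    rw [← hquot.isOpen_preimage]
    exact isOpen_discrete _
  haveI : IsAffine S := inferInstance
  rw [finiteOfDegLE_iff] at H ⊢
  refine ⟨inferInstance, ?_⟩
  refine ringFinLE_of_injective hK _ q.appTop.hom (appTop_injective_of_flat_surjective q) n ?_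
  have := H.2
  rw [Scheme.Hom.comp_appTop, ← Category.assoc, CommRingCat.hom_comp] at this
  exact this


theorem fibreDegLE_of_flat_surjective_triangle {X Y Z : Scheme.{u}} (f : X ⟶ Y) (h : Y ⟶ Z)
    [Flat f] [Surjective f] (n : ℕ) (hg : FibreDegLE (f ≫ h) n) : FibreDegLE h n := by
  intro z
  let fz : (f ≫ h).fiber z ⟶ h.fiber z :=
    pullback.lift ((f ≫ h).fiberι z ≫ f) ((f ≫ h).fiberToSpecResidueField z)
      (by rw [Category.assoc]; exact pullback.condition)
  have hfz : fz ≫ h.fiberToSpecResidueField z = (f ≫ h).fiberToSpecResidueField z :=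
    pullback.lift_snd _ _ _
  have hsq : IsPullback fz ((f ≫ h).fiberι z) (h.fiberι z) f := by
    have hr : IsPullback (h.fiberToSpecResidueField z) (h.fiberι z) (Z.fromSpecResidueField z) h :=
      (IsPullback.of_hasPullback h (Z.fromSpecResidueField z)).flip
    have hb : IsPullback ((f ≫ h).fiberToSpecResidueField z) ((f ≫ h).fiberι z)
        (Z.fromSpecResidueField z) (f ≫ h) :=
      (IsPullback.of_hasPullback (f ≫ h) (Z.fromSpecResidueField z)).flip
    rw [← hfz] at hb
    exact IsPullback.of_right hb (pullback.lift_fst _ _ _) hr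
  haveI : Flat fz := MorphismProperty.of_isPullback (P := @Flat) hsq.flip inferInstance
  haveI : Surjective fz := MorphismProperty.of_isPullback (P := @Surjective) hsq.flip inferInstance
  have H := hg z
  rw [← hfz] at H
  exact finiteOfDegLE_of_flat_surjective (Field.toIsField _) fz _ n H

end Groth.Agent.Lib.helper11.BddFib1
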