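import Groth.Agent.Lib.helper11.BddFib6
import Mathlib.AlgebraicGeometry.Morphisms.Etale
import Mathlib.AlgebraicGeometry.Morphisms.QuasiFinite
import Mathlib.RingTheory.Unramified.LocalStructure
import Mathlib.RingTheory.Etale.Field

/-! Bounded fibre degrees: etale morphisms with bounded geometric point count. -/

set_option autoImplicit false
universe u
open CategoryTheory CategoryTheory.Limits AlgebraicGeometry BddFib TensorProduct

namespace Groth.Agent.Lib.helper11.BddFib1

theorem locallyQuasiFinite_of_etale {X Y : Scheme.{u}} (f : X ⟶ Y) [Etale f] :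
    LocallyQuasiFinite f := by
  rw [HasRingHomProperty.iff_appLE (P := @LocallyQuasiFinite)]
  intro U V e
  have h : RingHom.Etale (f.appLE U V e).hom := HasRingHomProperty.appLE (P := @Etale) f inferInstance U V e
  algebraize [(f.appLE U V e).hom]
  change Algebra.QuasiFinite _ _
  infer_instance

theorem finiteOfDegLE_mono {K : CommRingCat.{u}} {T : Scheme.{u}} (p : T ⟶ Spec K) {a b : ℕ}
    (H : FiniteOfDegLE K p a) (hab : a ≤ b) : FiniteOfDegLE K p b := by
  rw [finiteOfDegLE_iff] at H ⊢
  exact ⟨H.1, H.2.1, H.2.2.trans hab⟩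

theorem finiteOfDegLE_of_etale_sepClosed (k : Type u) [Field k] [IsSepClosed k] {P : Scheme.{u}}
    (p : P ⟶ Spec (CommRingCat.of k)) [Etale p] [Finite P] :
    FiniteOfDegLE (CommRingCat.of k) p (Nat.card P) := by
  haveI := locallyQuasiFinite_of_etale p
  haveI : DiscreteTopology P := by
    rw [← isDiscrete_univ_iff]
    have := p.isDiscrete_preimage_singleton (IsLocalRing.closedPoint k)
    convert this
    ext x
    simp only [Set.mem_univ, Set.mem_preimage, Set.mem_singleton_iff, true_iff]
    exact Subsingleton.elim (α := PrimeSpectrum k) _ _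
  haveI : IsAffine P := inferInstance
  rw [finiteOfDegLE_iff]
  refine ⟨inferInstance, ?_⟩
  obtain ⟨φ, hφ⟩ : ∃ φ : CommRingCat.of k ⟶ Γ(P, ⊤), φ = (Scheme.ΓSpecIso _).inv ≫ p.appTop :=
    ⟨_, rfl⟩
  rw [← hφ]
  have hp : p = P.isoSpec.hom ≫ Spec.map φ := hφ ▸ eq_isoSpec_comp p
  have hq : Spec.map φ = P.isoSpec.inv ≫ p := by rw [hp, Iso.inv_hom_id_assoc]
  have het : Etale (Spec.map φ) := by rw [hq]; infer_instance
  have het' : φ.hom.Etale := (HasRingHomProperty.Spec_iff (P := @Etale)).mp het
  letI := φ.hom.toAlgebra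
  haveI : Algebra.Etale k Γ(P, ⊤) := het'
  have hfin : Module.Finite k Γ(P, ⊤) := Algebra.FormallyUnramified.finite_of_free k _
  refine ⟨hfin, le_of_eq ?_⟩
  haveI : IsArtinianRing Γ(P, ⊤) := .of_finite k _
  haveI : Fintype (PrimeSpectrum Γ(P, ⊤)) := Fintype.ofFinite _
  rw [(Algebra.FormallyEtale.equivPiOfIsSepClosed k Γ(P, ⊤)).toLinearEquiv.finrank_eq,
    Module.finrank_fintype_fun_eq_card, ← Nat.card_eq_fintype_card]
  exact (Nat.card_congr (Scheme.homeoOfIso P.isoSpec).toEquiv).symm

theorem fibreDegLE_of_etale_of_card_le {X Y : Scheme.{u}} (f : X ⟶ Y) [Etale f] (n : ℕ)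
    (h : ∀ (k : Type u) [Field k] (g : Spec (CommRingCat.of k) ⟶ Y),
      Finite ↥(pullback f g) ∧ Nat.card ↥(pullback f g) ≤ n) : FibreDegLE f n := by
  intro y
  let ψ : Y.residueField y ⟶ CommRingCat.of (AlgebraicClosure (Y.residueField y)) :=
    CommRingCat.ofHom (algebraMap (Y.residueField y) (AlgebraicClosure (Y.residueField y)))
  obtain ⟨hfin, hcard⟩ := h (AlgebraicClosure (Y.residueField y))
    (Spec.map ψ ≫ Y.fromSpecResidueField y)
  let l : pullback f (Spec.map ψ ≫ Y.fromSpecResidueField y) ⟶ f.fiber y :=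
    pullback.lift (pullback.fst _ _) (pullback.snd _ _ ≫ Spec.map ψ)
      (by rw [pullback.condition, Category.assoc])
  have hr : IsPullback (f.fiberι y) (f.fiberToSpecResidueField y) f (Y.fromSpecResidueField y) :=
    IsPullback.of_hasPullback _ _
  have hl : IsPullback l (pullback.snd f (Spec.map ψ ≫ Y.fromSpecResidueField y))
      (f.fiberToSpecResidueField y) (Spec.map ψ) := by
    refine IsPullback.of_right ?_ (pullback.lift_snd _ _ _) hr
    have : l ≫ f.fiberι y = pullback.fst _ _ := pullback.lift_fst _ _ _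
    rw [this]
    exact IsPullback.of_hasPullback _ _
  have HA := finiteOfDegLE_of_etale_sepClosed (AlgebraicClosure (Y.residueField y))
    (pullback.snd f (Spec.map ψ ≫ Y.fromSpecResidueField y))
  obtain ⟨-, hdisc⟩ := finite_discrete_of_finiteOfDegLE (Field.toIsField _) _ _ HA
  haveI : Subsingleton (Spec (Y.residueField y)) :=
    (inferInstance : Subsingleton (PrimeSpectrum (Y.residueField y)))
  have hs0 : Surjective (Spec.map ψ) :=
    ⟨fun x => ⟨IsLocalRing.closedPoint _, Subsingleton.elim _ _⟩⟩
  have hsurj := MorphismProperty.of_isPullback (P := @Surjective) hl.flip hs0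
  have hopen := MorphismProperty.of_isPullback (P := @UniversallyOpen) hl.flip inferInstance
  haveI : Finite ↥(pullback f (Y.fromSpecResidueField y)) := Finite.of_surjective _ hsurj.surj
  haveI : DiscreteTopology ↥(pullback f (Y.fromSpecResidueField y)) :=
    discreteTopology_of_surjective_isOpenMap _ hsurj.surj (Scheme.Hom.isOpenMap _)
  haveI : IsAffine (pullback f (Y.fromSpecResidueField y)) := inferInstance
  haveI : IsAffine (f.fiber y) := this
  exact finiteOfDegLE_mono _ (finiteOfDegLE_descent (Field.toIsField _) (Field.toIsField _) ψ _ l _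
    hl _ HA) hcard

end Groth.Agent.Lib.helper11.BddFib1
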