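import Mathlib
import Groth.Prelude
import Groth.Agent.Lib.helper11.BddFib4

/-! sum of residue degrees over a finite fibre is bounded by the degree -/

set_option autoImplicit false
universe u
open CategoryTheory CategoryTheory.Limits AlgebraicGeometry BddFib Function

namespace Groth.Agent.Lib.helper11.BddFib1

theorem Γevaluation_surjective_of_isArtinianRing {T : Scheme.{u}} [IsAffine T]
    [IsArtinianRing Γ(T, ⊤)] (x : T) : Function.Surjective (T.Γevaluation x).hom := by
  have hT : IsAffineOpen (⊤ : T.Opens) := isAffineOpen_top T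
  have := hT.isLocalization_stalk ⟨x, trivial⟩
  let := T.presheaf.algebra_section_stalk (U := ⊤) ⟨x, trivial⟩
  have h1 : Function.Surjective (algebraMap Γ(T, ⊤) (T.presheaf.stalk x)) :=
    IsArtinianRing.localization_surjective (hT.primeIdealOf ⟨x, trivial⟩).asIdeal.primeCompl _
  have h2 : Function.Surjective (T.residue x).hom := IsLocalRing.residue_surjective
  have : (T.Γevaluation x).hom = (T.residue x).hom.comp (algebraMap Γ(T, ⊤) (T.presheaf.stalk x)) := rfl
  rw [this]
  exact h2.comp h1

theorem sum_finrank_le_of_surjective {k B : Type*} [Field k] [CommRing B] [Algebra k B]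
    [Module.Finite k B] {ι : Type*} [Fintype ι] (K : ι → Type*) [∀ i, CommRing (K i)]
    [∀ i, Algebra k (K i)] (φ : ∀ i, B →ₐ[k] K i) (hs : ∀ i, Function.Surjective (φ i))
    (hc : Pairwise (IsCoprime on fun i => RingHom.ker (φ i).toRingHom)) :
    ∑ i, Module.finrank k (K i) ≤ Module.finrank k B := by
  classical
  let Φ : B →ₗ[k] (∀ i, K i) := LinearMap.pi fun i => (φ i).toLinearMap
  have hΦ : Function.Surjective Φ := by
    intro y
    choose b hb using fun i => hs i (y i)
    obtain ⟨r, hr⟩ := Ideal.pi_quotient_surjective hc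
      (fun i => Ideal.Quotient.mk (RingHom.ker (φ i).toRingHom) (b i))
    refine ⟨r, funext fun i => ?_⟩
    have h1 : r - b i ∈ RingHom.ker (φ i).toRingHom := by
      rw [← Ideal.Quotient.eq]; exact hr i
    have h2 : φ i (r - b i) = 0 := h1
    rw [map_sub, sub_eq_zero] at h2
    change φ i r = y i
    rw [h2, hb]
  haveI : ∀ i, Module.Finite k (K i) := fun i =>
    Module.Finite.of_surjective (φ i).toLinearMap (hs i)
  rw [← Module.finrank_pi_fintype k]
  exact LinearMap.finrank_le_finrank_of_surjective hΦ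

/-- kernels of evaluation at distinct points of a discrete affine scheme are different -/
theorem ker_Γevaluation_ne {T : Scheme.{u}} [IsAffine T] [DiscreteTopology T] {x y : T}
    (hxy : x ≠ y) : RingHom.ker (T.Γevaluation x).hom ≠ RingHom.ker (T.Γevaluation y).hom := by
  intro h
  have hopen : IsOpen ({x} : Set T) := isOpen_discrete _
  obtain ⟨_, ⟨_, ⟨s, rfl⟩, rfl⟩, hxs, hsub⟩ :=
    (isBasis_basicOpen T).exists_subset_of_mem_open (Set.mem_singleton x) hopen
  have h1 : s ∉ RingHom.ker (T.Γevaluation x).hom := by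
    rw [RingHom.mem_ker]
    exact (T.Γevaluation_ne_zero_iff_mem_basicOpen x s).mpr hxs
  have h2 : s ∈ RingHom.ker (T.Γevaluation y).hom := by
    rw [RingHom.mem_ker]
    by_contra hne
    have := (T.Γevaluation_ne_zero_iff_mem_basicOpen y s).mp hne
    exact hxy (hsub this).symm
  exact h1 (h ▸ h2)

/-- the residue field of the point of `Spec k` is `k` -/
theorem bijective_toResidueField_Spec (k : Type u) [Field k] (z : Spec (CommRingCat.of k)) :
    Function.Bijective
      ((Scheme.ΓSpecIso (CommRingCat.of k)).inv ≫ (Spec (CommRingCat.of k)).Γevaluation z).hom := by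
  refine ⟨RingHom.injective _, ?_⟩
  haveI : IsArtinianRing Γ(Spec (CommRingCat.of k), ⊤) :=
    Function.Surjective.isArtinianRing (f := (Scheme.ΓSpecIso (CommRingCat.of k)).inv.hom)
      (ConcreteCategory.bijective_of_isIso (Scheme.ΓSpecIso (CommRingCat.of k)).inv).2
  rw [CommRingCat.hom_comp, RingHom.coe_comp]
  exact (Γevaluation_surjective_of_isArtinianRing z).comp
    (ConcreteCategory.bijective_of_isIso (Scheme.ΓSpecIso (CommRingCat.of k)).inv).2

theorem sum_residueDegree_le_of_finiteOfDegLE {k : Type u} [Field k] {T : Scheme.{u}}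
    (q : T ⟶ Spec (CommRingCat.of k)) (n : ℕ) (H : FiniteOfDegLE (CommRingCat.of k) q n) :
    Finite T ∧ ∑ᶠ x : T, q.residueDegree x ≤ n := by
  classical
  obtain ⟨hfin, hdisc⟩ := finite_discrete_of_finiteOfDegLE (Field.toIsField k) q n H
  obtain ⟨hA, hR⟩ := (finiteOfDegLE_iff q n).mp H
  haveI := hA
  haveI := hfin
  haveI := hdisc
  refine ⟨hfin, ?_⟩
  letI : Algebra k Γ(T, ⊤) :=
    ((Scheme.ΓSpecIso (CommRingCat.of k)).inv ≫ q.appTop).hom.toAlgebra
  obtain ⟨h1, h2⟩ := hR
  haveI : Module.Finite k Γ(T, ⊤) := h1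
  haveI : IsArtinianRing Γ(T, ⊤) := IsArtinianRing.of_finite k Γ(T, ⊤)
  cases nonempty_fintype T
  letI : ∀ x : T, Algebra k (T.residueField x) := fun x =>
    ((T.Γevaluation x).hom.comp (algebraMap k Γ(T, ⊤))).toAlgebra
  let φ : ∀ x : T, Γ(T, ⊤) →ₐ[k] T.residueField x := fun x =>
    { (T.Γevaluation x).hom with commutes' := fun r => rfl }
  have hs : ∀ x, Function.Surjective (φ x) := fun x => Γevaluation_surjective_of_isArtinianRing x
  have hmax : ∀ x, (RingHom.ker (φ x).toRingHom).IsMaximal := fun x =>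
    RingHom.ker_isMaximal_of_surjective _ (hs x)
  have hc : Pairwise (IsCoprime on fun x => RingHom.ker (φ x).toRingHom) := by
    intro x y hxy
    exact Ideal.isCoprime_iff_sup_eq.mpr
      ((hmax x).coprime_of_ne (hmax y) (ker_Γevaluation_ne hxy))
  have hsum := sum_finrank_le_of_surjective (fun x => T.residueField x) φ hs hc
  rw [finsum_eq_sum_of_fintype]
  refine le_trans (le_of_eq ?_) (hsum.trans h2)
  refine Finset.sum_congr rfl fun x _ => ?_
  let i : k ≃+* (Spec (CommRingCat.of k)).residueField (q x) :=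
    RingEquiv.ofBijective _ (bijective_toResidueField_Spec k (q x))
  letI : Algebra ((Spec (CommRingCat.of k)).residueField (q x)) (T.residueField x) :=
    (q.residueFieldMap x).hom.toAlgebra
  refine (Algebra.finrank_eq_of_equiv_equiv i (RingEquiv.refl _) ?_).symm
  ext r
  change (q.residueFieldMap x).hom (((Spec (CommRingCat.of k)).Γevaluation (q x)).hom
    ((Scheme.ΓSpecIso (CommRingCat.of k)).inv.hom r)) =
    (T.Γevaluation x).hom (q.appTop.hom ((Scheme.ΓSpecIso (CommRingCat.of k)).inv.hom r))
  exact Scheme.Γevaluation_naturality_apply q x _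

end Groth.Agent.Lib.helper11.BddFib1
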