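import Mathlib
import Groth.Prelude
import Groth.Agent.Lib.helper11.BddFibNak

/-! residue field degrees of finite morphisms are bounded by the number of generators -/

set_option autoImplicit false
universe u
open CategoryTheory CategoryTheory.Limits AlgebraicGeometry Function

namespace Groth.Agent.Lib.helper11.BddFib1

theorem finrank_le_of_fractions {A B K L : Type*} [CommRing A] [CommRing B] [Field K] [Field L]
    [Algebra K L] (φ : A →+* B) (evA : A →+* K) (evB : B →+* L)
    (hcomm : ∀ a, algebraMap K L (evA a) = evB (φ a))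
    (hfrac : ∀ y : L, ∃ b s : B, evB s ≠ 0 ∧ y * evB s = evB b)
    {m : ℕ} (g : Fin m → B) (hg : ∀ x : B, ∃ c : Fin m → A, x = ∑ j, φ (c j) * g j) :
    Module.Finite K L ∧ Module.finrank K L ≤ m := by
  classical
  set W : Submodule K L := Submodule.span K (Set.range (evB ∘ g)) with hW
  have h1 : ∀ x, evB x ∈ W := by
    intro x
    obtain ⟨c, rfl⟩ := hg x
    rw [map_sum]
    refine Submodule.sum_mem _ fun j _ => ?_
    rw [map_mul, ← hcomm, ← Algebra.smul_def]
    exact Submodule.smul_mem _ _ (Submodule.subset_span ⟨j, rfl⟩)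
  have hmul : ∀ z1 ∈ W, ∀ z2 ∈ W, z1 * z2 ∈ W := by
    intro z1 hz1 z2 hz2
    induction hz1, hz2 using Submodule.span_induction₂ with
    | mem_mem x y hx hy =>
      obtain ⟨i, rfl⟩ := hx
      obtain ⟨j, rfl⟩ := hy
      simp only [Function.comp_apply, ← map_mul]
      exact h1 _
    | zero_left y hy => simp
    | zero_right x hx => simp
    | add_left x y z _ _ _ hx hy => rw [add_mul]; exact Submodule.add_mem _ hx hy
    | add_right x y z _ _ _ hx hy => rw [mul_add]; exact Submodule.add_mem _ hx hy
    | smul_left r x y _ _ h => rw [smul_mul_assoc]; exact Submodule.smul_mem _ _ h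
    | smul_right r x y _ _ h => rw [mul_smul_comm]; exact Submodule.smul_mem _ _ h
  have hfd : Module.Finite K W := Module.Finite.span_of_finite K (Set.finite_range _)
  have hinv : ∀ w ∈ W, w ≠ 0 → w⁻¹ ∈ W := by
    intro w hw hw0
    let μ : W →ₗ[K] W :=
      { toFun := fun z => ⟨w * z.1, hmul w hw z.1 z.2⟩
        map_add' := fun a b => Subtype.ext (mul_add _ _ _)
        map_smul' := fun r a => Subtype.ext (mul_smul_comm _ _ _) }
    have hinj : Function.Injective μ := by
      intro a b hab
      have : w * a.1 = w * b.1 := congrArg Subtype.val hab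
      exact Subtype.ext (mul_left_cancel₀ hw0 this)
    have hsurj : Function.Surjective μ := LinearMap.surjective_of_injective hinj
    obtain ⟨z, hz⟩ := hsurj ⟨1, by simpa using h1 1⟩
    have hz' : w * z.1 = 1 := congrArg Subtype.val hz
    have : w⁻¹ = z.1 := by
      rw [eq_comm, ← mul_right_inj' hw0, hz', mul_inv_cancel₀ hw0]
    rw [this]; exact z.2
  have htop : W = ⊤ := by
    rw [eq_top_iff]
    intro y _
    obtain ⟨b, s, hs, hy⟩ := hfrac y
    have : y = evB b * (evB s)⁻¹ := by
      rw [← hy, mul_assoc, mul_inv_cancel₀ hs, mul_one]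
    rw [this]
    exact hmul _ (h1 b) _ (hinv _ (h1 s) hs)
  have := finrank_le_of_span_eq_top (K := K) (B := K) (M := L) m (evB ∘ g) htop
  simpa using this

/-- on an affine open, every element of the residue field is a fraction of values of sections -/
theorem exists_fraction_evaluation {X : Scheme.{u}} {V : X.Opens} (hV : IsAffineOpen V) (x : X)
    (hx : x ∈ V) (y : X.residueField x) :
    ∃ b s : Γ(X, V), (X.evaluation V x hx).hom s ≠ 0 ∧
      y * (X.evaluation V x hx).hom s = (X.evaluation V x hx).hom b := by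
  have := hV.isLocalization_stalk ⟨x, hx⟩
  let := X.presheaf.algebra_section_stalk (U := V) ⟨x, hx⟩
  obtain ⟨z, rfl⟩ : ∃ z, (X.residue x).hom z = y := IsLocalRing.residue_surjective y
  obtain ⟨⟨b, s⟩, hbs⟩ := IsLocalization.surj (hV.primeIdealOf ⟨x, hx⟩).asIdeal.primeCompl z
  have hev : ∀ a, (X.evaluation V x hx).hom a =
      (X.residue x).hom (algebraMap Γ(X, V) (X.presheaf.stalk x) a) := fun a => rfl
  refine ⟨b, s.1, ?_, ?_⟩
  · rw [hev]
    have hu : IsUnit (algebraMap Γ(X, V) (X.presheaf.stalk x) s.1) :=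
      IsLocalization.map_units (M := (hV.primeIdealOf ⟨x, hx⟩).asIdeal.primeCompl) _ s
    exact (hu.map (X.residue x).hom).ne_zero
  · rw [hev, hev, ← map_mul]
    exact congrArg _ hbs

theorem residueField_finrank_le {T' T : Scheme.{u}} (p : T' ⟶ T) (U : T.Opens)
    (hV : IsAffineOpen (p ⁻¹ᵁ U))
    {m : ℕ} (g : Fin m → Γ(T', p ⁻¹ᵁ U))
    (hg : ∀ x, ∃ c : Fin m → Γ(T, U), x = ∑ j, (p.app U).hom (c j) * g j)
    (t' : T') (ht' : p t' ∈ U) :
    letI := (p.residueFieldMap t').hom.toAlgebra
    Module.Finite (T.residueField (p t')) (T'.residueField t') ∧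
      Module.finrank (T.residueField (p t')) (T'.residueField t') ≤ m := by
  letI := (p.residueFieldMap t').hom.toAlgebra
  refine finrank_le_of_fractions (p.app U).hom (T.evaluation U (p t') ht').hom
    (T'.evaluation (p ⁻¹ᵁ U) t' ht').hom ?_ (exists_fraction_evaluation hV t' ht') g hg
  intro a
  exact Scheme.evaluation_naturality_apply p t' ht' a

theorem exists_bound_residueField_finrank {T' T : Scheme.{u}} (p : T' ⟶ T) [IsFinite p]
    [CompactSpace T] :
    ∃ N : ℕ, ∀ t' : T',
      letI := (p.residueFieldMap t').hom.toAlgebra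
      Module.Finite (T.residueField (p t')) (T'.residueField t') ∧
        Module.finrank (T.residueField (p t')) (T'.residueField t') ≤ N := by
  classical
  have key : ∀ t : T, ∃ (U : T.Opens) (m : ℕ), t ∈ U ∧ ∀ t' : T', p t' ∈ U →
      letI := (p.residueFieldMap t').hom.toAlgebra
      Module.Finite (T.residueField (p t')) (T'.residueField t') ∧
        Module.finrank (T.residueField (p t')) (T'.residueField t') ≤ m := by
    intro t
    obtain ⟨_, ⟨U, hU, rfl⟩, htU, -⟩ :=
      T.isBasis_affineOpens.exists_subset_of_mem_open (Set.mem_univ t) isOpen_univ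
    have hfin : (p.app U).hom.Finite := IsFinite.finite_app p U hU
    have hV : IsAffineOpen (p ⁻¹ᵁ U) := hU.preimage p
    letI := (p.app U).hom.toAlgebra
    haveI : Module.Finite Γ(T, U) Γ(T', p ⁻¹ᵁ U) := hfin
    obtain ⟨m, g, hg⟩ := Module.Finite.exists_fin (R := Γ(T, U)) (M := Γ(T', p ⁻¹ᵁ U))
    refine ⟨U, m, htU, fun t' ht' => residueField_finrank_le p U hV g (fun x => ?_) t' ht'⟩
    have hx : x ∈ Submodule.span Γ(T, U) (Set.range g) := by rw [hg]; trivial
    obtain ⟨c, hc⟩ := (Submodule.mem_span_range_iff_exists_fun _).mp hx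
    exact ⟨c, hc.symm⟩
  choose U m hU hb using key
  obtain ⟨s, hs⟩ := CompactSpace.elim_nhds_subcover (fun t => (U t : Set T))
    (fun t => (U t).isOpen.mem_nhds (hU t))
  refine ⟨s.sup m, fun t' => ?_⟩
  have : p t' ∈ ⋃ t ∈ s, (U t : Set T) := by rw [hs]; trivial
  simp only [Set.mem_iUnion] at this
  obtain ⟨t, hts, ht⟩ := this
  obtain ⟨h1, h2⟩ := hb t t' ht
  exact ⟨h1, h2.trans (Finset.le_sup (f := m) hts)⟩

end Groth.Agent.Lib.helper11.BddFib1
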