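import Mathlib

/-!
# Cartesian squares of rings and localization — helper11 library
-/

set_option autoImplicit false
universe u
open CategoryTheory CategoryTheory.Limits AlgebraicGeometry TopologicalSpace

namespace Groth.Agent.Lib.helper11.CartSq

section Ring

variable {B B' R R' : Type*} [CommRing B] [CommRing B'] [CommRing R] [CommRing R']
  (s : B →+* R) (t : R' →+* R) (p : B' →+* B) (q : B' →+* R')

/-- In a cartesian square of rings `B' = B ×_R R'`, if `B_g → R_{s g}` is bijective and
`h = (g, f)`, then `R'_f` is the localization of `B'` at `h`. -/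
theorem isLocalization_away
    (P1 : ∀ x, s (p x) = t (q x))
    (P2 : ∀ x, p x = 0 → q x = 0 → x = 0)
    (P3 : ∀ b r', s b = t r' → ∃ x, p x = b ∧ q x = r')
    (f : R') (g : B) (h : B') (hp : p h = g) (hq : q h = f)
    (hiso : Function.Bijective (Localization.awayMap s g)) :
    letI : Algebra B' (Localization.Away f) :=
      ((algebraMap R' (Localization.Away f)).comp q).toAlgebra
    IsLocalization.Away h (Localization.Away f) := by
  letI : Algebra B' (Localization.Away f) :=
    ((algebraMap R' (Localization.Away f)).comp q).toAlgebra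
  have halg : ∀ x : B', algebraMap B' (Localization.Away f) x
      = algebraMap R' (Localization.Away f) (q x) := fun x => rfl
  have hfg : t f = s g := by rw [← hp, ← hq, P1]
  -- (I)
  have hI : ∀ b : B, algebraMap R (Localization.Away (s g)) (s b) = 0 → ∃ M : ℕ, g ^ M * b = 0 := by
    intro b hb
    have h1 : Localization.awayMap s g (algebraMap B (Localization.Away g) b) = 0 := by
      rw [Localization.awayMap, IsLocalization.Away.map, IsLocalization.map_eq]; exact hb
    have h2 : algebraMap B (Localization.Away g) b = 0 := hiso.1 (h1.trans (map_zero _).symm)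
    obtain ⟨⟨_, M, rfl⟩, hM⟩ := (IsLocalization.map_eq_zero_iff (Submonoid.powers g) _ b).mp h2
    exact ⟨M, hM⟩
  -- (S)
  have hS : ∀ r : R, ∃ (n : ℕ) (b : B), s g ^ n * r = s b := by
    intro r
    obtain ⟨z, hz⟩ := hiso.2 (algebraMap R (Localization.Away (s g)) r)
    obtain ⟨b, ⟨_, m, rfl⟩, rfl⟩ := IsLocalization.exists_mk'_eq (Submonoid.powers g) z
    rw [Localization.awayMap, IsLocalization.Away.map, IsLocalization.map_mk'] at hz
    rw [IsLocalization.mk'_eq_iff_eq_mul, ← map_mul] at hz
    obtain ⟨⟨_, N, rfl⟩, hN⟩ := (IsLocalization.eq_iff_exists (Submonoid.powers (s g)) _).mp hz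
    refine ⟨N + m, g ^ N * b, ?_⟩
    simp only at hN
    rw [map_mul, map_pow, hN, map_pow]
    ring
  refine (isLocalization_iff _ _).mpr ⟨?_, ?_, ?_⟩
  · -- map_units
    rintro ⟨_, n, rfl⟩
    rw [halg, map_pow, hq, map_pow]
    exact (IsLocalization.Away.algebraMap_isUnit f).pow n
  · -- surj
    intro z
    obtain ⟨r', ⟨_, n, rfl⟩, rfl⟩ := IsLocalization.exists_mk'_eq (Submonoid.powers f) z
    obtain ⟨m, b, hb⟩ := hS (t r')
    obtain ⟨x, hxp, hxq⟩ := P3 b (f ^ m * r') (by rw [map_mul, map_pow, hfg, hb])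
    refine ⟨(x, ⟨h ^ (n + m), n + m, rfl⟩), ?_⟩
    simp only
    rw [halg, halg, hxq, map_pow, hq, pow_add, map_mul, map_mul, ← mul_assoc, map_pow]
    have := IsLocalization.mk'_spec (Localization.Away f) r' (⟨f ^ n, n, rfl⟩ : Submonoid.powers f)
    simp only at this
    rw [map_pow] at this
    rw [this]; ring
  · -- exists_of_eq
    intro x y hxy
    rw [halg, halg] at hxy
    obtain ⟨⟨_, N, rfl⟩, hN⟩ := (IsLocalization.eq_iff_exists (Submonoid.powers f) _).mp hxy
    simp only at hN
    have hd : f ^ N * q (x - y) = 0 := by rw [map_sub, mul_sub, hN, sub_self]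
    have h1 : s (g ^ N * p (x - y)) = 0 := by
      rw [map_mul, map_pow, ← hfg, P1, ← map_pow, ← map_mul, hd, map_zero]
    obtain ⟨M, hM⟩ := hI (g ^ N * p (x - y)) (by rw [h1, map_zero])
    refine ⟨⟨h ^ (M + N), M + N, rfl⟩, ?_⟩
    simp only
    have h0 : h ^ (M + N) * (x - y) = 0 := by
      apply P2
      · rw [map_mul, map_pow, hp, pow_add, mul_assoc]; exact hM
      · rw [map_mul, map_pow, hq, pow_add, mul_assoc, hd, mul_zero]
    rw [mul_sub, sub_eq_zero] at h0
    exact h0

end Ring

/-- Elementwise description of a cartesian square of commutative rings. -/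
lemma pullback_facts {B B' R R' : Type u} [CommRing B] [CommRing B'] [CommRing R] [CommRing R']
    (s : B →+* R) (t : R' →+* R) (p : B' →+* B) (q : B' →+* R')
    (hsq : IsPullback (CommRingCat.ofHom p) (CommRingCat.ofHom q) (CommRingCat.ofHom s)
      (CommRingCat.ofHom t)) :
    (∀ x, s (p x) = t (q x)) ∧ (∀ x, p x = 0 → q x = 0 → x = 0) ∧
      (∀ b r', s b = t r' → ∃ x, p x = b ∧ q x = r') := by
  let e := IsLimit.conePointUniqueUpToIso hsq.isLimit
    (CommRingCat.pullbackConeIsLimit (CommRingCat.ofHom s) (CommRingCat.ofHom t))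
  have he1 : e.hom ≫ (CommRingCat.pullbackCone (CommRingCat.ofHom s) (CommRingCat.ofHom t)).fst
      = CommRingCat.ofHom p :=
    IsLimit.conePointUniqueUpToIso_hom_comp _ _ WalkingCospan.left
  have he2 : e.hom ≫ (CommRingCat.pullbackCone (CommRingCat.ofHom s) (CommRingCat.ofHom t)).snd
      = CommRingCat.ofHom q :=
    IsLimit.conePointUniqueUpToIso_hom_comp _ _ WalkingCospan.right
  have hi1 : e.inv ≫ CommRingCat.ofHom p
      = (CommRingCat.pullbackCone (CommRingCat.ofHom s) (CommRingCat.ofHom t)).fst :=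
    IsLimit.conePointUniqueUpToIso_inv_comp _ _ WalkingCospan.left
  have hi2 : e.inv ≫ CommRingCat.ofHom q
      = (CommRingCat.pullbackCone (CommRingCat.ofHom s) (CommRingCat.ofHom t)).snd :=
    IsLimit.conePointUniqueUpToIso_inv_comp _ _ WalkingCospan.right
  refine ⟨?_, ?_, ?_⟩
  · intro x
    have := congrArg (fun φ => φ.hom x) hsq.w
    exact this
  · intro x hpx hqx
    have h1 : e.hom x = 0 := by
      apply Subtype.ext
      apply Prod.ext
      · have := congrArg (fun φ => φ.hom x) he1
        exact this.trans hpx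
      · have := congrArg (fun φ => φ.hom x) he2
        exact this.trans hqx
    have h2 : e.inv (e.hom x) = x := by
      rw [← CommRingCat.comp_apply, e.hom_inv_id]; rfl
    exact h2.symm.trans ((congrArg _ h1).trans (map_zero _))
  · intro b r' hbr
    let y : (CommRingCat.pullbackCone (CommRingCat.ofHom s) (CommRingCat.ofHom t)).pt :=
      ⟨(b, r'), hbr⟩
    refine ⟨e.inv y, ?_, ?_⟩
    · have := congrArg (fun φ => φ.hom y) hi1
      exact this
    · have := congrArg (fun φ => φ.hom y) hi2
      exact this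

/-- A morphism which is injective and source-locally an open immersion is an open immersion. -/
theorem isOpenImmersion_of_locally {X Y : Scheme.{u}} (f : X ⟶ Y)
    (hinj : Function.Injective f)
    (h : ∀ x : X, ∃ U : X.Opens, x ∈ U ∧ IsOpenImmersion (U.ι ≫ f)) : IsOpenImmersion f := by
  rw [isOpenImmersion_iff_stalk]
  constructor
  · refine Topology.IsOpenEmbedding.of_continuous_injective_isOpenMap f.continuous hinj ?_
    intro O hO
    rw [isOpen_iff_forall_mem_open]
    rintro _ ⟨x, hxO, rfl⟩
    obtain ⟨U, hxU, hU⟩ := h x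
    refine ⟨(U.ι ≫ f) '' (U.ι ⁻¹' O), ?_, ?_, ?_⟩
    · rintro _ ⟨y, hy, rfl⟩
      exact ⟨U.ι y, hy, rfl⟩
    · exact (U.ι ≫ f).isOpenEmbedding.isOpenMap _ (hO.preimage U.ι.continuous)
    · exact ⟨⟨x, hxU⟩, hxO, rfl⟩
  · intro x
    obtain ⟨U, hxU, hU⟩ := h x
    have h0 := Scheme.Hom.stalkMap_comp U.ι f ⟨x, hxU⟩
    have h1 : IsIso ((U.ι ≫ f).stalkMap ⟨x, hxU⟩) := inferInstance
    rw [h0] at h1
    haveI h2 : IsIso (U.ι.stalkMap ⟨x, hxU⟩) := inferInstance
    exact @IsIso.of_isIso_comp_right _ _ _ _ _ _ _ h2 h1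

end Groth.Agent.Lib.helper11.CartSq
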