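import Mathlib.Topology.Separation.Regular
import Mathlib.Topology.Compactness.Compact
import Mathlib.Data.Fintype.Pi

/-!
Refinement lemmas for Čech coverings of a quasi-compact subset.
-/

set_option autoImplicit false
universe u

namespace Groth.Agent.Lib.helper11.Cech

open Set Topology

variable {X : Type u} [TopologicalSpace X]

/-- the closed set `T` removing the bad part of all intersections -/
theorem exists_closed_trick (Z : Set X) {ι : Type u} (U : ι → Set X) (p : ℕ)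
    (W : (Fin (p + 1) → ι) → Set X) (hWo : ∀ t, IsOpen (W t))
    (hWZ : ∀ t, W t ∩ Z = (⋂ l, U (t l)) ∩ Z)
    (s : Finset ι) (V : ι → Set X) (hVs : ∀ i, i ∉ s → V i = ∅)
    (hVZ : ∀ i, closure (V i) ∩ Z ⊆ U i) :
    ∃ T : Set X, IsClosed T ∧ Disjoint T Z ∧ ∀ t, (⋂ l, V (t l)) \ T ⊆ W t := by
  classical
  refine ⟨⋃ t ∈ Fintype.piFinset (fun _ : Fin (p + 1) => s), (⋂ l, closure (V (t l))) \ W t,
    ?_, ?_, ?_⟩
  · refine isClosed_biUnion_finset fun t _ => ?_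
    exact (isClosed_iInter fun l => isClosed_closure).sdiff (hWo t)
  · rw [Set.disjoint_left]
    intro x hxT hxZ
    simp only [mem_iUnion, exists_prop] at hxT
    obtain ⟨t, -, hx1, hx2⟩ := hxT
    apply hx2
    have : x ∈ (⋂ l, U (t l)) ∩ Z := by
      refine ⟨mem_iInter.mpr fun l => ?_, hxZ⟩
      exact hVZ (t l) ⟨mem_iInter.mp hx1 l, hxZ⟩
    rw [← hWZ t] at this
    exact this.1
  · rintro t x ⟨hx1, hx2⟩
    by_contra hxW
    apply hx2
    simp only [mem_iUnion, exists_prop]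
    refine ⟨t, ?_, ?_, hxW⟩
    · rw [Fintype.mem_piFinset]
      intro l
      by_contra hl
      have := mem_iInter.mp hx1 l
      rw [hVs _ hl] at this
      exact this
    · exact mem_iInter.mpr fun l => subset_closure (mem_iInter.mp hx1 l)

/-- given a finite family of opens `V i` covering `Z` with `closure (V i) ∩ Z ⊆ U i`,
shrink them so that all `(p+1)`-fold intersections land in the prescribed `W t`. -/
theorem exists_refinement (Z : Set X) {ι : Type u} (U : ι → Set X) (p : ℕ)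
    (W : (Fin (p + 1) → ι) → Set X) (hWo : ∀ t, IsOpen (W t))
    (hWZ : ∀ t, W t ∩ Z = (⋂ l, U (t l)) ∩ Z)
    (s : Finset ι) (V : ι → Set X) (hVo : ∀ i, IsOpen (V i)) (hVs : ∀ i, i ∉ s → V i = ∅)
    (hcov : Z ⊆ ⋃ i, V i) (hVZ : ∀ i, closure (V i) ∩ Z ⊆ U i) :
    ∃ V' : ι → Set X, (∀ i, IsOpen (V' i)) ∧ (Z ⊆ ⋃ i, V' i) ∧ (∀ i, V' i ⊆ V i) ∧
      (∀ t : Fin (p + 1) → ι, (⋂ l, V' (t l)) ⊆ W t) := by
  obtain ⟨T, hT1, hT2, hT3⟩ := exists_closed_trick Z U p W hWo hWZ s V hVs hVZ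
  refine ⟨fun i => V i \ T, fun i => (hVo i).sdiff hT1, ?_, fun i => diff_subset, ?_⟩
  · intro z hz
    obtain ⟨i, hi⟩ := mem_iUnion.mp (hcov hz)
    exact mem_iUnion.mpr ⟨i, hi, fun h => (Set.disjoint_left.mp hT2 h) hz⟩
  · intro t x hx
    apply hT3 t
    refine ⟨mem_iInter.mpr fun l => (mem_iInter.mp hx l).1, (mem_iInter.mp hx 0).2⟩

/-- separating a point of `Z` from a compact subset of `Z` by open sets of `X` -/
theorem exists_separation (Z : Set X)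
    (hZsep : ∀ z ∈ Z, ∀ z' ∈ Z, z ≠ z' →
      ∃ A B : Set X, IsOpen A ∧ IsOpen B ∧ z ∈ A ∧ z' ∈ B ∧ Disjoint A B)
    (z : X) (hz : z ∈ Z) (K : Set X) (hK : IsCompact K) (hKZ : K ⊆ Z) (hzK : z ∉ K) :
    ∃ A B : Set X, IsOpen A ∧ IsOpen B ∧ z ∈ A ∧ K ⊆ B ∧ Disjoint A B := by
  refine hK.induction_on (p := fun K' => ∃ A B : Set X, IsOpen A ∧ IsOpen B ∧ z ∈ A ∧ K' ⊆ B ∧
    Disjoint A B) ?_ ?_ ?_ ?_
  · exact ⟨univ, ∅, isOpen_univ, isOpen_empty, mem_univ _, subset_rfl, disjoint_empty _⟩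
  · rintro s t hst ⟨A, B, hA, hB, hzA, htB, hAB⟩
    exact ⟨A, B, hA, hB, hzA, hst.trans htB, hAB⟩
  · rintro s t ⟨A, B, hA, hB, hzA, hsB, hAB⟩ ⟨A', B', hA', hB', hzA', htB', hAB'⟩
    refine ⟨A ∩ A', B ∪ B', hA.inter hA', hB.union hB', ⟨hzA, hzA'⟩,
      union_subset_union hsB htB', ?_⟩
    rw [Set.disjoint_union_right]
    exact ⟨hAB.mono_left inter_subset_left, hAB'.mono_left inter_subset_right⟩
  · intro k hk
    have hne : z ≠ k := fun h => hzK (h ▸ hk)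
    obtain ⟨A, B, hA, hB, hzA, hkB, hAB⟩ := hZsep z hz k (hKZ hk) hne
    exact ⟨B, mem_nhdsWithin_of_mem_nhds (hB.mem_nhds hkB), A, B, hA, hB, hzA, subset_rfl, hAB⟩

/-- the finite assembly step: from local neighbourhoods `N z` (for `z ∈ Z`) with an index `idx z`
produce a finitely supported family `V` indexed by `ι`. -/
theorem exists_finite_family (Z : Set X) (hZ : IsCompact Z) {ι : Type u}
    (P : ι → Set X → Prop)
    (hPunion : ∀ (i : ι) (α : Type u) (F : Finset α) (N : α → Set X),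
      (∀ x ∈ F, P i (N x)) → P i (⋃ x ∈ F, N x))
    (hloc : ∀ z ∈ Z, ∃ (i : ι) (N : Set X), IsOpen N ∧ z ∈ N ∧ P i N) :
    ∃ (s : Finset ι) (V : ι → Set X), (∀ i, IsOpen (V i)) ∧ (∀ i, i ∉ s → V i = ∅) ∧
      (Z ⊆ ⋃ i, V i) ∧ ∀ i, P i (V i) := by
  classical
  choose idx N hN1 hN2 hN3 using hloc
  obtain ⟨F, hF⟩ := hZ.elim_nhds_subcover' (fun z hz => N z hz)
    (fun z hz => (hN1 z hz).mem_nhds (hN2 z hz))
  refine ⟨F.image (fun x => idx x.1 x.2),
    fun i => ⋃ x ∈ F.filter (fun x => idx x.1 x.2 = i), N x.1 x.2, ?_, ?_, ?_, ?_⟩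
  · intro i
    exact isOpen_biUnion fun x _ => hN1 x.1 x.2
  · intro i hi
    have : F.filter (fun x => idx x.1 x.2 = i) = ∅ := by
      rw [Finset.filter_eq_empty_iff]
      intro x hx hxi
      exact hi (Finset.mem_image.mpr ⟨x, hx, hxi⟩)
    simp [this]
  · intro z hz
    obtain ⟨x, hx, hzx⟩ := mem_iUnion₂.mp (hF hz)
    refine mem_iUnion.mpr ⟨idx x.1 x.2, mem_iUnion₂.mpr ⟨x, ?_, hzx⟩⟩
    exact Finset.mem_filter.mpr ⟨hx, rfl⟩
  · intro i
    refine hPunion i _ _ (fun x : Z => N x.1 x.2) fun x hx => ?_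
    obtain ⟨hxF, hxi⟩ := Finset.mem_filter.mp hx
    rw [← hxi]
    exact hN3 x.1 x.2

end Groth.Agent.Lib.helper11.Cech
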