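import Groth.Agent.Lib.helper11.UnivHomeo
import Mathlib.RingTheory.TensorProduct.Maps

/-! Trivial residue field extensions, ring-level criterion. -/

set_option autoImplicit false
universe u
open CategoryTheory CategoryTheory.Limits AlgebraicGeometry MorphismProperty

namespace Groth.Agent.Lib.helper11.TrivRes

open Groth.Agent.Lib.helper11.UnivHomeo

section Ring

variable {A B : Type u} [CommRing A] [CommRing B] (α : A →+* B)

/-- the residue field map of `Spec.map α`, transported to `Ideal.ResidueField`, iff version. -/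
theorem exists_residueFieldMap_transport' (q : Spec (CommRingCat.of B)) :
    ∃ ρ : (Spec.map (CommRingCat.ofHom α) q).asIdeal.ResidueField →+* q.asIdeal.ResidueField,
      ρ.comp (algebraMap A _) = (algebraMap B _).comp α ∧
      (Function.Surjective ρ ↔
        Function.Surjective ((Spec.map (CommRingCat.ofHom α)).residueFieldMap q)) := by
  let isoP := Scheme.Spec.residueFieldIso (CommRingCat.of A) (Spec.map (CommRingCat.ofHom α) q)
  let isoQ := Scheme.Spec.residueFieldIso (CommRingCat.of B) q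
  let ρ₀ := (Spec.map (CommRingCat.ofHom α)).residueFieldMap q
  let ρ'' : CommRingCat.of (Spec.map (CommRingCat.ofHom α) q).asIdeal.ResidueField ⟶
      CommRingCat.of q.asIdeal.ResidueField :=
    isoP.inv ≫ ρ₀ ≫ isoQ.hom
  have key : CommRingCat.ofHom
      (algebraMap A (Spec.map (CommRingCat.ofHom α) q).asIdeal.ResidueField) ≫ ρ'' =
      CommRingCat.ofHom α ≫ CommRingCat.ofHom (algebraMap B q.asIdeal.ResidueField) := by
    apply Spec.map_injective
    simp only [Spec.map_comp, ρ'', ρ₀, Category.assoc]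
    rw [Scheme.Spec.map_residueFieldIso_inv_eq_fromSpecResidueField,
      Scheme.Hom.SpecMap_residueFieldMap_fromSpecResidueField,
      ← Scheme.Spec.map_residueFieldIso_inv_eq_fromSpecResidueField, ← Category.assoc,
      ← Category.assoc, ← Spec.map_comp, Iso.inv_hom_id, Spec.map_id, Category.id_comp]
  have e1 : Function.Bijective isoP.hom := ConcreteCategory.bijective_of_isIso isoP.hom
  have e2 : Function.Bijective isoQ.inv := ConcreteCategory.bijective_of_isIso isoQ.inv
  have e1' : Function.Bijective isoP.inv := ConcreteCategory.bijective_of_isIso isoP.inv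
  have e2' : Function.Bijective isoQ.hom := ConcreteCategory.bijective_of_isIso isoQ.hom
  refine ⟨ρ''.hom, ?_, fun hsurj => ?_, fun hsurj => ?_⟩
  · exact congrArg CommRingCat.Hom.hom key
  · have h1 : ρ₀ = isoP.hom ≫ ρ'' ≫ isoQ.inv := by
      simp only [ρ'', Category.assoc, Iso.hom_inv_id, Category.comp_id, Iso.hom_inv_id_assoc]
    change Function.Surjective ρ₀
    rw [h1]
    intro z
    obtain ⟨z₁, rfl⟩ := e2.surjective z
    obtain ⟨z₂, rfl⟩ := hsurj z₁
    obtain ⟨z₃, rfl⟩ := e1.surjective z₂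
    exact ⟨z₃, rfl⟩
  · change Function.Surjective (isoP.inv ≫ ρ₀ ≫ isoQ.hom)
    intro z
    obtain ⟨z₁, rfl⟩ := e2'.surjective z
    obtain ⟨z₂, rfl⟩ := hsurj z₁
    obtain ⟨z₃, rfl⟩ := e1'.surjective z₂
    exact ⟨z₃, rfl⟩

/-- pointwise triviality: `b` is, modulo `q`, a fraction of elements coming from `A`. -/
def TrivAt (q : Ideal B) (b : B) : Prop :=
  ∃ a s : A, α s ∉ q ∧ α s * b - α a ∈ q

/-- ring-level trivial residue field extensions. -/
def TrivRes : Prop :=
  ∀ (q : Ideal B) [q.IsPrime] (b : B), TrivAt α q b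

variable {α}

theorem TrivAt.zero (q : Ideal B) [q.IsPrime] : TrivAt α q 0 :=
  ⟨0, 1, by rw [map_one]; exact q.one_notMem, by simp⟩

theorem TrivAt.add {q : Ideal B} [q.IsPrime] {b₁ b₂ : B} (h₁ : TrivAt α q b₁)
    (h₂ : TrivAt α q b₂) : TrivAt α q (b₁ + b₂) := by
  obtain ⟨a₁, s₁, hs₁, h₁⟩ := h₁
  obtain ⟨a₂, s₂, hs₂, h₂⟩ := h₂
  refine ⟨a₁ * s₂ + a₂ * s₁, s₁ * s₂, ?_, ?_⟩
  · rw [map_mul]
    exact fun h => (Ideal.IsPrime.mem_or_mem inferInstance h).elim hs₁ hs₂
  · have : α (s₁ * s₂) * (b₁ + b₂) - α (a₁ * s₂ + a₂ * s₁) =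
        α s₂ * (α s₁ * b₁ - α a₁) + α s₁ * (α s₂ * b₂ - α a₂) := by
      simp only [map_mul, map_add]
      ring
    rw [this]
    exact q.add_mem (q.mul_mem_left _ h₁) (q.mul_mem_left _ h₂)

theorem TrivAt.mul {q : Ideal B} [q.IsPrime] {b₁ b₂ : B} (h₁ : TrivAt α q b₁)
    (h₂ : TrivAt α q b₂) : TrivAt α q (b₁ * b₂) := by
  obtain ⟨a₁, s₁, hs₁, h₁⟩ := h₁
  obtain ⟨a₂, s₂, hs₂, h₂⟩ := h₂
  refine ⟨a₁ * a₂, s₁ * s₂, ?_, ?_⟩
  · rw [map_mul]
    exact fun h => (Ideal.IsPrime.mem_or_mem inferInstance h).elim hs₁ hs₂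
  · have : α (s₁ * s₂) * (b₁ * b₂) - α (a₁ * a₂) =
        (α s₂ * b₂) * (α s₁ * b₁ - α a₁) + α a₁ * (α s₂ * b₂ - α a₂) := by
      simp only [map_mul]
      ring
    rw [this]
    exact q.add_mem (q.mul_mem_left _ h₁) (q.mul_mem_left _ h₂)

/-- elements in the image of an algebra with trivial residue field extensions are trivial at
every prime. -/
theorem TrivAt.of_hom {C : Type u} [CommRing C] {αC : A →+* C} (h : TrivRes αC) (γ : C →+* B)
    (q : Ideal B) [q.IsPrime] (c : C) : TrivAt (γ.comp αC) q (γ c) := by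
  obtain ⟨a, s, hs, hmem⟩ := h (q.comap γ) c
  refine ⟨a, s, ?_, ?_⟩
  · simpa [Ideal.mem_comap] using hs
  · simpa [Ideal.mem_comap, map_sub, map_mul] using hmem

theorem trivRes_id : TrivRes (RingHom.id A) :=
  fun q _ b => ⟨b, 1, by rw [map_one]; exact q.one_notMem, by simp⟩

variable (α)

theorem trivRes_iff : TrivRes α ↔ ∀ x : Spec (CommRingCat.of B),
    Function.Surjective ((Spec.map (CommRingCat.ofHom α)).residueFieldMap x) := by
  constructor
  · intro h x
    obtain ⟨ρ, hρ, hsurj⟩ := exists_residueFieldMap_transport' α x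
    rw [← hsurj]
    refine surjective_of_range_algebraMap_le x.asIdeal ρ fun b => ?_
    obtain ⟨a, s, hs, hmem⟩ := h x.asIdeal b
    have hρ' : ∀ a : A, ρ (algebraMap A _ a) = algebraMap B x.asIdeal.ResidueField (α a) :=
      fun a => congrArg (fun f : A →+* x.asIdeal.ResidueField => f a) hρ
    refine ⟨algebraMap A _ a / algebraMap A _ s, ?_⟩
    rw [map_div₀, hρ', hρ']
    have hne : algebraMap B x.asIdeal.ResidueField (α s) ≠ 0 := by
      rw [Ne, Ideal.algebraMap_residueField_eq_zero]
      exact hs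
    rw [div_eq_iff hne]
    have := (Ideal.algebraMap_residueField_eq_zero (I := x.asIdeal)).mpr hmem
    rw [map_sub, map_mul, sub_eq_zero] at this
    rw [← this, mul_comm]
  · intro h q _ b
    obtain ⟨ρ, hρ, hsurj⟩ := exists_residueFieldMap_transport' α ⟨q, inferInstance⟩
    have hρs := hsurj.mpr (h ⟨q, inferInstance⟩)
    have hρ' : ∀ a : A, ρ (algebraMap A _ a) = algebraMap B q.ResidueField (α a) :=
      fun a => congrArg (fun f : A →+* q.ResidueField => f a) hρ
    obtain ⟨z, hz⟩ := hρs (algebraMap B q.ResidueField b)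
    obtain ⟨aq, sq, hsq, rfl⟩ := IsFractionRing.div_surjective
      (A := A ⧸ (Spec.map (CommRingCat.ofHom α) ⟨q, inferInstance⟩).asIdeal) z
    obtain ⟨a, rfl⟩ := Ideal.Quotient.mk_surjective aq
    obtain ⟨s, rfl⟩ := Ideal.Quotient.mk_surjective sq
    rw [Ideal.algebraMap_quotient_residueField_mk, Ideal.algebraMap_quotient_residueField_mk,
      map_div₀, hρ', hρ'] at hz
    have hs : α s ∉ q := by
      intro hmem
      have : Ideal.Quotient.mk (Spec.map (CommRingCat.ofHom α) ⟨q, inferInstance⟩).asIdeal s = 0 := by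
        rw [Ideal.Quotient.eq_zero_iff_mem]
        exact hmem
      rw [this] at hsq
      exact zero_notMem_nonZeroDivisors hsq
    have hne : algebraMap B q.ResidueField (α s) ≠ 0 := by
      rw [Ne, Ideal.algebraMap_residueField_eq_zero]
      exact hs
    rw [div_eq_iff hne] at hz
    refine ⟨a, s, hs, ?_⟩
    rw [← Ideal.algebraMap_residueField_eq_zero, map_sub, map_mul, sub_eq_zero, hz, mul_comm]

end Ring

section Tensor

open TensorProduct

variable {A : Type u} [CommRing A]

theorem trivRes_tensor (C₁ C₂ : Type u) [CommRing C₁] [CommRing C₂] [Algebra A C₁]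
    [Algebra A C₂] (h₁ : TrivRes (algebraMap A C₁)) (h₂ : TrivRes (algebraMap A C₂)) :
    TrivRes (algebraMap A (C₁ ⊗[A] C₂)) := by
  intro q _ b
  induction b using TensorProduct.induction_on with
  | zero => exact TrivAt.zero q
  | tmul c₁ c₂ =>
    have e : c₁ ⊗ₜ[A] c₂ = (Algebra.TensorProduct.includeLeft (R := A) (S := A) (A := C₁) (B := C₂)) c₁ *
        (Algebra.TensorProduct.includeRight (R := A) (A := C₁) (B := C₂)) c₂ := by
      simp
    rw [e]
    refine TrivAt.mul ?_ ?_
    · have := TrivAt.of_hom h₁ (Algebra.TensorProduct.includeLeft (R := A) (S := A) (A := C₁)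
        (B := C₂)).toRingHom q c₁
      have e2 : (Algebra.TensorProduct.includeLeft (R := A) (S := A) (A := C₁)
        (B := C₂)).toRingHom.comp (algebraMap A C₁) = algebraMap A (C₁ ⊗[A] C₂) :=
        (Algebra.TensorProduct.includeLeft (R := A) (S := A) (A := C₁) (B := C₂)).comp_algebraMap
      rw [e2] at this
      exact this
    · have := TrivAt.of_hom h₂ (Algebra.TensorProduct.includeRight (R := A) (A := C₁)
        (B := C₂)).toRingHom q c₂
      have e2 : (Algebra.TensorProduct.includeRight (R := A) (A := C₁)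
        (B := C₂)).toRingHom.comp (algebraMap A C₂) = algebraMap A (C₁ ⊗[A] C₂) :=
        (Algebra.TensorProduct.includeRight (R := A) (A := C₁) (B := C₂)).comp_algebraMap
      rw [e2] at this
      exact this
  | add x y hx hy => exact TrivAt.add hx hy

end Tensor

end Groth.Agent.Lib.helper11.TrivRes
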