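import Groth.Agent.Lib.helper11.UHRing
import Groth.Agent.Lib.helper11.TrivRes
import Groth.Agent.S7427
import Mathlib.RingTheory.FinitePresentation
import Mathlib.RingTheory.FiniteStability
import Mathlib.RingTheory.RingHom.FinitePresentation
import Mathlib.CategoryTheory.Comma.Over.Basic
import Mathlib.CategoryTheory.Filtered.Basic
import Mathlib.Algebra.Category.Ring.Basic
import Mathlib.Algebra.Category.Ring.FilteredColimits
import Mathlib.Algebra.Category.Ring.Colimits
import Mathlib.CategoryTheory.Limits.Constructions.Over.Connected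
import Mathlib.CategoryTheory.Filtered.Connected
import Mathlib.CategoryTheory.Limits.Types.Filtered
import Groth.Agent.S7402
import Groth.Agent.S7403

/-! The small filtered category of finitely presented universal homeomorphisms mapping to a given
algebra. -/

set_option autoImplicit false
universe u
open CategoryTheory CategoryTheory.Limits AlgebraicGeometry MorphismProperty

namespace Groth.Agent.Lib.helper11.FPColim

open Groth.Agent.Lib.helper11.UnivHomeo Groth.Agent.Lib.helper11.UHRing TensorProduct Polynomial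

/-- a class of ring maps out of `A` closed under the operations used below. -/
structure Cls (A : Type u) [CommRing A] where
  T : ∀ {C : Type u} [CommRing C], (A →+* C) → Prop
  id : T (RingHom.id A)
  surj : ∀ {C D : Type u} [CommRing C] [CommRing D] (α : A →+* C) (π : C →+* D),
    Function.Surjective π → T α → T (π.comp α)
  tensor : ∀ {C₁ C₂ : Type u} [CommRing C₁] [CommRing C₂] [Algebra A C₁] [Algebra A C₂],
    T (algebraMap A C₁) → T (algebraMap A C₂) → T (algebraMap A (C₁ ⊗[A] C₂))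

/-- the trivial class. -/
def Cls.triv (A : Type u) [CommRing A] : Cls A where
  T := fun _ => True
  id := trivial
  surj := fun _ _ _ _ => trivial
  tensor := fun _ _ => trivial

variable (A B : Type u) [CommRing A] [CommRing B] [Algebra A B] (K : Cls A)

/-- objects: standard finitely presented algebras, universal homeomorphisms over `A`, with a map
to `B`. -/
structure Obj where
  n : ℕ
  I : Ideal (MvPolynomial (Fin n) A)
  g : (MvPolynomial (Fin n) A ⧸ I) →ₐ[A] B
  fg : I.FG
  uh : UH (algebraMap A (MvPolynomial (Fin n) A ⧸ I))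
  t : K.T (algebraMap A (MvPolynomial (Fin n) A ⧸ I))

variable {A B K}

/-- the underlying ring of an object. -/
abbrev Obj.R (j : Obj A B K) : Type u := MvPolynomial (Fin j.n) A ⧸ j.I

@[ext]
structure Hom (j k : Obj A B K) where
  f : j.R →ₐ[A] k.R
  comm : k.g.comp f = j.g

noncomputable instance : Category (Obj A B K) where
  Hom := Hom
  id j := ⟨AlgHom.id A _, AlgHom.comp_id _⟩
  comp f g := ⟨g.f.comp f.f, by rw [← AlgHom.comp_assoc, g.comm, f.comm]⟩
  id_comp f := by ext; rfl
  comp_id f := by ext; rfl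
  assoc f g h := by ext; rfl

theorem comp_f {j k l : Obj A B K} (f : j ⟶ k) (g : k ⟶ l) : (f ≫ g).f = g.f.comp f.f := rfl

theorem Obj.fp (j : Obj A B K) : Algebra.FinitePresentation A j.R :=
  Algebra.FinitePresentation.quotient j.fg

variable (A B K)

/-- the diagram of underlying `A`-algebras. -/
noncomputable def F : Obj A B K ⥤ Under (CommRingCat.of A) where
  obj j := Under.mk (CommRingCat.ofHom (algebraMap A j.R))
  map {j k} f := Under.homMk (CommRingCat.ofHom (f.f : j.R →+* k.R)) (by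
    ext a
    exact f.f.commutes a)
  map_id j := by
    ext
    rfl
  map_comp f g := by
    ext
    rfl

/-- the cocone with vertex `B`. -/
noncomputable def cc : Cocone (F A B K) where
  pt := Under.mk (CommRingCat.ofHom (algebraMap A B))
  ι :=
    { app := fun j => Under.homMk (CommRingCat.ofHom (j.g : j.R →+* B)) (by
        ext a
        exact j.g.commutes a)
      naturality := fun j k f => by
        ext x
        exact congrArg (fun h : j.R →ₐ[A] B => h x) f.comm }

variable {A B K}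

theorem exists_obj (C : Type u) [CommRing C] [Algebra A C]
    (hfp : Algebra.FinitePresentation A C)
    (huh : UH (algebraMap A C)) (ht : K.T (algebraMap A C)) (g : C →ₐ[A] B) :
    ∃ (j : Obj A B K) (e : j.R ≃ₐ[A] C), j.g = g.comp (e : j.R →ₐ[A] C) := by
  obtain ⟨n, f, hf, hker⟩ := hfp.out
  let e := Ideal.quotientKerAlgEquivOfSurjective hf
  have halg : algebraMap A (MvPolynomial (Fin n) A ⧸ RingHom.ker f) =
      (e.symm : C →+* MvPolynomial (Fin n) A ⧸ RingHom.ker f).comp (algebraMap A C) := by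
    ext a
    exact (e.symm.commutes a).symm
  refine ⟨⟨n, RingHom.ker f, g.comp (e : _ →ₐ[A] C), hker, ?_, ?_⟩, e, rfl⟩
  · rw [halg]
    exact uh_comp _ _ huh (uh_of_bijective _ e.symm.bijective)
  · rw [halg]
    exact K.surj _ _ e.symm.surjective ht

theorem uh_g (hB : UH (algebraMap A B)) (j : Obj A B K) : UH (j.g : j.R →+* B) := by
  refine uh_cancel (algebraMap A j.R) _ j.uh ?_
  have : (j.g : j.R →+* B).comp (algebraMap A j.R) = algebraMap A B := j.g.comp_algebraMap
  rw [this]
  exact hB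

theorem exists_sup (j₁ j₂ : Obj A B K) :
    ∃ (j : Obj A B K) (_ : j₁ ⟶ j) (_ : j₂ ⟶ j), True := by
  haveI := j₁.fp
  haveI := j₂.fp
  have hfp : Algebra.FinitePresentation A (j₁.R ⊗[A] j₂.R) :=
    Algebra.FinitePresentation.trans A j₁.R (j₁.R ⊗[A] j₂.R)
  obtain ⟨j, e, hj⟩ := exists_obj (K := K) (j₁.R ⊗[A] j₂.R) hfp
    (Groth.Agent.S7427.tensor_univHomeo _ _ j₁.uh j₂.uh) (K.tensor j₁.t j₂.t)
    (Algebra.TensorProduct.productMap j₁.g j₂.g)
  refine ⟨j, ⟨e.symm.toAlgHom.comp Algebra.TensorProduct.includeLeft, ?_⟩,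
    ⟨e.symm.toAlgHom.comp Algebra.TensorProduct.includeRight, ?_⟩, trivial⟩
  · rw [hj]
    ext x
    simp
  · rw [hj]
    ext x
    simp

/-- quotient by finitely many nilpotent elements killed by the structure map. -/
theorem exists_quot (j : Obj A B K) (S : Finset j.R)
    (hS : ∀ s ∈ S, IsNilpotent s ∧ j.g s = 0) :
    ∃ (k : Obj A B K) (w : j ⟶ k), ∀ s ∈ S, w.f s = 0 := by
  haveI := j.fp
  set Kid : Ideal j.R := Ideal.span (S : Set j.R) with hKid
  have hfg : Kid.FG := ⟨S, rfl⟩
  have hnil : ∀ a, Ideal.Quotient.mk Kid a = 0 → IsNilpotent a := by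
    intro a ha
    rw [Ideal.Quotient.eq_zero_iff_mem] at ha
    have hle : Kid ≤ nilradical j.R := Ideal.span_le.mpr fun s hs => (hS s hs).1
    exact hle ha
  have hker : ∀ a ∈ Kid, j.g a = 0 := by
    intro a ha
    have hle : Kid ≤ RingHom.ker (j.g : j.R →+* B) :=
      Ideal.span_le.mpr fun s hs => (hS s hs).2
    exact hle ha
  have hfp : Algebra.FinitePresentation A (j.R ⧸ Kid) := Algebra.FinitePresentation.quotient hfg
  have hq : UH (A := j.R) (B := j.R ⧸ Kid) (Ideal.Quotient.mk Kid) :=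
    uh_of_surjective (A := j.R) (B := j.R ⧸ Kid) (Ideal.Quotient.mk Kid)
      Ideal.Quotient.mk_surjective hnil
  have huh : UH (algebraMap A (j.R ⧸ Kid)) := uh_comp _ _ j.uh hq
  have ht : K.T (algebraMap A (j.R ⧸ Kid)) := by
    have e : algebraMap A (j.R ⧸ Kid) = (Ideal.Quotient.mk Kid).comp (algebraMap A j.R) := rfl
    rw [e]
    exact K.surj (C := j.R) (D := j.R ⧸ Kid) (algebraMap A j.R) (Ideal.Quotient.mk Kid)
      Ideal.Quotient.mk_surjective j.t
  obtain ⟨k, e, hk⟩ := exists_obj (K := K) (j.R ⧸ Kid) hfp huh ht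
    (Ideal.Quotient.liftₐ Kid j.g hker)
  refine ⟨k, ⟨e.symm.toAlgHom.comp (Ideal.Quotient.mkₐ A Kid), ?_⟩, ?_⟩
  · rw [hk]
    ext x
    simp
  · intro s hs
    have : Ideal.Quotient.mk Kid s = 0 :=
      Ideal.Quotient.eq_zero_iff_mem.mpr (Ideal.subset_span hs)
    change e.symm (Ideal.Quotient.mk Kid s) = 0
    rw [this, map_zero]

theorem nilpotent_sub_of_uh {C₁ C₂ : Type u} [CommRing C₁] [CommRing C₂] (α : A →+* C₁)
    (hα : UH α) (u v : C₁ →+* C₂) (h : u.comp α = v.comp α) (x : C₁) :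
    IsNilpotent (u x - v x) := by
  rw [← mem_nilradical, nilradical_eq_sInf, Ideal.mem_sInf]
  intro q hq
  haveI : q.IsPrime := hq
  let ι : C₂ →+* FractionRing (C₂ ⧸ q) :=
    (algebraMap (C₂ ⧸ q) (FractionRing (C₂ ⧸ q))).comp (Ideal.Quotient.mk q)
  have h1 : (ι.comp u) = (ι.comp v) := by
    apply ((uh_iff α).mp hα).2.1
    ext a
    simp only [RingHom.comp_apply]
    rw [show u (α a) = v (α a) from congrArg (fun f : A →+* C₂ => f a) h]
  have h2 : ι (u x - v x) = 0 := by
    rw [map_sub, sub_eq_zero]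
    exact congrArg (fun f : C₁ →+* _ => f x) h1
  have h3 : Ideal.Quotient.mk q (u x - v x) = 0 :=
    IsFractionRing.injective (C₂ ⧸ q) (FractionRing (C₂ ⧸ q)) (by rw [map_zero]; exact h2)
  exact Ideal.Quotient.eq_zero_iff_mem.mp h3

theorem exists_coeq {j₁ j₂ : Obj A B K} (u v : j₁ ⟶ j₂) :
    ∃ (j : Obj A B K) (w : j₂ ⟶ j), u ≫ w = v ≫ w := by
  classical
  let gen : Fin j₁.n → j₂.R := fun i =>
    u.f (Ideal.Quotient.mk j₁.I (MvPolynomial.X i)) - v.f (Ideal.Quotient.mk j₁.I (MvPolynomial.X i))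
  obtain ⟨k, w, hw⟩ := exists_quot j₂ (Finset.univ.image gen) (by
    intro s hs
    obtain ⟨i, -, rfl⟩ := Finset.mem_image.mp hs
    constructor
    · exact nilpotent_sub_of_uh (algebraMap A j₁.R) j₁.uh (u.f : j₁.R →+* j₂.R)
        (v.f : j₁.R →+* j₂.R) (by rw [u.f.comp_algebraMap, v.f.comp_algebraMap]) _
    · have hu := congrArg (fun h : j₁.R →ₐ[A] B => h (Ideal.Quotient.mk j₁.I (MvPolynomial.X i)))
        u.comm
      have hv := congrArg (fun h : j₁.R →ₐ[A] B => h (Ideal.Quotient.mk j₁.I (MvPolynomial.X i)))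
        v.comm
      simp only [AlgHom.comp_apply] at hu hv
      rw [map_sub, hu, hv, sub_self])
  refine ⟨k, w, ?_⟩
  apply Hom.ext
  rw [comp_f, comp_f]
  apply Ideal.Quotient.algHom_ext
  apply MvPolynomial.algHom_ext
  intro i
  have := hw (gen i) (Finset.mem_image.mpr ⟨i, Finset.mem_univ _, rfl⟩)
  rw [map_sub, sub_eq_zero] at this
  exact this

variable (A B K)

theorem exists_base : ∃ j : Obj A B K, True := by
  obtain ⟨j, -, -⟩ := exists_obj (K := K) (B := B) A inferInstance
    (by rw [Algebra.algebraMap_self]; exact uh_id) (by rw [Algebra.algebraMap_self]; exact K.id)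
    (Algebra.ofId A B)
  exact ⟨j, trivial⟩

instance : IsFilteredOrEmpty (Obj A B K) where
  cocone_objs := exists_sup
  cocone_maps := fun _ _ u v => exists_coeq u v

instance : Nonempty (Obj A B K) := by
  obtain ⟨j, -⟩ := exists_base A B K
  exact ⟨j⟩

instance : IsFiltered (Obj A B K) := {}

/-- the subalgebra of elements reached by some object. -/
def reach : Subalgebra A B where
  carrier := {b | ∃ j : Obj A B K, b ∈ j.g.range}
  mul_mem' := by
    rintro x y ⟨j₁, x₁, rfl⟩ ⟨j₂, y₂, rfl⟩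
    obtain ⟨j, f₁, f₂, -⟩ := exists_sup j₁ j₂
    refine ⟨j, f₁.f x₁ * f₂.f y₂, ?_⟩
    have h1 := congrArg (fun h : j₁.R →ₐ[A] B => h x₁) f₁.comm
    have h2 := congrArg (fun h : j₂.R →ₐ[A] B => h y₂) f₂.comm
    simp only [AlgHom.comp_apply] at h1 h2
    change j.g (f₁.f x₁ * f₂.f y₂) = j₁.g x₁ * j₂.g y₂
    rw [map_mul, h1, h2]
  add_mem' := by
    rintro x y ⟨j₁, x₁, rfl⟩ ⟨j₂, y₂, rfl⟩
    obtain ⟨j, f₁, f₂, -⟩ := exists_sup j₁ j₂
    refine ⟨j, f₁.f x₁ + f₂.f y₂, ?_⟩
    have h1 := congrArg (fun h : j₁.R →ₐ[A] B => h x₁) f₁.comm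
    have h2 := congrArg (fun h : j₂.R →ₐ[A] B => h y₂) f₂.comm
    simp only [AlgHom.comp_apply] at h1 h2
    change j.g (f₁.f x₁ + f₂.f y₂) = j₁.g x₁ + j₂.g y₂
    rw [map_add, h1, h2]
  algebraMap_mem' := by
    intro a
    obtain ⟨j, -⟩ := exists_base A B K
    exact ⟨j, algebraMap A j.R a, j.g.commutes a⟩

variable {A B K}

theorem mem_reach {b : B} : b ∈ reach A B K ↔ ∃ j : Obj A B K, b ∈ j.g.range := Iff.rfl

/-- two elements of `reach` come from a common object. -/
theorem exists_common {b₁ b₂ : B} (h₁ : b₁ ∈ reach A B K) (h₂ : b₂ ∈ reach A B K) :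
    ∃ (j : Obj A B K) (x₁ x₂ : j.R), j.g x₁ = b₁ ∧ j.g x₂ = b₂ := by
  obtain ⟨j₁, x₁, rfl⟩ := h₁
  obtain ⟨j₂, y₂, rfl⟩ := h₂
  obtain ⟨j, f₁, f₂, -⟩ := exists_sup j₁ j₂
  have h1 := congrArg (fun h : j₁.R →ₐ[A] B => h x₁) f₁.comm
  have h2 := congrArg (fun h : j₂.R →ₐ[A] B => h y₂) f₂.comm
  simp only [AlgHom.comp_apply] at h1 h2
  exact ⟨j, f₁.f x₁, f₂.f y₂, h1, h2⟩

/-- the general elementary step: adjoining a root of finitely many polynomials. -/
theorem step_general (R₀ : Type u) [CommRing R₀] [Algebra A R₀]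
    (hfp0 : Algebra.FinitePresentation A R₀) (huh0 : UH (algebraMap A R₀)) (g₀ : R₀ →ₐ[A] B)
    (S : Set R₀[X]) (hS : S.Finite)
    (huh : UH (algebraMap R₀ (R₀[X] ⧸ Ideal.span S)))
    (ht : K.T ((algebraMap R₀ (R₀[X] ⧸ Ideal.span S)).comp (algebraMap A R₀)))
    (b : B) (hb : ∀ p ∈ S, eval₂ (g₀ : R₀ →+* B) b p = 0) : b ∈ reach A B K := by
  have hfg : (Ideal.span S).FG := Submodule.fg_span hS
  haveI hfp1 : Algebra.FinitePresentation R₀ (R₀[X] ⧸ Ideal.span S) :=
    Algebra.FinitePresentation.quotient hfg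
  have hfp : Algebra.FinitePresentation A (R₀[X] ⧸ Ideal.span S) :=
    Algebra.FinitePresentation.trans A R₀ (R₀[X] ⧸ Ideal.span S)
  have halg : algebraMap A (R₀[X] ⧸ Ideal.span S) =
      (algebraMap R₀ (R₀[X] ⧸ Ideal.span S)).comp (algebraMap A R₀) :=
    IsScalarTower.algebraMap_eq A R₀ _
  obtain ⟨σ, hσ1, hσ2⟩ := exists_lift_quot (Ideal.span S) (g₀ : R₀ →+* B) b S rfl hb
  let g' : (R₀[X] ⧸ Ideal.span S) →ₐ[A] B :=
    { σ with
      commutes' := fun a => by
        have := congrArg (fun h : R₀ →+* B => h (algebraMap A R₀ a)) hσ1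
        simp only [RingHom.comp_apply] at this
        change σ (algebraMap A (R₀[X] ⧸ Ideal.span S) a) = _
        rw [halg, RingHom.comp_apply, this]
        exact g₀.commutes a }
  obtain ⟨j, e, hj⟩ := exists_obj (K := K) (R₀[X] ⧸ Ideal.span S) hfp
    (by rw [halg]; exact uh_comp _ _ huh0 huh) (by rw [halg]; exact ht) g'
  refine ⟨j, e.symm (Ideal.Quotient.mk _ X), ?_⟩
  rw [hj]
  change σ (e (e.symm (Ideal.Quotient.mk _ X))) = b
  rw [e.apply_symm_apply, hσ2]

theorem step23 (hB : UH (algebraMap A B))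
    (hstep : ∀ {C : Type u} [CommRing C] (α : A →+* C) (x y : C), x ^ 3 = y ^ 2 → K.T α →
      K.T ((algebraMap C (C[X] ⧸ Ideal.span
        ({X ^ 2 - Polynomial.C x, X ^ 3 - Polynomial.C y} : Set C[X]))).comp α))
    {b : B} (h2 : b ^ 2 ∈ reach A B K) (h3 : b ^ 3 ∈ reach A B K) : b ∈ reach A B K := by
  classical
  obtain ⟨j, x, y, hx, hy⟩ := exists_common h2 h3
  obtain ⟨k, w, hw⟩ := exists_quot j {x ^ 3 - y ^ 2} (by
    intro s hs
    rw [Finset.mem_singleton] at hs
    subst hs
    have h0 : j.g (x ^ 3 - y ^ 2) = 0 := by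
      rw [map_sub, map_pow, map_pow, hx, hy]
      ring
    exact ⟨((uh_iff _).mp (uh_g hB j)).2.2 _ h0, h0⟩)
  have hw' := hw _ (Finset.mem_singleton_self _)
  have hxy : (w.f x) ^ 3 = (w.f y) ^ 2 := by
    rw [← map_pow, ← map_pow, ← sub_eq_zero, ← map_sub]
    exact hw'
  have hgx : k.g (w.f x) = b ^ 2 := by
    have := congrArg (fun h : j.R →ₐ[A] B => h x) w.comm
    simp only [AlgHom.comp_apply] at this
    rw [this, hx]
  have hgy : k.g (w.f y) = b ^ 3 := by
    have := congrArg (fun h : j.R →ₐ[A] B => h y) w.comm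
    simp only [AlgHom.comp_apply] at this
    rw [this, hy]
  refine step_general k.R k.fp k.uh k.g
    ({X ^ 2 - Polynomial.C (w.f x), X ^ 3 - Polynomial.C (w.f y)} : Set k.R[X])
    ((Set.finite_singleton _).insert _) (Groth.Agent.S7402.result k.R _ _ hxy).1
    (hstep _ _ _ hxy k.t) b ?_
  intro p hp
  rcases hp with rfl | rfl
  · rw [eval₂_sub, eval₂_pow, eval₂_X, eval₂_C]
    change b ^ 2 - k.g (w.f x) = 0
    rw [hgx, sub_self]
  · rw [eval₂_sub, eval₂_pow, eval₂_X, eval₂_C]
    change b ^ 3 - k.g (w.f y) = 0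
    rw [hgy, sub_self]

theorem stepP (hB : UH (algebraMap A B))
    (hT : ∀ {C : Type u} [CommRing C] (α : A →+* C), K.T α)
    {b : B} {p : ℕ} (hp : p.Prime) (h1 : (p : B) * b ∈ reach A B K)
    (h2 : b ^ p ∈ reach A B K) : b ∈ reach A B K := by
  classical
  obtain ⟨j, x, y, hx, hy⟩ := exists_common h2 h1
  obtain ⟨k, w, hw⟩ := exists_quot j {(p : j.R) ^ p * x - y ^ p} (by
    intro s hs
    rw [Finset.mem_singleton] at hs
    subst hs
    have h0 : j.g ((p : j.R) ^ p * x - y ^ p) = 0 := by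
      rw [map_sub, map_mul, map_pow, map_pow, map_natCast, hx, hy]
      ring
    exact ⟨((uh_iff _).mp (uh_g hB j)).2.2 _ h0, h0⟩)
  have hw' := hw _ (Finset.mem_singleton_self _)
  have hxy : (p : k.R) ^ p * (w.f x) = (w.f y) ^ p := by
    rw [← sub_eq_zero]
    have : w.f ((p : j.R) ^ p * x - y ^ p) = (p : k.R) ^ p * (w.f x) - (w.f y) ^ p := by
      rw [map_sub, map_mul, map_pow, map_pow, map_natCast]
    rw [← this]
    exact hw'
  have hgx : k.g (w.f x) = b ^ p := by
    have := congrArg (fun h : j.R →ₐ[A] B => h x) w.comm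
    simp only [AlgHom.comp_apply] at this
    rw [this, hx]
  have hgy : k.g (w.f y) = (p : B) * b := by
    have := congrArg (fun h : j.R →ₐ[A] B => h y) w.comm
    simp only [AlgHom.comp_apply] at this
    rw [this, hy]
  refine step_general k.R k.fp k.uh k.g
    ({X ^ p - Polynomial.C (w.f x), Polynomial.C (p : k.R) * X - Polynomial.C (w.f y)} :
      Set k.R[X])
    ((Set.finite_singleton _).insert _) (Groth.Agent.S7403.result k.R p hp _ _ hxy)
    (hT _) b ?_
  intro q hq
  rcases hq with rfl | rfl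
  · rw [eval₂_sub, eval₂_pow, eval₂_X, eval₂_C]
    change b ^ p - k.g (w.f x) = 0
    rw [hgx, sub_self]
  · rw [eval₂_sub, eval₂_mul, eval₂_X, eval₂_C, eval₂_C]
    change k.g (p : k.R) * b - k.g (w.f y) = 0
    rw [hgy, map_natCast, sub_self]

variable (A B K)

/-- the cocone with vertex `B` is a colimit as soon as every element is reached. -/
noncomputable def isColimitCc (hB : UH (algebraMap A B)) (hsurj : ∀ b : B, b ∈ reach A B K) :
    IsColimit (cc A B K) := by
  classical
  haveI : IsConnected (Obj A B K) := IsFiltered.isConnected _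
  haveI : ReflectsColimit (F A B K) (Under.forget (CommRingCat.of A) ⋙ forget CommRingCat) :=
    reflectsColimit_of_reflectsIsomorphisms _ _
  refine isColimitOfReflects (Under.forget (CommRingCat.of A) ⋙ forget CommRingCat)
    (Types.FilteredColimit.isColimitOf' _ _ ?_ ?_)
  · intro b
    obtain ⟨j, x, hx⟩ := hsurj b
    exact ⟨j, x, hx.symm⟩
  · intro j (x : j.R) (y : j.R) hxy
    have hxy' : j.g x = j.g y := hxy
    obtain ⟨k, w, hw⟩ := exists_quot j {x - y} (by
      intro s hs
      rw [Finset.mem_singleton] at hs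
      subst hs
      have h0 : j.g (x - y) = 0 := by rw [map_sub, hxy', sub_self]
      exact ⟨((uh_iff _).mp (uh_g hB j)).2.2 _ h0, h0⟩)
    refine ⟨k, w, ?_⟩
    have := hw _ (Finset.mem_singleton_self _)
    rw [map_sub, sub_eq_zero] at this
    exact this

theorem fp_obj (j : Obj A B K) : ((F A B K).obj j).hom.hom.FinitePresentation :=
  RingHom.finitePresentation_algebraMap.mpr j.fp

end Groth.Agent.Lib.helper11.FPColim
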