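import Groth.Agent.Lib.helper11.UHRing
import Groth.Agent.S7399
import Groth.Agent.S7443
import Mathlib.Algebra.CharP.Lemmas
import Mathlib.Algebra.CharP.Reduced
import Mathlib.Algebra.CharP.Basic
import Mathlib.Data.Int.GCD

/-! Universal homeomorphisms of spectra in characteristic `p`: the `p`-power criterion. -/

set_option autoImplicit false
universe u
open CategoryTheory CategoryTheory.Limits AlgebraicGeometry MorphismProperty

namespace Groth.Agent.Lib.helper11.CharPUH

open Groth.Agent.Lib.helper11.UnivHomeo Groth.Agent.Lib.helper11.UHRing Polynomial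

section
variable {A B : Type u} [CommRing A] [CommRing B] (p : ℕ) [hp : Fact p.Prime] [CharP B p]
  (φ : A →+* B)

theorem pow_mem_mono {b : B} {n m : ℕ} (hnm : n ≤ m) (h : b ^ p ^ n ∈ φ.range) :
    b ^ p ^ m ∈ φ.range := by
  obtain ⟨d, rfl⟩ := Nat.exists_eq_add_of_le hnm
  rw [pow_add, pow_mul]
  exact φ.range.pow_mem h _

theorem uh_of_pow_mem (hker : ∀ a, φ a = 0 → IsNilpotent a)
    (hpow : ∀ b : B, ∃ n : ℕ, b ^ p ^ n ∈ φ.range) : UH φ := by
  rw [uh_iff]
  refine ⟨?_, ?_, hker⟩
  · intro b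
    obtain ⟨n, a, ha⟩ := hpow b
    refine ⟨X ^ p ^ n - C a, monic_X_pow_sub_C a (pow_ne_zero _ hp.out.ne_zero), ?_⟩
    rw [eval₂_sub, eval₂_pow, eval₂_X, eval₂_C, ha, sub_self]
  · intro K _ σ τ h
    haveI : CharP K p := by
      rw [CharP.charP_iff_prime_eq_zero hp.out]
      have : (p : K) = σ (p : B) := by rw [map_natCast]
      rw [this, CharP.cast_eq_zero B p, map_zero]
    ext b
    obtain ⟨n, a, ha⟩ := hpow b
    have h1 : (σ b - τ b) ^ p ^ n = 0 := by
      rw [sub_pow_char_pow, ← map_pow, ← map_pow, ← ha]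
      have := congrArg (fun f : A →+* K => f a) h
      simp only [RingHom.comp_apply] at this
      rw [this, sub_self]
    exact sub_eq_zero.mp (pow_eq_zero_iff (pow_ne_zero _ hp.out.ne_zero) |>.mp h1)

/-- the subalgebra of elements with a `p`-power in the image. -/
def powSub [Algebra A B] : Subalgebra A B where
  carrier := {b | ∃ n : ℕ, b ^ p ^ n ∈ (algebraMap A B).range}
  mul_mem' := by
    rintro x y ⟨n, hx⟩ ⟨m, hy⟩
    refine ⟨max n m, ?_⟩
    rw [mul_pow]
    exact (algebraMap A B).range.mul_mem (pow_mem_mono p _ (le_max_left _ _) hx)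
      (pow_mem_mono p _ (le_max_right _ _) hy)
  add_mem' := by
    rintro x y ⟨n, hx⟩ ⟨m, hy⟩
    refine ⟨max n m, ?_⟩
    rw [add_pow_char_pow]
    exact (algebraMap A B).range.add_mem (pow_mem_mono p _ (le_max_left _ _) hx)
      (pow_mem_mono p _ (le_max_right _ _) hy)
  algebraMap_mem' := fun a => ⟨0, a, by simp⟩

theorem pow_mem_of_uh (h : UH φ) : ∀ b : B, ∃ n : ℕ, b ^ p ^ n ∈ φ.range := by
  letI := φ.toAlgebra
  have hB : UH (algebraMap A B) := h
  by_contra hcon
  push Not at hcon
  obtain ⟨b₀, hb₀⟩ := hcon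
  have hb₀' : b₀ ∉ powSub (A := A) (B := B) p := fun ⟨n, hn⟩ => hb₀ n hn
  have hns : ¬ Function.Surjective ((powSub (A := A) (B := B) p).val : powSub (A := A) (B := B) p →+* B) := by
    intro hs
    obtain ⟨r, hr⟩ := hs b₀
    apply hb₀'
    rw [← hr]
    exact r.2
  have hstep : ∀ b : B, b ^ p ∈ powSub (A := A) (B := B) p → b ∈ powSub (A := A) (B := B) p := by
    rintro b ⟨n, hn⟩
    refine ⟨n + 1, ?_⟩
    rw [pow_succ', pow_mul]
    exact hn
  rcases Groth.Agent.S7399.result ((powSub (A := A) (B := B) p).val : powSub (A := A) (B := B) p →+* B)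
    Subtype.val_injective hns (Groth.Agent.S7443.uh_val hB _) with
    ⟨b, hb, ⟨r₂, h2⟩, ⟨r₃, h3⟩⟩ | ⟨l, b, hl, hb, ⟨r₁, h1⟩, ⟨r₂, h2⟩⟩
  · apply hb
    have hb2 : b ^ 2 ∈ powSub (A := A) (B := B) p := by rw [← h2]; exact r₂.2
    have hb3 : b ^ 3 ∈ powSub (A := A) (B := B) p := by rw [← h3]; exact r₃.2
    have hbp : b ^ p ∈ powSub (A := A) (B := B) p := by
      rcases Nat.even_or_odd' p with ⟨k, hk | hk⟩
      · have e : b ^ p = (b ^ 2) ^ k := by
          conv_lhs => rw [hk]
          rw [pow_mul]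
        rw [e]
        exact Subalgebra.pow_mem _ hb2 _
      · have hk1 : 1 ≤ k := by
          by_contra hlt
          have : k = 0 := by omega
          rw [this] at hk
          exact hp.out.ne_one (by omega)
        have hp3 : p = 2 * (k - 1) + 3 := by omega
        have e : b ^ p = (b ^ 2) ^ (k - 1) * b ^ 3 := by
          conv_lhs => rw [hp3]
          rw [pow_add, pow_mul]
        rw [e]
        exact Subalgebra.mul_mem _ (Subalgebra.pow_mem _ hb2 _) hb3
    exact ⟨⟨b, hstep b hbp⟩, rfl⟩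
  · apply hb
    have hb1 : (l : B) * b ∈ powSub (A := A) (B := B) p := by rw [← h1]; exact r₁.2
    have hbl : b ^ l ∈ powSub (A := A) (B := B) p := by rw [← h2]; exact r₂.2
    by_cases hlp : l = p
    · subst hlp
      exact ⟨⟨b, hstep b hbl⟩, rfl⟩
    · -- `l` is invertible modulo `p`
      have hcop : Nat.Coprime l p := (Nat.coprime_primes hl hp.out).mpr hlp
      obtain ⟨m, -, hm⟩ := Nat.exists_mul_mod_eq_one_of_coprime hcop hp.out.one_lt
      have hml : ((m : B)) * (l : B) = 1 := by
        have h3 : (l * m : ℕ) = p * (l * m / p) + 1 := by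
          have := Nat.div_add_mod (l * m) p
          omega
        have : ((l * m : ℕ) : B) = 1 := by
          rw [h3, Nat.cast_add, Nat.cast_mul, CharP.cast_eq_zero B p, zero_mul, zero_add,
            Nat.cast_one]
        rw [← this, Nat.cast_mul, mul_comm]
      have : b = (m : B) * ((l : B) * b) := by rw [← mul_assoc, hml, one_mul]
      have hbR : b ∈ powSub (A := A) (B := B) p := by
        rw [this]
        exact Subalgebra.mul_mem _ (natCast_mem _ m) hb1
      exact ⟨⟨b, hbR⟩, rfl⟩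

end

end Groth.Agent.Lib.helper11.CharPUH
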