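import Mathlib.Topology.Spectral.Prespectral
import Mathlib.Topology.QuasiSeparated
import Mathlib.Topology.Connected.Clopen

/-!
Connected components of quasi-compact, prespectral, quasi-separated spaces are intersections of
clopen sets.
-/

set_option autoImplicit false
universe u

namespace Groth.Agent.Lib.helper11

/-- In a compact space, if a compact set `K` misses the intersection of all clopen neighbourhoods of
`x`, then it already misses one clopen neighbourhood of `x`. -/
theorem exists_isClopen_disjoint_of_disjoint_sInter {X : Type u} [TopologicalSpace X]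
    (x : X) (K : Set X) (hK : IsCompact K)
    (h : K ∩ ⋂₀ {Z : Set X | IsClopen Z ∧ x ∈ Z} = ∅) :
    ∃ Z : Set X, IsClopen Z ∧ x ∈ Z ∧ K ∩ Z = ∅ := by
  classical
  have h' : K ∩ ⋂ i : {Z : Set X | IsClopen Z ∧ x ∈ Z}, (i : Set X) = ∅ := by
    rwa [← Set.sInter_eq_iInter]
  obtain ⟨u, hu⟩ := hK.elim_finite_subfamily_closed
    (fun i : {Z : Set X | IsClopen Z ∧ x ∈ Z} => (i : Set X)) (fun i => i.2.1.isClosed) h'
  refine ⟨⋂ i ∈ u, (i : Set X), isClopen_biInter_finset fun i _ => i.2.1, ?_, hu⟩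
  simp only [Set.mem_iInter]
  exact fun i _ => i.2.2

theorem connectedComponent_eq_sInter_isClopen_of_prespectral {X : Type u} [TopologicalSpace X]
    [CompactSpace X] [PrespectralSpace X] [QuasiSeparatedSpace X] (x : X) :
    connectedComponent x = ⋂₀ {Z : Set X | IsClopen Z ∧ x ∈ Z} := by
  set S := ⋂₀ {Z : Set X | IsClopen Z ∧ x ∈ Z} with hS
  have hxS : x ∈ S := by
    rw [hS, Set.mem_sInter]; rintro Z ⟨-, hxZ⟩; exact hxZ
  have hSclosed : IsClosed S := isClosed_sInter fun Z hZ => hZ.1.isClosed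
  apply Set.Subset.antisymm
  · intro y hy
    rw [Set.mem_sInter]
    rintro Z ⟨hZ, hxZ⟩
    exact hZ.connectedComponent_subset hxZ hy
  · refine IsPreconnected.subset_connectedComponent ?_ hxS
    rw [isPreconnected_iff_subset_of_fully_disjoint_closed hSclosed]
    intro B C hB hC hSBC hdisj
    -- quasi-compact opens separating B and C
    obtain ⟨U, hUc, hUo, hBU, hUC⟩ := PrespectralSpace.exists_isCompact_and_isOpen_between
      hB.isCompact hC.isOpen_compl (Set.subset_compl_iff_disjoint_right.mpr hdisj)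
    obtain ⟨V, hVc, hVo, hCV, hVB⟩ := PrespectralSpace.exists_isCompact_and_isOpen_between
      hC.isCompact hB.isOpen_compl (Set.subset_compl_iff_disjoint_left.mpr hdisj)
    have hUV : IsCompact (U ∩ V) := QuasiSeparatedSpace.inter_isCompact U V hUo hUc hVo hVc
    have h1 : (U ∩ V) ∩ S = ∅ := by
      rw [Set.eq_empty_iff_forall_notMem]
      rintro p ⟨⟨hpU, hpV⟩, hpS⟩
      rcases hSBC hpS with hpB | hpC
      · exact hVB hpV hpB
      · exact hUC hpU hpC
    obtain ⟨Z', hZ', hxZ', hZ'd⟩ := exists_isClopen_disjoint_of_disjoint_sInter x _ hUV h1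
    have hK2 : IsCompact (U ∪ V)ᶜ := (hUo.union hVo).isClosed_compl.isCompact
    have h2 : (U ∪ V)ᶜ ∩ S = ∅ := by
      rw [Set.eq_empty_iff_forall_notMem]
      rintro p ⟨hpUV, hpS⟩
      rcases hSBC hpS with hpB | hpC
      · exact hpUV (Or.inl (hBU hpB))
      · exact hpUV (Or.inr (hCV hpC))
    obtain ⟨Z'', hZ'', hxZ'', hZ''d⟩ := exists_isClopen_disjoint_of_disjoint_sInter x _ hK2 h2
    set Z := Z' ∩ Z'' with hZdef
    have hZ : IsClopen Z := hZ'.inter hZ''
    have hxZ : x ∈ Z := ⟨hxZ', hxZ''⟩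
    have hZsub : Z ⊆ U ∪ V := by
      intro p hp
      by_contra hpn
      have : p ∈ (U ∪ V)ᶜ ∩ Z'' := ⟨hpn, hp.2⟩
      rw [hZ''d] at this
      exact this
    have hZdisj : ∀ p ∈ Z, p ∈ U → p ∈ V → False := by
      intro p hp hpU hpV
      have : p ∈ (U ∩ V) ∩ Z' := ⟨⟨hpU, hpV⟩, hp.1⟩
      rw [hZ'd] at this
      exact this
    have hZU : IsClopen (Z ∩ U) := by
      refine ⟨?_, hZ.isOpen.inter hUo⟩
      have : Z ∩ U = Z ∩ Vᶜ := by
        ext p
        constructor
        · rintro ⟨hpZ, hpU⟩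
          exact ⟨hpZ, fun hpV => hZdisj p hpZ hpU hpV⟩
        · rintro ⟨hpZ, hpV⟩
          rcases hZsub hpZ with h | h
          · exact ⟨hpZ, h⟩
          · exact absurd h hpV
      rw [this]
      exact hZ.isClosed.inter hVo.isClosed_compl
    have hZV : IsClopen (Z ∩ V) := by
      refine ⟨?_, hZ.isOpen.inter hVo⟩
      have : Z ∩ V = Z ∩ Uᶜ := by
        ext p
        constructor
        · rintro ⟨hpZ, hpV⟩
          exact ⟨hpZ, fun hpU => hZdisj p hpZ hpU hpV⟩
        · rintro ⟨hpZ, hpU⟩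
          rcases hZsub hpZ with h | h
          · exact absurd h hpU
          · exact ⟨hpZ, h⟩
      rw [this]
      exact hZ.isClosed.inter hUo.isClosed_compl
    rcases hSBC hxS with hxB | hxC
    · left
      have hSU : S ⊆ Z ∩ U := Set.sInter_subset_of_mem ⟨hZU, hxZ, hBU hxB⟩
      intro p hp
      rcases hSBC hp with h | h
      · exact h
      · exact absurd h (hUC (hSU hp).2)
    · right
      have hSV : S ⊆ Z ∩ V := Set.sInter_subset_of_mem ⟨hZV, hxZ, hCV hxC⟩
      intro p hp
      rcases hSBC hp with h | h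
      · exact absurd h (hVB (hSV hp).2)
      · exact h

end Groth.Agent.Lib.helper11
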