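import Mathlib
import Groth.Prelude
import Groth.Agent.Lib.helper11.NearFibre

set_option autoImplicit false
universe u
open CategoryTheory CategoryTheory.Limits AlgebraicGeometry MorphismProperty TensorProduct

namespace Groth.Agent.Lib.helper11.ClosedImmCrit

theorem exists_smul_mem_range_of_forall_sub_mem {A B : Type*} [CommRing A] [CommRing B]
    [Algebra A B] [Module.Finite A B] (m : Ideal A) [m.IsMaximal]
    (h : ∀ b : B, ∃ a : A, b - algebraMap A B a ∈ m.map (algebraMap A B)) :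
    ∃ a : A, a ∉ m ∧ ∀ b : B, ∃ a' : A, algebraMap A B a * b = algebraMap A B a' := by
  let N : Submodule A B := LinearMap.range (Algebra.linearMap A B)
  have htop : (⊤ : Submodule A (B ⧸ N)) ≤ m • ⊤ := by
    rintro q -
    obtain ⟨b, rfl⟩ := N.mkQ_surjective q
    obtain ⟨a, ha⟩ := h b
    have h1 : N.mkQ b = N.mkQ (b - algebraMap A B a) := by
      rw [map_sub]
      have : N.mkQ (algebraMap A B a) = 0 := by
        rw [Submodule.mkQ_apply, Submodule.Quotient.mk_eq_zero]
        exact ⟨a, rfl⟩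
      rw [this, sub_zero]
    rw [h1]
    have h2 : b - algebraMap A B a ∈ m • (⊤ : Submodule A B) := by
      rw [Ideal.smul_top_eq_map]; exact ha
    have h3 := Submodule.mem_map_of_mem (f := N.mkQ) h2
    rw [Submodule.map_smul'', Submodule.map_top, Submodule.range_mkQ] at h3
    exact h3
  obtain ⟨r, hr, hr0⟩ := Submodule.exists_sub_one_mem_and_smul_eq_zero_of_fg_of_le_smul m
    (⊤ : Submodule A (B ⧸ N)) Module.Finite.fg_top htop
  refine ⟨r, fun hrm => ?_, fun b => ?_⟩
  · have : (1 : A) ∈ m := by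
      have := m.sub_mem hrm hr
      simpa using this
    exact (Ideal.ne_top_iff_one m).mp (Ideal.IsMaximal.ne_top inferInstance) this
  · have h1 := hr0 (N.mkQ b) trivial
    rw [← map_smul, Submodule.mkQ_apply, Submodule.Quotient.mk_eq_zero] at h1
    obtain ⟨a', ha'⟩ := h1
    refine ⟨a', ?_⟩
    rw [← Algebra.smul_def]
    exact ha'.symm

theorem isAlgClosed_of_finiteType {k K : Type u} [Field k] [IsAlgClosed k] [Field K] (g : k →+* K)
    (hg : g.FiniteType) : IsAlgClosed K := by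
  algebraize [g]
  haveI : Module.Finite k K := finite_of_finite_type_of_isJacobsonRing k K
  have hbij : Function.Bijective (algebraMap k K) :=
    IsAlgClosed.algebraMap_bijective_of_isIntegral
  exact IsAlgClosed.of_ringEquiv k K (RingEquiv.ofBijective (algebraMap k K) hbij)

theorem forall_sub_mem_of_no_prime {A B : Type*} [CommRing A] [CommRing B] [Algebra A B]
    (m : Ideal A) [m.IsMaximal]
    (h : ∀ n : Ideal B, n.IsPrime → n.comap (algebraMap A B) ≠ m) (b : B) :
    ∃ a : A, b - algebraMap A B a ∈ m.map (algebraMap A B) := by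
  have : m.map (algebraMap A B) = ⊤ := by
    by_contra hne
    obtain ⟨n, hn, hle⟩ := Ideal.exists_le_maximal _ hne
    refine h n hn.isPrime ?_
    have h1 : m ≤ n.comap (algebraMap A B) := Ideal.map_le_iff_le_comap.mp hle
    exact (Ideal.IsMaximal.eq_of_le inferInstance (Ideal.comap_ne_top _ hn.ne_top) h1).symm
  exact ⟨0, by rw [this]; trivial⟩

theorem forall_sub_mem_of_cotangent {A B L : Type u} [CommRing A] [CommRing B] [CommRing L]
    [Algebra A B] [Module.Finite A B] (m : Ideal A) [m.IsMaximal]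
    (hC : ∀ (C : Type u) [Field C] (g : A ⧸ m →+* C), g.Finite → Function.Surjective g)
    (n : Ideal B) [n.IsPrime] (hn : n.comap (algebraMap A B) = m)
    (huniq : ∀ n' : Ideal B, n'.IsPrime → n'.comap (algebraMap A B) = m → n' = n)
    [Algebra B L] [IsLocalization.AtPrime L n] [IsLocalRing L]
    (hcot : Ideal.map ((algebraMap B L).comp (algebraMap A B)) m ⊔ IsLocalRing.maximalIdeal L ^ 2 =
      IsLocalRing.maximalIdeal L) (b : B) :
    ∃ a : A, b - algebraMap A B a ∈ m.map (algebraMap A B) := by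
  set φ := algebraMap A B with hφ
  set I : Ideal B := m.map φ with hI
  have hIn : I ≤ n := by
    rw [hI, Ideal.map_le_iff_le_comap, hn]
  let mk : B →+* B ⧸ I := Ideal.Quotient.mk I
  have hmk : Function.Surjective mk := Ideal.Quotient.mk_surjective
  set nbar : Ideal (B ⧸ I) := n.map mk with hnbar
  have hmem : ∀ x : B, mk x ∈ nbar ↔ x ∈ n := fun x => Ideal.mem_quotient_iff_mem hIn
  -- every prime of B/I is nbar
  have hprime : ∀ P : Ideal (B ⧸ I), P.IsPrime → P = nbar := by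
    intro P hP
    have h1 : (P.comap mk).IsPrime := Ideal.comap_isPrime mk P
    have h2 : I ≤ P.comap mk := by
      intro x hx
      rw [Ideal.mem_comap]
      have : mk x = 0 := Ideal.Quotient.eq_zero_iff_mem.mpr hx
      rw [this]; exact P.zero_mem
    have h3 : m ≤ (P.comap mk).comap φ := by
      rw [← Ideal.map_le_iff_le_comap]; exact h2
    have h4 : (P.comap mk).comap φ = m :=
      (Ideal.IsMaximal.eq_of_le inferInstance (Ideal.comap_ne_top _ h1.ne_top) h3).symm
    have h5 := huniq _ h1 h4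
    rw [hnbar, ← h5, Ideal.map_comap_of_surjective mk hmk]
  haveI : Nontrivial (B ⧸ I) := by
    refine Ideal.Quotient.nontrivial_iff.mpr ?_
    intro htop
    exact (Ideal.IsPrime.ne_top inferInstance) (top_le_iff.mp (htop ▸ hIn))
  haveI : IsLocalRing (B ⧸ I) := by
    refine IsLocalRing.of_unique_max_ideal ?_
    obtain ⟨M, hM⟩ := Ideal.exists_maximal (B ⧸ I)
    refine ⟨M, hM, fun M' hM' => ?_⟩
    rw [hprime M hM.isPrime, hprime M' hM'.isPrime]
  have hmax : IsLocalRing.maximalIdeal (B ⧸ I) = nbar :=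
    hprime _ (IsLocalRing.maximalIdeal.isMaximal _).isPrime
  -- finiteness
  haveI : IsArtinianRing (A ⧸ m) := by
    letI : Field (A ⧸ m) := Ideal.Quotient.field m
    exact inferInstanceAs (IsArtinianRing (A ⧸ m))
  have hle : m ≤ I.comap φ := Ideal.le_comap_map
  letI : Algebra (A ⧸ m) (B ⧸ I) := Ideal.Quotient.algebraQuotientOfLEComap hle
  haveI : IsScalarTower A (A ⧸ m) (B ⧸ I) := IsScalarTower.of_algebraMap_eq (fun a => rfl)
  haveI : Module.Finite (A ⧸ m) (B ⧸ I) := Module.Finite.of_restrictScalars_finite A _ _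
  haveI : IsArtinianRing (B ⧸ I) := IsArtinianRing.of_finite (A ⧸ m) (B ⧸ I)
  -- the map from L
  have hunit : ∀ s : n.primeCompl, IsUnit (mk s) := by
    intro s
    by_contra hs
    have : mk s ∈ IsLocalRing.maximalIdeal (B ⧸ I) := (IsLocalRing.mem_maximalIdeal _).mpr hs
    rw [hmax, hmem] at this
    exact s.2 this
  let ψ : L →+* B ⧸ I := IsLocalization.lift (M := n.primeCompl) (g := mk) hunit
  have hψ : ψ.comp (algebraMap B L) = mk := IsLocalization.lift_comp _
  have h1 : Ideal.map ψ (IsLocalRing.maximalIdeal L) = nbar := by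
    rw [← IsLocalization.AtPrime.map_eq_maximalIdeal n L, Ideal.map_map, hψ]
  have h2 : Ideal.map ψ (Ideal.map ((algebraMap B L).comp φ) m) = ⊥ := by
    rw [Ideal.map_map, ← RingHom.comp_assoc, hψ, ← Ideal.map_map]
    exact Ideal.map_quotient_self I
  have h3 := congrArg (Ideal.map ψ) hcot
  rw [Ideal.map_sup, Ideal.map_pow, h1, h2, bot_sup_eq] at h3
  -- Nakayama
  have hbot : nbar = ⊥ := by
    have hfg : (nbar : Submodule (B ⧸ I) (B ⧸ I)).FG := IsNoetherian.noetherian nbar
    refine Submodule.eq_bot_of_le_smul_of_le_jacobson_bot nbar nbar hfg ?_ ?_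
    · rw [smul_eq_mul, ← pow_two, h3]
    · rw [← hmax, IsLocalRing.jacobson_eq_maximalIdeal ⊥ bot_ne_top]
  have hfield : IsField (B ⧸ I) := by
    rw [IsLocalRing.isField_iff_maximalIdeal_eq, hmax, hbot]
  letI : Field (B ⧸ I) := hfield.toField
  have hfin : (algebraMap (A ⧸ m) (B ⧸ I)).Finite := by
    rw [RingHom.finite_algebraMap]; infer_instance
  have hsurj := hC (B ⧸ I) (algebraMap (A ⧸ m) (B ⧸ I)) hfin
  obtain ⟨abar, ha⟩ := hsurj (mk b)
  obtain ⟨a, rfl⟩ := Ideal.Quotient.mk_surjective abar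
  refine ⟨a, ?_⟩
  rw [← Ideal.Quotient.eq_zero_iff_mem, map_sub, sub_eq_zero]
  exact ha.symm

theorem surjective_of_finiteType_of_isAlgClosed {k K : Type u} [Field k] [IsAlgClosed k] [Field K]
    (g : k →+* K) (hg : g.FiniteType) : Function.Surjective g := by
  algebraize [g]
  haveI : Module.Finite k K := finite_of_finite_type_of_isJacobsonRing k K
  exact (IsAlgClosed.algebraMap_bijective_of_isIntegral (k := k) (K := K)).2

theorem subsingleton_preimage_of_injOn {X Y : Scheme.{u}} (f : X ⟶ Y) [JacobsonSpace X]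
    (hinj : Set.InjOn f {x : X | IsClosed ({x} : Set X)}) (y : Y) (hy : IsClosed ({y} : Set Y)) :
    (f ⁻¹' {y}).Subsingleton := by
  have hZ : IsClosed (f ⁻¹' {y}) := hy.preimage f.continuous
  have hsub : (f ⁻¹' {y} ∩ closedPoints X).Subsingleton := by
    rintro x₁ ⟨h1, h1'⟩ x₂ ⟨h2, h2'⟩
    exact hinj h1' h2' (h1.trans h2.symm)
  rw [← closure_inter_closedPoints hZ]
  rcases hsub.eq_empty_or_singleton with h | ⟨x, hx⟩
  · rw [h, closure_empty]; exact Set.subsingleton_empty
  · rw [hx]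
    have hxc : IsClosed ({x} : Set X) := by
      have : x ∈ f ⁻¹' {y} ∩ closedPoints X := by rw [hx]; rfl
      exact this.2
    rw [hxc.closure_eq]; exact Set.subsingleton_singleton

theorem of_forall_closedPoint_exists {P : MorphismProperty Scheme.{u}} [IsZariskiLocalAtTarget P]
    {X Y : Scheme.{u}} (f : X ⟶ Y) [JacobsonSpace Y]
    (H : ∀ y : Y, IsClosed ({y} : Set Y) → ∃ V : Y.Opens, y ∈ V ∧ P (f ∣_ V)) : P f := by
  let G : Set Y := {y | ∃ V : Y.Opens, y ∈ V ∧ P (f ∣_ V)}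
  have hG : IsOpen G := by
    rw [isOpen_iff_forall_mem_open]
    rintro y ⟨V, hyV, hV⟩
    exact ⟨V, fun z hz => ⟨V, hz, hV⟩, V.isOpen, hyV⟩
  have hGtop : G = Set.univ := by
    by_contra hne
    have hne' : (Gᶜ).Nonempty := by
      rw [Set.nonempty_compl]; exact hne
    obtain ⟨y, hyG, hyc⟩ := nonempty_inter_closedPoints hne' hG.isClosed_compl.isLocallyClosed
    exact hyG (H y hyc)
  refine IsZariskiLocalAtTarget.of_forall_exists_morphismRestrict (P := P) fun y => ?_
  have : y ∈ G := by rw [hGtop]; trivial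
  exact this

theorem fromSpec_apply_of_comap_eq {X Y : Scheme.{u}} (f : X ⟶ Y) {V : Y.Opens}
    (hV : IsAffineOpen V) (hV' : IsAffineOpen (f ⁻¹ᵁ V)) (y : Y) (hyV : y ∈ V)
    (p : PrimeSpectrum Γ(X, f ⁻¹ᵁ V))
    (hp : p.asIdeal.comap (f.app V).hom = (hV.primeIdealOf ⟨y, hyV⟩).asIdeal) :
    f (hV'.fromSpec p) = y := by
  have h1 : Spec.map (f.appLE V (f ⁻¹ᵁ V) le_rfl) ≫ hV.fromSpec = hV'.fromSpec ≫ f :=
    IsAffineOpen.SpecMap_appLE_fromSpec f hV hV' le_rfl
  have h2 : f (hV'.fromSpec p) = hV.fromSpec (Spec.map (f.appLE V (f ⁻¹ᵁ V) le_rfl) p) := by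
    rw [← Scheme.Hom.comp_apply, ← h1, Scheme.Hom.comp_apply]
  rw [h2]
  have h3 : Spec.map (f.appLE V (f ⁻¹ᵁ V) le_rfl) p = hV.primeIdealOf ⟨y, hyV⟩ := by
    apply PrimeSpectrum.ext
    rw [← hp, Scheme.Hom.appLE_eq_app]
    rfl
  rw [h3, hV.fromSpec_primeIdealOf]

theorem mem_basicOpen_of_notMem_primeIdealOf {Y : Scheme.{u}} {V : Y.Opens}
    (hV : IsAffineOpen V) (y : Y) (hyV : y ∈ V) (a : Γ(Y, V))
    (ha : a ∉ (hV.primeIdealOf ⟨y, hyV⟩).asIdeal) : y ∈ Y.basicOpen a := by
  have h1 : hV.primeIdealOf ⟨y, hyV⟩ ∈ hV.fromSpec ⁻¹ᵁ Y.basicOpen a := by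
    rw [hV.fromSpec_preimage_basicOpen]
    exact ha
  have h2 : hV.fromSpec (hV.primeIdealOf ⟨y, hyV⟩) ∈ Y.basicOpen a := h1
  rwa [hV.fromSpec_primeIdealOf] at h2

theorem residue_surjective (k : Type u) [Field k] [IsAlgClosed k] {Y : Scheme.{u}}
    (q : Y ⟶ Spec (CommRingCat.of k)) [LocallyOfFiniteType q] {V : Y.Opens} (hV : IsAffineOpen V)
    (m : Ideal Γ(Y, V)) [m.IsMaximal]
    (C : Type u) [Field C] (g : Γ(Y, V) ⧸ m →+* C) (hg : g.Finite) : Function.Surjective g := by
  have h1 : (q.appLE ⊤ V le_top).hom.FiniteType := q.finiteType_appLE (isAffineOpen_top _) hV _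
  let ι : k →+* Γ(Y, V) := (q.appLE ⊤ V le_top).hom.comp (Scheme.ΓSpecIso (CommRingCat.of k)).inv.hom
  have hι : ι.FiniteType := by
    refine RingHom.FiniteType.comp h1 ?_
    exact RingHom.FiniteType.of_surjective _
      (ConcreteCategory.bijective_of_isIso (Scheme.ΓSpecIso (CommRingCat.of k)).inv).2
  have h2 : (g.comp ((Ideal.Quotient.mk m).comp ι)).FiniteType := by
    refine RingHom.FiniteType.comp hg.finiteType ?_
    exact RingHom.FiniteType.comp (RingHom.FiniteType.of_surjective _ Ideal.Quotient.mk_surjective) hι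
  have h3 := surjective_of_finiteType_of_isAlgClosed _ h2
  intro c
  obtain ⟨t, ht⟩ := h3 c
  exact ⟨_, ht⟩

theorem isClosedImmersion_of_injOn_of_cotangent (k : Type u) [Field k] [IsAlgClosed k]
    {X Y : Scheme.{u}} (f : X ⟶ Y) (q : Y ⟶ Spec (CommRingCat.of k)) [LocallyOfFiniteType q]
    [LocallyOfFiniteType (f ≫ q)] [IsProper f]
    (hinj : Set.InjOn f.base {x : X | IsClosed ({x} : Set X)})
    (hT : ∀ x : X, IsClosed ({x} : Set X) →
      Ideal.map (f.stalkMap x).hom (IsLocalRing.maximalIdeal (Y.presheaf.stalk (f.base x))) ⊔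
        IsLocalRing.maximalIdeal (X.presheaf.stalk x) ^ 2 =
          IsLocalRing.maximalIdeal (X.presheaf.stalk x)) :
    IsClosedImmersion f := by
  haveI : JacobsonSpace Y := LocallyOfFiniteType.jacobsonSpace q
  haveI : JacobsonSpace X := LocallyOfFiniteType.jacobsonSpace (f ≫ q)
  have hsub := subsingleton_preimage_of_injOn f hinj
  haveI : IsFinite f := of_forall_closedPoint_exists (P := @IsFinite) f fun y hy =>
    exists_isFinite_morphismRestrict_of_finite_preimage_singleton f y (hsub y hy).finite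
  refine of_forall_closedPoint_exists (P := @IsClosedImmersion) f fun y hy => ?_
  obtain ⟨V, hV, hyV⟩ : ∃ V : Y.Opens, IsAffineOpen V ∧ y ∈ V := by
    obtain ⟨_, ⟨V, hV, rfl⟩, hyV, -⟩ :=
      Y.isBasis_affineOpens.exists_subset_of_mem_open (Set.mem_univ y) isOpen_univ
    exact ⟨V, hV, hyV⟩
  have hV' : IsAffineOpen (f ⁻¹ᵁ V) := hV.preimage f
  letI : Algebra Γ(Y, V) Γ(X, f ⁻¹ᵁ V) := (f.app V).hom.toAlgebra
  haveI : Module.Finite Γ(Y, V) Γ(X, f ⁻¹ᵁ V) := f.finite_app V hV
  set m : Ideal Γ(Y, V) := (hV.primeIdealOf ⟨y, hyV⟩).asIdeal with hm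
  haveI : m.IsMaximal := hV.primeIdealOf_isMaximal_of_isClosed ⟨y, hyV⟩ hy
  have hC := residue_surjective k q hV m
  have hkey : ∀ b : Γ(X, f ⁻¹ᵁ V), ∃ a : Γ(Y, V),
      b - algebraMap Γ(Y, V) Γ(X, f ⁻¹ᵁ V) a ∈ m.map (algebraMap Γ(Y, V) Γ(X, f ⁻¹ᵁ V)) := by
    by_cases hx : ∃ x, f x = y
    · obtain ⟨x, hxy⟩ := hx
      have hxV : x ∈ f ⁻¹ᵁ V := by
        change f x ∈ V
        rw [hxy]; exact hyV
      have hxcl : IsClosed ({x} : Set X) := by
        have h1 : f ⁻¹' {y} = {x} := by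
          apply Set.Subset.antisymm
          · intro x' hx'
            exact (hsub y hy) hx' hxy
          · rintro _ rfl; exact hxy
        rw [← h1]
        exact hy.preimage f.continuous
      subst hxy
      set n : Ideal Γ(X, f ⁻¹ᵁ V) := (hV'.primeIdealOf ⟨x, hxV⟩).asIdeal with hn_def
      haveI : n.IsPrime := (hV'.primeIdealOf ⟨x, hxV⟩).isPrime
      have hn : n.comap (algebraMap Γ(Y, V) Γ(X, f ⁻¹ᵁ V)) = m := by
        have h1 := IsAffineOpen.comap_primeIdealOf_appLE V hV (f ⁻¹ᵁ V) hV' le_rfl hxV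
        have h2 := congrArg PrimeSpectrum.asIdeal h1
        rw [hm, ← h2, hn_def]
        simp only [Scheme.Hom.appLE_eq_app]
        rfl
      have huniq : ∀ n' : Ideal Γ(X, f ⁻¹ᵁ V), n'.IsPrime →
          n'.comap (algebraMap Γ(Y, V) Γ(X, f ⁻¹ᵁ V)) = m → n' = n := by
        intro n' hn' hcomap
        have h1 : f (hV'.fromSpec ⟨n', hn'⟩) = f x :=
          fromSpec_apply_of_comap_eq f hV hV' (f x) hyV ⟨n', hn'⟩ hcomap
        have h2 : hV'.fromSpec ⟨n', hn'⟩ = x := (hsub (f x) hy) h1 rfl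
        have h3 : hV'.fromSpec ⟨n', hn'⟩ = hV'.fromSpec (hV'.primeIdealOf ⟨x, hxV⟩) := by
          rw [h2, hV'.fromSpec_primeIdealOf]
        have h4 := hV'.fromSpec.isOpenEmbedding.injective h3
        exact congrArg PrimeSpectrum.asIdeal h4
      letI : Algebra Γ(X, f ⁻¹ᵁ V) (X.presheaf.stalk x) :=
        X.presheaf.algebra_section_stalk ⟨x, hxV⟩
      haveI : IsLocalization.AtPrime (X.presheaf.stalk x) n := hV'.isLocalization_stalk ⟨x, hxV⟩
      letI : Algebra Γ(Y, V) (Y.presheaf.stalk (f x)) :=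
        Y.presheaf.algebra_section_stalk ⟨f x, hyV⟩
      haveI : IsLocalization.AtPrime (Y.presheaf.stalk (f x)) m :=
        hV.isLocalization_stalk ⟨f x, hyV⟩
      have e1 : IsLocalRing.maximalIdeal (Y.presheaf.stalk (f x)) =
          Ideal.map (algebraMap Γ(Y, V) (Y.presheaf.stalk (f x))) m :=
        (IsLocalization.AtPrime.map_eq_maximalIdeal m _).symm
      have e2 : (f.stalkMap x).hom.comp (algebraMap Γ(Y, V) (Y.presheaf.stalk (f x))) =
          (algebraMap Γ(X, f ⁻¹ᵁ V) (X.presheaf.stalk x)).comp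
            (algebraMap Γ(Y, V) Γ(X, f ⁻¹ᵁ V)) := by
        ext a
        exact f.germ_stalkMap_apply V x hyV a
      have hT' := hT x hxcl
      rw [e1, Ideal.map_map, e2] at hT'
      exact forall_sub_mem_of_cotangent m hC n hn huniq hT'
    · refine forall_sub_mem_of_no_prime m fun n hn hcomap => hx ?_
      exact ⟨hV'.fromSpec ⟨n, hn⟩, fromSpec_apply_of_comap_eq f hV hV' y hyV ⟨n, hn⟩ hcomap⟩
  obtain ⟨a, ham, ha⟩ := exists_smul_mem_range_of_forall_sub_mem m hkey
  exact ⟨Y.basicOpen a, mem_basicOpen_of_notMem_primeIdealOf hV y hyV a ham,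
    NearFibre.isClosedImmersion_restrict_basicOpen f hV hV' a ha⟩

end Groth.Agent.Lib.helper11.ClosedImmCrit
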