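import Mathlib.Topology.Constructible
import Mathlib.Topology.NoetherianSpace
import Mathlib.Topology.Sober

/-!
Constructible sets and generic points.
-/

set_option autoImplicit false
universe u

namespace Groth.Agent.Lib.helper11

open Topology TopologicalSpace

/-- A constructible set or its complement contains a neighbourhood (in `Y`) of the generic point
of `Y`. -/
theorem exists_open_of_isConstructible_of_isGenericPoint {X : Type u} [TopologicalSpace X]
    {E Y : Set X} (hE : IsConstructible E) {ξ : X} (hξ : IsGenericPoint ξ Y) :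
    ∃ U, IsOpen U ∧ ξ ∈ U ∧ (U ∩ Y ⊆ E ∨ U ∩ Y ⊆ Eᶜ) := by
  induction hE using IsConstructible.empty_union_induction with
  | open_retrocompact U hUopen hUcomp =>
    by_cases h : ξ ∈ U
    · exact ⟨U, hUopen, h, Or.inl Set.inter_subset_left⟩
    · refine ⟨Set.univ, isOpen_univ, trivial, Or.inr ?_⟩
      rintro y ⟨-, hy⟩ hyU
      exact h ((hξ.mem_open_set_iff hUopen).mpr ⟨y, hy, hyU⟩)
  | union s hs t ht hs' ht' =>
    obtain ⟨U, hU, hξU, hUs⟩ := hs'
    obtain ⟨V, hV, hξV, hVt⟩ := ht'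
    rcases hUs with hUs | hUs
    · exact ⟨U, hU, hξU, Or.inl (hUs.trans Set.subset_union_left)⟩
    · rcases hVt with hVt | hVt
      · exact ⟨V, hV, hξV, Or.inl (hVt.trans Set.subset_union_right)⟩
      · refine ⟨U ∩ V, hU.inter hV, ⟨hξU, hξV⟩, Or.inr ?_⟩
        rintro y ⟨⟨hyU, hyV⟩, hyY⟩ hyst
        rcases hyst with h | h
        · exact hUs ⟨hyU, hyY⟩ h
        · exact hVt ⟨hyV, hyY⟩ h
  | compl s hs hs' =>
    obtain ⟨U, hU, hξU, hUs⟩ := hs'
    refine ⟨U, hU, hξU, ?_⟩
    rw [compl_compl]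
    exact hUs.symm

theorem exists_open_subset_of_isConstructible_of_isGenericPoint_mem {X : Type u}
    [TopologicalSpace X] {E Y : Set X} (hE : IsConstructible E) {ξ : X} (hξ : IsGenericPoint ξ Y)
    (hξE : ξ ∈ E) : ∃ U, IsOpen U ∧ ξ ∈ U ∧ U ∩ Y ⊆ E := by
  obtain ⟨U, hU, hξU, h | h⟩ := exists_open_of_isConstructible_of_isGenericPoint hE hξ
  · exact ⟨U, hU, hξU, h⟩
  · exact absurd hξE (h ⟨hξU, hξ.mem⟩)

/-- In a Noetherian quasi-sober space, a constructible set stable under specialization is closed. -/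
theorem isClosed_of_isConstructible_of_stableUnderSpecialization {X : Type u} [TopologicalSpace X]
    [NoetherianSpace X] [QuasiSober X] {E : Set X} (hE : IsConstructible E)
    (hs : StableUnderSpecialization E) : IsClosed E := by
  suffices H : ∀ Y : Closeds X, IsClosed (E ∩ (Y : Set X)) by
    simpa using H ⊤
  intro Y
  induction Y using WellFoundedLT.induction with
  | _ Y ih =>
  by_cases hne : (Y : Set X).Nonempty
  swap
  · rw [Set.not_nonempty_iff_eq_empty] at hne
    rw [hne, Set.inter_empty]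
    exact isClosed_empty
  by_cases hirr : IsPreirreducible (Y : Set X)
  · have hY : IsIrreducible (Y : Set X) := ⟨hne, hirr⟩
    obtain ⟨ξ, hξ⟩ := QuasiSober.sober hY Y.isClosed
    by_cases hξE : ξ ∈ E
    · have : (Y : Set X) ⊆ E := fun y hy => hs (hξ.specializes hy) hξE
      rw [Set.inter_eq_right.mpr this]
      exact Y.isClosed
    · obtain ⟨U, hU, hξU, hUE⟩ :=
        exists_open_subset_of_isConstructible_of_isGenericPoint_mem hE.compl hξ hξE
      let Y' : Closeds X := ⟨(Y : Set X) \ U, Y.isClosed.sdiff hU⟩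
      have hlt : Y' < Y := by
        refine lt_of_le_of_ne (fun y hy => hy.1) fun h => ?_
        have : ξ ∈ (Y' : Set X) := by rw [h]; exact hξ.mem
        exact this.2 hξU
      have : E ∩ (Y : Set X) = E ∩ (Y' : Set X) := by
        ext y
        constructor
        · rintro ⟨hyE, hyY⟩
          exact ⟨hyE, hyY, fun hyU => hUE ⟨hyU, hyY⟩ hyE⟩
        · rintro ⟨hyE, hyY, -⟩
          exact ⟨hyE, hyY⟩
      rw [this]
      exact ih Y' hlt
  · rw [isPreirreducible_iff_isClosed_union_isClosed] at hirr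
    push Not at hirr
    obtain ⟨z₁, z₂, hz₁, hz₂, hsub, h₁, h₂⟩ := hirr
    let Y₁ : Closeds X := ⟨(Y : Set X) ∩ z₁, Y.isClosed.inter hz₁⟩
    let Y₂ : Closeds X := ⟨(Y : Set X) ∩ z₂, Y.isClosed.inter hz₂⟩
    have hlt₁ : Y₁ < Y := by
      refine lt_of_le_of_ne (fun y hy => hy.1) fun h => h₁ ?_
      intro y hy
      have : y ∈ (Y₁ : Set X) := by rw [h]; exact hy
      exact this.2
    have hlt₂ : Y₂ < Y := by
      refine lt_of_le_of_ne (fun y hy => hy.1) fun h => h₂ ?_
      intro y hy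
      have : y ∈ (Y₂ : Set X) := by rw [h]; exact hy
      exact this.2
    have : E ∩ (Y : Set X) = (E ∩ (Y₁ : Set X)) ∪ (E ∩ (Y₂ : Set X)) := by
      ext y
      constructor
      · rintro ⟨hyE, hyY⟩
        rcases hsub hyY with h | h
        · exact Or.inl ⟨hyE, hyY, h⟩
        · exact Or.inr ⟨hyE, hyY, h⟩
      · rintro (⟨hyE, hyY, -⟩ | ⟨hyE, hyY, -⟩) <;> exact ⟨hyE, hyY⟩
    rw [this]
    exact (ih Y₁ hlt₁).union (ih Y₂ hlt₂)

end Groth.Agent.Lib.helper11
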