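import Mathlib.Topology.Constructible

/-!
More on constructible sets in prespectral spaces.
-/

set_option autoImplicit false
universe u

namespace Groth.Agent.Lib.helper11

open Topology Set

variable {X : Type u} [TopologicalSpace X]

theorem isSublattice_retro : IsSublattice {U : Set X | IsOpen U ∧ IsRetrocompact U} :=
  ⟨fun _ hs _ ht ↦ ⟨hs.1.union ht.1, hs.2.union ht.2⟩,
    fun _ hs _ ht ↦ ⟨hs.1.inter ht.1, hs.2.inter_isOpen ht.2 ht.1⟩⟩

/-- Every constructible set is a finite union of differences of retrocompact opens. -/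
theorem exists_finset_sdiff_of_isConstructible {E : Set X} (hE : IsConstructible E) :
    ∃ t : Finset (Set X × Set X), (∀ x ∈ t, (IsOpen x.1 ∧ IsRetrocompact x.1) ∧
      (IsOpen x.2 ∧ IsRetrocompact x.2)) ∧ E = ⋃ x ∈ t, x.1 \ x.2 := by
  classical
  obtain ⟨t, ht⟩ := (BooleanSubalgebra.mem_closure_iff_sup_sdiff isSublattice_retro
    (show (⊥ : Set X) ∈ _ from ⟨isOpen_empty, .empty⟩)
    (show (⊤ : Set X) ∈ _ from ⟨isOpen_univ, .univ⟩)).mp hE
  refine ⟨t.image fun x => (x.1.1, x.2.1), ?_, ?_⟩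
  · intro x hx
    obtain ⟨y, -, rfl⟩ := Finset.mem_image.mp hx
    exact ⟨y.1.2, y.2.2⟩
  · rw [ht, Finset.sup_eq_iSup]
    ext z
    simp only [iSup_eq_iUnion, mem_iUnion, Finset.mem_image, exists_prop]
    constructor
    · rintro ⟨y, hy, hz⟩
      exact ⟨(y.1.1, y.2.1), ⟨y, hy, rfl⟩, hz⟩
    · rintro ⟨_, ⟨y, hy, rfl⟩, hz⟩
      exact ⟨y, hy, hz⟩

/-- Constructible sets are retrocompact. -/
theorem isRetrocompact_of_isConstructible {E : Set X} (hE : IsConstructible E) :
    IsRetrocompact E := by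
  obtain ⟨t, ht, rfl⟩ := exists_finset_sdiff_of_isConstructible hE
  refine IsRetrocompact.biUnion (Finset.finite_toSet t) fun x hx => ?_
  obtain ⟨⟨hU, hUr⟩, ⟨hV, hVr⟩⟩ := ht x hx
  intro W hWc hWo
  have : x.1 \ x.2 ∩ W = (x.1 ∩ W) ∩ x.2ᶜ := by
    ext z; simp only [mem_inter_iff, mem_sdiff, mem_compl_iff]; tauto
  rw [this]
  exact (hUr hWc hWo).inter_right hV.isClosed_compl

/-- A compact open of a subspace of a prespectral space is cut out by a compact open. -/
theorem exists_isCompact_isOpen_preimage_eq [PrespectralSpace X] (E : Set X) (W' : Set E)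
    (hc : IsCompact W') (ho : IsOpen W') :
    ∃ W : Set X, IsCompact W ∧ IsOpen W ∧ W' = Subtype.val ⁻¹' W := by
  obtain ⟨V, hV, rfl⟩ := isOpen_induced_iff.mp ho
  have hc' : IsCompact ((Subtype.val : E → X) '' (Subtype.val ⁻¹' V)) :=
    hc.image continuous_subtype_val
  obtain ⟨W, hWc, hWo, h1, h2⟩ := PrespectralSpace.exists_isCompact_and_isOpen_between hc' hV
    (by rintro _ ⟨x, hx, rfl⟩; exact hx)
  refine ⟨W, hWc, hWo, ?_⟩
  ext x
  exact ⟨fun hx => h1 ⟨x, hx, rfl⟩, fun hx => h2 hx⟩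

theorem isRetrocompact_preimage_val [PrespectralSpace X]
    (T : Set X) (hT : IsRetrocompact T) (s : Set X) (hso : IsOpen s) (hsr : IsRetrocompact s) :
    IsRetrocompact ((Subtype.val : T → X) ⁻¹' s) := by
  intro V' hV'c hV'o
  obtain ⟨W, hWc, hWo, rfl⟩ := exists_isCompact_isOpen_preimage_eq T V' hV'c hV'o
  rw [← Set.preimage_inter, Topology.IsEmbedding.subtypeVal.isCompact_iff,
    Subtype.image_preimage_coe]
  exact hT (hsr hWc hWo) (hso.inter hWo)

theorem isConstructible_preimage_val [PrespectralSpace X]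
    (T : Set X) (hT : IsRetrocompact T) (E : Set X) (hE : IsConstructible E) :
    IsConstructible ((Subtype.val : T → X) ⁻¹' E) :=
  hE.preimage continuous_subtype_val fun s hso hsr => isRetrocompact_preimage_val T hT s hso hsr

/-- The basic step: a retrocompact open of `E` meets a piece `U \ V ⊆ E` in a constructible set. -/
theorem isConstructible_inter_sdiff [PrespectralSpace X] (E : Set X) (hE : IsRetrocompact E)
    (O : Set X) (hO : IsOpen O) (hG : IsRetrocompact ((Subtype.val : E → X) ⁻¹' O))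
    (U V : Set X) (hU : IsOpen U) (hUr : IsRetrocompact U) (hV : IsOpen V) (hVr : IsRetrocompact V)
    (hUV : U \ V ⊆ E) : IsConstructible ((O ∩ U) \ V) := by
  have hO' : IsOpen ((O ∩ U) ∪ V) := (hO.inter hU).union hV
  have hO'r : IsRetrocompact ((O ∩ U) ∪ V) := by
    intro W hWc hWo
    have hUW : IsCompact (U ∩ W) := hUr hWc hWo
    have h1 : IsCompact ((Subtype.val : E → X) ⁻¹' (U ∩ W)) := by
      rw [Topology.IsEmbedding.subtypeVal.isCompact_iff, Subtype.image_preimage_coe]
      exact hE hUW (hU.inter hWo)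
    have h2 : IsCompact ((Subtype.val : E → X) ⁻¹' O ∩ Subtype.val ⁻¹' (U ∩ W)) :=
      hG h1 ((hU.inter hWo).preimage continuous_subtype_val)
    have h3 : IsCompact (E ∩ (O ∩ (U ∩ W))) := by
      have := h2.image continuous_subtype_val
      rwa [← Set.preimage_inter, Subtype.image_preimage_coe] at this
    have h4 : IsCompact (E ∩ (O ∩ (U ∩ W)) ∩ Vᶜ) := h3.inter_right hV.isClosed_compl
    have h5 : ((O ∩ U) ∪ V) ∩ W = (E ∩ (O ∩ (U ∩ W)) ∩ Vᶜ) ∪ (V ∩ W) := by
      ext z
      simp only [mem_inter_iff, mem_union, mem_compl_iff]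
      constructor
      · rintro ⟨(⟨hzO, hzU⟩ | hzV), hzW⟩
        · by_cases hzV : z ∈ V
          · exact Or.inr ⟨hzV, hzW⟩
          · exact Or.inl ⟨⟨hUV ⟨hzU, hzV⟩, hzO, hzU, hzW⟩, hzV⟩
        · exact Or.inr ⟨hzV, hzW⟩
      · rintro (⟨⟨-, hzO, hzU, hzW⟩, -⟩ | ⟨hzV, hzW⟩)
        · exact ⟨Or.inl ⟨hzO, hzU⟩, hzW⟩
        · exact ⟨Or.inr hzV, hzW⟩
    rw [h5]
    exact h4.union (hVr hWc hWo)
  have : (O ∩ U) \ V = ((O ∩ U) ∪ V) \ V := by
    ext z; simp only [mem_sdiff, mem_inter_iff, mem_union]; tauto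
  rw [this]
  exact (hO'r.isConstructible hO').sdiff (hVr.isConstructible hV)

/-- A constructible subset of a constructible subspace is constructible. -/
theorem isConstructible_image_val [PrespectralSpace X]
    (E : Set X) (hE : IsConstructible E) (F : Set E) (hF : IsConstructible F) :
    IsConstructible ((Subtype.val : E → X) '' F) := by
  have hEr := isRetrocompact_of_isConstructible hE
  obtain ⟨t, ht, hEt⟩ := exists_finset_sdiff_of_isConstructible hE
  induction hF using IsConstructible.empty_union_induction with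
  | open_retrocompact G hGo hGr =>
    obtain ⟨O, hO, rfl⟩ := isOpen_induced_iff.mp hGo
    have : (Subtype.val : E → X) '' (Subtype.val ⁻¹' O) = ⋃ x ∈ t, (O ∩ x.1) \ x.2 := by
      rw [Subtype.image_preimage_coe]
      ext z
      simp only [mem_inter_iff, mem_iUnion, mem_sdiff, exists_prop]
      constructor
      · rintro ⟨hzE, hzO⟩
        rw [hEt] at hzE
        simp only [mem_iUnion, mem_sdiff, exists_prop] at hzE
        obtain ⟨x, hx, hz1, hz2⟩ := hzE
        exact ⟨x, hx, ⟨hzO, hz1⟩, hz2⟩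
      · rintro ⟨x, hx, ⟨hzO, hz1⟩, hz2⟩
        refine ⟨?_, hzO⟩
        rw [hEt]
        simp only [mem_iUnion, mem_sdiff, exists_prop]
        exact ⟨x, hx, hz1, hz2⟩
    rw [this]
    refine IsConstructible.biUnion (Finset.finite_toSet t) fun x hx => ?_
    obtain ⟨⟨hU, hUr⟩, ⟨hV, hVr⟩⟩ := ht x hx
    refine isConstructible_inter_sdiff E hEr O hO hGr x.1 x.2 hU hUr hV hVr ?_
    rw [hEt]
    intro z hz
    simp only [mem_iUnion, exists_prop]
    exact ⟨x, hx, hz⟩
  | union s hs t' ht' hs' ht'' => rw [image_union]; exact hs'.union ht''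
  | compl s hs hs' =>
    have : (Subtype.val : E → X) '' sᶜ = E \ Subtype.val '' s := by
      ext z
      simp only [mem_image, mem_compl_iff, mem_sdiff, Subtype.exists, exists_and_right,
        exists_eq_right, not_exists]
      constructor
      · rintro ⟨hz, hzs⟩
        exact ⟨hz, fun h => hzs⟩
      · rintro ⟨hz, hzs⟩
        exact ⟨hz, hzs hz⟩
    rw [this]
    exact hE.sdiff hs'

end Groth.Agent.Lib.helper11
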