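import Mathlib

set_option autoImplicit false
universe u
open CategoryTheory CategoryTheory.Limits AlgebraicGeometry

namespace Groth.Agent.Lib.helper11.LimPB

attribute [local instance] IsCofiltered.isConnected

section

variable {J : Type u} [SmallCategory J] [IsCofiltered J] (E : J ⥤ Scheme.{u}) {T : Scheme.{u}}
  (τ : ∀ j, E.obj j ⟶ T) (hτ : ∀ {j k : J} (φ : j ⟶ k), E.map φ ≫ τ k = τ j)
  (cE : Cone E) (hcE : IsLimit cE) (p : cE.pt ⟶ T)
  (hp : ∀ j, cE.π.app j ≫ τ j = p) {X₀ : Scheme.{u}} (f₀ : X₀ ⟶ T)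

/-- The natural transformation to the constant functor. -/
def sNat : E ⟶ (Functor.const J).obj T where
  app j := τ j
  naturality := by
    intro j k φ
    show E.map φ ≫ τ k = τ j ≫ 𝟙 _
    rw [hτ, Category.comp_id]

/-- The diagram `j ↦ E_j ×_T X₀`. -/
noncomputable def XS : J ⥤ Scheme.{u} :=
  Over.lift E (sNat E τ hτ) ⋙ Over.pullback f₀ ⋙ Over.forget _

/-- The cone with point `E_∞ ×_T X₀`. -/
noncomputable def cX : Cone (XS E τ hτ f₀) :=
  (Over.pullback f₀ ⋙ Over.forget _).mapCone (Over.liftCone E (sNat E τ hτ) cE p hp)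

/-- It is a limit cone. -/
noncomputable def hcX : IsLimit (cX E τ hτ cE p hp f₀) :=
  isLimitOfPreserves (Over.pullback f₀ ⋙ Over.forget _)
    (Over.isLimitLiftCone E (sNat E τ hτ) cE p hp hcE)

lemma XS_obj (j : J) : (XS E τ hτ f₀).obj j = pullback (τ j) f₀ := rfl

lemma cX_pt : (cX E τ hτ cE p hp f₀).pt = pullback p f₀ := rfl

lemma π_fst (j : J) : (cX E τ hτ cE p hp f₀).π.app j ≫ pullback.fst (τ j) f₀ =
    pullback.fst p f₀ ≫ cE.π.app j := pullback.lift_fst _ _ _

lemma π_snd (j : J) : (cX E τ hτ cE p hp f₀).π.app j ≫ pullback.snd (τ j) f₀ =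
    pullback.snd p f₀ := pullback.lift_snd _ _ _

lemma map_fst {j k : J} (φ : j ⟶ k) : (XS E τ hτ f₀).map φ ≫ pullback.fst (τ k) f₀ =
    pullback.fst (τ j) f₀ ≫ E.map φ := pullback.lift_fst _ _ _

lemma map_snd {j k : J} (φ : j ⟶ k) : (XS E τ hτ f₀).map φ ≫ pullback.snd (τ k) f₀ =
    pullback.snd (τ j) f₀ := pullback.lift_snd _ _ _

/-- general pasting: the comparison of pullbacks along `h` is a base change of `h`. -/
lemma isPullback_aux {A A' B C : Scheme.{u}} (g : A ⟶ B) (g' : A' ⟶ B) (h : A ⟶ A') (x : C ⟶ B)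
    (hh : h ≫ g' = g) (l : pullback g x ⟶ pullback g' x)
    (hl1 : l ≫ pullback.fst g' x = pullback.fst g x ≫ h)
    (hl2 : l ≫ pullback.snd g' x = pullback.snd g x) :
    IsPullback l (pullback.fst g x) (pullback.fst g' x) h := by
  subst hh
  refine IsPullback.of_right (h₁₂ := pullback.snd g' x) (v₁₃ := x) (h₂₂ := g') ?_
    hl1 (IsPullback.of_hasPullback g' x).flip
  rw [hl2]
  exact (IsPullback.of_hasPullback (h ≫ g') x).flip

lemma isPullback_map {j k : J} (φ : j ⟶ k) :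
    IsPullback ((XS E τ hτ f₀).map φ) (pullback.fst (τ j) f₀) (pullback.fst (τ k) f₀)
      (E.map φ) :=
  isPullback_aux (τ j) (τ k) (E.map φ) f₀ (hτ φ) _ (map_fst E τ hτ f₀ φ)
    (map_snd E τ hτ f₀ φ)

lemma isPullback_π (j : J) :
    IsPullback ((cX E τ hτ cE p hp f₀).π.app j) (pullback.fst p f₀) (pullback.fst (τ j) f₀)
      (cE.π.app j) :=
  isPullback_aux p (τ j) (cE.π.app j) f₀ (hp j) _ (π_fst E τ hτ cE p hp f₀ j)
    (π_snd E τ hτ cE p hp f₀ j)

lemma isAffineHom_map [∀ (i j : J) (f : i ⟶ j), IsAffineHom (E.map f)] {j k : J} (φ : j ⟶ k) :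
    IsAffineHom ((XS E τ hτ f₀).map φ) :=
  MorphismProperty.of_isPullback (isPullback_map E τ hτ f₀ φ).flip inferInstance

lemma compactSpace_obj [QuasiCompact f₀] (j : J) [CompactSpace (E.obj j)] :
    CompactSpace ((XS E τ hτ f₀).obj j) := by
  have h : CompactSpace ↥(pullback (τ j) f₀) :=
    QuasiCompact.compactSpace_of_compactSpace (pullback.fst (τ j) f₀)
  exact h

lemma quasiSeparatedSpace_obj [QuasiSeparated f₀] (j : J) [QuasiSeparatedSpace (E.obj j)] :
    QuasiSeparatedSpace ((XS E τ hτ f₀).obj j) := by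
  have h : QuasiSeparatedSpace ↥(pullback (τ j) f₀) :=
    quasiSeparatedSpace_of_quasiSeparated (pullback.fst (τ j) f₀)
  exact h

end

end Groth.Agent.Lib.helper11.LimPB
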