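import Mathlib
import Groth.Agent.Lib.helper11.LimPB

set_option autoImplicit false
universe u
open CategoryTheory CategoryTheory.Limits AlgebraicGeometry Topology TopologicalSpace

namespace Groth.Agent.Lib.helper11.LimOpenMap

/-- In a pullback square, `snd '' (fst ⁻¹' V) = g ⁻¹' (f '' V)`. -/
lemma image_preimage_of_isPullback {P X Y Z : Scheme.{u}} {fst : P ⟶ X} {snd : P ⟶ Y}
    {f : X ⟶ Z} {g : Y ⟶ Z} (h : IsPullback fst snd f g) (V : Set X) :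
    snd '' (fst ⁻¹' V) = g ⁻¹' (f '' V) := by
  apply Set.Subset.antisymm
  · rintro _ ⟨x, hx, rfl⟩
    refine ⟨fst x, hx, ?_⟩
    rw [← Scheme.Hom.comp_apply, ← Scheme.Hom.comp_apply, h.w]
  · rintro y ⟨v, hv, hvy⟩
    obtain ⟨t, ht1, ht2⟩ := Scheme.Pullback.exists_preimage_pullback (f := f) (g := g) v y hvy
    refine ⟨h.isoPullback.inv t, ?_, ?_⟩
    · show fst (h.isoPullback.inv t) ∈ V
      rw [← Scheme.Hom.comp_apply, h.isoPullback_inv_fst, ht1]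
      exact hv
    · rw [← Scheme.Hom.comp_apply, h.isoPullback_inv_snd, ht2]

section

variable {J : Type u} [SmallCategory J] [IsCofiltered J] (E : J ⥤ Scheme.{u}) {T : Scheme.{u}}
  (τ : ∀ j, E.obj j ⟶ T) (hτ : ∀ {j k : J} (φ : j ⟶ k), E.map φ ≫ τ k = τ j)
  (cE : Cone E) (hcE : IsLimit cE) (p : cE.pt ⟶ T)
  (hp : ∀ j, cE.π.app j ≫ τ j = p) {X₀ : Scheme.{u}} (f₀ : X₀ ⟶ T)

include hcE hτ hp in
/-- Core: if all stage maps `X₀ ×_T E_j → E_j` are open, then so is `X₀ ×_T E_∞ → E_∞`. -/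
theorem isOpenMap_fst_of_stages [∀ (i j : J) (f : i ⟶ j), IsAffineHom (E.map f)]
    (H : ∀ j, IsOpenMap (pullback.fst (τ j) f₀)) : IsOpenMap (pullback.fst p f₀) := by
  have hA : ∀ {i j : J} (φ : i ⟶ j), IsAffineHom ((LimPB.XS E τ hτ f₀).map φ) :=
    fun φ => LimPB.isAffineHom_map E τ hτ f₀ φ
  have hB := isBasis_preimage_isAffineOpen (LimPB.XS E τ hτ f₀) (LimPB.cX E τ hτ cE p hp f₀)
    (LimPB.hcX E τ hτ cE hcE p hp f₀)
  have hB' : IsTopologicalBasis _ := hB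
  refine hB'.isOpenMap_iff.mpr ?_
  rintro _ ⟨_, ⟨j, V, -, rfl⟩, rfl⟩
  have hsq := LimPB.isPullback_π E τ hτ cE p hp f₀ j
  let V' : Set ↥(pullback (τ j) f₀) := (V : Set ↥((LimPB.XS E τ hτ f₀).obj j))
  have hV' : IsOpen V' := V.isOpen
  have := image_preimage_of_isPullback hsq V'
  have ho : IsOpen ((cE.π.app j) ⁻¹' ((pullback.fst (τ j) f₀) '' V')) :=
    (H j _ hV').preimage (cE.π.app j).continuous
  exact (congrArg IsOpen this).mpr ho

end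

theorem isOpenMap_of_stages {I : Type u} [SmallCategory I] [IsCofiltered I]
    (D : I ⥤ Scheme.{u}) (c : Cone D) (hc : IsLimit c)
    [∀ (i j : I) (f : i ⟶ j), IsAffineHom (D.map f)] (i₀ : I)
    {X₀ Y₀ : Scheme.{u}} (f₀ : X₀ ⟶ Y₀) (g₀ : Y₀ ⟶ D.obj i₀)
    {X Y : Scheme.{u}} (f : X ⟶ Y) (g : Y ⟶ c.pt) (qY : Y ⟶ Y₀) (qX : X ⟶ X₀)
    (hY : IsPullback qY g g₀ (c.π.app i₀)) (hX : IsPullback qX f f₀ qY)
    (h : ∃ (i : I) (φ : i ⟶ i₀), ∀ (j : I) (ψ : j ⟶ i) (Xj Yj : Scheme.{u}) (fj : Xj ⟶ Yj)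
      (gj : Yj ⟶ D.obj j) (pY : Yj ⟶ Y₀) (pX : Xj ⟶ X₀),
      IsPullback pY gj g₀ (D.map (ψ ≫ φ)) → IsPullback pX fj f₀ pY → IsOpenMap ⇑fj) :
    IsOpenMap ⇑f := by
  obtain ⟨i, φ, H⟩ := h
  let E : Over i ⥤ Scheme.{u} := Over.forget i ⋙ D
  let cE : Cone E := c.whisker (Over.forget i)
  have hcE : IsLimit cE := (Functor.Initial.isLimitWhiskerEquiv (Over.forget i) c).symm hc
  let τ : ∀ j : Over i, E.obj j ⟶ D.obj i₀ := fun j => D.map (j.hom ≫ φ)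
  have hτ : ∀ {j k : Over i} (ψ : j ⟶ k), E.map ψ ≫ τ k = τ j := by
    intro j k ψ
    show D.map ψ.left ≫ D.map (k.hom ≫ φ) = D.map (j.hom ≫ φ)
    rw [← D.map_comp, ← Category.assoc, Over.w]
  let p : cE.pt ⟶ D.obj i₀ := c.π.app i₀
  have hp : ∀ j, cE.π.app j ≫ τ j = p := fun j => c.w (j.hom ≫ φ)
  have hAE : ∀ (j k : Over i) (ψ : j ⟶ k), IsAffineHom (E.map ψ) :=
    fun j k ψ => inferInstanceAs (IsAffineHom (D.map ψ.left))
  -- Y-system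
  let YS := LimPB.XS E τ hτ g₀
  let cY := LimPB.cX E τ hτ cE p hp g₀
  have hcY := LimPB.hcX E τ hτ cE hcE p hp g₀
  have hAY : ∀ (j k : Over i) (ψ : j ⟶ k), IsAffineHom (YS.map ψ) :=
    fun j k ψ => LimPB.isAffineHom_map E τ hτ g₀ ψ
  let τ' : ∀ j, YS.obj j ⟶ Y₀ := fun j => pullback.snd (τ j) g₀
  have hτ' : ∀ {j k : Over i} (ψ : j ⟶ k), YS.map ψ ≫ τ' k = τ' j :=
    fun ψ => LimPB.map_snd E τ hτ g₀ ψ
  let p' : cY.pt ⟶ Y₀ := pullback.snd p g₀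
  have hp' : ∀ j, cY.π.app j ≫ τ' j = p' := fun j => LimPB.π_snd E τ hτ cE p hp g₀ j
  have key : IsOpenMap (pullback.fst p' f₀) :=
    isOpenMap_fst_of_stages YS τ' hτ' cY hcY p' hp' f₀
      (fun j => H j.left j.hom _ _ (pullback.fst (τ' j) f₀) (pullback.fst (τ j) g₀)
        (pullback.snd (τ j) g₀) (pullback.snd (τ' j) f₀)
        (IsPullback.of_hasPullback (τ j) g₀).flip (IsPullback.of_hasPullback (τ' j) f₀).flip)
  -- transport
  let eY : Y ≅ cY.pt := hY.flip.isoPullback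
  have heY2 : eY.hom ≫ pullback.snd p g₀ = qY := hY.flip.isoPullback_hom_snd
  have hX' : IsPullback (f ≫ eY.hom) qX p' f₀ := by
    refine IsPullback.of_iso hX.flip (Iso.refl _) eY (Iso.refl _) (Iso.refl _) ?_ ?_ ?_ ?_
    · simp
    · simp
    · simp [heY2, p']
    · simp
  let eX : X ≅ pullback p' f₀ := hX'.isoPullback
  have heX : eX.hom ≫ pullback.fst p' f₀ = f ≫ eY.hom := hX'.isoPullback_hom_fst
  have hf : f = eX.hom ≫ pullback.fst p' f₀ ≫ eY.inv := by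
    rw [← Category.assoc, heX]
    simp
  rw [hf]
  have h1 : IsOpenMap eX.hom := eX.hom.isOpenEmbedding.isOpenMap
  have h3 : IsOpenMap eY.inv := eY.inv.isOpenEmbedding.isOpenMap
  have := (h3.comp key).comp h1
  convert this using 1
  funext x
  simp

end Groth.Agent.Lib.helper11.LimOpenMap
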