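import Mathlib
import Groth.Agent.Lib.helper4.QcClosure
import Groth.Agent.Lib.helper11.LimOpenMap

/-!
# Dominance of the base change of a quasi-compact morphism along a flat morphism — helper11 library
-/

set_option autoImplicit false
universe u
open CategoryTheory CategoryTheory.Limits AlgebraicGeometry Topology TopologicalSpace

namespace Groth.Agent.Lib.helper11.DomFlat

/-- EGA IV 2.3.10: for `u` flat and `f₀` quasi-compact, the base change `f'` of `f₀` along `u` is
dominant iff `u` maps into the closure of the image of `f₀`. -/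
theorem isDominant_iff_of_flat {X₀ Y₀ X' Y' : Scheme.{u}} (f₀ : X₀ ⟶ Y₀) [QuasiCompact f₀]
    (v : Y' ⟶ Y₀) [Flat v] (f' : X' ⟶ Y') (pX : X' ⟶ X₀) (h : IsPullback pX f' f₀ v) :
    IsDominant f' ↔ ∀ y' : Y', v y' ∈ closure (Set.range f₀) := by
  have hrange : Set.range f' = v ⁻¹' (Set.range f₀) := by
    have := Groth.Agent.Lib.helper11.LimOpenMap.image_preimage_of_isPullback h Set.univ
    rwa [Set.preimage_univ, Set.image_univ, Set.image_univ] at this
  constructor
  · intro hd y'
    have hcl : IsClosed (v ⁻¹' closure (Set.range f₀)) := isClosed_closure.preimage v.continuous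
    have hsub : Set.range f' ⊆ v ⁻¹' closure (Set.range f₀) := by
      rw [hrange]; exact Set.preimage_mono subset_closure
    have h1 : closure (Set.range f') ⊆ v ⁻¹' closure (Set.range f₀) :=
      closure_minimal hsub hcl
    have h2 : closure (Set.range f') = Set.univ := hd.denseRange.closure_range
    rw [h2] at h1
    exact h1 (Set.mem_univ y')
  · intro hall
    refine ⟨fun y' => ?_⟩
    obtain ⟨x₀, hx₀⟩ := Groth.Agent.H4Qc.exists_specializes_of_mem_closure_range f₀ (v y') (hall y')
    obtain ⟨y'', hy'', hvy''⟩ := (Flat.generalizingMap v) hx₀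
    have hmem : y'' ∈ Set.range f' := by
      rw [hrange]; exact ⟨x₀, hvy''.symm⟩
    exact hy''.mem_closed isClosed_closure (subset_closure hmem)

end Groth.Agent.Lib.helper11.DomFlat
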