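import Mathlib
import Groth.Agent.Lib.helper11.LfpOfComp

set_option autoImplicit false
universe u
open CategoryTheory CategoryTheory.Limits AlgebraicGeometry Topology

namespace Groth.Agent.Lib.helper11.FibreConstr

lemma isLocallyConstructible_compl {X : Type*} [TopologicalSpace X] {s : Set X}
    (hs : IsLocallyConstructible s) : IsLocallyConstructible sᶜ := by
  intro x
  obtain ⟨U, hxU, hU, hsU⟩ := hs x
  exact ⟨U, hxU, hU, by simpa [Set.preimage_compl] using hsU.compl⟩

lemma range_snd_of_isPullback {P X Y Z : Scheme.{u}} {fst : P ⟶ X} {snd : P ⟶ Y} {f : X ⟶ Z}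
    {g : Y ⟶ Z} (h : IsPullback fst snd f g) : Set.range snd = g ⁻¹' Set.range f := by
  have e : snd = h.isoPullback.hom ≫ pullback.snd f g := (h.isoPullback_hom_snd).symm
  have hsurj : Set.range ⇑h.isoPullback.hom = Set.univ :=
    Set.range_eq_univ.mpr (h.isoPullback.hom.homeomorph.surjective)
  rw [e, Scheme.Hom.comp_base, TopCat.coe_comp, Set.range_comp, hsurj, Set.image_univ,
    Scheme.Pullback.range_snd]

/-- The fibre map `f_s : (f ≫ g)⁻¹(s) ⟶ g⁻¹(s)` (in the form used by the EGA43 statements). -/
noncomputable abbrev fibreMap {X Y S : Scheme.{u}} (f : X ⟶ Y) (g : Y ⟶ S) (s : S) :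
    pullback (f ≫ g) (S.fromSpecResidueField s) ⟶ pullback g (S.fromSpecResidueField s) :=
  pullback.lift (pullback.fst (f ≫ g) (S.fromSpecResidueField s) ≫ f)
    (pullback.snd (f ≫ g) (S.fromSpecResidueField s))
    ((Category.assoc _ _ _).trans pullback.condition)

lemma isPullback_fibreMap {X Y S : Scheme.{u}} (f : X ⟶ Y) (g : Y ⟶ S) (s : S) :
    IsPullback (pullback.fst (f ≫ g) (S.fromSpecResidueField s)) (fibreMap f g s) f
      (pullback.fst g (S.fromSpecResidueField s)) := by
  have hbig : IsPullback (fibreMap f g s ≫ pullback.snd g (S.fromSpecResidueField s))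
      (pullback.fst (f ≫ g) (S.fromSpecResidueField s)) (S.fromSpecResidueField s) (f ≫ g) := by
    rw [pullback.lift_snd]
    exact (IsPullback.of_hasPullback (f ≫ g) (S.fromSpecResidueField s)).flip
  have hright : IsPullback (pullback.snd g (S.fromSpecResidueField s))
      (pullback.fst g (S.fromSpecResidueField s)) (S.fromSpecResidueField s) g :=
    (IsPullback.of_hasPullback g (S.fromSpecResidueField s)).flip
  exact (IsPullback.of_right hbig (pullback.lift_fst _ _ _) hright).flip

lemma surjective_fibreMap_iff {X Y S : Scheme.{u}} (f : X ⟶ Y) (g : Y ⟶ S) (s : S) :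
    Function.Surjective (fibreMap f g s).base ↔ s ∉ g '' (Set.range f)ᶜ := by
  rw [← Set.range_eq_univ, range_snd_of_isPullback (isPullback_fibreMap f g s),
    Set.preimage_eq_univ_iff]
  have hr : Set.range (pullback.fst g (S.fromSpecResidueField s)) = g ⁻¹' {s} :=
    Scheme.Hom.range_fiberι g s
  rw [hr]
  constructor
  · rintro h ⟨y, hy, rfl⟩
    exact hy (h rfl)
  · intro h y hy
    by_contra hy'
    exact h ⟨y, hy', hy⟩

/-- The locus over which the fibre map is surjective is locally constructible. -/
theorem isLocallyConstructible_setOf_surjective {X Y S : Scheme.{u}} (f : X ⟶ Y) (g : Y ⟶ S)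
    [LocallyOfFinitePresentation g] [QuasiCompact g] [QuasiSeparated g]
    [LocallyOfFinitePresentation (f ≫ g)] [QuasiCompact (f ≫ g)] :
    IsLocallyConstructible {s : S | Function.Surjective (fibreMap f g s).base} := by
  have hf1 : LocallyOfFinitePresentation f :=
    Groth.Agent.Lib.helper11.LfpOfComp.lfp_of_comp f g inferInstance inferInstance
  have hf2 : QuasiCompact f := QuasiCompact.of_comp f g
  have h1 : IsLocallyConstructible (Set.range f) := by
    rw [← Set.image_univ]
    exact f.isLocallyConstructible_image .univ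
  have h2 := isLocallyConstructible_compl h1
  have h3 := g.isLocallyConstructible_image h2
  have h4 := isLocallyConstructible_compl h3
  convert h4 using 1
  ext s
  exact surjective_fibreMap_iff f g s

end Groth.Agent.Lib.helper11.FibreConstr
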