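import Mathlib
import Groth.Agent.Lib.helper11.FibreConstr

set_option autoImplicit false
universe u
open CategoryTheory CategoryTheory.Limits AlgebraicGeometry Topology

namespace Groth.Agent.Lib.helper11.FibreConstr

/-- A field-valued point of `X ×_Y X` landing in the diagonal has equal components. -/
lemma fst_eq_snd_of_mem_range_diagonal {X Y : Scheme.{u}} (f : X ⟶ Y) {K : Type u} [Field K]
    (w : Spec (.of K) ⟶ pullback f f)
    (hw : w (IsLocalRing.closedPoint K) ∈ Set.range (pullback.diagonal f)) :
    w ≫ pullback.fst f f = w ≫ pullback.snd f f := by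
  obtain ⟨x, hx⟩ := hw
  obtain ⟨t, ht1, ht2⟩ := Scheme.Pullback.exists_preimage_pullback
    (f := w) (g := pullback.diagonal f) (IsLocalRing.closedPoint K) x hx.symm
  have hsurj : Surjective (pullback.fst w (pullback.diagonal f)) := by
    rw [surjective_iff]
    intro q
    exact ⟨t, ht1.trans (Subsingleton.elim _ _)⟩
  have hci : IsClosedImmersion (pullback.fst w (pullback.diagonal f)) := by
    apply IsClosedImmersion.of_isPreimmersion
    rw [Set.range_eq_univ.mpr hsurj.surj]
    exact isClosed_univ
  have hiso : IsIso (pullback.fst w (pullback.diagonal f)) :=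
    isIso_of_isClosedImmersion_of_surjective _
  have e : w = inv (pullback.fst w (pullback.diagonal f)) ≫
      pullback.snd w (pullback.diagonal f) ≫ pullback.diagonal f := by
    rw [← pullback.condition, IsIso.inv_hom_id_assoc]
  rw [e]
  simp

/-- The structure map `X ×_Y X ⟶ S`. -/
noncomputable abbrev diagStr {X Y S : Scheme.{u}} (f : X ⟶ Y) (g : Y ⟶ S) : pullback f f ⟶ S :=
  pullback.fst f f ≫ f ≫ g

lemma ui_fibreMap_of_not_mem {X Y S : Scheme.{u}} (f : X ⟶ Y) (g : Y ⟶ S) (s : S)
    (hs : s ∉ (diagStr f g) '' (Set.range (pullback.diagonal f))ᶜ) :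
    UniversallyInjective (fibreMap f g s) := by
  refine ((tfae_universallyInjective (fibreMap f g s)).out 0 1).mpr ?_
  intro K _ g₁ g₂ h12
  dsimp only at h12
  -- the two components in X
  set a := pullback.fst (f ≫ g) (S.fromSpecResidueField s) with ha
  set b := pullback.snd (f ≫ g) (S.fromSpecResidueField s) with hb
  have h1 : g₁ ≫ a ≫ f = g₂ ≫ a ≫ f := by
    have := congr($h12 ≫ pullback.fst g (S.fromSpecResidueField s))
    rw [Category.assoc, Category.assoc, pullback.lift_fst] at this
    exact this
  have h2 : g₁ ≫ b = g₂ ≫ b := by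
    have := congr($h12 ≫ pullback.snd g (S.fromSpecResidueField s))
    rw [Category.assoc, Category.assoc, pullback.lift_snd] at this
    exact this
  let w : Spec (.of K) ⟶ pullback f f := pullback.lift (g₁ ≫ a) (g₂ ≫ a) (by simpa using h1)
  have hw1 : w ≫ pullback.fst f f = g₁ ≫ a := pullback.lift_fst _ _ _
  have hw2 : w ≫ pullback.snd f f = g₂ ≫ a := pullback.lift_snd _ _ _
  have hwp : w ≫ diagStr f g = (g₁ ≫ b) ≫ S.fromSpecResidueField s := by
    rw [diagStr, reassoc_of% hw1, Category.assoc, ← pullback.condition]
  have hmem : w (IsLocalRing.closedPoint K) ∈ Set.range (pullback.diagonal f) := by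
    by_contra hcon
    apply hs
    refine ⟨w (IsLocalRing.closedPoint K), hcon, ?_⟩
    have e : (diagStr f g) (w (IsLocalRing.closedPoint K)) =
        (w ≫ diagStr f g) (IsLocalRing.closedPoint K) := by simp
    rw [e, hwp]
    have : ((g₁ ≫ b) ≫ S.fromSpecResidueField s) (IsLocalRing.closedPoint K) ∈
        Set.range (S.fromSpecResidueField s) := ⟨(g₁ ≫ b) (IsLocalRing.closedPoint K), by simp⟩
    rw [Scheme.range_fromSpecResidueField] at this
    exact this
  have hfs := fst_eq_snd_of_mem_range_diagonal f w hmem
  rw [hw1, hw2] at hfs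
  exact pullback.hom_ext hfs h2

lemma not_mem_of_ui_fibreMap {X Y S : Scheme.{u}} (f : X ⟶ Y) (g : Y ⟶ S) (s : S)
    (h : UniversallyInjective (fibreMap f g s)) :
    s ∉ (diagStr f g) '' (Set.range (pullback.diagonal f))ᶜ := by
  rintro ⟨w₀, hw₀, rfl⟩
  apply hw₀
  replace h := ((tfae_universallyInjective (fibreMap f g (diagStr f g w₀))).out 0 1).mp h
  set s := diagStr f g w₀ with hs
  let φ := (pullback f f).fromSpecResidueField w₀
  let σ' : Spec ((pullback f f).residueField w₀) ⟶ Spec (S.residueField s) :=
    Spec.map ((diagStr f g).residueFieldMap w₀)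
  have hσ' : σ' ≫ S.fromSpecResidueField s = φ ≫ diagStr f g :=
    Scheme.Hom.SpecMap_residueFieldMap_fromSpecResidueField _ _
  let y₁ : Spec ((pullback f f).residueField w₀) ⟶ pullback (f ≫ g) (S.fromSpecResidueField s) :=
    pullback.lift (φ ≫ pullback.fst f f) σ' (by rw [hσ']; simp [diagStr])
  let y₂ : Spec ((pullback f f).residueField w₀) ⟶ pullback (f ≫ g) (S.fromSpecResidueField s) :=
    pullback.lift (φ ≫ pullback.snd f f) σ'
      (by rw [hσ']; simp only [diagStr, Category.assoc]; rw [pullback.condition_assoc])
  have h12 : y₁ ≫ fibreMap f g s = y₂ ≫ fibreMap f g s := by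
    apply pullback.hom_ext
    · rw [Category.assoc, Category.assoc, pullback.lift_fst, pullback.lift_fst_assoc,
        pullback.lift_fst_assoc, Category.assoc, Category.assoc, pullback.condition]
    · rw [Category.assoc, Category.assoc, pullback.lift_snd, pullback.lift_snd, pullback.lift_snd]
  have hy := h ((pullback f f).residueField w₀) h12
  have hfs : φ ≫ pullback.fst f f = φ ≫ pullback.snd f f := by
    have := congr($hy ≫ pullback.fst (f ≫ g) (S.fromSpecResidueField s))
    rw [pullback.lift_fst, pullback.lift_fst] at this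
    exact this
  have hφ : φ = (φ ≫ pullback.fst f f) ≫ pullback.diagonal f := by
    apply pullback.hom_ext
    · simp
    · simp [hfs]
  have hpt : w₀ = φ (IsLocalRing.closedPoint _) :=
    ((pullback f f).fromSpecResidueField_apply w₀ _).symm
  rw [hpt, hφ]
  exact ⟨(φ ≫ pullback.fst f f) (IsLocalRing.closedPoint _), by simp⟩

lemma ui_fibreMap_iff {X Y S : Scheme.{u}} (f : X ⟶ Y) (g : Y ⟶ S) (s : S) :
    UniversallyInjective (fibreMap f g s) ↔
      s ∉ (diagStr f g) '' (Set.range (pullback.diagonal f))ᶜ :=
  ⟨not_mem_of_ui_fibreMap f g s, ui_fibreMap_of_not_mem f g s⟩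

/-- The locus over which the fibre map is universally injective is locally constructible. -/
theorem isLocallyConstructible_setOf_universallyInjective {X Y S : Scheme.{u}} (f : X ⟶ Y)
    (g : Y ⟶ S) [LocallyOfFinitePresentation g] [QuasiCompact g] [QuasiSeparated g]
    [LocallyOfFinitePresentation (f ≫ g)] [QuasiCompact (f ≫ g)] [QuasiSeparated (f ≫ g)] :
    IsLocallyConstructible {s : S | UniversallyInjective (fibreMap f g s)} := by
  have hf1 : LocallyOfFinitePresentation f :=
    Groth.Agent.Lib.helper11.LfpOfComp.lfp_of_comp f g inferInstance inferInstance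
  have hf2 : QuasiCompact f := QuasiCompact.of_comp f g
  have hf3 : QuasiSeparated f := QuasiSeparated.of_comp f g
  -- the diagonal is lfp and quasi-compact
  have hfst : LocallyOfFinitePresentation (pullback.fst f f) := inferInstance
  have hd1 : LocallyOfFinitePresentation (pullback.diagonal f) := by
    apply Groth.Agent.Lib.helper11.LfpOfComp.lfp_of_comp (pullback.diagonal f) (pullback.fst f f)
    · rw [pullback.diagonal_fst]; infer_instance
    · infer_instance
  have hd2 : QuasiCompact (pullback.diagonal f) := inferInstance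
  have hp1 : LocallyOfFinitePresentation (diagStr f g) := by
    unfold diagStr; infer_instance
  have hp2 : QuasiCompact (diagStr f g) := by
    unfold diagStr; infer_instance
  have h1 : IsLocallyConstructible (Set.range (pullback.diagonal f)) := by
    rw [← Set.image_univ]
    exact (pullback.diagonal f).isLocallyConstructible_image .univ
  have h2 := isLocallyConstructible_compl h1
  have h3 := (diagStr f g).isLocallyConstructible_image h2
  have h4 := isLocallyConstructible_compl h3
  convert h4 using 1
  ext s
  exact ui_fibreMap_iff f g s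

end Groth.Agent.Lib.helper11.FibreConstr
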