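import Mathlib
import Groth.Agent.Lib.helper11.LimPB

/-!
# Open neighbourhoods of a fibre in a limit descend to a finite stage
-/

set_option autoImplicit false
universe u
open CategoryTheory CategoryTheory.Limits AlgebraicGeometry Topology TopologicalSpace

namespace Groth.Agent.Lib.helper11.FibreNhd

/-- The fibre of a quasi-compact morphism over a point is a compact subset. -/
lemma isCompact_fibre {X Y : Scheme.{u}} (q : X ⟶ Y) [QuasiCompact q] (y : Y) :
    IsCompact (q ⁻¹' {y}) := by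
  let r := Y.fromSpecResidueField y
  haveI : CompactSpace ↥(pullback r q) :=
    QuasiCompact.compactSpace_of_compactSpace (pullback.fst r q)
  have h : Set.range (pullback.snd r q) = q ⁻¹' {y} := by
    rw [Scheme.Pullback.range_snd, Scheme.range_fromSpecResidueField]
  rw [← h]
  exact isCompact_range (pullback.snd r q).continuous

section

variable {J : Type u} [SmallCategory J] [IsCofiltered J] (E : J ⥤ Scheme.{u}) {T : Scheme.{u}}
  (τ : ∀ j, E.obj j ⟶ T) (hτ : ∀ {j k : J} (φ : j ⟶ k), E.map φ ≫ τ k = τ j)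
  (cE : Cone E) (hcE : IsLimit cE) (p : cE.pt ⟶ T)
  (hp : ∀ j, cE.π.app j ≫ τ j = p) {X₀ : Scheme.{u}} (f₀ : X₀ ⟶ T)

include hcE in
/-- An open neighbourhood of the fibre over `t` in `E_∞ ×_T X₀` contains the preimage of an open
neighbourhood of the fibre over the image of `t` at some finite stage. -/
theorem exists_stage_nhd [∀ (i j : J) (f : i ⟶ j), IsAffineHom (E.map f)] [QuasiCompact f₀]
    (t : cE.pt) (O : Set ↥(pullback p f₀)) (hO : IsOpen O)
    (hF : (pullback.fst p f₀) ⁻¹' {t} ⊆ O) :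
    ∃ (j : J) (W : Set ↥(pullback (τ j) f₀)), IsOpen W ∧
      (pullback.fst (τ j) f₀) ⁻¹' {cE.π.app j t} ⊆ W ∧
      ∀ z : ↥(pullback p f₀), (LimPB.cX E τ hτ cE p hp f₀).π.app j z ∈ W → z ∈ O := by
  have hA : ∀ {i j : J} (φ : i ⟶ j), IsAffineHom ((LimPB.XS E τ hτ f₀).map φ) :=
    fun φ => LimPB.isAffineHom_map E τ hτ f₀ φ
  have hB := isBasis_preimage_isAffineOpen (LimPB.XS E τ hτ f₀) (LimPB.cX E τ hτ cE p hp f₀)
    (LimPB.hcX E τ hτ cE hcE p hp f₀)
  have hB' : IsTopologicalBasis _ := hB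
  let π : ∀ j, ↥(pullback p f₀) → ↥(pullback (τ j) f₀) :=
    fun j => (LimPB.cX E τ hτ cE p hp f₀).π.app j
  let mp : ∀ {j k : J} (φ : j ⟶ k), ↥(pullback (τ j) f₀) → ↥(pullback (τ k) f₀) :=
    fun φ => (LimPB.XS E τ hτ f₀).map φ
  have hπmp : ∀ {j k : J} (φ : j ⟶ k) (z : ↥(pullback p f₀)), mp φ (π j z) = π k z := by
    intro j k φ z
    show ((LimPB.XS E τ hτ f₀).map φ) ((LimPB.cX E τ hτ cE p hp f₀).π.app j z) = _
    rw [← Scheme.Hom.comp_apply, (LimPB.cX E τ hτ cE p hp f₀).w φ]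
  have hmpc : ∀ {j k : J} (φ : j ⟶ k), Continuous (mp φ) :=
    fun φ => ((LimPB.XS E τ hτ f₀).map φ).continuous
  have hcpt : IsCompact ((pullback.fst p f₀) ⁻¹' {t}) := isCompact_fibre _ t
  -- compactness argument
  have key : ∃ (j : J) (W : Set ↥(pullback (τ j) f₀)), IsOpen W ∧
      (pullback.fst p f₀) ⁻¹' {t} ⊆ π j ⁻¹' W ∧ π j ⁻¹' W ⊆ O := by
    refine hcpt.induction_on (p := fun K => ∃ (j : J) (W : Set ↥(pullback (τ j) f₀)), IsOpen W ∧
      K ⊆ π j ⁻¹' W ∧ π j ⁻¹' W ⊆ O) ?_ ?_ ?_ ?_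
    · obtain ⟨j⟩ := IsCofiltered.nonempty (C := J)
      exact ⟨j, ∅, isOpen_empty, by simp, by simp⟩
    · rintro K K' hKK' ⟨j, W, hW, h1, h2⟩
      exact ⟨j, W, hW, hKK'.trans h1, h2⟩
    · rintro K K' ⟨j, W, hW, h1, h2⟩ ⟨j', W', hW', h1', h2'⟩
      refine ⟨IsCofiltered.min j j', mp (IsCofiltered.minToLeft j j') ⁻¹' W ∪
        mp (IsCofiltered.minToRight j j') ⁻¹' W',
        (hW.preimage (hmpc _)).union (hW'.preimage (hmpc _)), ?_, ?_⟩
      · rintro z (hz | hz)
        · left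
          show mp _ (π _ z) ∈ W
          rw [hπmp]
          exact h1 hz
        · right
          show mp _ (π _ z) ∈ W'
          rw [hπmp]
          exact h1' hz
      · rintro z (hz | hz)
        · have : mp (IsCofiltered.minToLeft j j') (π _ z) ∈ W := hz
          rw [hπmp] at this
          exact h2 this
        · have : mp (IsCofiltered.minToRight j j') (π _ z) ∈ W' := hz
          rw [hπmp] at this
          exact h2' this
    · intro z hz
      obtain ⟨_, ⟨_, ⟨j, V, -, rfl⟩, rfl⟩, hzV, hVO⟩ :=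
        hB'.exists_subset_of_mem_open (hF hz) hO
      let W : Set ↥(pullback (τ j) f₀) := (V : Set ↥((LimPB.XS E τ hτ f₀).obj j))
      have hW : IsOpen W := V.isOpen
      refine ⟨π j ⁻¹' W, mem_nhdsWithin_of_mem_nhds (IsOpen.mem_nhds ?_ hzV), j, W, hW,
        fun z hz => hz, fun z hz => hVO hz⟩
      exact hW.preimage ((LimPB.cX E τ hτ cE p hp f₀).π.app j).continuous
  obtain ⟨j, W, hW, h1, h2⟩ := key
  refine ⟨j, W, hW, ?_, fun z hz => h2 hz⟩
  intro z' hz'
  have hz'' : pullback.fst (τ j) f₀ z' = cE.π.app j t := hz'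
  have hsq := LimPB.isPullback_π E τ hτ cE p hp f₀ j
  obtain ⟨w, hw1, hw2⟩ := Scheme.Pullback.exists_preimage_pullback (f := pullback.fst (τ j) f₀)
    (g := cE.π.app j) z' t hz''
  let z : ↥(pullback p f₀) := hsq.isoPullback.inv w
  have hz1 : π j z = z' := by
    show (hsq.isoPullback.inv ≫ (LimPB.cX E τ hτ cE p hp f₀).π.app j) w = z'
    rw [hsq.isoPullback_inv_fst]
    exact hw1
  have hz2 : pullback.fst p f₀ z = t := by
    show (hsq.isoPullback.inv ≫ pullback.fst p f₀) w = t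
    rw [hsq.isoPullback_inv_snd]
    exact hw2
  have := h1 (show z ∈ (pullback.fst p f₀) ⁻¹' {t} from hz2)
  rw [Set.mem_preimage, hz1] at this
  exact this

end

end Groth.Agent.Lib.helper11.FibreNhd
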