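import Groth.Prelude.Def_Frob
import Groth.Agent.Lib.helper11.AWNSch2
import Mathlib.AlgebraicGeometry.Morphisms.Integral
import Mathlib.AlgebraicGeometry.ResidueField
import Mathlib.RingTheory.RingHom.PurelyInseparable

/-! The absolute and relative Frobenius are universal homeomorphisms. -/

set_option autoImplicit false
universe u
open CategoryTheory CategoryTheory.Limits AlgebraicGeometry MorphismProperty Opposite

namespace Groth.Agent.Lib.helper11.FrobUH

open Groth.Agent.Lib.helper11.UnivHomeo Groth.Agent.Lib.helper11.AWNSch FrobSch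

variable (p : ℕ) [Fact p.Prime] (X : Scheme.{u}) [FrobSch.IsCharP X p]

theorem residueFieldMap_frob (x : X) (c : X.residueField x) :
    ((frob X p).residueFieldMap x).hom c = c ^ p := by
  obtain ⟨t, rfl⟩ := X.residue_surjective x c
  obtain ⟨U, hxU, s, rfl⟩ := X.presheaf.exists_germ_eq (x := x) t
  have h1 := congrArg (fun g : X.presheaf.stalk x ⟶ X.residueField x => g.hom (X.presheaf.germ U x hxU s))
    (Scheme.residue_residueFieldMap (frob X p) x)
  refine h1.trans ?_
  have h2 : (frob X p).stalkMap x (X.presheaf.germ U x hxU s) =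
      X.presheaf.germ U x hxU (s ^ p) :=
    Scheme.Hom.germ_stalkMap_apply (frob X p) U x hxU s
  show X.residue x ((frob X p).stalkMap x (X.presheaf.germ U x hxU s)) = _
  rw [h2, map_pow, map_pow]

theorem frob_residue_pi (x : X) : ((frob X p).residueFieldMap x).hom.IsPurelyInseparable := by
  have hp : p.Prime := Fact.out
  have h0 : (p : X.residueField x) = 0 := by
    have := FrobSch.natCast_eq_zero_app X p ⊤
    have h := congrArg (X.evaluation ⊤ x trivial).hom this
    simpa using h
  haveI : CharP (X.residueField x) p := (CharP.charP_iff_prime_eq_zero hp).mpr h0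
  haveI : ExpChar (X.residueField x) p := ExpChar.prime hp
  letI : Algebra (X.residueField x) (X.residueField x) :=
    ((frob X p).residueFieldMap x).hom.toAlgebra
  show IsPurelyInseparable (X.residueField x) (X.residueField x)
  rw [isPurelyInseparable_iff_pow_mem _ p]
  intro c
  exact ⟨1, c, by rw [pow_one]; exact residueFieldMap_frob p X x c⟩

instance : IsAffineHom (frob X p) := ⟨fun U hU => hU⟩

theorem isIntegral_of_pow {A B : Type u} [CommRing A] [CommRing B] (ψ : A →+* B) (n : ℕ)
    (hn : n ≠ 0) (h : ∀ b : B, ∃ a, ψ a = b ^ n) : ψ.IsIntegral := by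
  intro b
  obtain ⟨a, ha⟩ := h b
  refine ⟨Polynomial.X ^ n - Polynomial.C a, Polynomial.monic_X_pow_sub_C _ hn, ?_⟩
  rw [Polynomial.eval₂_sub, Polynomial.eval₂_pow, Polynomial.eval₂_X, Polynomial.eval₂_C, ha,
    sub_self]

instance : IsIntegralHom (frob X p) where
  isIntegral_app U hU :=
    isIntegral_of_pow _ p (Fact.out : p.Prime).ne_zero (fun s => ⟨s, rfl⟩)

theorem frob_univInj : UniversallyInjective (frob X p) := by
  have h := (tfae_universallyInjective (frob X p)).out 0 2
  exact h.mpr ⟨fun x y h => h, fun x => frob_residue_pi p X x⟩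

theorem frob_uh : FlatMor.IsUnivHomeo (frob X p) := by
  rw [isUnivHomeo_iff]
  haveI := frob_univInj p X
  exact ⟨inferInstance, inferInstance, ⟨fun x => ⟨x, rfl⟩⟩⟩

theorem residue_pi_of_uh {X Y : Scheme.{u}} (f : X ⟶ Y) (hf : FlatMor.IsUnivHomeo f) (x : X) :
    (f.residueFieldMap x).hom.IsPurelyInseparable := by
  have h := (tfae_universallyInjective f).out 0 2
  exact (h.mp ((isUnivHomeo_iff f).mp hf).2.1).2 x

theorem isIntegralHom_of_uh {X Y : Scheme.{u}} (f : X ⟶ Y) (hf : FlatMor.IsUnivHomeo f) :
    IsIntegralHom f := by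
  haveI := isAffineHom_of_uh f hf
  haveI := ((isUnivHomeo_iff f).mp hf).1
  exact IsIntegralHom.iff_universallyClosed_and_isAffineHom.mpr ⟨inferInstance, inferInstance⟩

section rel
variable {X S : Scheme.{u}} (f : X ⟶ S) (p : ℕ) [Fact p.Prime] [FrobSch.IsCharP S p]

theorem relFrob_uh : FlatMor.IsUnivHomeo (relFrob f p) := by
  haveI : FrobSch.IsCharP X p := FrobSch.IsCharP.of_hom f p
  have h1 : FlatMor.IsUnivHomeo (pullback.fst f (frob S p)) :=
    isUnivHomeo_baseChange (IsPullback.of_hasPullback f (frob S p)).flip (frob_uh p S)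
  refine isUnivHomeo_of_comp (relFrob f p) (pullback.fst f (frob S p)) h1 ?_
  rw [relFrob_fst]
  exact frob_uh p X

end rel

end Groth.Agent.Lib.helper11.FrobUH
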