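import Groth.Agent.Lib.helper11.NumType4

/-!
Numerical types: pairs of (-2)-indices in a proper sub-configuration.
-/

set_option autoImplicit false

namespace Groth.Agent.Lib.helper11.NumType

open Models Finset

variable {n : ℕ} (T : NumericalType n)

/-- the embedding of a pair of distinct indices -/
def pairEmb {k : ℕ} (p q : Fin k) (h : p ≠ q) : Fin 2 ↪ Fin k :=
  ⟨![p, q], by
    intro a b hab
    fin_cases a <;> fin_cases b <;> simp_all⟩

@[simp] theorem pairEmb_zero {k : ℕ} (p q : Fin k) (h : p ≠ q) : pairEmb p q h 0 = p := rfl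
@[simp] theorem pairEmb_one {k : ℕ} (p q : Fin k) (h : p ≠ q) : pairEmb p q h 1 = q := rfl

/-- the embedding of `Fin k` into `Fin (k+1)` skipping `r` -/
def skipEmb {k : ℕ} (r : Fin (k + 1)) : Fin k ↪ Fin (k + 1) := Fin.succAboveEmb r

/-- the possible Cartan integers of a pair of (-2)-indices forming a proper sub-configuration -/
theorem two_pair (hn : 2 < n) (v : Fin 2 ↪ Fin n) (hv : ∀ p, T.IsMinusTwo (v p)) :
    (N T v 0 1 = 0 ∧ N T v 1 0 = 0) ∨ (N T v 0 1 = 1 ∧ N T v 1 0 = 1) ∨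
    (N T v 0 1 = 1 ∧ N T v 1 0 = 2) ∨ (N T v 0 1 = 2 ∧ N T v 1 0 = 1) ∨
    (N T v 0 1 = 1 ∧ N T v 1 0 = 3) ∨ (N T v 0 1 = 3 ∧ N T v 1 0 = 1) := by
  have h01 := N_nonneg T v 0 1 (by decide)
  have h10 := N_nonneg T v 1 0 (by decide)
  by_cases hz : N T v 0 1 = 0
  · exact Or.inl ⟨hz, N_eq_zero_symm T v 0 1 (by decide) hz⟩
  have l_0_1 : 1 ≤ N T v 0 1 := by omega
  have l_1_0 := N_pos_symm T v _ _ l_0_1
  have hB := LB_zero T v
  replace hB := (hB.upd 0 1 1 l_0_1).upd 1 0 1 l_1_0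
  have t01 : N T v 0 1 ≤ 3 := by
    by_contra hcon
    have h4 : 4 ≤ N T v 0 1 := by omega
    exact cert_false T v hn hv (hB.upd 0 1 4 h4) ![2,1] (by decide) (by decide) 0 (by decide)
  have t10 : N T v 1 0 ≤ 3 := by
    by_contra hcon
    have h4 : 4 ≤ N T v 1 0 := by omega
    exact cert_false T v hn hv (hB.upd 1 0 4 h4) ![1,2] (by decide) (by decide) 0 (by decide)
  have pd : ¬ (2 ≤ N T v 0 1 ∧ 2 ≤ N T v 1 0) := by
    rintro ⟨h2a, h2b⟩
    exact cert_false T v hn hv ((hB.upd 0 1 2 h2a).upd 1 0 2 h2b) ![1,1] (by decide) (by decide) 0 (by decide)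
  omega

end Groth.Agent.Lib.helper11.NumType
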