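import Groth.Prelude.Def_Grpd
import Mathlib.Tactic

/-! Composition on `T`-points of a groupoid scheme. -/

set_option autoImplicit false
universe u
open CategoryTheory CategoryTheory.Limits AlgebraicGeometry
open Grpd

namespace Groth.Agent.Lib.helper11.GrpdCmp

section aux
variable {S : Scheme.{u}} (G : Grpd.GroupoidScheme S)

/-- composition on `T`-points -/
noncomputable def cmp {T : Scheme.{u}} (α β : T ⟶ G.R) (h : α ≫ G.s = β ≫ G.t) : T ⟶ G.R :=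
  pullback.lift α β h ≫ G.c

theorem cmp_congr {T : Scheme.{u}} {α α' β β' : T ⟶ G.R} (hα : α = α') (hβ : β = β')
    (h : α ≫ G.s = β ≫ G.t) (h' : α' ≫ G.s = β' ≫ G.t) : cmp G α β h = cmp G α' β' h' := by
  subst hα; subst hβ; rfl

theorem pre_cmp {T T' : Scheme.{u}} (f : T' ⟶ T) (α β : T ⟶ G.R) (h : α ≫ G.s = β ≫ G.t) :
    f ≫ cmp G α β h = cmp G (f ≫ α) (f ≫ β) (by rw [Category.assoc, Category.assoc, h]) := by
  unfold cmp
  rw [← Category.assoc]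
  congr 1
  apply pullback.hom_ext
  · rw [Category.assoc, pullback.lift_fst, pullback.lift_fst]
  · rw [Category.assoc, pullback.lift_snd, pullback.lift_snd]

theorem cmp_s {T : Scheme.{u}} (α β : T ⟶ G.R) (h : α ≫ G.s = β ≫ G.t) :
    cmp G α β h ≫ G.s = β ≫ G.s := G.comp_s α β h

theorem cmp_t {T : Scheme.{u}} (α β : T ⟶ G.R) (h : α ≫ G.s = β ≫ G.t) :
    cmp G α β h ≫ G.t = α ≫ G.t := G.comp_t α β h

theorem cmp_assoc {T : Scheme.{u}} (α β γ : T ⟶ G.R) (h₁ : α ≫ G.s = β ≫ G.t)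
    (h₂ : β ≫ G.s = γ ≫ G.t) :
    cmp G (cmp G α β h₁) γ ((cmp_s G α β h₁).trans h₂) =
      cmp G α (cmp G β γ h₂) (h₁.trans (cmp_t G β γ h₂).symm) := G.assoc α β γ h₁ h₂

theorem i_cmp {T : Scheme.{u}} (α : T ⟶ G.R) (h : (α ≫ G.i) ≫ G.s = α ≫ G.t) :
    cmp G (α ≫ G.i) α h = α ≫ G.s ≫ G.e := G.i_comp α

theorem cmp_i {T : Scheme.{u}} (α : T ⟶ G.R) (h : α ≫ G.s = (α ≫ G.i) ≫ G.t) :
    cmp G α (α ≫ G.i) h = α ≫ G.t ≫ G.e := G.comp_i α

theorem cmp_fst_snd : cmp G (pullback.fst G.s G.t) (pullback.snd G.s G.t) pullback.condition = G.c := by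
  unfold cmp
  rw [pullback.lift_fst_snd, Category.id_comp]

theorem hom_eq_lift {T : Scheme.{u}} (w : T ⟶ pullback G.s G.t) :
    w ≫ G.c = cmp G (w ≫ pullback.fst G.s G.t) (w ≫ pullback.snd G.s G.t)
      (by rw [Category.assoc, Category.assoc, pullback.condition]) := by
  rw [← cmp_fst_snd, pre_cmp]

/-- `a⁻¹ ∘ (a ∘ d) = d`. -/
theorem inv_cmp_cmp {T : Scheme.{u}} (a d : T ⟶ G.R) (h : a ≫ G.s = d ≫ G.t) :
    cmp G (a ≫ G.i) (cmp G a d h)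
      (by rw [Category.assoc, G.i_s, cmp_t]) = d := by
  have h1 : (a ≫ G.i) ≫ G.s = a ≫ G.t := by rw [Category.assoc, G.i_s]
  have := cmp_assoc G (a ≫ G.i) a d h1 h
  rw [← this]
  have h2 : cmp G (a ≫ G.i) a h1 = d ≫ G.t ≫ G.e := by
    rw [i_cmp G a, ← Category.assoc, h, Category.assoc]
  rw [cmp_congr G h2 rfl _ (by rw [Category.assoc, Category.assoc, G.e_s, Category.comp_id])]
  exact G.e_comp d

/-- `a ∘ (a⁻¹ ∘ b) = b`. -/
theorem cmp_inv_cmp {T : Scheme.{u}} (a b : T ⟶ G.R) (h : a ≫ G.t = b ≫ G.t) :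
    cmp G a (cmp G (a ≫ G.i) b (by rw [Category.assoc, G.i_s, h]))
      (by rw [cmp_t, Category.assoc, G.i_t]) = b := by
  have h1 : a ≫ G.s = (a ≫ G.i) ≫ G.t := by rw [Category.assoc, G.i_t]
  have h2 : (a ≫ G.i) ≫ G.s = b ≫ G.t := by rw [Category.assoc, G.i_s, h]
  have := cmp_assoc G a (a ≫ G.i) b h1 h2
  rw [← this]
  have h3 : cmp G a (a ≫ G.i) h1 = b ≫ G.t ≫ G.e := by
    rw [cmp_i G a, ← Category.assoc, h, Category.assoc]
  rw [cmp_congr G h3 rfl _ (by rw [Category.assoc, Category.assoc, G.e_s, Category.comp_id])]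
  exact G.e_comp b

/-- `(x ∘ y⁻¹) ∘ y = x`. -/
theorem cmp_inv_cmp' {T : Scheme.{u}} (x y : T ⟶ G.R) (h : x ≫ G.s = y ≫ G.s) :
    cmp G (cmp G x (y ≫ G.i) (by rw [Category.assoc, G.i_t, h])) y
      (by rw [cmp_s, Category.assoc, G.i_s]) = x := by
  have h1 : x ≫ G.s = (y ≫ G.i) ≫ G.t := by rw [Category.assoc, G.i_t, h]
  have h2 : (y ≫ G.i) ≫ G.s = y ≫ G.t := by rw [Category.assoc, G.i_s]
  rw [cmp_assoc G x (y ≫ G.i) y h1 h2]
  have h3 : cmp G (y ≫ G.i) y h2 = x ≫ G.s ≫ G.e := by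
    rw [i_cmp G y, ← Category.assoc, ← h, Category.assoc]
  rw [cmp_congr G rfl h3 _ (by rw [Category.assoc, Category.assoc, G.e_t, Category.comp_id])]
  exact G.comp_e x

/-- `(a ∘ y) ∘ y⁻¹ = a`. -/
theorem cmp_cmp_inv {T : Scheme.{u}} (a y : T ⟶ G.R) (h : a ≫ G.s = y ≫ G.t) :
    cmp G (cmp G a y h) (y ≫ G.i) (by rw [cmp_s, Category.assoc, G.i_t]) = a := by
  have h2 : y ≫ G.s = (y ≫ G.i) ≫ G.t := by rw [Category.assoc, G.i_t]
  rw [cmp_assoc G a y (y ≫ G.i) h h2]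
  have h3 : cmp G y (y ≫ G.i) h2 = a ≫ G.s ≫ G.e := by
    rw [cmp_i G y, ← Category.assoc, ← h, Category.assoc]
  rw [cmp_congr G rfl h3 _ (by rw [Category.assoc, Category.assoc, G.e_t, Category.comp_id])]
  exact G.comp_e a

end aux

end Groth.Agent.Lib.helper11.GrpdCmp
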