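import Mathlib.LinearAlgebra.TensorProduct.Basis
import Mathlib.RingTheory.TensorProduct.Basic
import Mathlib.RingTheory.TensorProduct.Free
import Mathlib.LinearAlgebra.Basis.Basic
import Mathlib.Tactic

/-! Pure algebra behind "a basis of `B` over `A` of the form `t(x_i)` gives a basis of `A`
over the invariants". -/

set_option autoImplicit false
universe u
open TensorProduct

namespace Groth.Agent.Lib.helper11.GrpdInv

variable {A B : Type u} [CommRing A] [CommRing B]

/-- `B` with the `A`-algebra structure through `t`. -/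
def Tw (_t : A →+* B) : Type u := B

instance (t : A →+* B) : CommRing (Tw t) := inferInstanceAs (CommRing B)
instance (t : A →+* B) : Algebra A (Tw t) := t.toAlgebra

/-- the identity `B → Tw t` -/
def toTw (t : A →+* B) : B →+* Tw t := RingHom.id B

theorem algebraMap_tw (t : A →+* B) (a : A) : algebraMap A (Tw t) a = toTw t (t a) := rfl

theorem key [Algebra A B] (s t : A →+* B) (hs : algebraMap A B = s)
    (γ : B →+* Tw t ⊗[A] B)
    (hγt : ∀ a, γ (t a) = (1 : Tw t) ⊗ₜ[A] t a)
    (hγs : ∀ a, γ (s a) = toTw t (s a) ⊗ₜ[A] (1 : B))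
    {I : Type u} (x : I → A) (b : Module.Basis I A B) (hb : ∀ i, b i = t (x i)) (a : A) (i : I) :
    s (b.repr (t a) i) = t (b.repr (t a) i) := by
  classical
  obtain ⟨β, hβ⟩ : ∃ β, β = b.repr (t a) := ⟨_, rfl⟩
  rw [← hβ]
  have h1 : t a = β.sum fun i c => s c * t (x i) := by
    have := b.linearCombination_repr (t a)
    rw [Finsupp.linearCombination_apply, ← hβ] at this
    rw [← this]
    refine Finsupp.sum_congr fun i _ => ?_
    rw [hb, Algebra.smul_def, hs]
  have h2 : γ (t a) = β.sum fun i c => toTw t (s c) ⊗ₜ[A] t (x i) := by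
    conv_lhs => rw [h1]
    rw [map_finsuppSum]
    refine Finsupp.sum_congr fun i _ => ?_
    rw [map_mul, hγs, hγt, Algebra.TensorProduct.tmul_mul_tmul, mul_one, one_mul]
  have h3 : γ (t a) = β.sum fun i c => toTw t (t c) ⊗ₜ[A] t (x i) := by
    rw [hγt]
    conv_lhs => rw [h1]
    rw [Finsupp.sum, TensorProduct.tmul_sum]
    refine Finset.sum_congr rfl fun i _ => ?_
    rw [← hs, ← Algebra.smul_def, TensorProduct.tmul_smul, TensorProduct.smul_tmul',
      Algebra.smul_def, mul_one, algebraMap_tw]
  let bD : Module.Basis I (Tw t) (Tw t ⊗[A] B) := b.baseChange (Tw t)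
  have hbD : ∀ i, bD i = (1 : Tw t) ⊗ₜ[A] t (x i) := by
    intro i
    rw [Module.Basis.baseChange_apply, hb]
  have h4 : (β.sum fun i c => (toTw t (s c) - toTw t (t c)) • bD i) = 0 := by
    have : (β.sum fun i c => (toTw t (s c) - toTw t (t c)) • bD i) =
        (β.sum fun i c => toTw t (s c) ⊗ₜ[A] t (x i)) -
          (β.sum fun i c => toTw t (t c) ⊗ₜ[A] t (x i)) := by
      rw [← Finsupp.sum_sub]
      refine Finsupp.sum_congr fun i _ => ?_
      rw [hbD, TensorProduct.smul_tmul', smul_eq_mul, mul_one, TensorProduct.sub_tmul]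
    rw [this, ← h2, ← h3, sub_self]
  let zf : A → Tw t := fun c => toTw t (s c) - toTw t (t c)
  have hz0 : zf 0 = 0 := by simp [zf]
  have h5 : Finsupp.linearCombination (Tw t) bD (β.mapRange zf hz0) = 0 := by
    rw [Finsupp.linearCombination_apply, Finsupp.sum_mapRange_index (by intro i; simp)]
    exact h4
  have h6 := linearIndependent_iff.mp bD.linearIndependent _ h5
  have h7 := DFunLike.congr_fun h6 i
  rw [Finsupp.mapRange_apply, Finsupp.zero_apply, sub_eq_zero] at h7
  exact h7

theorem main [Algebra A B] (s t : A →+* B) (hs : algebraMap A B = s)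
    (e : B →+* A) (hes : ∀ a, e (s a) = a) (het : ∀ a, e (t a) = a)
    {I : Type u} (x : I → A) (b : Module.Basis I A B) (hb : ∀ i, b i = t (x i))
    (hkey : ∀ a i, s (b.repr (t a) i) = t (b.repr (t a) i)) :
    (∃ b' : Module.Basis I (RingHom.eqLocus s t) A, ∀ i, b' i = x i) ∧
    ∀ φ : A ⊗[RingHom.eqLocus s t] A →+ B, (∀ a a', φ (a ⊗ₜ a') = t a * s a') →
      Function.Bijective φ := by
  classical
  have hexp : ∀ β : I →₀ A, Finsupp.linearCombination A b β = β.sum fun i c => s c * t (x i) := by
    intro β
    rw [Finsupp.linearCombination_apply]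
    refine Finsupp.sum_congr fun i _ => ?_
    rw [hb, Algebra.smul_def, hs]
  have hspan : ⊤ ≤ Submodule.span (RingHom.eqLocus s t) (Set.range x) := by
    intro a _
    have h1 : t a = (b.repr (t a)).sum fun i c => s c * t (x i) := by
      rw [← hexp, b.linearCombination_repr]
    have h2 : a = (b.repr (t a)).sum fun i c => c * x i := by
      conv_lhs => rw [← het a, h1]
      rw [map_finsuppSum]
      refine Finsupp.sum_congr fun i _ => ?_
      rw [map_mul, hes, het]
    rw [h2]
    refine Submodule.sum_mem _ fun i _ => ?_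
    have : (b.repr (t a) i) * x i =
        (⟨b.repr (t a) i, hkey a i⟩ : RingHom.eqLocus s t) • x i := rfl
    change (b.repr (t a) i) * x i ∈ _
    rw [this]
    exact Submodule.smul_mem _ _ (Submodule.subset_span ⟨i, rfl⟩)
  have hli : LinearIndependent (RingHom.eqLocus s t) x := by
    rw [linearIndependent_iff]
    intro l hl
    have h0 : Finsupp.linearCombination A b (l.mapRange Subtype.val rfl) = 0 := by
      rw [hexp, Finsupp.sum_mapRange_index (by intro i; simp)]
      have h1 : (l.sum fun i c => s c.1 * t (x i)) = t (l.sum fun i c => c.1 * x i) := by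
        rw [map_finsuppSum]
        refine Finsupp.sum_congr fun i _ => ?_
        rw [map_mul, (l i).2]
      rw [h1]
      have h2 : (l.sum fun i c => c.1 * x i) = Finsupp.linearCombination _ x l := by
        rw [Finsupp.linearCombination_apply]
        rfl
      rw [h2, hl, map_zero]
    have h3 := linearIndependent_iff.mp b.linearIndependent _ h0
    ext i
    have := DFunLike.congr_fun h3 i
    rw [Finsupp.mapRange_apply, Finsupp.zero_apply] at this
    rw [Finsupp.zero_apply]
    exact this.trans (ZeroMemClass.coe_zero _).symm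
  let b' : Module.Basis I (RingHom.eqLocus s t) A := Module.Basis.mk hli hspan
  have hb' : ∀ i, b' i = x i := fun i => Module.Basis.mk_apply hli hspan i
  refine ⟨⟨b', hb'⟩, ?_⟩
  intro φ hφ
  let E := TensorProduct.equivFinsuppOfBasisLeft (N := A) b'
  have hcomp : ∀ c : I →₀ A, φ (E.symm c) = b.repr.symm c := by
    intro c
    rw [TensorProduct.equivFinsuppOfBasisLeft_symm_apply, map_finsuppSum,
      Module.Basis.repr_symm_apply, hexp]
    refine Finsupp.sum_congr fun i _ => ?_
    rw [hb', hφ, mul_comm]
  have : (φ : A ⊗[RingHom.eqLocus s t] A → B) = (fun c => b.repr.symm c) ∘ E := by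
    funext z
    have := hcomp (E z)
    rw [LinearEquiv.symm_apply_apply] at this
    exact this
  rw [this]
  exact b.repr.symm.bijective.comp E.bijective

end Groth.Agent.Lib.helper11.GrpdInv
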