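import Mathlib

set_option autoImplicit false
universe u
open CategoryTheory CategoryTheory.Limits AlgebraicGeometry

namespace Groth.Agent.Lib.helper11.LimClosedImm2

/-- Affine case. -/
theorem exists_isClosedImmersion_of_isAffine {J : Type u} [SmallCategory J] [IsCofiltered J]
    (D : J ⥤ Scheme.{u}) [∀ j, IsAffine (D.obj j)]
    [∀ (i j : J) (f : i ⟶ j), IsClosedImmersion (D.map f)]
    (c : Cone D) (hc : IsLimit c) (W : Scheme.{u}) [IsAffine W]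
    (t : D ⟶ (Functor.const J).obj W)
    (j₀ : J) [LocallyOfFiniteType (t.app j₀)] [IsClosedImmersion (c.π.app j₀ ≫ t.app j₀)] :
    ∃ (j : J) (_ : j ⟶ j₀), IsClosedImmersion (t.app j) := by
  classical
  have : IsAffine c.pt := Scheme.isAffine_of_isLimit c hc
  let τ : ∀ j, D.obj j ⟶ W := fun j => t.app j
  have : LocallyOfFiniteType (τ j₀) := ‹LocallyOfFiniteType (t.app j₀)›
  have : IsClosedImmersion (c.π.app j₀ ≫ τ j₀) := ‹IsClosedImmersion (c.π.app j₀ ≫ t.app j₀)›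
  suffices H : ∃ (j : J) (_ : j ⟶ j₀), IsClosedImmersion (τ j) from H
  have hτnat : ∀ {j k : J} (φ : j ⟶ k), D.map φ ≫ τ k = τ j := by
    intro j k φ
    have h1 := t.naturality φ
    simp only [Functor.const_obj_obj, Functor.const_obj_map] at h1
    exact h1.trans (Category.comp_id _)
  clear_value τ
  have hsurj : Function.Surjective (c.π.app j₀ ≫ τ j₀).appTop :=
    (IsClosedImmersion.isAffine_surjective_of_isAffine _).2
  have hft : RingHom.FiniteType (τ j₀).appTop.hom :=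
    (HasRingHomProperty.iff_of_isAffine (P := @LocallyOfFiniteType)).mp inferInstance
  algebraize [(τ j₀).appTop.hom]
  obtain ⟨s, hs⟩ := (Algebra.FiniteType.out : (⊤ : Subalgebra Γ(W, ⊤) Γ(D.obj j₀, ⊤)).FG)
  have hr : ∀ a : Γ(D.obj j₀, ⊤), ∃ r : Γ(W, ⊤),
      (c.π.app j₀).appTop ((τ j₀).appTop r) = (c.π.app j₀).appTop a := by
    intro a
    obtain ⟨r, hr⟩ := hsurj ((c.π.app j₀).appTop a)
    refine ⟨r, ?_⟩
    rw [← hr, Scheme.Hom.comp_appTop]
    rfl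
  choose r hr using hr
  have hnat : ∀ {j k : J} (φ : j ⟶ k) (x : Γ(W, ⊤)),
      (D.map φ).appTop ((τ k).appTop x) = (τ j).appTop x := by
    intro j k φ x
    rw [← hτnat φ, Scheme.Hom.comp_appTop]
    rfl
  have hw : ∀ {j k : J} (φ : j ⟶ k) (x : Γ(D.obj k, ⊤)),
      (c.π.app j).appTop ((D.map φ).appTop x) = (c.π.app k).appTop x := by
    intro j k φ x
    rw [← c.w φ, Scheme.Hom.comp_appTop]
    rfl
  have hmapcomp : ∀ {j k l : J} (φ : j ⟶ k) (ψ : k ⟶ l) (x : Γ(D.obj l, ⊤)),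
      (D.map (φ ≫ ψ)).appTop x = (D.map φ).appTop ((D.map ψ).appTop x) := by
    intro j k l φ ψ x
    rw [D.map_comp, Scheme.Hom.comp_appTop]
    rfl
  have key : ∀ s' : Finset Γ(D.obj j₀, ⊤), ∃ (j : J) (φ : j ⟶ j₀),
      ∀ a ∈ s', (D.map φ).appTop a = (τ j).appTop (r a) := by
    intro s'
    induction s' using Finset.induction_on with
    | empty => exact ⟨j₀, 𝟙 _, by simp⟩
    | insert a s' ha ih =>
      obtain ⟨j, φ, hj⟩ := ih
      obtain ⟨j', ψ, hj'⟩ := exists_appTop_map_eq_zero_of_isAffine_of_isLimit D c hc j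
        ((D.map φ).appTop a - (τ j).appTop (r a)) (by
          rw [map_sub, sub_eq_zero, hw, ← hnat φ, hw, hr])
      rw [map_sub, sub_eq_zero, hnat] at hj'
      refine ⟨j', ψ ≫ φ, ?_⟩
      intro b hb
      rcases Finset.mem_insert.mp hb with rfl | hb
      · rw [hmapcomp, hj']
      · rw [hmapcomp, hj b hb, hnat]
  obtain ⟨j, φ, hj⟩ := key s
  refine ⟨j, φ, ?_⟩
  apply IsClosedImmersion.of_surjective_of_isAffine
  intro x
  obtain ⟨y, rfl⟩ := (IsClosedImmersion.isAffine_surjective_of_isAffine (D.map φ)).2 x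
  have hy : y ∈ Algebra.adjoin Γ(W, ⊤) (s : Set Γ(D.obj j₀, ⊤)) := by rw [hs]; trivial
  induction hy using Algebra.adjoin_induction with
  | mem a ha => exact ⟨r a, (hj a ha).symm⟩
  | algebraMap x => exact ⟨x, (hnat φ x).symm⟩
  | add x y _ _ hx hy =>
    obtain ⟨x', hx'⟩ := hx
    obtain ⟨y', hy'⟩ := hy
    exact ⟨x' + y', by rw [map_add, map_add, hx', hy']⟩
  | mul x y _ _ hx hy =>
    obtain ⟨x', hx'⟩ := hx
    obtain ⟨y', hy'⟩ := hy
    exact ⟨x' * y', by rw [map_mul, map_mul, hx', hy']⟩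

lemma qs_opens {X : Scheme.{u}} [QuasiSeparatedSpace X] (U : X.Opens) :
    QuasiSeparatedSpace ↥(U.toScheme) :=
  quasiSeparatedSpace_of_quasiSeparated U.ι

lemma isClosedImmersion_resLE {X Y : Scheme.{u}} (f : X ⟶ Y) [IsClosedImmersion f] (W : Y.Opens)
    (V : X.Opens) (e : V ≤ f ⁻¹ᵁ W) (e' : f ⁻¹ᵁ W ≤ V) : IsClosedImmersion (f.resLE W V e) := by
  obtain rfl : V = f ⁻¹ᵁ W := le_antisymm e e'
  rw [Scheme.Hom.resLE_eq_morphismRestrict]
  infer_instance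

lemma locallyOfFiniteType_resLE {X Y : Scheme.{u}} (f : X ⟶ Y) [LocallyOfFiniteType f]
    (W : Y.Opens) (V : X.Opens) (e : V ≤ f ⁻¹ᵁ W) : LocallyOfFiniteType (f.resLE W V e) := by
  have : LocallyOfFiniteType (f.resLE W V e ≫ W.ι) := by
    rw [Scheme.Hom.resLE_comp_ι]; infer_instance
  exact locallyOfFiniteType_of_comp _ W.ι

section

variable {I : Type u} [SmallCategory I] [IsCofiltered I] {S : Scheme.{u}} (D : I ⥤ Scheme.{u})
  (τ : ∀ i, D.obj i ⟶ S) (hτ : ∀ {j k : I} (φ : j ⟶ k), D.map φ ≫ τ k = τ j)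
  (c : Cone D) (hc : IsLimit c)

include hτ in
lemma preimage_eq (W : S.Opens) {j k : I} (φ : j ⟶ k) :
    D.map φ ⁻¹ᵁ (τ k ⁻¹ᵁ W) = τ j ⁻¹ᵁ W := by
  rw [← Scheme.Hom.comp_preimage, hτ]

include hτ hc in
theorem exists_isAffineOpen_preimage
    [∀ (i j : I) (f : i ⟶ j), IsClosedImmersion (D.map f)]
    [∀ i, CompactSpace (D.obj i)] [∀ i, QuasiSeparatedSpace (D.obj i)] [QuasiSeparatedSpace S]
    (i₀ : I) [IsClosedImmersion (c.π.app i₀ ≫ τ i₀)]
    (W : S.Opens) (hW : IsAffineOpen W) :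
    ∃ (i₁ : I) (_ : i₁ ⟶ i₀), IsAffineOpen (τ i₁ ⁻¹ᵁ W) := by
  let U₀ := τ i₀ ⁻¹ᵁ W
  have hU₀ : IsCompact (U₀ : Set (D.obj i₀)) :=
    QuasiCompact.isCompact_preimage (f := τ i₀) _ W.isOpen hW.isCompact
  have h1 : ∀ j : Over i₀, CompactSpace ((opensDiagram D i₀ U₀).obj j) := by
    intro j
    exact isCompact_iff_compactSpace.mp
      (QuasiCompact.isCompact_preimage (f := D.map j.hom) _ U₀.isOpen hU₀)
  have h2 : ∀ j : Over i₀, QuasiSeparatedSpace ((opensDiagram D i₀ U₀).obj j) := by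
    intro j
    exact qs_opens (D.map j.hom ⁻¹ᵁ U₀)
  have h3 : IsAffine (opensCone D c i₀ U₀).pt := hW.preimage (c.π.app i₀ ≫ τ i₀)
  obtain ⟨j₁, hj₁⟩ := Scheme.exists_isAffine_of_isLimit (opensDiagram D i₀ U₀)
    (opensCone D c i₀ U₀) (isLimitOpensCone D c hc i₀ U₀)
  refine ⟨j₁.left, j₁.hom, ?_⟩
  have : D.map j₁.hom ⁻¹ᵁ U₀ = τ j₁.left ⁻¹ᵁ W := preimage_eq D τ hτ W j₁.hom
  rw [← this]
  exact hj₁

include hτ hc in
theorem exists_isClosedImmersion_restrict_of_isAffineOpen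
    [∀ (i j : I) (f : i ⟶ j), IsClosedImmersion (D.map f)] [∀ i, LocallyOfFiniteType (τ i)]
    (i₁ : I) [IsClosedImmersion (c.π.app i₁ ≫ τ i₁)]
    (W : S.Opens) (hW : IsAffineOpen W) (hU₁ : IsAffineOpen (τ i₁ ⁻¹ᵁ W)) :
    ∃ (i : I) (_ : i ⟶ i₁), IsClosedImmersion (τ i ∣_ W) := by
  let U₁ := τ i₁ ⁻¹ᵁ W
  let E := opensDiagram D i₁ U₁
  have hE : ∀ j : Over i₁, IsAffine (E.obj j) := fun j => hU₁.preimage (D.map j.hom)
  have hEmap : ∀ (j k : Over i₁) (g : j ⟶ k), IsClosedImmersion (E.map g) := by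
    intro j k g
    exact isClosedImmersion_resLE (D.map g.left) _ _ _
      (by rw [← Scheme.Hom.comp_preimage, ← D.map_comp, Over.w g])
  have hWaff : IsAffine W.toScheme := hW
  have hle : ∀ j : Over i₁, D.map j.hom ⁻¹ᵁ U₁ ≤ τ j.left ⁻¹ᵁ W :=
    fun j => (preimage_eq D τ hτ W j.hom).le
  have hge : ∀ j : Over i₁, τ j.left ⁻¹ᵁ W ≤ D.map j.hom ⁻¹ᵁ U₁ :=
    fun j => (preimage_eq D τ hτ W j.hom).ge
  let t' : E ⟶ (Functor.const (Over i₁)).obj W.toScheme :=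
    { app := fun j => (τ j.left).resLE W (D.map j.hom ⁻¹ᵁ U₁) (hle j)
      naturality := by
        intro j k g
        apply (cancel_mono W.ι).mp
        show ((D.map g.left).resLE _ _ _ ≫ (τ k.left).resLE W (D.map k.hom ⁻¹ᵁ U₁) (hle k)) ≫ W.ι
          = ((τ j.left).resLE W (D.map j.hom ⁻¹ᵁ U₁) (hle j) ≫ 𝟙 _) ≫ W.ι
        rw [Category.comp_id, Category.assoc, Scheme.Hom.resLE_comp_ι,
          Scheme.Hom.resLE_comp_ι_assoc, Scheme.Hom.resLE_comp_ι, hτ] }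
  let j₀ : Over i₁ := Over.mk (𝟙 i₁)
  have hlft : LocallyOfFiniteType (t'.app j₀) :=
    locallyOfFiniteType_resLE (τ i₁) W (D.map (𝟙 i₁) ⁻¹ᵁ U₁) (hle j₀)
  have hcl : IsClosedImmersion ((opensCone D c i₁ U₁).π.app j₀ ≫ t'.app j₀) := by
    have e : (opensCone D c i₁ U₁).π.app j₀ ≫ t'.app j₀ =
        (c.π.app i₁ ≫ τ i₁).resLE W (c.π.app i₁ ⁻¹ᵁ U₁) le_rfl := by
      apply (cancel_mono W.ι).mp
      show ((c.π.app i₁).resLE (D.map (𝟙 i₁) ⁻¹ᵁ U₁) (c.π.app i₁ ⁻¹ᵁ U₁) _ ≫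
        (τ i₁).resLE W (D.map (𝟙 i₁) ⁻¹ᵁ U₁) (hle j₀)) ≫ W.ι = _
      rw [Category.assoc, Scheme.Hom.resLE_comp_ι, Scheme.Hom.resLE_comp_ι_assoc]
      exact (Scheme.Hom.resLE_comp_ι _ _).symm
    rw [e]
    exact isClosedImmersion_resLE _ _ _ _ le_rfl
  obtain ⟨j, _, hj⟩ := @exists_isClosedImmersion_of_isAffine _ _ _ E hE hEmap
    (opensCone D c i₁ U₁) (isLimitOpensCone D c hc i₁ U₁) W.toScheme hWaff t' j₀ hlft hcl
  refine ⟨j.left, j.hom, ?_⟩
  rw [← Scheme.Hom.resLE_eq_morphismRestrict]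
  exact (Scheme.Hom.resLE_congr _ _ rfl (preimage_eq D τ hτ W j.hom) @IsClosedImmersion).mp hj

include hτ hc in
theorem exists_isClosedImmersion
    [∀ (i j : I) (f : i ⟶ j), IsClosedImmersion (D.map f)]
    [∀ i, CompactSpace (D.obj i)] [∀ i, QuasiSeparatedSpace (D.obj i)]
    [CompactSpace S] [QuasiSeparatedSpace S] [∀ i, LocallyOfFiniteType (τ i)]
    (i₀ : I) [IsClosedImmersion (c.π.app i₀ ≫ τ i₀)] :
    ∃ i : I, IsClosedImmersion (τ i) := by
  classical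
  have hcomp : ∀ {j k : I} (φ : j ⟶ k), c.π.app j ≫ τ j = c.π.app k ≫ τ k := by
    intro j k φ
    rw [← hτ φ, ← Category.assoc, c.w]
  have step : ∀ W : S.Opens, IsAffineOpen W → ∃ i : I, IsClosedImmersion (τ i ∣_ W) := by
    intro W hW
    obtain ⟨i₁, φ, h1⟩ := exists_isAffineOpen_preimage D τ hτ c hc i₀ W hW
    have : IsClosedImmersion (c.π.app i₁ ≫ τ i₁) := by rw [hcomp φ]; infer_instance
    obtain ⟨i, _, hi⟩ :=
      exists_isClosedImmersion_restrict_of_isAffineOpen D τ hτ c hc i₁ W hW h1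
    exact ⟨i, hi⟩
  have mono : ∀ (W : S.Opens) {j k : I} (φ : j ⟶ k), IsClosedImmersion (τ k ∣_ W) →
      IsClosedImmersion (τ j ∣_ W) := by
    intro W j k φ H
    rw [← hτ φ, morphismRestrict_comp]
    have h0 : IsClosedImmersion (D.map φ) := inferInstance
    refine @IsClosedImmersion.comp _ _ _ _ _ ?_ H
    exact IsZariskiLocalAtTarget.restrict h0 _
  have hnh : ∀ x : S, ∃ U : S.Opens, IsAffineOpen U ∧ x ∈ U := by
    intro x
    obtain ⟨_, ⟨U, hU : IsAffineOpen U, rfl⟩, hxU, -⟩ :=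
      S.isBasis_affineOpens.exists_subset_of_mem_open (Set.mem_univ x) isOpen_univ
    exact ⟨U, hU, hxU⟩
  choose U hU hxU using hnh
  obtain ⟨t, ht⟩ := CompactSpace.elim_nhds_subcover (fun x => (U x : Set S))
    (fun x => (U x).isOpen.mem_nhds (hxU x))
  choose ix hix using fun x => step (U x) (hU x)
  obtain ⟨i, hi⟩ := IsCofiltered.inf_objs_exists (t.image ix)
  refine ⟨i, ?_⟩
  have hcov : (⨆ x : t, U x.1) = ⊤ := by
    rw [eq_top_iff]
    intro y _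
    have hy : y ∈ ⋃ x ∈ t, (U x : Set S) := by rw [ht]; trivial
    simp only [Set.mem_iUnion] at hy
    obtain ⟨x, hx, hyx⟩ := hy
    exact TopologicalSpace.Opens.mem_iSup.mpr ⟨⟨x, hx⟩, hyx⟩
  apply IsZariskiLocalAtTarget.of_iSup_eq_top (P := @IsClosedImmersion) (fun x : t => U x.1) hcov
  intro x
  exact mono _ (hi (Finset.mem_image_of_mem _ x.2)).some (hix x.1)

end

end Groth.Agent.Lib.helper11.LimClosedImm2
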