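import Mathlib

set_option autoImplicit false
universe u
open CategoryTheory CategoryTheory.Limits AlgebraicGeometry

namespace Groth.Agent.Lib.helper11.LimPullback

attribute [local instance] IsCofiltered.isConnected

lemma compact_aux {A B C : Scheme.{u}} (g : A ⟶ B) (x : C ⟶ B) [IsAffineHom g] [CompactSpace C] :
    CompactSpace ↥(pullback g x) :=
  QuasiCompact.compactSpace_of_compactSpace (pullback.snd g x)

lemma qsep_aux {A B C : Scheme.{u}} (g : A ⟶ B) (x : C ⟶ B) [IsAffineHom g]
    [QuasiSeparatedSpace C] : QuasiSeparatedSpace ↥(pullback g x) :=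
  quasiSeparatedSpace_of_quasiSeparated (pullback.snd g x)

lemma affine_aux {A A' B C : Scheme.{u}} (g : A ⟶ B) (g' : A' ⟶ B) (h : A ⟶ A') (x : C ⟶ B)
    (hh : h ≫ g' = g) [IsAffineHom h] :
    IsAffineHom (pullback.lift (pullback.fst g x ≫ h) (pullback.snd g x)
      (by rw [Category.assoc, hh, pullback.condition]) : pullback g x ⟶ pullback g' x) := by
  have : IsPullback (pullback.lift (pullback.fst g x ≫ h) (pullback.snd g x)
      (by rw [Category.assoc, hh, pullback.condition]) : pullback g x ⟶ pullback g' x)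
      (pullback.fst g x) (pullback.fst g' x) h := by
    subst hh
    refine IsPullback.of_right (h₁₂ := pullback.snd g' x) (v₁₃ := x) (h₂₂ := g') ?_
      (pullback.lift_fst _ _ _) (IsPullback.of_hasPullback g' x).flip
    rw [pullback.lift_snd]
    exact (IsPullback.of_hasPullback (h ≫ g') x).flip
  exact MorphismProperty.of_isPullback this.flip inferInstance

section

variable {I : Type u} [SmallCategory I] [IsCofiltered I] (D : I ⥤ Scheme.{u}) (c : Cone D)
  (hc : IsLimit c) (i : I) {Xi : Scheme.{u}} (xi : Xi ⟶ D.obj i)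

/-- The diagram `j ↦ S_j ×_{S_i} X_i` over `Over i`. -/
noncomputable def D' : Over i ⥤ Scheme.{u} := Over.post D ⋙ Over.pullback xi ⋙ Over.forget _

/-- The cone with point `S ×_{S_i} X_i`. -/
noncomputable def c' : Cone (D' D i xi) :=
  (Over.pullback xi ⋙ Over.forget _).mapCone ((Over.conePost _ _).obj c)

/-- It is a limit cone. -/
noncomputable def hc' : IsLimit (c' D c i xi) :=
  isLimitOfPreserves (Over.pullback xi ⋙ Over.forget _) (Over.isLimitConePost _ hc)

lemma D'_obj (j : Over i) : (D' D i xi).obj j = pullback (D.map j.hom) xi := rfl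

lemma c'_pt : (c' D c i xi).pt = pullback (c.π.app i) xi := rfl

lemma π_fst (j : Over i) : (c' D c i xi).π.app j ≫ pullback.fst (D.map j.hom) xi =
    pullback.fst (c.π.app i) xi ≫ c.π.app j.left := pullback.lift_fst _ _ _

lemma π_snd (j : Over i) : (c' D c i xi).π.app j ≫ pullback.snd (D.map j.hom) xi =
    pullback.snd (c.π.app i) xi := pullback.lift_snd _ _ _

lemma map_fst {j k : Over i} (g : j ⟶ k) : (D' D i xi).map g ≫ pullback.fst (D.map k.hom) xi =
    pullback.fst (D.map j.hom) xi ≫ D.map g.left := pullback.lift_fst _ _ _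

lemma map_snd {j k : Over i} (g : j ⟶ k) : (D' D i xi).map g ≫ pullback.snd (D.map k.hom) xi =
    pullback.snd (D.map j.hom) xi := pullback.lift_snd _ _ _

lemma compactSpace_obj [∀ (i j : I) (f : i ⟶ j), IsAffineHom (D.map f)] [CompactSpace Xi]
    (j : Over i) : CompactSpace ((D' D i xi).obj j) := by
  have h1 : IsAffineHom (D.map j.hom) := ‹∀ (i j : I) (f : i ⟶ j), IsAffineHom (D.map f)› _ _ _
  exact compact_aux (D.map j.hom) xi

lemma quasiSeparatedSpace_obj [∀ (i j : I) (f : i ⟶ j), IsAffineHom (D.map f)]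
    [QuasiSeparatedSpace Xi] (j : Over i) : QuasiSeparatedSpace ((D' D i xi).obj j) := by
  have h1 : IsAffineHom (D.map j.hom) := ‹∀ (i j : I) (f : i ⟶ j), IsAffineHom (D.map f)› _ _ _
  exact qsep_aux (D.map j.hom) xi

lemma isAffineHom_map [∀ (i j : I) (f : i ⟶ j), IsAffineHom (D.map f)] {j k : Over i}
    (g : j ⟶ k) : IsAffineHom ((D' D i xi).map g) := by
  have h1 : IsAffineHom (D.map g.left) := ‹∀ (i j : I) (f : i ⟶ j), IsAffineHom (D.map f)› _ _ _
  have hw : D.map g.left ≫ D.map k.hom = D.map j.hom := by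
    rw [← D.map_comp]; congr 1; simpa using Over.w g
  exact affine_aux (D.map j.hom) (D.map k.hom) (D.map g.left) xi hw

/-- The structure map to `X_i`. -/
noncomputable def tX : D' D i xi ⟶ (Functor.const (Over i)).obj Xi where
  app j := pullback.snd (D.map j.hom) xi
  naturality := by
    intro j k g
    show (D' D i xi).map g ≫ pullback.snd (D.map k.hom) xi =
      pullback.snd (D.map j.hom) xi ≫ 𝟙 _
    rw [map_snd, Category.comp_id]

lemma tX_app (j : Over i) : (tX D i xi).app j = pullback.snd (D.map j.hom) xi := rfl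

end

end Groth.Agent.Lib.helper11.LimPullback
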