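import Mathlib
import Groth.Agent.Lib.helper11.LimClosedImm2

set_option autoImplicit false
universe u
open CategoryTheory CategoryTheory.Limits AlgebraicGeometry

namespace Groth.Agent.Lib.helper11.LimFinite

open Groth.Agent.Lib.helper11.LimClosedImm2 (qs_opens preimage_eq locallyOfFiniteType_resLE)

/-- If `R → A₀` is generated by `s`, `A₀ → A` is finite, and the images of the elements of `s`
in `A` are integral over `R`, then `R → A` is integral. -/
theorem isIntegral_comp_of_integral_gens {R A₀ A : Type u} [CommRing R] [CommRing A₀] [CommRing A]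
    (σ : R →+* A₀) (ρ : A₀ →+* A) (hρ : ρ.Finite) (s : Set A₀)
    (hs : letI := σ.toAlgebra; Algebra.adjoin R s = ⊤)
    (hint : ∀ a ∈ s, (ρ.comp σ).IsIntegralElem (ρ a)) : (ρ.comp σ).IsIntegral := by
  algebraize [σ, ρ, ρ.comp σ]
  let C := integralClosure R A
  have h1 : ∀ x : A₀, algebraMap A₀ A x ∈ C := by
    intro x
    have hx : x ∈ Algebra.adjoin R s := by rw [hs]; trivial
    induction hx using Algebra.adjoin_induction with
    | mem a ha => exact hint a ha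
    | algebraMap r =>
      rw [← IsScalarTower.algebraMap_apply]
      exact Subalgebra.algebraMap_mem C r
    | add x y _ _ hx hy => rw [map_add]; exact C.add_mem hx hy
    | mul x y _ _ hx hy => rw [map_mul]; exact C.mul_mem hx hy
  intro y
  have hy : IsIntegral A₀ y := Algebra.IsIntegral.isIntegral y
  obtain ⟨p, hp, hpy⟩ := hy
  let ρC : A₀ →+* C := (algebraMap A₀ A).codRestrict C.toSubring h1
  have hyC : IsIntegral C y := by
    refine ⟨p.map ρC, hp.map _, ?_⟩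
    rw [Polynomial.eval₂_map]
    exact hpy
  exact isIntegral_trans (R := R) (A := C) y hyC

/-- Affine case. -/
theorem exists_isFinite_of_isAffine {J : Type u} [SmallCategory J] [IsCofiltered J]
    (D : J ⥤ Scheme.{u}) [∀ j, IsAffine (D.obj j)]
    [∀ (i j : J) (f : i ⟶ j), IsFinite (D.map f)]
    (c : Cone D) (hc : IsLimit c) (W : Scheme.{u}) [IsAffine W]
    (t : D ⟶ (Functor.const J).obj W)
    (j₀ : J) [LocallyOfFiniteType (t.app j₀)] [IsIntegralHom (c.π.app j₀ ≫ t.app j₀)] :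
    ∃ (j : J) (_ : j ⟶ j₀), IsFinite (t.app j) := by
  classical
  have : IsAffine c.pt := Scheme.isAffine_of_isLimit c hc
  let τ : ∀ j, D.obj j ⟶ W := fun j => t.app j
  have : LocallyOfFiniteType (τ j₀) := ‹LocallyOfFiniteType (t.app j₀)›
  have : IsIntegralHom (c.π.app j₀ ≫ τ j₀) := ‹IsIntegralHom (c.π.app j₀ ≫ t.app j₀)›
  suffices H : ∃ (j : J) (_ : j ⟶ j₀), IsFinite (τ j) from H
  have hτnat : ∀ {j k : J} (φ : j ⟶ k), D.map φ ≫ τ k = τ j := by
    intro j k φ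
    have h1 := t.naturality φ
    simp only [Functor.const_obj_obj, Functor.const_obj_map] at h1
    exact h1.trans (Category.comp_id _)
  clear_value τ
  have hint0 : (c.π.app j₀ ≫ τ j₀).appTop.hom.IsIntegral :=
    ((HasAffineProperty.iff_of_isAffine (P := @IsIntegralHom)).mp inferInstance).2
  have hft : RingHom.FiniteType (τ j₀).appTop.hom :=
    (HasRingHomProperty.iff_of_isAffine (P := @LocallyOfFiniteType)).mp inferInstance
  obtain ⟨s, hs⟩ : ∃ s : Finset Γ(D.obj j₀, ⊤),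
      letI := (τ j₀).appTop.hom.toAlgebra; Algebra.adjoin Γ(W, ⊤) (s : Set Γ(D.obj j₀, ⊤)) = ⊤ := by
    letI := (τ j₀).appTop.hom.toAlgebra
    have : Algebra.FiniteType Γ(W, ⊤) Γ(D.obj j₀, ⊤) := hft
    exact (Algebra.FiniteType.out : (⊤ : Subalgebra Γ(W, ⊤) Γ(D.obj j₀, ⊤)).FG)
  have hcompTop : (c.π.app j₀ ≫ τ j₀).appTop.hom =
      (c.π.app j₀).appTop.hom.comp (τ j₀).appTop.hom := by
    rw [Scheme.Hom.comp_appTop]; rfl
  -- integral equations
  have hP : ∀ a : Γ(D.obj j₀, ⊤), ∃ P : Polynomial Γ(W, ⊤), P.Monic ∧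
      (c.π.app j₀).appTop.hom (Polynomial.eval₂ (τ j₀).appTop.hom a P) = 0 := by
    intro a
    obtain ⟨P, hP, hPa⟩ := hint0 ((c.π.app j₀).appTop.hom a)
    refine ⟨P, hP, ?_⟩
    rw [Polynomial.hom_eval₂, ← hcompTop]
    exact hPa
  choose P hPmonic hPzero using hP
  have hw : ∀ {j k : J} (φ : j ⟶ k) (x : Γ(D.obj k, ⊤)),
      (c.π.app j).appTop.hom ((D.map φ).appTop.hom x) = (c.π.app k).appTop.hom x := by
    intro j k φ x
    rw [← c.w φ, Scheme.Hom.comp_appTop]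
    rfl
  have hmapcomp : ∀ {j k l : J} (φ : j ⟶ k) (ψ : k ⟶ l) (x : Γ(D.obj l, ⊤)),
      (D.map (φ ≫ ψ)).appTop.hom x = (D.map φ).appTop.hom ((D.map ψ).appTop.hom x) := by
    intro j k l φ ψ x
    rw [D.map_comp, Scheme.Hom.comp_appTop]
    rfl
  have key : ∀ s' : Finset Γ(D.obj j₀, ⊤), ∃ (j : J) (φ : j ⟶ j₀),
      ∀ a ∈ s', (D.map φ).appTop.hom (Polynomial.eval₂ (τ j₀).appTop.hom a (P a)) = 0 := by
    intro s'
    induction s' using Finset.induction_on with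
    | empty => exact ⟨j₀, 𝟙 _, by simp⟩
    | insert a s' ha ih =>
      obtain ⟨j, φ, hj⟩ := ih
      obtain ⟨j', ψ, hj'⟩ := exists_appTop_map_eq_zero_of_isAffine_of_isLimit D c hc j
        ((D.map φ).appTop.hom (Polynomial.eval₂ (τ j₀).appTop.hom a (P a))) (by
          exact (hw φ _).trans (hPzero a))
      refine ⟨j', ψ ≫ φ, ?_⟩
      intro b hb
      rcases Finset.mem_insert.mp hb with rfl | hb
      · rw [hmapcomp]; exact hj'
      · rw [hmapcomp, hj b hb, map_zero]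
  obtain ⟨j, φ, hj⟩ := key s
  refine ⟨j, φ, ?_⟩
  have hρ : (D.map φ).appTop.hom.Finite :=
    ((HasAffineProperty.iff_of_isAffine (P := @IsFinite)).mp inferInstance).2
  have hτj : (τ j).appTop.hom = (D.map φ).appTop.hom.comp (τ j₀).appTop.hom := by
    rw [← hτnat φ, Scheme.Hom.comp_appTop]; rfl
  have hint : ((D.map φ).appTop.hom.comp (τ j₀).appTop.hom).IsIntegral := by
    refine isIntegral_comp_of_integral_gens _ _ hρ (s : Set Γ(D.obj j₀, ⊤)) hs ?_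
    intro a ha
    refine ⟨P a, hPmonic a, ?_⟩
    rw [← Polynomial.hom_eval₂]
    exact hj a ha
  have hft' : ((D.map φ).appTop.hom.comp (τ j₀).appTop.hom).FiniteType :=
    hρ.finiteType.comp hft
  rw [HasAffineProperty.iff_of_isAffine (P := @IsFinite)]
  refine ⟨inferInstance, ?_⟩
  rw [hτj]
  exact hint.to_finite hft'

lemma isFinite_resLE {X Y : Scheme.{u}} (f : X ⟶ Y) [IsFinite f] (W : Y.Opens)
    (V : X.Opens) (e : V ≤ f ⁻¹ᵁ W) (e' : f ⁻¹ᵁ W ≤ V) : IsFinite (f.resLE W V e) := by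
  obtain rfl : V = f ⁻¹ᵁ W := le_antisymm e e'
  rw [Scheme.Hom.resLE_eq_morphismRestrict]
  exact IsZariskiLocalAtTarget.restrict ‹_› W

lemma isIntegralHom_resLE {X Y : Scheme.{u}} (f : X ⟶ Y) [IsIntegralHom f] (W : Y.Opens)
    (V : X.Opens) (e : V ≤ f ⁻¹ᵁ W) (e' : f ⁻¹ᵁ W ≤ V) : IsIntegralHom (f.resLE W V e) := by
  obtain rfl : V = f ⁻¹ᵁ W := le_antisymm e e'
  rw [Scheme.Hom.resLE_eq_morphismRestrict]
  exact IsZariskiLocalAtTarget.restrict ‹_› W

section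

variable {I : Type u} [SmallCategory I] [IsCofiltered I] {S : Scheme.{u}} (D : I ⥤ Scheme.{u})
  (τ : ∀ i, D.obj i ⟶ S) (hτ : ∀ {j k : I} (φ : j ⟶ k), D.map φ ≫ τ k = τ j)
  (c : Cone D) (hc : IsLimit c)

include hτ hc in
theorem exists_isAffineOpen_preimage
    [∀ (i j : I) (f : i ⟶ j), IsAffineHom (D.map f)]
    [∀ i, CompactSpace (D.obj i)] [∀ i, QuasiSeparatedSpace (D.obj i)] [QuasiSeparatedSpace S]
    (i₀ : I) [IsAffineHom (c.π.app i₀ ≫ τ i₀)]
    (W : S.Opens) (hW : IsAffineOpen W) :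
    ∃ (i₁ : I) (_ : i₁ ⟶ i₀), IsAffineOpen (τ i₁ ⁻¹ᵁ W) := by
  let U₀ := τ i₀ ⁻¹ᵁ W
  have hU₀ : IsCompact (U₀ : Set (D.obj i₀)) :=
    QuasiCompact.isCompact_preimage (f := τ i₀) _ W.isOpen hW.isCompact
  have h1 : ∀ j : Over i₀, CompactSpace ((opensDiagram D i₀ U₀).obj j) := by
    intro j
    exact isCompact_iff_compactSpace.mp
      (QuasiCompact.isCompact_preimage (f := D.map j.hom) _ U₀.isOpen hU₀)
  have h2 : ∀ j : Over i₀, QuasiSeparatedSpace ((opensDiagram D i₀ U₀).obj j) := by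
    intro j
    exact qs_opens (D.map j.hom ⁻¹ᵁ U₀)
  have h3 : IsAffine (opensCone D c i₀ U₀).pt := hW.preimage (c.π.app i₀ ≫ τ i₀)
  obtain ⟨j₁, hj₁⟩ := Scheme.exists_isAffine_of_isLimit (opensDiagram D i₀ U₀)
    (opensCone D c i₀ U₀) (isLimitOpensCone D c hc i₀ U₀)
  refine ⟨j₁.left, j₁.hom, ?_⟩
  have : D.map j₁.hom ⁻¹ᵁ U₀ = τ j₁.left ⁻¹ᵁ W := preimage_eq D τ hτ W j₁.hom
  rw [← this]
  exact hj₁

include hτ hc in
theorem exists_isFinite_restrict_of_isAffineOpen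
    [∀ (i j : I) (f : i ⟶ j), IsFinite (D.map f)] [∀ i, LocallyOfFiniteType (τ i)]
    (i₁ : I) [IsIntegralHom (c.π.app i₁ ≫ τ i₁)]
    (W : S.Opens) (hW : IsAffineOpen W) (hU₁ : IsAffineOpen (τ i₁ ⁻¹ᵁ W)) :
    ∃ (i : I) (_ : i ⟶ i₁), IsFinite (τ i ∣_ W) := by
  let U₁ := τ i₁ ⁻¹ᵁ W
  let E := opensDiagram D i₁ U₁
  have hE : ∀ j : Over i₁, IsAffine (E.obj j) := fun j => hU₁.preimage (D.map j.hom)
  have hEmap : ∀ (j k : Over i₁) (g : j ⟶ k), IsFinite (E.map g) := by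
    intro j k g
    exact isFinite_resLE (D.map g.left) _ _ _
      (by rw [← Scheme.Hom.comp_preimage, ← D.map_comp, Over.w g])
  have hWaff : IsAffine W.toScheme := hW
  have hle : ∀ j : Over i₁, D.map j.hom ⁻¹ᵁ U₁ ≤ τ j.left ⁻¹ᵁ W :=
    fun j => (preimage_eq D τ hτ W j.hom).le
  let t' : E ⟶ (Functor.const (Over i₁)).obj W.toScheme :=
    { app := fun j => (τ j.left).resLE W (D.map j.hom ⁻¹ᵁ U₁) (hle j)
      naturality := by
        intro j k g
        apply (cancel_mono W.ι).mp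
        show ((D.map g.left).resLE _ _ _ ≫ (τ k.left).resLE W (D.map k.hom ⁻¹ᵁ U₁) (hle k)) ≫ W.ι
          = ((τ j.left).resLE W (D.map j.hom ⁻¹ᵁ U₁) (hle j) ≫ 𝟙 _) ≫ W.ι
        rw [Category.comp_id, Category.assoc, Scheme.Hom.resLE_comp_ι,
          Scheme.Hom.resLE_comp_ι_assoc, Scheme.Hom.resLE_comp_ι, hτ] }
  let j₀ : Over i₁ := Over.mk (𝟙 i₁)
  have hlft : LocallyOfFiniteType (t'.app j₀) :=
    locallyOfFiniteType_resLE (τ i₁) W (D.map (𝟙 i₁) ⁻¹ᵁ U₁) (hle j₀)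
  have hcl : IsIntegralHom ((opensCone D c i₁ U₁).π.app j₀ ≫ t'.app j₀) := by
    have e : (opensCone D c i₁ U₁).π.app j₀ ≫ t'.app j₀ =
        (c.π.app i₁ ≫ τ i₁).resLE W (c.π.app i₁ ⁻¹ᵁ U₁) le_rfl := by
      apply (cancel_mono W.ι).mp
      show ((c.π.app i₁).resLE (D.map (𝟙 i₁) ⁻¹ᵁ U₁) (c.π.app i₁ ⁻¹ᵁ U₁) _ ≫
        (τ i₁).resLE W (D.map (𝟙 i₁) ⁻¹ᵁ U₁) (hle j₀)) ≫ W.ι = _
      rw [Category.assoc, Scheme.Hom.resLE_comp_ι, Scheme.Hom.resLE_comp_ι_assoc]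
      exact (Scheme.Hom.resLE_comp_ι _ _).symm
    rw [e]
    exact isIntegralHom_resLE _ _ _ _ le_rfl
  obtain ⟨j, _, hj⟩ := @exists_isFinite_of_isAffine _ _ _ E hE hEmap
    (opensCone D c i₁ U₁) (isLimitOpensCone D c hc i₁ U₁) W.toScheme hWaff t' j₀ hlft hcl
  refine ⟨j.left, j.hom, ?_⟩
  rw [← Scheme.Hom.resLE_eq_morphismRestrict]
  exact (Scheme.Hom.resLE_congr _ _ rfl (preimage_eq D τ hτ W j.hom) @IsFinite).mp hj

include hτ hc in
theorem exists_isFinite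
    [∀ (i j : I) (f : i ⟶ j), IsFinite (D.map f)]
    [∀ i, CompactSpace (D.obj i)] [∀ i, QuasiSeparatedSpace (D.obj i)]
    [CompactSpace S] [QuasiSeparatedSpace S] [∀ i, LocallyOfFiniteType (τ i)]
    (i₀ : I) [IsIntegralHom (c.π.app i₀ ≫ τ i₀)] :
    ∃ i₁ : I, ∀ (i : I) (_ : i ⟶ i₁), IsFinite (τ i) := by
  classical
  have hcomp : ∀ {j k : I} (φ : j ⟶ k), c.π.app j ≫ τ j = c.π.app k ≫ τ k := by
    intro j k φ
    rw [← hτ φ, ← Category.assoc, c.w]
  have step : ∀ W : S.Opens, IsAffineOpen W → ∃ i : I, IsFinite (τ i ∣_ W) := by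
    intro W hW
    obtain ⟨i₁, φ, h1⟩ := exists_isAffineOpen_preimage D τ hτ c hc i₀ W hW
    have : IsIntegralHom (c.π.app i₁ ≫ τ i₁) := by rw [hcomp φ]; infer_instance
    obtain ⟨i, _, hi⟩ :=
      exists_isFinite_restrict_of_isAffineOpen D τ hτ c hc i₁ W hW h1
    exact ⟨i, hi⟩
  have mono : ∀ (W : S.Opens) {j k : I} (φ : j ⟶ k), IsFinite (τ k ∣_ W) →
      IsFinite (τ j ∣_ W) := by
    intro W j k φ H
    rw [← hτ φ, morphismRestrict_comp]
    have h0 : IsFinite (D.map φ) := inferInstance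
    have h1 : IsFinite (D.map φ ∣_ τ k ⁻¹ᵁ W) := IsZariskiLocalAtTarget.restrict h0 _
    exact MorphismProperty.comp_mem _ _ _ h1 H
  have hnh : ∀ x : S, ∃ U : S.Opens, IsAffineOpen U ∧ x ∈ U := by
    intro x
    obtain ⟨_, ⟨U, hU : IsAffineOpen U, rfl⟩, hxU, -⟩ :=
      S.isBasis_affineOpens.exists_subset_of_mem_open (Set.mem_univ x) isOpen_univ
    exact ⟨U, hU, hxU⟩
  choose U hU hxU using hnh
  obtain ⟨t, ht⟩ := CompactSpace.elim_nhds_subcover (fun x => (U x : Set S))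
    (fun x => (U x).isOpen.mem_nhds (hxU x))
  choose ix hix using fun x => step (U x) (hU x)
  obtain ⟨i, hi⟩ := IsCofiltered.inf_objs_exists (t.image ix)
  have hcov : (⨆ x : t, U x.1) = ⊤ := by
    rw [eq_top_iff]
    intro y _
    have hy : y ∈ ⋃ x ∈ t, (U x : Set S) := by rw [ht]; trivial
    simp only [Set.mem_iUnion] at hy
    obtain ⟨x, hx, hyx⟩ := hy
    exact TopologicalSpace.Opens.mem_iSup.mpr ⟨⟨x, hx⟩, hyx⟩
  have hfin : IsFinite (τ i) := by
    apply IsZariskiLocalAtTarget.of_iSup_eq_top (P := @IsFinite) (fun x : t => U x.1) hcov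
    intro x
    exact mono _ (hi (Finset.mem_image_of_mem _ x.2)).some (hix x.1)
  refine ⟨i, fun i' φ => ?_⟩
  rw [← hτ φ]
  infer_instance

end

end Groth.Agent.Lib.helper11.LimFinite
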