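import Mathlib
import Groth.Agent.Lib.helper11.LimPB
import Groth.Agent.Lib.helper11.LimPullback
import Groth.Agent.S9200

set_option autoImplicit false
universe u
open CategoryTheory CategoryTheory.Limits AlgebraicGeometry

namespace Groth.Agent.Lib.helper11.LimDescend

open Groth.Agent.Lib.helper11

/-- Reduction of the "descend along a limit" statements to a statement about
`pullback.fst (pullback.snd (D.map j.hom) g₀) f₀`. -/
theorem reduction (P : MorphismProperty Scheme.{u}) [P.IsStableUnderBaseChange]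
    {I : Type u} [SmallCategory I]
    (D : I ⥤ Scheme.{u}) (c : Cone D) (i₀ : I) {X₀ Y₀ : Scheme.{u}} (f₀ : X₀ ⟶ Y₀)
    (g₀ : Y₀ ⟶ D.obj i₀)
    {X Y : Scheme.{u}} (f : X ⟶ Y) (g : Y ⟶ c.pt) (qY : Y ⟶ Y₀) (qX : X ⟶ X₀)
    (hY : IsPullback qY g g₀ (c.π.app i₀)) (hX : IsPullback qX f f₀ qY) (hf : P f)
    (core : P (pullback.fst (pullback.snd (c.π.app i₀) g₀) f₀) →
      ∃ j : Over i₀, P (pullback.fst (pullback.snd (D.map j.hom) g₀) f₀)) :
    ∃ (i : I) (φ : i ⟶ i₀) (Xi Yi : Scheme.{u}) (fi : Xi ⟶ Yi) (gi : Yi ⟶ D.obj i) (pY : Yi ⟶ Y₀)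
      (pX : Xi ⟶ X₀), IsPullback pY gi g₀ (D.map φ) ∧ IsPullback pX fi f₀ pY ∧ P fi := by
  have hP : P (pullback.fst (pullback.snd (c.π.app i₀) g₀) f₀) := by
    let u : Y ≅ pullback (c.π.app i₀) g₀ := hY.flip.isoPullback
    have hu : u.inv ≫ qY = pullback.snd (c.π.app i₀) g₀ := by
      rw [Iso.inv_comp_eq]; exact (hY.flip.isoPullback_hom_snd).symm
    have hcond : pullback.snd (pullback.snd (c.π.app i₀) g₀) f₀ ≫ f₀ =
        (pullback.fst (pullback.snd (c.π.app i₀) g₀) f₀ ≫ u.inv) ≫ qY := by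
      rw [Category.assoc, hu, pullback.condition]
    have big : IsPullback (hX.lift _ _ hcond ≫ qX)
        (pullback.fst (pullback.snd (c.π.app i₀) g₀) f₀) f₀ (u.inv ≫ qY) := by
      rw [hu, hX.lift_fst]
      exact (IsPullback.of_hasPullback _ f₀).flip
    have left := IsPullback.of_right big (hX.lift_snd _ _ hcond) hX
    exact MorphismProperty.of_isPullback left hf
  obtain ⟨j, hj⟩ := core hP
  exact ⟨j.left, j.hom, _, _, pullback.fst (pullback.snd (D.map j.hom) g₀) f₀,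
    pullback.fst (D.map j.hom) g₀, pullback.snd (D.map j.hom) g₀,
    pullback.snd (pullback.snd (D.map j.hom) g₀) f₀,
    (IsPullback.of_hasPullback _ _).flip, (IsPullback.of_hasPullback _ _).flip, hj⟩

/-- The descent statement, reduced to a "core" statement about a system over `Y₀`. -/
theorem descend_of_core (P : MorphismProperty Scheme.{u}) [P.IsStableUnderBaseChange]
    {I : Type u} [SmallCategory I] [IsCofiltered I]
    (D : I ⥤ Scheme.{u}) (c : Cone D) (hc : IsLimit c)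
    [∀ (i j : I) (f : i ⟶ j), IsAffineHom (D.map f)] (i₀ : I)
    {X₀ Y₀ : Scheme.{u}} (f₀ : X₀ ⟶ Y₀) (g₀ : Y₀ ⟶ D.obj i₀)
    [CompactSpace Y₀] [QuasiSeparatedSpace Y₀]
    {X Y : Scheme.{u}} (f : X ⟶ Y) (g : Y ⟶ c.pt) (qY : Y ⟶ Y₀) (qX : X ⟶ X₀)
    (hY : IsPullback qY g g₀ (c.π.app i₀)) (hX : IsPullback qX f f₀ qY) (hf : P f)
    (core : ∀ {J : Type u} [SmallCategory J] [IsCofiltered J] (E : J ⥤ Scheme.{u})
      (τ : ∀ j, E.obj j ⟶ Y₀) (_ : ∀ {j k : J} (φ : j ⟶ k), E.map φ ≫ τ k = τ j)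
      (cE : Cone E) (_ : IsLimit cE) (p : cE.pt ⟶ Y₀) (_ : ∀ j, cE.π.app j ≫ τ j = p)
      [∀ (i j : J) (f : i ⟶ j), IsAffineHom (E.map f)]
      [∀ j, CompactSpace (E.obj j)] [∀ j, QuasiSeparatedSpace (E.obj j)],
      P (pullback.fst p f₀) → ∃ j, P (pullback.fst (τ j) f₀)) :
    ∃ (i : I) (φ : i ⟶ i₀) (Xi Yi : Scheme.{u}) (fi : Xi ⟶ Yi) (gi : Yi ⟶ D.obj i) (pY : Yi ⟶ Y₀)
      (pX : Xi ⟶ X₀), IsPullback pY gi g₀ (D.map φ) ∧ IsPullback pX fi f₀ pY ∧ P fi := by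
  apply reduction P D c i₀ f₀ g₀ f g qY qX hY hX hf
  intro hP
  have h1 : ∀ (i j : Over i₀) (a : i ⟶ j), IsAffineHom ((LimPullback.D' D i₀ g₀).map a) :=
    fun i j a => LimPullback.isAffineHom_map D i₀ g₀ a
  have h2 : ∀ j : Over i₀, CompactSpace ((LimPullback.D' D i₀ g₀).obj j) :=
    fun j => LimPullback.compactSpace_obj D i₀ g₀ j
  have h3 : ∀ j : Over i₀, QuasiSeparatedSpace ((LimPullback.D' D i₀ g₀).obj j) :=
    fun j => LimPullback.quasiSeparatedSpace_obj D i₀ g₀ j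
  exact core (LimPullback.D' D i₀ g₀) (fun j => pullback.snd (D.map j.hom) g₀)
    (fun φ => LimPullback.map_snd D i₀ g₀ φ) (LimPullback.c' D c i₀ g₀)
    (LimPullback.hc' D c hc i₀ g₀) (pullback.snd (c.π.app i₀) g₀)
    (fun j => LimPullback.π_snd D c i₀ g₀ j) hP

section

variable {J : Type u} [SmallCategory J] [IsCofiltered J] (E : J ⥤ Scheme.{u}) {T : Scheme.{u}}
  (τ : ∀ j, E.obj j ⟶ T) (hτ : ∀ {j k : J} (φ : j ⟶ k), E.map φ ≫ τ k = τ j)
  (cE : Cone E) (hcE : IsLimit cE) (p : cE.pt ⟶ T)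
  (hp : ∀ j, cE.π.app j ≫ τ j = p) {X₀ : Scheme.{u}} (f₀ : X₀ ⟶ T)

include hτ hcE hp in
/-- Core statement for affine morphisms: no finiteness hypotheses. -/
theorem core_affine [∀ (i j : J) (f : i ⟶ j), IsAffineHom (E.map f)]
    [∀ j, CompactSpace (E.obj j)] [∀ j, QuasiSeparatedSpace (E.obj j)]
    [QuasiCompact f₀] [QuasiSeparated f₀] [IsAffineHom (pullback.fst p f₀)] :
    ∃ j₁ : J, ∀ (j : J) (_ : j ⟶ j₁), IsAffineHom (pullback.fst (τ j) f₀) := by
  obtain ⟨j₀⟩ : Nonempty J := IsCofiltered.nonempty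
  let XS := LimPB.XS E τ hτ f₀
  let cX := LimPB.cX E τ hτ cE p hp f₀
  have hcX : IsLimit cX := LimPB.hcX E τ hτ cE hcE p hp f₀
  let D' : Over j₀ ⥤ Scheme.{u} := Over.forget j₀ ⋙ XS
  let c' : Cone D' := cX.whisker (Over.forget j₀)
  have hc' : IsLimit c' := (Functor.Initial.isLimitWhiskerEquiv (Over.forget j₀) cX).symm hcX
  let t : D' ⟶ (Functor.const (Over j₀)).obj (E.obj j₀) :=
    { app := fun i => pullback.fst (τ i.left) f₀ ≫ E.map i.hom
      naturality := by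
        intro i k φ
        show XS.map φ.left ≫ pullback.fst (τ k.left) f₀ ≫ E.map k.hom =
          (pullback.fst (τ i.left) f₀ ≫ E.map i.hom) ≫ 𝟙 _
        have h := LimPB.map_fst E τ hτ f₀ φ.left
        rw [Category.comp_id]
        refine (Category.assoc _ _ _).symm.trans ((congrArg (· ≫ E.map k.hom) h).trans ?_)
        refine (Category.assoc _ _ _).trans ?_
        congr 1
        rw [← E.map_comp, Over.w φ] }
  have h1 : ∀ (i k : Over j₀) (a : i ⟶ k), IsAffineHom (D'.map a) :=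
    fun i k a => LimPB.isAffineHom_map E τ hτ f₀ a.left
  have h2 : ∀ i : Over j₀, CompactSpace (D'.obj i) :=
    fun i => LimPB.compactSpace_obj E τ hτ f₀ i.left
  have h3 : ∀ i : Over j₀, QuasiSeparatedSpace (D'.obj i) :=
    fun i => LimPB.quasiSeparatedSpace_obj E τ hτ f₀ i.left
  have h4 : IsAffineHom (c'.π.app (Over.mk (𝟙 j₀)) ≫ t.app (Over.mk (𝟙 j₀))) := by
    have e : c'.π.app (Over.mk (𝟙 j₀)) ≫ t.app (Over.mk (𝟙 j₀)) =
        pullback.fst p f₀ ≫ cE.π.app j₀ := by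
      show cX.π.app j₀ ≫ pullback.fst (τ j₀) f₀ ≫ E.map (𝟙 j₀) = _
      rw [E.map_id, Category.comp_id]
      exact LimPB.π_fst E τ hτ cE p hp f₀ j₀
    rw [e]
    have : IsAffineHom (cE.π.app j₀) := isAffineHom_π_app E cE hcE j₀
    exact MorphismProperty.comp_mem (W := @IsAffineHom) _ _ ‹IsAffineHom (pullback.fst p f₀)› this
  obtain ⟨i₁, hi₁⟩ := Groth.Agent.S9200.result (E.obj j₀) D' t c' hc' (Over.mk (𝟙 j₀))
  refine ⟨i₁.left, fun j φ => ?_⟩
  have h5 : IsAffineHom (t.app (Over.mk (φ ≫ i₁.hom))) :=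
    hi₁ (Over.mk (φ ≫ i₁.hom)) (Over.homMk φ rfl)
  have h6 : IsAffineHom (pullback.fst (τ j) f₀ ≫ E.map (φ ≫ i₁.hom)) := h5
  exact IsAffineHom.of_comp _ (E.map (φ ≫ i₁.hom))

end

end Groth.Agent.Lib.helper11.LimDescend
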