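import Mathlib
import Groth.Agent.Lib.helper11.LimDescend

set_option autoImplicit false
universe u
open CategoryTheory CategoryTheory.Limits AlgebraicGeometry

namespace Groth.Agent.Lib.helper11.LimDescendCI

open Groth.Agent.Lib.helper11

/-- A subring of a pushout of commutative rings containing the images of both legs is `⊤`. -/
theorem subring_eq_top_of_isPushout {R A₀ B A : CommRingCat.{u}} {f : R ⟶ A₀} {g : R ⟶ B}
    {inl : A₀ ⟶ A} {inr : B ⟶ A} (h : IsPushout f g inl inr) (C : Subring A)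
    (hA : ∀ a, inl a ∈ C) (hB : ∀ b, inr b ∈ C) : C = ⊤ := by
  let Cc : CommRingCat.{u} := CommRingCat.of C
  let ι : Cc ⟶ A := CommRingCat.ofHom C.subtype
  let l : A₀ ⟶ Cc := CommRingCat.ofHom (inl.hom.codRestrict C hA)
  let r : B ⟶ Cc := CommRingCat.ofHom (inr.hom.codRestrict C hB)
  have w : f ≫ l = g ≫ r := by
    ext x
    show inl (f x) = inr (g x)
    have := congrArg (fun φ => φ.hom x) h.w
    exact this
  have hl : l ≫ ι = inl := by ext x; rfl
  have hr : r ≫ ι = inr := by ext x; rfl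
  have hd : h.desc l r w ≫ ι = 𝟙 A := by
    apply h.hom_ext
    · rw [← Category.assoc, h.inl_desc, hl, Category.comp_id]
    · rw [← Category.assoc, h.inr_desc, hr, Category.comp_id]
  rw [eq_top_iff]
  intro a _
  have : a = ι (h.desc l r w a) := by
    have := congrArg (fun φ => φ.hom a) hd
    exact this.symm
  rw [this]
  exact (h.desc l r w a).2


section

variable {J : Type u} [SmallCategory J] [IsCofiltered J] (E : J ⥤ Scheme.{u}) {T : Scheme.{u}}
  (τ : ∀ j, E.obj j ⟶ T) (hτ : ∀ {j k : J} (φ : j ⟶ k), E.map φ ≫ τ k = τ j)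
  (cE : Cone E) (hcE : IsLimit cE) (p : cE.pt ⟶ T)
  (hp : ∀ j, cE.π.app j ≫ τ j = p) {X₀ : Scheme.{u}} (f₀ : X₀ ⟶ T)

lemma appTop_π_fst (j : J) (b : Γ(E.obj j, ⊤)) :
    ((LimPB.cX E τ hτ cE p hp f₀).π.app j).appTop ((pullback.fst (τ j) f₀).appTop b) =
      (pullback.fst p f₀).appTop ((cE.π.app j).appTop b) := by
  have h := congrArg (fun ψ => ψ.appTop) (LimPB.π_fst E τ hτ cE p hp f₀ j)
  simp only [Scheme.Hom.comp_appTop] at h
  exact congrArg (fun ψ => ψ.hom b) h

lemma appTop_π_snd (j : J) (a : Γ(X₀, ⊤)) :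
    ((LimPB.cX E τ hτ cE p hp f₀).π.app j).appTop ((pullback.snd (τ j) f₀).appTop a) =
      (pullback.snd p f₀).appTop a := by
  have h := congrArg (fun ψ => ψ.appTop) (LimPB.π_snd E τ hτ cE p hp f₀ j)
  simp only [Scheme.Hom.comp_appTop] at h
  exact congrArg (fun ψ => ψ.hom a) h

lemma appTop_map_fst {j k : J} (φ : k ⟶ j) (b : Γ(E.obj j, ⊤)) :
    ((LimPB.XS E τ hτ f₀).map φ).appTop ((pullback.fst (τ j) f₀).appTop b) =
      (pullback.fst (τ k) f₀).appTop ((E.map φ).appTop b) := by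
  have h := congrArg (fun ψ => ψ.appTop) (LimPB.map_fst E τ hτ f₀ φ)
  simp only [Scheme.Hom.comp_appTop] at h
  exact congrArg (fun ψ => ψ.hom b) h

lemma appTop_map_snd {j k : J} (φ : k ⟶ j) (a : Γ(X₀, ⊤)) :
    ((LimPB.XS E τ hτ f₀).map φ).appTop ((pullback.snd (τ j) f₀).appTop a) =
      (pullback.snd (τ k) f₀).appTop a := by
  have h := congrArg (fun ψ => ψ.appTop) (LimPB.map_snd E τ hτ f₀ φ)
  simp only [Scheme.Hom.comp_appTop] at h
  exact congrArg (fun ψ => ψ.hom a) h

include hτ in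
/-- Skeleton: a compatible family of subrings of the `Γ(X_j)` containing the image of `Γ(E_j)`
and eventually containing the image of each element of `Γ(X₀)` is eventually everything. -/
theorem exists_subring_eq_top [∀ j, IsAffine (E.obj j)] [IsAffine T] [IsAffine X₀]
    [LocallyOfFiniteType f₀]
    (C : ∀ j, Subring Γ(pullback (τ j) f₀, ⊤))
    (hC1 : ∀ j b, (pullback.fst (τ j) f₀).appTop b ∈ C j)
    (hC2 : ∀ {j k : J} (φ : k ⟶ j) (x : Γ(pullback (τ j) f₀, ⊤)), x ∈ C j →
      ((LimPB.XS E τ hτ f₀).map φ).appTop x ∈ C k)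
    (hC3 : ∀ a : Γ(X₀, ⊤), ∃ j, (pullback.snd (τ j) f₀).appTop a ∈ C j) :
    ∃ j, C j = ⊤ := by
  classical
  have hft : RingHom.FiniteType f₀.appTop.hom :=
    (HasRingHomProperty.iff_of_isAffine (P := @LocallyOfFiniteType)).mp inferInstance
  algebraize [f₀.appTop.hom]
  obtain ⟨s, hs⟩ := (Algebra.FiniteType.out : (⊤ : Subalgebra Γ(T, ⊤) Γ(X₀, ⊤)).FG)
  choose ja hja using hC3
  obtain ⟨j, hj⟩ := IsCofiltered.inf_objs_exists (s.image ja)
  refine ⟨j, ?_⟩
  have hpo := isPushout_appTop_of_isPullback (IsPullback.of_hasPullback (τ j) f₀)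
  refine subring_eq_top_of_isPushout hpo.flip (C j) ?_ (hC1 j)
  intro a
  have ha : a ∈ Algebra.adjoin Γ(T, ⊤) (s : Set Γ(X₀, ⊤)) := by rw [hs]; trivial
  induction ha using Algebra.adjoin_induction with
  | mem x hx =>
    have φ : j ⟶ ja x := (hj (Finset.mem_image_of_mem _ hx)).some
    have := hC2 φ _ (hja x)
    rwa [appTop_map_snd] at this
  | algebraMap r =>
    have h1 : (pullback.snd (τ j) f₀).appTop (f₀.appTop r) =
        (pullback.fst (τ j) f₀).appTop ((τ j).appTop r) := by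
      have h := congrArg (fun φ => φ.appTop.hom r) (pullback.condition (f := τ j) (g := f₀))
      simpa only [Scheme.Hom.comp_appTop, CommRingCat.hom_comp, RingHom.comp_apply] using h.symm
    show (pullback.snd (τ j) f₀).appTop (f₀.appTop r) ∈ C j
    rw [h1]
    exact hC1 j _
  | add x y _ _ hx hy => rw [map_add]; exact (C j).add_mem hx hy
  | mul x y _ _ hx hy => rw [map_mul]; exact (C j).mul_mem hx hy

include hτ hcE hp in
/-- Affine core for closed immersions. -/
theorem core_closedImmersion_of_isAffine [∀ j, IsAffine (E.obj j)] [IsAffine T] [IsAffine X₀]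
    [LocallyOfFiniteType f₀] [IsClosedImmersion (pullback.fst p f₀)] :
    ∃ j, IsClosedImmersion (pullback.fst (τ j) f₀) := by
  have : IsAffine cE.pt := Scheme.isAffine_of_isLimit cE hcE
  have hXaff : ∀ j, IsAffine ((LimPB.XS E τ hτ f₀).obj j) :=
    fun j => (inferInstance : IsAffine (pullback (τ j) f₀))
  have hsurj : Function.Surjective (pullback.fst p f₀).appTop :=
    (IsClosedImmersion.isAffine_surjective_of_isAffine _).2
  have hC2 : ∀ {j k : J} (φ : k ⟶ j) (x : Γ(pullback (τ j) f₀, ⊤)),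
      x ∈ (pullback.fst (τ j) f₀).appTop.hom.range →
      ((LimPB.XS E τ hτ f₀).map φ).appTop x ∈ (pullback.fst (τ k) f₀).appTop.hom.range := by
    rintro j k φ x ⟨b, rfl⟩
    exact ⟨(E.map φ).appTop b, (appTop_map_fst E τ hτ f₀ φ b).symm⟩
  have hC3 : ∀ a : Γ(X₀, ⊤), ∃ j, (pullback.snd (τ j) f₀).appTop a ∈
      (pullback.fst (τ j) f₀).appTop.hom.range := by
    intro a
    obtain ⟨b, hb⟩ := hsurj ((pullback.snd p f₀).appTop a)
    obtain ⟨j, t, rfl⟩ := exists_appTop_π_eq_of_isAffine_of_isLimit E cE hcE b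
    have hd : ((LimPB.cX E τ hτ cE p hp f₀).π.app j).appTop
        ((pullback.snd (τ j) f₀).appTop a - (pullback.fst (τ j) f₀).appTop t) = 0 := by
      exact (map_sub ((LimPB.cX E τ hτ cE p hp f₀).π.app j).appTop.hom _ _).trans
        (sub_eq_zero.mpr ((appTop_π_snd E τ hτ cE p hp f₀ j a).trans
          (hb.symm.trans (appTop_π_fst E τ hτ cE p hp f₀ j t).symm)))
    obtain ⟨k, φ, hk⟩ := exists_appTop_map_eq_zero_of_isAffine_of_isLimit
      (LimPB.XS E τ hτ f₀) (LimPB.cX E τ hτ cE p hp f₀) (LimPB.hcX E τ hτ cE hcE p hp f₀) j _ hd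
    refine ⟨k, (E.map φ).appTop t, ?_⟩
    have hk' := sub_eq_zero.mp
      ((map_sub ((LimPB.XS E τ hτ f₀).map φ).appTop.hom _ _).symm.trans hk)
    exact (appTop_map_fst E τ hτ f₀ φ t).symm.trans
      (hk'.symm.trans (appTop_map_snd E τ hτ f₀ φ a))
  obtain ⟨j, hj⟩ := exists_subring_eq_top E τ hτ f₀
    (fun j => (pullback.fst (τ j) f₀).appTop.hom.range) (fun j b => ⟨b, rfl⟩) hC2 hC3
  refine ⟨j, ?_⟩
  apply IsClosedImmersion.of_surjective_of_isAffine
  intro x
  have : x ∈ (pullback.fst (τ j) f₀).appTop.hom.range := by rw [hj]; trivial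
  exact this

include hcE in
/-- Monic polynomials over the sections of the limit lift to a stage. -/
theorem exists_monic_lift [∀ j, IsAffine (E.obj j)] (P : Polynomial Γ(cE.pt, ⊤)) (hP : P.Monic) :
    ∃ (j : J) (q : Polynomial Γ(E.obj j, ⊤)), q.Monic ∧ q.map (cE.π.app j).appTop.hom = P := by
  classical
  have key : ∀ n : ℕ, ∃ (j : J) (t : Γ(E.obj j, ⊤)), (cE.π.app j).appTop t = P.coeff n :=
    fun n => exists_appTop_π_eq_of_isAffine_of_isLimit E cE hcE _
  choose jn tn htn using key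
  obtain ⟨j, hj⟩ := IsCofiltered.inf_objs_exists (P.support.image jn)
  have hl : P ∈ Polynomial.lifts (cE.π.app j).appTop.hom := by
    rw [Polynomial.lifts_iff_coeff_lifts]
    intro n
    by_cases hn : n ∈ P.support
    · have φ : j ⟶ jn n := (hj (Finset.mem_image_of_mem _ hn)).some
      refine ⟨(E.map φ).appTop (tn n), ?_⟩
      rw [← htn n]
      have h := congrArg (fun ψ => ψ.appTop) (cE.w φ)
      simp only [Scheme.Hom.comp_appTop] at h
      exact congrArg (fun ψ => ψ.hom (tn n)) h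
    · rw [Polynomial.notMem_support_iff.mp hn]
      exact ⟨0, map_zero _⟩
  obtain ⟨q, hq, -, hqm⟩ := Polynomial.lifts_and_natDegree_eq_and_monic hl hP
  exact ⟨j, q, hqm, hq⟩

include hτ hcE hp in
/-- Affine core for finite morphisms. -/
theorem core_finite_of_isAffine [∀ j, IsAffine (E.obj j)] [IsAffine T] [IsAffine X₀]
    [LocallyOfFiniteType f₀] [IsFinite (pullback.fst p f₀)] :
    ∃ j, IsFinite (pullback.fst (τ j) f₀) := by
  have : IsAffine cE.pt := Scheme.isAffine_of_isLimit cE hcE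
  have hXaff : ∀ j, IsAffine ((LimPB.XS E τ hτ f₀).obj j) :=
    fun j => (inferInstance : IsAffine (pullback (τ j) f₀))
  have hint0 : (pullback.fst p f₀).appTop.hom.IsIntegral :=
    ((HasAffineProperty.iff_of_isAffine (P := @IsIntegralHom)).mp inferInstance).2
  let C : ∀ j, Subring Γ(pullback (τ j) f₀, ⊤) := fun j =>
    { carrier := {x | (pullback.fst (τ j) f₀).appTop.hom.IsIntegralElem x}
      mul_mem' := fun hx hy => RingHom.IsIntegralElem.mul _ hx hy
      one_mem' := by
        have := (pullback.fst (τ j) f₀).appTop.hom.isIntegralElem_map (x := 1)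
        rwa [map_one] at this
      add_mem' := fun hx hy => RingHom.IsIntegralElem.add _ hx hy
      zero_mem' := by
        have := (pullback.fst (τ j) f₀).appTop.hom.isIntegralElem_map (x := 0)
        rwa [map_zero] at this
      neg_mem' := fun hx => RingHom.IsIntegralElem.neg _ hx }
  have hC2 : ∀ {j k : J} (φ : k ⟶ j) (x : Γ(pullback (τ j) f₀, ⊤)),
      x ∈ C j → ((LimPB.XS E τ hτ f₀).map φ).appTop x ∈ C k := by
    rintro j k φ x ⟨q, hq, hqx⟩
    refine ⟨q.map (E.map φ).appTop.hom, hq.map _, ?_⟩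
    rw [Polynomial.eval₂_map]
    have h1 : (pullback.fst (τ k) f₀).appTop.hom.comp (E.map φ).appTop.hom =
        ((LimPB.XS E τ hτ f₀).map φ).appTop.hom.comp (pullback.fst (τ j) f₀).appTop.hom := by
      ext b
      exact (appTop_map_fst E τ hτ f₀ φ b).symm
    rw [h1]
    exact (Polynomial.hom_eval₂ q _ ((LimPB.XS E τ hτ f₀).map φ).appTop.hom x).symm.trans
      ((congrArg _ hqx).trans (map_zero _))
  have hC3 : ∀ a : Γ(X₀, ⊤), ∃ j, (pullback.snd (τ j) f₀).appTop a ∈ C j := by
    intro a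
    obtain ⟨P, hP, hPa⟩ := hint0 ((pullback.snd p f₀).appTop a)
    obtain ⟨j, q, hq, rfl⟩ := exists_monic_lift E cE hcE P hP
    have hd : ((LimPB.cX E τ hτ cE p hp f₀).π.app j).appTop
        (Polynomial.eval₂ (pullback.fst (τ j) f₀).appTop.hom
          ((pullback.snd (τ j) f₀).appTop a) q) = 0 := by
      have h1 : (pullback.fst p f₀).appTop.hom.comp (cE.π.app j).appTop.hom =
          ((LimPB.cX E τ hτ cE p hp f₀).π.app j).appTop.hom.comp
            (pullback.fst (τ j) f₀).appTop.hom := by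
        ext b
        exact (appTop_π_fst E τ hτ cE p hp f₀ j b).symm
      rw [Polynomial.eval₂_map, h1] at hPa
      rw [← appTop_π_snd E τ hτ cE p hp f₀ j a] at hPa
      exact (Polynomial.hom_eval₂ q _ ((LimPB.cX E τ hτ cE p hp f₀).π.app j).appTop.hom _).trans hPa
    obtain ⟨k, φ, hk⟩ := exists_appTop_map_eq_zero_of_isAffine_of_isLimit
      (LimPB.XS E τ hτ f₀) (LimPB.cX E τ hτ cE p hp f₀) (LimPB.hcX E τ hτ cE hcE p hp f₀) j _ hd
    refine ⟨k, q.map (E.map φ).appTop.hom, hq.map _, ?_⟩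
    rw [Polynomial.eval₂_map]
    have h1 : (pullback.fst (τ k) f₀).appTop.hom.comp (E.map φ).appTop.hom =
        ((LimPB.XS E τ hτ f₀).map φ).appTop.hom.comp (pullback.fst (τ j) f₀).appTop.hom := by
      ext b
      exact (appTop_map_fst E τ hτ f₀ φ b).symm
    rw [h1, ← appTop_map_snd E τ hτ f₀ φ a]
    exact (Polynomial.hom_eval₂ q _ ((LimPB.XS E τ hτ f₀).map φ).appTop.hom _).symm.trans hk
  obtain ⟨j, hj⟩ := exists_subring_eq_top E τ hτ f₀ C
    (fun j b => (pullback.fst (τ j) f₀).appTop.hom.isIntegralElem_map) hC2 hC3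
  refine ⟨j, ?_⟩
  have hft : RingHom.FiniteType (pullback.fst (τ j) f₀).appTop.hom :=
    (HasRingHomProperty.iff_of_isAffine (P := @LocallyOfFiniteType)).mp inferInstance
  have hint : (pullback.fst (τ j) f₀).appTop.hom.IsIntegral := by
    intro x
    have : x ∈ C j := by rw [hj]; trivial
    exact this
  rw [HasAffineProperty.iff_of_isAffine (P := @IsFinite)]
  exact ⟨inferInstance, hint.to_finite hft⟩

end

end Groth.Agent.Lib.helper11.LimDescendCI
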