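import Mathlib
import Groth.Agent.Lib.helper11.LimDescend
import Groth.Agent.Lib.helper11.LimDescendCI
import Groth.Agent.Lib.helper11.LimClosedImm2

set_option autoImplicit false
universe u
open CategoryTheory CategoryTheory.Limits AlgebraicGeometry

namespace Groth.Agent.Lib.helper11.LimCart

open Groth.Agent.Lib.helper11

/-- A cartesian morphism of diagrams together with compatible cones. -/
structure CartSys {J : Type u} [Category.{u} J] {E XS : J ⥤ Scheme.{u}} (fS : XS ⟶ E)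
    (cE : Cone E) (cX : Cone XS) (f : cX.pt ⟶ cE.pt) : Prop where
  map : ∀ {k j : J} (φ : k ⟶ j), IsPullback (XS.map φ) (fS.app k) (fS.app j) (E.map φ)
  π : ∀ j, IsPullback (cX.π.app j) f (fS.app j) (cE.π.app j)

lemma fst_iff (P : MorphismProperty Scheme.{u}) [P.RespectsIso] {A A' B C D : Scheme.{u}}
    {f : B ⟶ D} {g : C ⟶ D} {a : A ⟶ B} {b : A ⟶ C} {a' : A' ⟶ B} {b' : A' ⟶ C}
    (h : IsPullback a b f g) (h' : IsPullback a' b' f g) : P a ↔ P a' := by
  rw [← h.isoIsPullback_hom_fst _ _ h']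
  exact P.cancel_left_of_respectsIso _ _

section

variable {J : Type u} [SmallCategory J] [IsCofiltered J] {E XS : J ⥤ Scheme.{u}} {fS : XS ⟶ E}
  {cE : Cone E} {cX : Cone XS} {f : cX.pt ⟶ cE.pt}

theorem abstract_of_tau (P : MorphismProperty Scheme.{u}) [P.IsStableUnderBaseChange]
    (hS : CartSys fS cE cX f) (j₁ : J) (hf : P f)
    (H : P (pullback.fst (cE.π.app j₁) (fS.app j₁)) →
      ∃ j : Over j₁, P (pullback.fst (E.map j.hom) (fS.app j₁))) :
    ∃ (j : J) (_ : j ⟶ j₁), P (fS.app j) := by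
  have h1 : P (pullback.fst (cE.π.app j₁) (fS.app j₁)) :=
    (fst_iff P (hS.π j₁).flip (IsPullback.of_hasPullback _ _)).mp hf
  obtain ⟨j, hj⟩ := H h1
  exact ⟨j.left, j.hom, (fst_iff P (IsPullback.of_hasPullback _ _) (hS.map j.hom).flip).mp hj⟩

lemma CartSys.of_map (P : MorphismProperty Scheme.{u}) [P.IsStableUnderBaseChange]
    (hS : CartSys fS cE cX f) {k j : J} (φ : k ⟶ j) (h : P (fS.app j)) : P (fS.app k) :=
  MorphismProperty.of_isPullback (hS.map φ) h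

/-- Abstract form of the affine core. -/
theorem core_affine (hS : CartSys fS cE cX f) (hcE : IsLimit cE)
    [∀ (i j : J) (φ : i ⟶ j), IsAffineHom (E.map φ)] [∀ j, CompactSpace (E.obj j)]
    [∀ j, QuasiSeparatedSpace (E.obj j)]
    [∀ j, QuasiCompact (fS.app j)] [∀ j, QuasiSeparated (fS.app j)] [IsAffineHom f] :
    ∃ j₁ : J, ∀ (j : J) (_ : j ⟶ j₁), IsAffineHom (fS.app j) := by
  obtain ⟨j₀⟩ : Nonempty J := IsCofiltered.nonempty
  obtain ⟨j, φ, hj⟩ := abstract_of_tau @IsAffineHom hS j₀ ‹_› (fun h => by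
    have := h
    have h1 : ∀ (i j : Over j₀) (φ : i ⟶ j), IsAffineHom ((Over.forget j₀ ⋙ E).map φ) :=
      fun i j φ => inferInstanceAs (IsAffineHom (E.map φ.left))
    have h2 : ∀ j : Over j₀, CompactSpace ((Over.forget j₀ ⋙ E).obj j) :=
      fun j => inferInstanceAs (CompactSpace (E.obj j.left))
    have h3 : ∀ j : Over j₀, QuasiSeparatedSpace ((Over.forget j₀ ⋙ E).obj j) :=
      fun j => inferInstanceAs (QuasiSeparatedSpace (E.obj j.left))
    obtain ⟨j₁, hj₁⟩ := LimDescend.core_affine (Over.forget j₀ ⋙ E) (fun j => E.map j.hom)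
      (fun {j k} φ => by
        show E.map φ.left ≫ E.map k.hom = E.map j.hom
        rw [← E.map_comp, Over.w φ])
      (cE.whisker (Over.forget j₀))
      ((Functor.Initial.isLimitWhiskerEquiv (Over.forget j₀) cE).symm hcE) (cE.π.app j₀)
      (fun j => cE.w j.hom) (fS.app j₀)
    exact ⟨j₁, hj₁ j₁ (𝟙 _)⟩)
  exact ⟨j, fun k ψ => hS.of_map @IsAffineHom ψ hj⟩

end

section Restrict

variable {J : Type u} [SmallCategory J] {E XS : J ⥤ Scheme.{u}} (fS : XS ⟶ E)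
  (cE : Cone E) (cX : Cone XS) (f : cX.pt ⟶ cE.pt) (hS : CartSys fS cE cX f) (j₁ : J)
  (W : (E.obj j₁).Opens)

lemma preimage_eq (j : Over j₁) :
    XS.map j.hom ⁻¹ᵁ (fS.app j₁ ⁻¹ᵁ W) = fS.app j.left ⁻¹ᵁ (E.map j.hom ⁻¹ᵁ W) := by
  rw [← Scheme.Hom.comp_preimage, ← Scheme.Hom.comp_preimage]
  have h : XS.map j.hom ≫ fS.app j₁ = fS.app j.left ≫ E.map j.hom := fS.naturality j.hom
  rw [h]

include hS in
lemma preimage_eq_π :
    cX.π.app j₁ ⁻¹ᵁ (fS.app j₁ ⁻¹ᵁ W) = f ⁻¹ᵁ (cE.π.app j₁ ⁻¹ᵁ W) := by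
  rw [← Scheme.Hom.comp_preimage, ← Scheme.Hom.comp_preimage, (hS.π j₁).w]

/-- The restricted morphism of diagrams. -/
noncomputable def fSW : opensDiagram XS j₁ (fS.app j₁ ⁻¹ᵁ W) ⟶ opensDiagram E j₁ W where
  app j := (fS.app j.left).resLE (E.map j.hom ⁻¹ᵁ W) (XS.map j.hom ⁻¹ᵁ (fS.app j₁ ⁻¹ᵁ W))
    (preimage_eq fS j₁ W j).le
  naturality := by
    intro j k φ
    show (XS.map φ.left).resLE _ _ _ ≫ (fS.app k.left).resLE _ _ _ =
      (fS.app j.left).resLE _ _ _ ≫ (E.map φ.left).resLE _ _ _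
    rw [Scheme.Hom.resLE_comp_resLE, Scheme.Hom.resLE_comp_resLE]
    simp only [fS.naturality]

/-- The restricted morphism of cone points. -/
noncomputable def fW (hS : CartSys fS cE cX f) :
    (opensCone XS cX j₁ (fS.app j₁ ⁻¹ᵁ W)).pt ⟶ (opensCone E cE j₁ W).pt :=
  f.resLE (cE.π.app j₁ ⁻¹ᵁ W) (cX.π.app j₁ ⁻¹ᵁ (fS.app j₁ ⁻¹ᵁ W))
    (preimage_eq_π fS cE cX f hS j₁ W).le

theorem cartSysW : CartSys (fSW fS j₁ W) (opensCone E cE j₁ W)
    (opensCone XS cX j₁ (fS.app j₁ ⁻¹ᵁ W)) (fW fS cE cX f j₁ W hS) where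
  map := by
    intro k j φ
    refine Scheme.Hom.isPullback_resLE (hS.map φ.left) _ _ ?_
    have e1 : XS.map φ.left ⁻¹ᵁ XS.map j.hom ⁻¹ᵁ fS.app j₁ ⁻¹ᵁ W =
        XS.map k.hom ⁻¹ᵁ fS.app j₁ ⁻¹ᵁ W := by
      rw [← Scheme.Hom.comp_preimage (XS.map φ.left) (XS.map j.hom), ← XS.map_comp, Over.w φ]
    rw [e1, ← preimage_eq fS j₁ W k, inf_idem]
  π := by
    intro j
    refine Scheme.Hom.isPullback_resLE (hS.π j.left) _ _ ?_
    have e1 : cX.π.app j.left ⁻¹ᵁ XS.map j.hom ⁻¹ᵁ fS.app j₁ ⁻¹ᵁ W =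
        cX.π.app j₁ ⁻¹ᵁ fS.app j₁ ⁻¹ᵁ W := by
      rw [← Scheme.Hom.comp_preimage (cX.π.app j.left) (XS.map j.hom), cX.w]
    rw [e1, ← preimage_eq_π fS cE cX f hS j₁ W, inf_idem]

end Restrict

/-- τ-form affine core statement for `P`. -/
def AffCore (P : MorphismProperty Scheme.{u}) : Prop :=
  ∀ {J : Type u} [SmallCategory J] [IsCofiltered J] (E : J ⥤ Scheme.{u}) {T : Scheme.{u}}
    (τ : ∀ j, E.obj j ⟶ T) (_ : ∀ {j k : J} (φ : j ⟶ k), E.map φ ≫ τ k = τ j)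
    (cE : Cone E) (_ : IsLimit cE) (p : cE.pt ⟶ T) (_ : ∀ j, cE.π.app j ≫ τ j = p)
    {X₀ : Scheme.{u}} (f₀ : X₀ ⟶ T) [∀ j, IsAffine (E.obj j)] [IsAffine T] [IsAffine X₀]
    [LocallyOfFiniteType f₀], P (pullback.fst p f₀) → ∃ j, P (pullback.fst (τ j) f₀)

section

variable {J : Type u} [SmallCategory J] [IsCofiltered J] {E XS : J ⥤ Scheme.{u}} {fS : XS ⟶ E}
  {cE : Cone E} {cX : Cone XS} {f : cX.pt ⟶ cE.pt}

theorem affCore_abstract {P : MorphismProperty Scheme.{u}} [P.IsStableUnderBaseChange]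
    (hcore : AffCore P) (hS : CartSys fS cE cX f) (hcE : IsLimit cE)
    [∀ j, IsAffine (E.obj j)] [∀ j, IsAffine (XS.obj j)] (j₁ : J)
    [LocallyOfFiniteType (fS.app j₁)] (hf : P f) : ∃ (j : J) (_ : j ⟶ j₁), P (fS.app j) := by
  refine abstract_of_tau P hS j₁ hf (fun h => ?_)
  have h1 : ∀ j : Over j₁, IsAffine ((Over.forget j₁ ⋙ E).obj j) :=
    fun j => inferInstanceAs (IsAffine (E.obj j.left))
  exact hcore (Over.forget j₁ ⋙ E) (fun j => E.map j.hom)
    (fun {j k} φ => by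
      show E.map φ.left ≫ E.map k.hom = E.map j.hom
      rw [← E.map_comp, Over.w φ])
    (cE.whisker (Over.forget j₁))
    ((Functor.Initial.isLimitWhiskerEquiv (Over.forget j₁) cE).symm hcE) (cE.π.app j₁)
    (fun j => cE.w j.hom) (fS.app j₁) h

/-- Globalization: from the affine core to the general core, for properties of affine
morphisms that are local on the target and stable under base change. -/
theorem core_of_affCore {P : MorphismProperty Scheme.{u}} [P.IsStableUnderBaseChange]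
    [IsZariskiLocalAtTarget P]
    (hPaff : ∀ {X Y : Scheme.{u}} (g : X ⟶ Y), P g → IsAffineHom g) (hcore : AffCore P)
    (hS : CartSys fS cE cX f) (hcE : IsLimit cE)
    [∀ (i j : J) (φ : i ⟶ j), IsAffineHom (E.map φ)] [∀ j, CompactSpace (E.obj j)]
    [∀ j, QuasiSeparatedSpace (E.obj j)]
    [∀ j, QuasiCompact (fS.app j)] [∀ j, QuasiSeparated (fS.app j)]
    [∀ j, LocallyOfFiniteType (fS.app j)]
    (hf : P f) : ∃ j, P (fS.app j) := by
  classical
  have : IsAffineHom f := hPaff f hf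
  obtain ⟨j₁, hj₁⟩ := core_affine hS hcE
  have hXSaff : ∀ {k j : J} (φ : k ⟶ j), IsAffineHom (XS.map φ) :=
    fun φ => MorphismProperty.of_isPullback (hS.map φ).flip inferInstance
  have hfj₁ : IsAffineHom (fS.app j₁) := hj₁ j₁ (𝟙 _)
  have step : ∀ W : (E.obj j₁).Opens, IsAffineOpen W →
      ∃ j : Over j₁, P ((fSW fS j₁ W).app j) := by
    intro W hW
    have hSW := cartSysW fS cE cX f hS j₁ W
    have a1 : ∀ j : Over j₁, IsAffine ((opensDiagram E j₁ W).obj j) :=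
      fun j => hW.preimage (E.map j.hom)
    have a2 : ∀ j : Over j₁, IsAffine ((opensDiagram XS j₁ (fS.app j₁ ⁻¹ᵁ W)).obj j) := by
      intro j
      have := hXSaff j.hom
      exact (hW.preimage (fS.app j₁)).preimage (XS.map j.hom)
    have a3 : LocallyOfFiniteType ((fSW fS j₁ W).app (Over.mk (𝟙 j₁))) :=
      LimClosedImm2.locallyOfFiniteType_resLE _ _ _ _
    have a4 : P (fW fS cE cX f j₁ W hS) := by
      have h1 := IsZariskiLocalAtTarget.restrict hf (cE.π.app j₁ ⁻¹ᵁ W)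
      rw [← Scheme.Hom.resLE_eq_morphismRestrict] at h1
      exact (Scheme.Hom.resLE_congr _ _ rfl (preimage_eq_π fS cE cX f hS j₁ W).symm P).mp h1
    obtain ⟨j, _, hj⟩ := affCore_abstract hcore hSW (isLimitOpensCone E cE hcE j₁ W)
      (Over.mk (𝟙 j₁)) a4
    exact ⟨j, hj⟩
  have mono : ∀ (W : (E.obj j₁).Opens) {k j : Over j₁} (φ : k ⟶ j),
      P ((fSW fS j₁ W).app j) → P ((fSW fS j₁ W).app k) :=
    fun W k j φ h => (cartSysW fS cE cX f hS j₁ W).of_map P φ h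
  have hnh : ∀ x : E.obj j₁, ∃ U : (E.obj j₁).Opens, IsAffineOpen U ∧ x ∈ U := by
    intro x
    obtain ⟨_, ⟨U, hU : IsAffineOpen U, rfl⟩, hxU, -⟩ :=
      (E.obj j₁).isBasis_affineOpens.exists_subset_of_mem_open (Set.mem_univ x) isOpen_univ
    exact ⟨U, hU, hxU⟩
  choose U hU hxU using hnh
  obtain ⟨t, ht⟩ := CompactSpace.elim_nhds_subcover (fun x => (U x : Set (E.obj j₁)))
    (fun x => (U x).isOpen.mem_nhds (hxU x))
  choose jx hjx using fun x => step (U x) (hU x)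
  obtain ⟨j, hj⟩ := IsCofiltered.inf_objs_exists (t.image jx)
  have hcov : (⨆ x : t, U x.1) = ⊤ := by
    rw [eq_top_iff]
    intro y _
    have hy : y ∈ ⋃ x ∈ t, (U x : Set (E.obj j₁)) := by rw [ht]; trivial
    simp only [Set.mem_iUnion] at hy
    obtain ⟨x, hx, hyx⟩ := hy
    exact TopologicalSpace.Opens.mem_iSup.mpr ⟨⟨x, hx⟩, hyx⟩
  refine ⟨j.left, ?_⟩
  have hcov' : (⨆ x : t, E.map j.hom ⁻¹ᵁ U x.1) = ⊤ := by
    rw [← Scheme.Hom.preimage_iSup, hcov, Scheme.Hom.preimage_top]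
  apply IsZariskiLocalAtTarget.of_iSup_eq_top (P := P) (fun x : t => E.map j.hom ⁻¹ᵁ U x.1) hcov'
  intro x
  have h1 : P ((fSW fS j₁ (U x.1)).app j) :=
    mono _ (hj (Finset.mem_image_of_mem _ x.2)).some (hjx x.1)
  rw [← Scheme.Hom.resLE_eq_morphismRestrict]
  exact (Scheme.Hom.resLE_congr _ _ rfl (preimage_eq fS j₁ (U x.1) j) P).mp h1

end

section

variable {J : Type u} [SmallCategory J] [IsCofiltered J] {E XS : J ⥤ Scheme.{u}} {fS : XS ⟶ E}
  {cE : Cone E} {cX : Cone XS} {f : cX.pt ⟶ cE.pt}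

/-- Localization on a finite affine cover of a compact stage. -/
theorem core_of_forall_affine {P : MorphismProperty Scheme.{u}} [P.IsStableUnderBaseChange]
    [IsZariskiLocalAtTarget P] (hS : CartSys fS cE cX f) (j₁ : J) [CompactSpace (E.obj j₁)]
    (step : ∀ W : (E.obj j₁).Opens, IsAffineOpen W → P (fW fS cE cX f j₁ W hS) →
      ∃ j : Over j₁, P ((fSW fS j₁ W).app j))
    (hf : P f) : ∃ j : Over j₁, P (fS.app j.left) := by
  classical
  have step' : ∀ W : (E.obj j₁).Opens, IsAffineOpen W →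
      ∃ j : Over j₁, P ((fSW fS j₁ W).app j) := by
    intro W hW
    apply step W hW
    have h1 := IsZariskiLocalAtTarget.restrict hf (cE.π.app j₁ ⁻¹ᵁ W)
    rw [← Scheme.Hom.resLE_eq_morphismRestrict] at h1
    exact (Scheme.Hom.resLE_congr _ _ rfl (preimage_eq_π fS cE cX f hS j₁ W).symm P).mp h1
  have mono : ∀ (W : (E.obj j₁).Opens) {k j : Over j₁} (φ : k ⟶ j),
      P ((fSW fS j₁ W).app j) → P ((fSW fS j₁ W).app k) :=
    fun W k j φ h => (cartSysW fS cE cX f hS j₁ W).of_map P φ h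
  have hnh : ∀ x : E.obj j₁, ∃ U : (E.obj j₁).Opens, IsAffineOpen U ∧ x ∈ U := by
    intro x
    obtain ⟨_, ⟨U, hU : IsAffineOpen U, rfl⟩, hxU, -⟩ :=
      (E.obj j₁).isBasis_affineOpens.exists_subset_of_mem_open (Set.mem_univ x) isOpen_univ
    exact ⟨U, hU, hxU⟩
  choose U hU hxU using hnh
  obtain ⟨t, ht⟩ := CompactSpace.elim_nhds_subcover (fun x => (U x : Set (E.obj j₁)))
    (fun x => (U x).isOpen.mem_nhds (hxU x))
  choose jx hjx using fun x => step' (U x) (hU x)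
  obtain ⟨j, hj⟩ := IsCofiltered.inf_objs_exists (t.image jx)
  have hcov : (⨆ x : t, U x.1) = ⊤ := by
    rw [eq_top_iff]
    intro y _
    have hy : y ∈ ⋃ x ∈ t, (U x : Set (E.obj j₁)) := by rw [ht]; trivial
    simp only [Set.mem_iUnion] at hy
    obtain ⟨x, hx, hyx⟩ := hy
    exact TopologicalSpace.Opens.mem_iSup.mpr ⟨⟨x, hx⟩, hyx⟩
  refine ⟨j, ?_⟩
  have hcov' : (⨆ x : t, E.map j.hom ⁻¹ᵁ U x.1) = ⊤ := by
    rw [← Scheme.Hom.preimage_iSup, hcov, Scheme.Hom.preimage_top]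
  apply IsZariskiLocalAtTarget.of_iSup_eq_top (P := P) (fun x : t => E.map j.hom ⁻¹ᵁ U x.1) hcov'
  intro x
  have h1 : P ((fSW fS j₁ (U x.1)).app j) :=
    mono _ (hj (Finset.mem_image_of_mem _ x.2)).some (hjx x.1)
  rw [← Scheme.Hom.resLE_eq_morphismRestrict]
  exact (Scheme.Hom.resLE_congr _ _ rfl (preimage_eq fS j₁ (U x.1) j) P).mp h1

end

section Tau

variable {J : Type u} [SmallCategory J] [IsCofiltered J] (E : J ⥤ Scheme.{u}) {T : Scheme.{u}}
  (τ : ∀ j, E.obj j ⟶ T) (hτ : ∀ {j k : J} (φ : j ⟶ k), E.map φ ≫ τ k = τ j)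
  (cE : Cone E) (hcE : IsLimit cE) (p : cE.pt ⟶ T)
  (hp : ∀ j, cE.π.app j ≫ τ j = p) {X₀ : Scheme.{u}} (f₀ : X₀ ⟶ T)

/-- The structure map of the pulled back system. -/
noncomputable def fS : LimPB.XS E τ hτ f₀ ⟶ E where
  app j := pullback.fst (τ j) f₀
  naturality := by
    intro j k φ
    exact LimPB.map_fst E τ hτ f₀ φ

lemma fS_app (j : J) : (fS E τ hτ f₀).app j = pullback.fst (τ j) f₀ := rfl

theorem cartSys_tau : CartSys (fS E τ hτ f₀) cE (LimPB.cX E τ hτ cE p hp f₀)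
    (pullback.fst p f₀ : (LimPB.cX E τ hτ cE p hp f₀).pt ⟶ cE.pt) where
  map φ := LimPB.isPullback_map E τ hτ f₀ φ
  π j := LimPB.isPullback_π E τ hτ cE p hp f₀ j

include hτ hcE hp in
theorem core_tau_of_affCore {P : MorphismProperty Scheme.{u}} [P.IsStableUnderBaseChange]
    [IsZariskiLocalAtTarget P]
    (hPaff : ∀ {X Y : Scheme.{u}} (g : X ⟶ Y), P g → IsAffineHom g) (hcore : AffCore P)
    [∀ (i j : J) (φ : i ⟶ j), IsAffineHom (E.map φ)] [∀ j, CompactSpace (E.obj j)]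
    [∀ j, QuasiSeparatedSpace (E.obj j)]
    [QuasiCompact f₀] [QuasiSeparated f₀] [LocallyOfFiniteType f₀]
    (h : P (pullback.fst p f₀)) : ∃ j, P (pullback.fst (τ j) f₀) := by
  have h1 : ∀ j, QuasiCompact ((fS E τ hτ f₀).app j) :=
    fun j => inferInstanceAs (QuasiCompact (pullback.fst (τ j) f₀))
  have h2 : ∀ j, QuasiSeparated ((fS E τ hτ f₀).app j) :=
    fun j => inferInstanceAs (QuasiSeparated (pullback.fst (τ j) f₀))
  have h3 : ∀ j, LocallyOfFiniteType ((fS E τ hτ f₀).app j) :=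
    fun j => inferInstanceAs (LocallyOfFiniteType (pullback.fst (τ j) f₀))
  exact core_of_affCore hPaff hcore (cartSys_tau E τ hτ cE p hp f₀) hcE h

end Tau

theorem affCore_isClosedImmersion : AffCore.{u} @IsClosedImmersion := by
  intro J _ _ E T τ hτ cE hcE p hp X₀ f₀ _ _ _ _ h
  have := h
  exact LimDescendCI.core_closedImmersion_of_isAffine E τ hτ cE hcE p hp f₀

theorem affCore_isFinite : AffCore.{u} @IsFinite := by
  intro J _ _ E T τ hτ cE hcE p hp X₀ f₀ _ _ _ _ h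
  have := h
  exact LimDescendCI.core_finite_of_isAffine E τ hτ cE hcE p hp f₀

end Groth.Agent.Lib.helper11.LimCart
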