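import Mathlib
import Groth.Agent.Lib.helper11.LimCart

set_option autoImplicit false
universe u
open CategoryTheory CategoryTheory.Limits AlgebraicGeometry

namespace Groth.Agent.Lib.helper11.LimDiag

open Groth.Agent.Lib.helper11 Groth.Agent.Lib.helper11.LimCart

attribute [local instance] IsCofiltered.isConnected

lemma isPullback_map_fst {X' X Y' Y : Scheme.{u}} {g' : X' ⟶ X} {f' : X' ⟶ Y'} {f : X ⟶ Y}
    {g : Y' ⟶ Y} (h : IsPullback g' f' f g) :
    IsPullback (pullback.map f' f' f f g' g' g h.w.symm h.w.symm) (pullback.fst f' f')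
      (pullback.fst f f) g' := by
  have outer : IsPullback (pullback.snd f' f' ≫ g') (pullback.fst f' f') f (f' ≫ g) :=
    (IsPullback.of_hasPullback f' f').flip.paste_horiz h
  have e1 : pullback.map f' f' f f g' g' g h.w.symm h.w.symm ≫ pullback.snd f f =
      pullback.snd f' f' ≫ g' := pullback.lift_snd _ _ _
  have e2 : pullback.map f' f' f f g' g' g h.w.symm h.w.symm ≫ pullback.fst f f =
      pullback.fst f' f' ≫ g' := pullback.lift_fst _ _ _
  have outer' : IsPullback (pullback.map f' f' f f g' g' g h.w.symm h.w.symm ≫ pullback.snd f f)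
      (pullback.fst f' f') f (g' ≫ f) := by
    rw [e1, h.w]; exact outer
  exact IsPullback.of_right outer' e2 (IsPullback.of_hasPullback f f).flip

lemma isPullback_diagonal {X' X Y' Y : Scheme.{u}} {g' : X' ⟶ X} {f' : X' ⟶ Y'} {f : X ⟶ Y}
    {g : Y' ⟶ Y} (h : IsPullback g' f' f g) :
    IsPullback g' (pullback.diagonal f') (pullback.diagonal f)
      (pullback.map f' f' f f g' g' g h.w.symm h.w.symm) := by
  refine IsPullback.of_bot ?_ ?_ (isPullback_map_fst h)
  · rw [pullback.diagonal_fst, pullback.diagonal_fst]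
    exact IsPullback.id_vert g'
  · apply pullback.hom_ext <;>
    simp only [Category.assoc, pullback.lift_fst, pullback.lift_snd, pullback.lift_fst_assoc,
      pullback.lift_snd_assoc, pullback.diagonal_fst, pullback.diagonal_snd, pullback.diagonal_fst_assoc,
      pullback.diagonal_snd_assoc, Category.comp_id, Category.id_comp, CategoryTheory.Functor.map_id, CategoryTheory.Functor.map_comp]

section

variable {J : Type u} [SmallCategory J] {E XS : J ⥤ Scheme.{u}} (fS : XS ⟶ E)
  (cE : Cone E) (cX : Cone XS) (f : cX.pt ⟶ cE.pt)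

/-- The diagram of fibre squares `X_j ×_{E_j} X_j`. -/
noncomputable def E2 : J ⥤ Scheme.{u} where
  obj j := pullback (fS.app j) (fS.app j)
  map {k j} φ := pullback.map _ _ _ _ (XS.map φ) (XS.map φ) (E.map φ) (fS.naturality φ).symm
    (fS.naturality φ).symm
  map_id := by
    intro j
    apply pullback.hom_ext <;>
    simp only [Category.assoc, pullback.lift_fst, pullback.lift_snd, pullback.lift_fst_assoc,
      pullback.lift_snd_assoc, pullback.diagonal_fst, pullback.diagonal_snd, pullback.diagonal_fst_assoc,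
      pullback.diagonal_snd_assoc, Category.comp_id, Category.id_comp, CategoryTheory.Functor.map_id, CategoryTheory.Functor.map_comp]
  map_comp := by
    intros
    apply pullback.hom_ext <;>
    simp only [Category.assoc, pullback.lift_fst, pullback.lift_snd, pullback.lift_fst_assoc,
      pullback.lift_snd_assoc, pullback.diagonal_fst, pullback.diagonal_snd, pullback.diagonal_fst_assoc,
      pullback.diagonal_snd_assoc, Category.comp_id, Category.id_comp, CategoryTheory.Functor.map_id, CategoryTheory.Functor.map_comp]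

/-- The diagonal morphism of diagrams. -/
noncomputable def Δ : XS ⟶ E2 fS where
  app j := pullback.diagonal (fS.app j)
  naturality := by
    intro k j φ
    apply pullback.hom_ext <;>
    (dsimp only [E2]; simp only [Category.assoc, pullback.lift_fst, pullback.lift_snd, pullback.lift_fst_assoc,
      pullback.lift_snd_assoc, pullback.diagonal_fst, pullback.diagonal_snd, pullback.diagonal_fst_assoc,
      pullback.diagonal_snd_assoc, Category.comp_id, Category.id_comp, CategoryTheory.Functor.map_id, CategoryTheory.Functor.map_comp])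

/-- The first projection. -/
noncomputable def pr₁ : E2 fS ⟶ XS where
  app j := pullback.fst (fS.app j) (fS.app j)
  naturality := by
    intro k j φ
    dsimp only [E2]
    simp only [Category.assoc, pullback.lift_fst, pullback.lift_snd, pullback.lift_fst_assoc,
      pullback.lift_snd_assoc, pullback.diagonal_fst, pullback.diagonal_snd, pullback.diagonal_fst_assoc,
      pullback.diagonal_snd_assoc, Category.comp_id, Category.id_comp, CategoryTheory.Functor.map_id, CategoryTheory.Functor.map_comp]

variable {fS cE cX f}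

/-- The cone of fibre squares. -/
noncomputable def cE2 (hS : CartSys fS cE cX f) : Cone (E2 fS) where
  pt := pullback f f
  π :=
    { app := fun j => pullback.map f f _ _ (cX.π.app j) (cX.π.app j) (cE.π.app j) (hS.π j).w.symm
        (hS.π j).w.symm
      naturality := by
        intro k j φ
        apply pullback.hom_ext <;>
        (dsimp only [E2]; simp only [Category.assoc, pullback.lift_fst, pullback.lift_snd,
          pullback.lift_fst_assoc, pullback.lift_snd_assoc, Category.comp_id, Category.id_comp,
          Functor.const_obj_obj, Functor.const_obj_map, Cone.w]) }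

/-- It is a limit cone. -/
noncomputable def hcE2 [IsCofiltered J] (hS : CartSys fS cE cX f) (hcX : IsLimit cX) :
    IsLimit (cE2 hS) :=
  isLimitOfIsPullbackOfIsConnected (pr₁ fS) (cE2 hS) cX
    { hom := pullback.fst f f
      w := by
        intro j
        exact (pullback.lift_fst _ _ _).symm }
    (fun j => isPullback_map_fst (hS.π j)) hcX

theorem cartSys_diag (hS : CartSys fS cE cX f) :
    CartSys (Δ fS) (cE2 hS) cX (pullback.diagonal f) where
  map φ := isPullback_diagonal (hS.map φ)
  π j := isPullback_diagonal (hS.π j)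

end

section

variable {J : Type u} [SmallCategory J] [IsCofiltered J] {E XS : J ⥤ Scheme.{u}} {fS : XS ⟶ E}
  {cE : Cone E} {cX : Cone XS} {f : cX.pt ⟶ cE.pt}

lemma isAffineHom_XS_map (hS : CartSys fS cE cX f)
    [∀ (i j : J) (φ : i ⟶ j), IsAffineHom (E.map φ)] {k j : J} (φ : k ⟶ j) :
    IsAffineHom (XS.map φ) :=
  MorphismProperty.of_isPullback (hS.map φ).flip inferInstance

lemma isAffineHom_E2_map (hS : CartSys fS cE cX f)
    [∀ (i j : J) (φ : i ⟶ j), IsAffineHom (E.map φ)] {k j : J} (φ : k ⟶ j) :
    IsAffineHom ((E2 fS).map φ) :=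
  MorphismProperty.of_isPullback (isPullback_map_fst (hS.map φ)).flip (isAffineHom_XS_map hS φ)

lemma compactSpace_XS_obj (j : J) [CompactSpace (E.obj j)] [QuasiCompact (fS.app j)] :
    CompactSpace (XS.obj j) :=
  QuasiCompact.compactSpace_of_compactSpace (fS.app j)

lemma quasiSeparatedSpace_XS_obj (j : J) [QuasiSeparatedSpace (E.obj j)]
    [QuasiSeparated (fS.app j)] : QuasiSeparatedSpace (XS.obj j) :=
  quasiSeparatedSpace_of_quasiSeparated (fS.app j)

lemma compactSpace_E2_obj (j : J) [CompactSpace (E.obj j)] [QuasiCompact (fS.app j)] :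
    CompactSpace ((E2 fS).obj j) := by
  have : CompactSpace (XS.obj j) := compactSpace_XS_obj (fS := fS) j
  have h : CompactSpace ↥(pullback (fS.app j) (fS.app j)) :=
    QuasiCompact.compactSpace_of_compactSpace (pullback.fst (fS.app j) (fS.app j))
  exact h

lemma quasiSeparatedSpace_E2_obj (j : J) [QuasiSeparatedSpace (E.obj j)]
    [QuasiSeparated (fS.app j)] : QuasiSeparatedSpace ((E2 fS).obj j) := by
  have : QuasiSeparatedSpace (XS.obj j) := quasiSeparatedSpace_XS_obj (fS := fS) j
  have h : QuasiSeparatedSpace ↥(pullback (fS.app j) (fS.app j)) :=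
    quasiSeparatedSpace_of_quasiSeparated (pullback.fst (fS.app j) (fS.app j))
  exact h

/-- Separatedness descends (no finiteness hypothesis). -/
theorem core_isSeparated (hS : CartSys fS cE cX f) (hcX : IsLimit cX)
    [∀ (i j : J) (φ : i ⟶ j), IsAffineHom (E.map φ)] [∀ j, CompactSpace (E.obj j)]
    [∀ j, QuasiSeparatedSpace (E.obj j)]
    [∀ j, QuasiCompact (fS.app j)] [∀ j, QuasiSeparated (fS.app j)] [IsSeparated f] :
    ∃ j, IsSeparated (fS.app j) := by
  have hS2 := cartSys_diag hS
  have i1 : ∀ (i j : J) (φ : i ⟶ j), IsAffineHom ((E2 fS).map φ) :=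
    fun _ _ φ => isAffineHom_E2_map hS φ
  have i2 : ∀ j, CompactSpace ((E2 fS).obj j) := fun j => compactSpace_E2_obj j
  have i3 : ∀ j, QuasiSeparatedSpace ((E2 fS).obj j) := fun j => quasiSeparatedSpace_E2_obj j
  have i4 : ∀ j, QuasiCompact ((Δ fS).app j) :=
    fun j => inferInstanceAs (QuasiCompact (pullback.diagonal (fS.app j)))
  have i5 : ∀ j, QuasiSeparated ((Δ fS).app j) :=
    fun j => inferInstanceAs (QuasiSeparated (pullback.diagonal (fS.app j)))
  have i6 : ∀ j, LocallyOfFiniteType ((Δ fS).app j) :=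
    fun j => inferInstanceAs (LocallyOfFiniteType (pullback.diagonal (fS.app j)))
  obtain ⟨j, hj⟩ := core_of_affCore (P := @IsClosedImmersion)
    (fun g hg => by have : IsClosedImmersion g := hg; infer_instance)
    affCore_isClosedImmersion hS2 (hcE2 hS hcX)
    (inferInstance : IsClosedImmersion (pullback.diagonal f))
  exact ⟨j, ⟨hj⟩⟩

end

section Tau

variable {J : Type u} [SmallCategory J] [IsCofiltered J] (E : J ⥤ Scheme.{u}) {T : Scheme.{u}}
  (τ : ∀ j, E.obj j ⟶ T) (hτ : ∀ {j k : J} (φ : j ⟶ k), E.map φ ≫ τ k = τ j)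
  (cE : Cone E) (hcE : IsLimit cE) (p : cE.pt ⟶ T)
  (hp : ∀ j, cE.π.app j ≫ τ j = p) {X₀ : Scheme.{u}} (f₀ : X₀ ⟶ T)

include hτ hcE hp in
theorem core_tau_isSeparated
    [∀ (i j : J) (φ : i ⟶ j), IsAffineHom (E.map φ)] [∀ j, CompactSpace (E.obj j)]
    [∀ j, QuasiSeparatedSpace (E.obj j)] [QuasiCompact f₀] [QuasiSeparated f₀]
    (h : IsSeparated (pullback.fst p f₀)) : ∃ j, IsSeparated (pullback.fst (τ j) f₀) := by
  have h1 : ∀ j, QuasiCompact ((LimCart.fS E τ hτ f₀).app j) :=
    fun j => inferInstanceAs (QuasiCompact (pullback.fst (τ j) f₀))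
  have h2 : ∀ j, QuasiSeparated ((LimCart.fS E τ hτ f₀).app j) :=
    fun j => inferInstanceAs (QuasiSeparated (pullback.fst (τ j) f₀))
  exact @core_isSeparated _ _ _ _ _ _ _ _ _ (LimCart.cartSys_tau E τ hτ cE p hp f₀)
    (LimPB.hcX E τ hτ cE hcE p hp f₀) _ _ _ h1 h2 h

end Tau

end Groth.Agent.Lib.helper11.LimDiag
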