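import Mathlib
import Groth.Agent.Lib.helper11.LimDiag

set_option autoImplicit false
universe u
open CategoryTheory CategoryTheory.Limits AlgebraicGeometry

namespace Groth.Agent.Lib.helper11.LimImm

open Groth.Agent.Lib.helper11 Groth.Agent.Lib.helper11.LimCart

/-- A compact open between a compact set and an open set. -/
lemma exists_isCompact_opens_between (Y : Scheme.{u}) (K : Set Y) (hK : IsCompact K) (W : Y.Opens)
    (hKW : K ⊆ W) : ∃ U : Y.Opens, IsCompact (U : Set Y) ∧ K ⊆ U ∧ U ≤ W := by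
  classical
  have hnh : ∀ x ∈ K, ∃ V : Y.Opens, IsAffineOpen V ∧ x ∈ V ∧ V ≤ W := by
    intro x hx
    obtain ⟨_, ⟨V, hV : IsAffineOpen V, rfl⟩, hxV, hVW⟩ :=
      Y.isBasis_affineOpens.exists_subset_of_mem_open (hKW hx) W.isOpen
    exact ⟨V, hV, hxV, hVW⟩
  choose V hV hxV hVW using hnh
  obtain ⟨t, ht⟩ := hK.elim_nhds_subcover' (fun x hx => (V x hx : Set Y))
    (fun x hx => (V x hx).isOpen.mem_nhds (hxV x hx))
  refine ⟨⨆ x ∈ t, V x.1 x.2, ?_, ?_, ?_⟩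
  · have : ((⨆ x ∈ t, V x.1 x.2 : Y.Opens) : Set Y) = ⋃ x ∈ t, (V x.1 x.2 : Set Y) := by
      simp
    rw [this]
    exact t.isCompact_biUnion (fun x _ => (hV x.1 x.2).isCompact)
  · intro y hy
    have := ht hy
    simp only [Set.mem_iUnion] at this
    obtain ⟨x, hx, hyx⟩ := this
    exact TopologicalSpace.Opens.mem_iSup.mpr ⟨x, TopologicalSpace.Opens.mem_iSup.mpr ⟨hx, hyx⟩⟩
  · exact iSup₂_le (fun x _ => hVW x.1 x.2)

lemma isClosedImmersion_restrict_of_le_coborderRange {X Y : Scheme.{u}} (f : X ⟶ Y) [IsImmersion f]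
    (U : Y.Opens) (h : U ≤ f.coborderRange) : IsClosedImmersion (f ∣_ U) := by
  have sq : IsPullback (f ∣_ U) (f ⁻¹ᵁ U).ι (Y.homOfLE h) f.liftCoborder := by
    refine IsOpenImmersion.isPullback _ _ _ _ ?_ ?_
    · apply (cancel_mono f.coborderRange.ι).mp
      simp only [Category.assoc, Scheme.Hom.liftCoborder_ι, Scheme.homOfLE_ι, morphismRestrict_ι]
    · rw [Scheme.opensRange_homOfLE, ← Scheme.Hom.comp_preimage, Scheme.Hom.liftCoborder_ι,
        Scheme.Opens.opensRange_ι]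
  exact MorphismProperty.of_isPullback sq.flip inferInstance

section

variable {J : Type u} [SmallCategory J] [IsCofiltered J] {E XS : J ⥤ Scheme.{u}} {fS : XS ⟶ E}
  {cE : Cone E} {cX : Cone XS} {f : cX.pt ⟶ cE.pt}

lemma P_fSW_app (P : MorphismProperty Scheme.{u}) [IsZariskiLocalAtTarget P] (j₁ : J)
    (W : (E.obj j₁).Opens) (j : Over j₁) (h : P (fS.app j.left)) : P ((fSW fS j₁ W).app j) := by
  have h1 : P (fS.app j.left ∣_ (E.map j.hom ⁻¹ᵁ W)) := IsZariskiLocalAtTarget.restrict h _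
  rw [← Scheme.Hom.resLE_eq_morphismRestrict] at h1
  exact (Scheme.Hom.resLE_congr _ _ rfl (preimage_eq fS j₁ W j) P).mpr h1

/-- Immersions descend. -/
theorem core_isImmersion (hS : CartSys fS cE cX f) (hcE : IsLimit cE) (hcX : IsLimit cX)
    [∀ (i j : J) (φ : i ⟶ j), IsAffineHom (E.map φ)] [∀ j, CompactSpace (E.obj j)]
    [∀ j, QuasiSeparatedSpace (E.obj j)]
    [∀ j, QuasiCompact (fS.app j)] [∀ j, QuasiSeparated (fS.app j)]
    [∀ j, LocallyOfFiniteType (fS.app j)] [IsImmersion f] :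
    ∃ j, IsImmersion (fS.app j) := by
  classical
  have hEaff : ∀ {i j : J} (φ : i ⟶ j), IsAffineHom (E.map φ) := fun φ => inferInstance
  have hXSaff : ∀ {i j : J} (φ : i ⟶ j), IsAffineHom (XS.map φ) :=
    fun φ => LimDiag.isAffineHom_XS_map hS φ
  have hXScomp : ∀ j, CompactSpace (XS.obj j) := fun j => LimDiag.compactSpace_XS_obj (fS := fS) j
  have : CompactSpace cX.pt := Scheme.compactSpace_of_isLimit XS cX hcX
  -- Step 1
  obtain ⟨U, hUc, hrU, hUW⟩ := exists_isCompact_opens_between cE.pt (Set.range f)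
    (isCompact_range f.continuous) f.coborderRange subset_coborder
  have hfU : f ⁻¹ᵁ U = ⊤ := by
    rw [eq_top_iff]
    intro x _
    exact hrU ⟨x, rfl⟩
  -- Step 2
  obtain ⟨j₀, V₀, hV₀, hV₀U⟩ := exists_preimage_eq E cE hcE U hUc
  -- Step 3
  have h3 : cX.π.app j₀ ⁻¹ᵁ (fS.app j₀ ⁻¹ᵁ V₀) = ⊤ := by
    rw [preimage_eq_π fS cE cX f hS j₀ V₀, hV₀U, hfU]
  obtain ⟨j₁, φ, hφ⟩ := exists_map_eq_top XS cX hcX (fS.app j₀ ⁻¹ᵁ V₀) h3
  let V : (E.obj j₁).Opens := E.map φ ⁻¹ᵁ V₀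
  have hVc : IsCompact (V : Set (E.obj j₁)) :=
    QuasiCompact.isCompact_preimage (f := E.map φ) _ V₀.isOpen hV₀
  have hVU : cE.π.app j₁ ⁻¹ᵁ V = U := by
    rw [← Scheme.Hom.comp_preimage, cE.w, hV₀U]
  have hVtop : fS.app j₁ ⁻¹ᵁ V = ⊤ := by
    rw [← hφ]
    exact (preimage_eq fS j₀ V₀ (Over.mk φ)).symm
  -- Step 4
  have hSW := cartSysW fS cE cX f hS j₁ V
  have i1 : ∀ (i j : Over j₁) (φ : i ⟶ j), IsAffineHom ((opensDiagram E j₁ V).map φ) :=
    fun i j φ => inferInstance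
  have i2 : ∀ j : Over j₁, CompactSpace ((opensDiagram E j₁ V).obj j) := fun j =>
    isCompact_iff_compactSpace.mp
      (QuasiCompact.isCompact_preimage (f := E.map j.hom) _ V.isOpen hVc)
  have i3 : ∀ j : Over j₁, QuasiSeparatedSpace ((opensDiagram E j₁ V).obj j) :=
    fun j => LimClosedImm2.qs_opens (E.map j.hom ⁻¹ᵁ V)
  have i4 : ∀ j : Over j₁, QuasiCompact ((fSW fS j₁ V).app j) :=
    fun j => P_fSW_app @QuasiCompact j₁ V j inferInstance
  have i5 : ∀ j : Over j₁, QuasiSeparated ((fSW fS j₁ V).app j) :=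
    fun j => P_fSW_app @QuasiSeparated j₁ V j inferInstance
  have i6 : ∀ j : Over j₁, LocallyOfFiniteType ((fSW fS j₁ V).app j) :=
    fun j => P_fSW_app @LocallyOfFiniteType j₁ V j inferInstance
  have hfW : IsClosedImmersion (fW fS cE cX f j₁ V hS) := by
    have h1 : IsClosedImmersion (f ∣_ (cE.π.app j₁ ⁻¹ᵁ V)) :=
      isClosedImmersion_restrict_of_le_coborderRange f _ (hVU.le.trans hUW)
    rw [← Scheme.Hom.resLE_eq_morphismRestrict] at h1
    exact (Scheme.Hom.resLE_congr _ _ rfl (preimage_eq_π fS cE cX f hS j₁ V).symm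
      @IsClosedImmersion).mp h1
  obtain ⟨j, hj⟩ := core_of_affCore (P := @IsClosedImmersion)
    (fun g hg => by have : IsClosedImmersion g := hg; infer_instance)
    affCore_isClosedImmersion hSW (isLimitOpensCone E cE hcE j₁ V) hfW
  -- Step 5
  refine ⟨j.left, ?_⟩
  have hA : XS.map j.hom ⁻¹ᵁ (fS.app j₁ ⁻¹ᵁ V) = ⊤ := by rw [hVtop, Scheme.Hom.preimage_top]
  have hiso : IsIso (XS.map j.hom ⁻¹ᵁ (fS.app j₁ ⁻¹ᵁ V)).ι :=
    isIso_of_isOpenImmersion_of_opensRange_eq_top _ (by rw [Scheme.Opens.opensRange_ι, hA])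
  have hr : IsClosedImmersion ((fS.app j.left).resLE (E.map j.hom ⁻¹ᵁ V)
      (XS.map j.hom ⁻¹ᵁ (fS.app j₁ ⁻¹ᵁ V)) (preimage_eq fS j₁ V j).le) := hj
  have h5 : IsImmersion ((XS.map j.hom ⁻¹ᵁ (fS.app j₁ ⁻¹ᵁ V)).ι ≫ fS.app j.left) := by
    rw [← Scheme.Hom.resLE_comp_ι _ (preimage_eq fS j₁ V j).le]
    infer_instance
  exact (MorphismProperty.cancel_left_of_respectsIso @IsImmersion _ _).mp h5

end

section Tau

variable {J : Type u} [SmallCategory J] [IsCofiltered J] (E : J ⥤ Scheme.{u}) {T : Scheme.{u}}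
  (τ : ∀ j, E.obj j ⟶ T) (hτ : ∀ {j k : J} (φ : j ⟶ k), E.map φ ≫ τ k = τ j)
  (cE : Cone E) (hcE : IsLimit cE) (p : cE.pt ⟶ T)
  (hp : ∀ j, cE.π.app j ≫ τ j = p) {X₀ : Scheme.{u}} (f₀ : X₀ ⟶ T)

include hτ hcE hp in
theorem core_tau_isImmersion
    [∀ (i j : J) (φ : i ⟶ j), IsAffineHom (E.map φ)] [∀ j, CompactSpace (E.obj j)]
    [∀ j, QuasiSeparatedSpace (E.obj j)] [QuasiCompact f₀] [QuasiSeparated f₀]
    [LocallyOfFiniteType f₀]
    (h : IsImmersion (pullback.fst p f₀)) : ∃ j, IsImmersion (pullback.fst (τ j) f₀) := by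
  have h1 : ∀ j, QuasiCompact ((LimCart.fS E τ hτ f₀).app j) :=
    fun j => inferInstanceAs (QuasiCompact (pullback.fst (τ j) f₀))
  have h2 : ∀ j, QuasiSeparated ((LimCart.fS E τ hτ f₀).app j) :=
    fun j => inferInstanceAs (QuasiSeparated (pullback.fst (τ j) f₀))
  have h3 : ∀ j, LocallyOfFiniteType ((LimCart.fS E τ hτ f₀).app j) :=
    fun j => inferInstanceAs (LocallyOfFiniteType (pullback.fst (τ j) f₀))
  exact @core_isImmersion _ _ _ _ _ _ _ _ _ (LimCart.cartSys_tau E τ hτ cE p hp f₀) hcE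
    (LimPB.hcX E τ hτ cE hcE p hp f₀) _ _ _ h1 h2 h3 h

end Tau

end Groth.Agent.Lib.helper11.LimImm
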