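import Mathlib
import Groth.Agent.Lib.helper11.LimImm
import Groth.Agent.Lib.helper11.LfpOfComp

set_option autoImplicit false
universe u
open CategoryTheory CategoryTheory.Limits AlgebraicGeometry

namespace Groth.Agent.Lib.helper11.LimIso

open Groth.Agent.Lib.helper11 Groth.Agent.Lib.helper11.LimCart

section

variable {J : Type u} [SmallCategory J] [IsCofiltered J] {E XS : J ⥤ Scheme.{u}} {fS : XS ⟶ E}
  {cE : Cone E} {cX : Cone XS} {f : cX.pt ⟶ cE.pt}

/-- Isomorphisms descend (locally of finite presentation). -/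
theorem core_isIso (hS : CartSys fS cE cX f) (hcE : IsLimit cE) (hcX : IsLimit cX)
    [∀ (i j : J) (φ : i ⟶ j), IsAffineHom (E.map φ)] [∀ j, CompactSpace (E.obj j)]
    [∀ j, QuasiSeparatedSpace (E.obj j)]
    [∀ j, QuasiCompact (fS.app j)] [∀ j, LocallyOfFinitePresentation (fS.app j)] [IsIso f] :
    ∃ j, IsIso (fS.app j) := by
  classical
  have hXSaff : ∀ {i j : J} (φ : i ⟶ j), IsAffineHom (XS.map φ) :=
    fun φ => LimDiag.isAffineHom_XS_map hS φ
  have hXScomp : ∀ j, CompactSpace (XS.obj j) := fun j => LimDiag.compactSpace_XS_obj (fS := fS) j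
  obtain ⟨j₀⟩ : Nonempty J := IsCofiltered.nonempty
  -- Part 1: a section at some stage
  let D₁ : Over j₀ ⥤ Scheme.{u} := Over.forget j₀ ⋙ E
  let t₁ : D₁ ⟶ (Functor.const (Over j₀)).obj (E.obj j₀) :=
    { app := fun j => E.map j.hom
      naturality := by
        intro j k φ
        show E.map φ.left ≫ E.map k.hom = E.map j.hom ≫ 𝟙 _
        rw [Category.comp_id, ← E.map_comp, Over.w φ] }
  let c₁ : Cone D₁ := cE.whisker (Over.forget j₀)
  have hc₁ : IsLimit c₁ := (Functor.Initial.isLimitWhiskerEquiv (Over.forget j₀) cE).symm hcE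
  let a : cE.pt ⟶ XS.obj j₀ := inv f ≫ cX.π.app j₀
  have haf : a ≫ fS.app j₀ = cE.π.app j₀ := by
    show (inv f ≫ cX.π.app j₀) ≫ fS.app j₀ = _
    rw [Category.assoc, (hS.π j₀).w, IsIso.inv_hom_id_assoc]
  have ha : c₁.π ≫ t₁ = (Functor.const _).map (a ≫ fS.app j₀) := by
    ext j : 2
    show cE.π.app j.left ≫ E.map j.hom = a ≫ fS.app j₀
    rw [haf, cE.w]
  have i1 : ∀ {i j : Over j₀} (φ : i ⟶ j), IsAffineHom (D₁.map φ) :=
    fun φ => inferInstanceAs (IsAffineHom (E.map φ.left))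
  have i2 : ∀ j : Over j₀, CompactSpace (D₁.obj j) :=
    fun j => inferInstanceAs (CompactSpace (E.obj j.left))
  have i3 : ∀ j : Over j₀, QuasiSeparatedSpace (D₁.obj j) :=
    fun j => inferInstanceAs (QuasiSeparatedSpace (E.obj j.left))
  obtain ⟨i, g₀, hg1, hg2⟩ := Scheme.exists_π_app_comp_eq_of_locallyOfFinitePresentation
    D₁ t₁ (fS.app j₀) c₁ hc₁ a ha
  let j : J := i.left
  let φ : j ⟶ j₀ := i.hom
  let g : E.obj j ⟶ XS.obj j₀ := g₀
  have hg1' : cE.π.app j ≫ g = a := hg1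
  have hg2' : g ≫ fS.app j₀ = E.map φ := hg2
  clear_value g
  let s : E.obj j ⟶ XS.obj j := (hS.map φ).lift g (𝟙 _) (by rw [hg2', Category.id_comp])
  have hs1 : s ≫ XS.map φ = g := (hS.map φ).lift_fst _ _ _
  have hs2 : s ≫ fS.app j = 𝟙 _ := (hS.map φ).lift_snd _ _ _
  -- Part 2
  let D₂ : Over j ⥤ Scheme.{u} := Over.forget j ⋙ XS
  let t₂ : D₂ ⟶ (Functor.const (Over j)).obj (E.obj j) :=
    { app := fun k => fS.app k.left ≫ E.map k.hom
      naturality := by
        intro k l ψ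
        show XS.map ψ.left ≫ fS.app l.left ≫ E.map l.hom = (fS.app k.left ≫ E.map k.hom) ≫ 𝟙 _
        have h := fS.naturality ψ.left
        rw [Category.comp_id, ← Category.assoc, h, Category.assoc, ← E.map_comp, Over.w ψ] }
  let c₂ : Cone D₂ := cX.whisker (Over.forget j)
  have hc₂ : IsLimit c₂ := (Functor.Initial.isLimitWhiskerEquiv (Over.forget j) cX).symm hcX
  have k1 : ∀ {i j' : Over j} (φ : i ⟶ j'), IsAffineHom (D₂.map φ) :=
    fun φ => hXSaff φ.left
  have k2 : ∀ k : Over j, CompactSpace (D₂.obj k) := fun k => hXScomp k.left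
  have hab : c₂.π.app (Over.mk (𝟙 j)) ≫ (fS.app j ≫ s) = c₂.π.app (Over.mk (𝟙 j)) ≫ 𝟙 _ := by
    show cX.π.app j ≫ fS.app j ≫ s = cX.π.app j ≫ 𝟙 _
    apply (hS.map φ).hom_ext
    · rw [Category.assoc, Category.assoc, hs1, Category.comp_id, cX.w, ← Category.assoc,
        (hS.π j).w, Category.assoc, hg1']
      show f ≫ inv f ≫ cX.π.app j₀ = _
      rw [IsIso.hom_inv_id_assoc]
    · rw [Category.assoc, Category.assoc, hs2, Category.comp_id, Category.comp_id]
  obtain ⟨k, ψ', hk⟩ := Scheme.exists_hom_comp_eq_comp_of_locallyOfFiniteType D₂ t₂ (fS.app j)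
    c₂ hc₂ (i := Over.mk (𝟙 j)) (fS.app j ≫ s) (𝟙 _)
    (by
      show fS.app j ≫ E.map (𝟙 j) = (fS.app j ≫ s) ≫ fS.app j
      rw [E.map_id, Category.comp_id, Category.assoc, hs2, Category.comp_id])
    (by
      show fS.app j ≫ E.map (𝟙 j) = 𝟙 _ ≫ fS.app j
      rw [E.map_id, Category.comp_id, Category.id_comp])
    hab
  let ψ : k.left ⟶ j := ψ'.left
  have hk' : XS.map ψ ≫ fS.app j ≫ s = XS.map ψ ≫ 𝟙 _ := hk
  -- Part 3
  refine ⟨k.left, ?_⟩
  let s' : E.obj k.left ⟶ XS.obj k.left := (hS.map ψ).lift (E.map ψ ≫ s) (𝟙 _)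
    (by rw [Category.assoc, hs2, Category.comp_id, Category.id_comp])
  have hs'1 : s' ≫ XS.map ψ = E.map ψ ≫ s := (hS.map ψ).lift_fst _ _ _
  have hs'2 : s' ≫ fS.app k.left = 𝟙 _ := (hS.map ψ).lift_snd _ _ _
  refine ⟨s', ?_, hs'2⟩
  apply (hS.map ψ).hom_ext
  · have h := fS.naturality ψ
    rw [Category.assoc, hs'1, ← Category.assoc, ← h, Category.assoc, hk', Category.comp_id,
      Category.id_comp]
  · rw [Category.assoc, hs'2, Category.comp_id, Category.id_comp]

end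

end Groth.Agent.Lib.helper11.LimIso
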