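import Mathlib
import Groth.Agent.Lib.helper11.LimIso

set_option autoImplicit false
universe u
open CategoryTheory CategoryTheory.Limits AlgebraicGeometry

namespace Groth.Agent.Lib.helper11.LimOpenImm

open Groth.Agent.Lib.helper11 Groth.Agent.Lib.helper11.LimCart

section

variable {J : Type u} [SmallCategory J] [IsCofiltered J] {E XS : J ⥤ Scheme.{u}} {fS : XS ⟶ E}
  {cE : Cone E} {cX : Cone XS} {f : cX.pt ⟶ cE.pt}

/-- A compact open of the limit containing the image of `f` comes from a stage where it contains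
the image of `fS`. -/
theorem exists_stage_opens (hS : CartSys fS cE cX f) (hcE : IsLimit cE) (hcX : IsLimit cX)
    [∀ (i j : J) (φ : i ⟶ j), IsAffineHom (E.map φ)] [∀ j, CompactSpace (E.obj j)]
    [∀ j, QuasiCompact (fS.app j)]
    (U : cE.pt.Opens) (hUc : IsCompact (U : Set cE.pt)) (hfU : f ⁻¹ᵁ U = ⊤) :
    ∃ (j₁ : J) (V : (E.obj j₁).Opens), IsCompact (V : Set (E.obj j₁)) ∧
      cE.π.app j₁ ⁻¹ᵁ V = U ∧ fS.app j₁ ⁻¹ᵁ V = ⊤ := by
  have hEaff : ∀ {i j : J} (φ : i ⟶ j), IsAffineHom (E.map φ) := fun φ => inferInstance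
  have hXSaff : ∀ {i j : J} (φ : i ⟶ j), IsAffineHom (XS.map φ) :=
    fun φ => LimDiag.isAffineHom_XS_map hS φ
  have hXScomp : ∀ j, CompactSpace (XS.obj j) := fun j => LimDiag.compactSpace_XS_obj (fS := fS) j
  obtain ⟨j₀, V₀, hV₀, hV₀U⟩ := exists_preimage_eq E cE hcE U hUc
  have h3 : cX.π.app j₀ ⁻¹ᵁ (fS.app j₀ ⁻¹ᵁ V₀) = ⊤ := by
    rw [preimage_eq_π fS cE cX f hS j₀ V₀, hV₀U, hfU]
  obtain ⟨j₁, φ, hφ⟩ := exists_map_eq_top XS cX hcX (fS.app j₀ ⁻¹ᵁ V₀) h3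
  refine ⟨j₁, E.map φ ⁻¹ᵁ V₀, ?_, ?_, ?_⟩
  · exact QuasiCompact.isCompact_preimage (f := E.map φ) _ V₀.isOpen hV₀
  · rw [← Scheme.Hom.comp_preimage, cE.w, hV₀U]
  · rw [← hφ]
    exact (preimage_eq fS j₀ V₀ (Over.mk φ)).symm

omit [IsCofiltered J] in
/-- If `fS_{j₁}⁻¹ V = ⊤`, then `fS_j` factors through the restriction. -/
lemma iso_ι_and_fac (j₁ : J) (V : (E.obj j₁).Opens) (hVtop : fS.app j₁ ⁻¹ᵁ V = ⊤) (j : Over j₁) :
    IsIso (XS.map j.hom ⁻¹ᵁ (fS.app j₁ ⁻¹ᵁ V)).ι ∧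
      (XS.map j.hom ⁻¹ᵁ (fS.app j₁ ⁻¹ᵁ V)).ι ≫ fS.app j.left =
        (fSW fS j₁ V).app j ≫ (E.map j.hom ⁻¹ᵁ V).ι := by
  have hA : XS.map j.hom ⁻¹ᵁ (fS.app j₁ ⁻¹ᵁ V) = ⊤ := by rw [hVtop, Scheme.Hom.preimage_top]
  refine ⟨isIso_of_isOpenImmersion_of_opensRange_eq_top _
    (by rw [Scheme.Opens.opensRange_ι, hA]), ?_⟩
  exact (Scheme.Hom.resLE_comp_ι _ (preimage_eq fS j₁ V j).le).symm

/-- Open immersions descend (locally of finite presentation). -/
theorem core_isOpenImmersion (hS : CartSys fS cE cX f) (hcE : IsLimit cE) (hcX : IsLimit cX)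
    [∀ (i j : J) (φ : i ⟶ j), IsAffineHom (E.map φ)] [∀ j, CompactSpace (E.obj j)]
    [∀ j, QuasiSeparatedSpace (E.obj j)]
    [∀ j, QuasiCompact (fS.app j)] [∀ j, LocallyOfFinitePresentation (fS.app j)]
    [IsOpenImmersion f] : ∃ j, IsOpenImmersion (fS.app j) := by
  classical
  have hEaff : ∀ {i j : J} (φ : i ⟶ j), IsAffineHom (E.map φ) := fun φ => inferInstance
  have hXScomp : ∀ j, CompactSpace (XS.obj j) := fun j => LimDiag.compactSpace_XS_obj (fS := fS) j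
  have hXSaff : ∀ {i j : J} (φ : i ⟶ j), IsAffineHom (XS.map φ) :=
    fun φ => LimDiag.isAffineHom_XS_map hS φ
  have : CompactSpace cX.pt := Scheme.compactSpace_of_isLimit XS cX hcX
  have hUc : IsCompact (f.opensRange : Set cE.pt) := isCompact_range f.continuous
  have hfU : f ⁻¹ᵁ f.opensRange = ⊤ := by
    rw [eq_top_iff]
    intro x _
    exact ⟨x, rfl⟩
  obtain ⟨j₁, V, hVc, hVU, hVtop⟩ := exists_stage_opens hS hcE hcX f.opensRange hUc hfU
  have hSW := cartSysW fS cE cX f hS j₁ V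
  have i1 : ∀ (i j : Over j₁) (φ : i ⟶ j), IsAffineHom ((opensDiagram E j₁ V).map φ) :=
    fun i j φ => inferInstance
  have i2 : ∀ j : Over j₁, CompactSpace ((opensDiagram E j₁ V).obj j) := fun j =>
    isCompact_iff_compactSpace.mp
      (QuasiCompact.isCompact_preimage (f := E.map j.hom) _ V.isOpen hVc)
  have i3 : ∀ j : Over j₁, QuasiSeparatedSpace ((opensDiagram E j₁ V).obj j) :=
    fun j => LimClosedImm2.qs_opens (E.map j.hom ⁻¹ᵁ V)
  have i4 : ∀ j : Over j₁, QuasiCompact ((fSW fS j₁ V).app j) :=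
    fun j => LimImm.P_fSW_app @QuasiCompact j₁ V j inferInstance
  have i6 : ∀ j : Over j₁, LocallyOfFinitePresentation ((fSW fS j₁ V).app j) :=
    fun j => LimImm.P_fSW_app @LocallyOfFinitePresentation j₁ V j inferInstance
  have hfW : IsIso (fW fS cE cX f j₁ V hS) := by
    have h0 : IsOpenImmersion (fW fS cE cX f j₁ V hS) := by
      have h1 : IsOpenImmersion (f ∣_ (cE.π.app j₁ ⁻¹ᵁ V)) := inferInstance
      rw [← Scheme.Hom.resLE_eq_morphismRestrict] at h1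
      exact (Scheme.Hom.resLE_congr _ _ rfl (preimage_eq_π fS cE cX f hS j₁ V).symm
        @IsOpenImmersion).mp h1
    apply isIso_of_isOpenImmersion_of_opensRange_eq_top
    rw [eq_top_iff]
    rintro ⟨y, hy⟩ _
    have hy' : y ∈ f.opensRange := by rw [← hVU]; exact hy
    obtain ⟨x, rfl⟩ := hy'
    refine ⟨⟨x, ?_⟩, ?_⟩
    · rw [preimage_eq_π fS cE cX f hS j₁ V]; exact hy
    · apply Subtype.ext
      have h2 := congrArg (fun g => g.base ⟨x, by
        rw [preimage_eq_π fS cE cX f hS j₁ V]; exact hy⟩) (Scheme.Hom.resLE_comp_ι f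
          (preimage_eq_π fS cE cX f hS j₁ V).le)
      exact h2
  obtain ⟨j, hj⟩ := LimIso.core_isIso hSW (isLimitOpensCone E cE hcE j₁ V)
    (isLimitOpensCone XS cX hcX j₁ (fS.app j₁ ⁻¹ᵁ V))
  refine ⟨j.left, ?_⟩
  obtain ⟨hiso, hfac⟩ := iso_ι_and_fac (fS := fS) j₁ V hVtop j
  have h5 : IsOpenImmersion ((XS.map j.hom ⁻¹ᵁ (fS.app j₁ ⁻¹ᵁ V)).ι ≫ fS.app j.left) := by
    rw [hfac]
    have h6 : IsOpenImmersion ((fSW fS j₁ V).app j) := by
      have : IsIso ((fSW fS j₁ V).app j) := hj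
      infer_instance
    have h7 : IsOpenImmersion (E.map j.hom ⁻¹ᵁ V).ι := inferInstance
    exact MorphismProperty.comp_mem (W := @IsOpenImmersion) _ _ h6 h7
  exact (MorphismProperty.cancel_left_of_respectsIso @IsOpenImmersion _ _).mp h5

end

section Tau

variable {J : Type u} [SmallCategory J] [IsCofiltered J] (E : J ⥤ Scheme.{u}) {T : Scheme.{u}}
  (τ : ∀ j, E.obj j ⟶ T) (hτ : ∀ {j k : J} (φ : j ⟶ k), E.map φ ≫ τ k = τ j)
  (cE : Cone E) (hcE : IsLimit cE) (p : cE.pt ⟶ T)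
  (hp : ∀ j, cE.π.app j ≫ τ j = p) {X₀ : Scheme.{u}} (f₀ : X₀ ⟶ T)

include hτ hcE hp in
theorem core_tau_isOpenImmersion
    [∀ (i j : J) (φ : i ⟶ j), IsAffineHom (E.map φ)] [∀ j, CompactSpace (E.obj j)]
    [∀ j, QuasiSeparatedSpace (E.obj j)] [QuasiCompact f₀] [LocallyOfFinitePresentation f₀]
    (h : IsOpenImmersion (pullback.fst p f₀)) : ∃ j, IsOpenImmersion (pullback.fst (τ j) f₀) := by
  have h1 : ∀ j, QuasiCompact ((LimCart.fS E τ hτ f₀).app j) :=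
    fun j => inferInstanceAs (QuasiCompact (pullback.fst (τ j) f₀))
  have h3 : ∀ j, LocallyOfFinitePresentation ((LimCart.fS E τ hτ f₀).app j) :=
    fun j => inferInstanceAs (LocallyOfFinitePresentation (pullback.fst (τ j) f₀))
  exact @core_isOpenImmersion _ _ _ _ _ _ _ _ _ (LimCart.cartSys_tau E τ hτ cE p hp f₀) hcE
    (LimPB.hcX E τ hτ cE hcE p hp f₀) _ _ _ h1 h3 h

include hτ hcE hp in
theorem core_tau_isIso
    [∀ (i j : J) (φ : i ⟶ j), IsAffineHom (E.map φ)] [∀ j, CompactSpace (E.obj j)]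
    [∀ j, QuasiSeparatedSpace (E.obj j)] [QuasiCompact f₀] [LocallyOfFinitePresentation f₀]
    (h : IsIso (pullback.fst p f₀)) : ∃ j, IsIso (pullback.fst (τ j) f₀) := by
  have h1 : ∀ j, QuasiCompact ((LimCart.fS E τ hτ f₀).app j) :=
    fun j => inferInstanceAs (QuasiCompact (pullback.fst (τ j) f₀))
  have h3 : ∀ j, LocallyOfFinitePresentation ((LimCart.fS E τ hτ f₀).app j) :=
    fun j => inferInstanceAs (LocallyOfFinitePresentation (pullback.fst (τ j) f₀))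
  exact @LimIso.core_isIso _ _ _ _ _ _ _ _ _ (LimCart.cartSys_tau E τ hτ cE p hp f₀) hcE
    (LimPB.hcX E τ hτ cE hcE p hp f₀) _ _ _ h1 h3 h

end Tau

end Groth.Agent.Lib.helper11.LimOpenImm
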