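import Mathlib
import Groth.Agent.Lib.helper11.LimOpenImm

set_option autoImplicit false
universe u
open CategoryTheory CategoryTheory.Limits AlgebraicGeometry

namespace Groth.Agent.Lib.helper11.LimMono

open Groth.Agent.Lib.helper11 Groth.Agent.Lib.helper11.LimCart Groth.Agent.Lib.helper11.LimDiag

section

variable {J : Type u} [SmallCategory J] [IsCofiltered J] {E XS : J ⥤ Scheme.{u}} {fS : XS ⟶ E}
  {cE : Cone E} {cX : Cone XS} {f : cX.pt ⟶ cE.pt}

omit [IsCofiltered J] in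
lemma Δ_pr₁ (k : J) : (Δ fS).app k ≫ (pr₁ fS).app k = 𝟙 _ := pullback.diagonal_fst _

omit [IsCofiltered J] in
lemma cE2_π_pr₁ (hS : CartSys fS cE cX f) (j : J) :
    (cE2 hS).π.app j ≫ (pr₁ fS).app j = pullback.fst f f ≫ cX.π.app j := pullback.lift_fst _ _ _

/-- Monomorphisms descend (locally of finite type). -/
theorem core_mono (hS : CartSys fS cE cX f) (hcX : IsLimit cX)
    [∀ (i j : J) (φ : i ⟶ j), IsAffineHom (E.map φ)] [∀ j, CompactSpace (E.obj j)]
    [∀ j, QuasiCompact (fS.app j)] [∀ j, LocallyOfFiniteType (fS.app j)] [Mono f] :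
    ∃ j, Mono (fS.app j) := by
  classical
  obtain ⟨j⟩ : Nonempty J := IsCofiltered.nonempty
  let D₂ : Over j ⥤ Scheme.{u} := Over.forget j ⋙ E2 fS
  let t₂ : D₂ ⟶ (Functor.const (Over j)).obj (E.obj j) :=
    { app := fun k => (pr₁ fS).app k.left ≫ fS.app k.left ≫ E.map k.hom
      naturality := by
        intro k l ψ
        show (E2 fS).map ψ.left ≫ (pr₁ fS).app l.left ≫ fS.app l.left ≫
          E.map l.hom = ((pr₁ fS).app k.left ≫ fS.app k.left ≫ E.map k.hom) ≫ 𝟙 _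
        have h1 := (pr₁ fS).naturality ψ.left
        have h2 := fS.naturality ψ.left
        rw [Category.comp_id, reassoc_of% h1, reassoc_of% h2, ← E.map_comp, Over.w ψ] }
  let c₂ : Cone D₂ := (cE2 hS).whisker (Over.forget j)
  have hc₂ : IsLimit c₂ :=
    (Functor.Initial.isLimitWhiskerEquiv (Over.forget j) (cE2 hS)).symm (hcE2 hS hcX)
  have k1 : ∀ {i j' : Over j} (φ : i ⟶ j'), IsAffineHom (D₂.map φ) :=
    fun φ => isAffineHom_E2_map hS φ.left
  have k2 : ∀ k : Over j, CompactSpace (D₂.obj k) := fun k => compactSpace_E2_obj k.left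
  have hΔ : IsIso (pullback.diagonal f) := inferInstance
  have hfstΔ : pullback.fst f f ≫ pullback.diagonal f = 𝟙 _ := by
    have h1 : pullback.fst f f = inv (pullback.diagonal f) :=
      IsIso.eq_inv_of_hom_inv_id (pullback.diagonal_fst f)
    rw [h1, IsIso.inv_hom_id]
  have hab : c₂.π.app (Over.mk (𝟙 j)) ≫ ((pr₁ fS).app j ≫ (Δ fS).app j) =
      c₂.π.app (Over.mk (𝟙 j)) ≫ 𝟙 _ := by
    show (cE2 hS).π.app j ≫ (pr₁ fS).app j ≫ (Δ fS).app j = (cE2 hS).π.app j ≫ 𝟙 _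
    have h1 := cE2_π_pr₁ hS j
    have h2 : cX.π.app j ≫ (Δ fS).app j =
        pullback.diagonal f ≫ (cE2 hS).π.app j := ((cartSys_diag hS).π j).w
    have e1 : ((cE2 hS).π.app j ≫ (pr₁ fS).app j) ≫ (Δ fS).app j =
        (pullback.fst f f ≫ cX.π.app j) ≫ (Δ fS).app j := congrArg (· ≫ (Δ fS).app j) h1
    have e2 : pullback.fst f f ≫ (cX.π.app j ≫ (Δ fS).app j) =
        pullback.fst f f ≫ (pullback.diagonal f ≫ (cE2 hS).π.app j) :=
      congrArg (pullback.fst f f ≫ ·) h2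
    have e3 : (pullback.fst f f ≫ pullback.diagonal f) ≫ (cE2 hS).π.app j =
        𝟙 _ ≫ (cE2 hS).π.app j := congrArg (· ≫ (cE2 hS).π.app j) hfstΔ
    exact ((Category.assoc _ _ _).symm.trans e1).trans ((Category.assoc _ _ _).trans
      (e2.trans ((Category.assoc _ _ _).symm.trans (e3.trans
        ((Category.id_comp _).trans (Category.comp_id _).symm)))))
  have hlft : LocallyOfFiniteType ((pr₁ fS).app j ≫ fS.app j) := by
    have : LocallyOfFiniteType ((pr₁ fS).app j) :=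
      inferInstanceAs (LocallyOfFiniteType (pullback.fst (fS.app j) (fS.app j)))
    infer_instance
  obtain ⟨k, ψ', hk⟩ := Scheme.exists_hom_comp_eq_comp_of_locallyOfFiniteType D₂ t₂
    ((pr₁ fS).app j ≫ fS.app j)
    c₂ hc₂ (i := Over.mk (𝟙 j))
    ((pr₁ fS).app j ≫ (Δ fS).app j) (𝟙 _)
    (by
      show (pr₁ fS).app j ≫ fS.app j ≫ E.map (𝟙 j) =
        ((pr₁ fS).app j ≫ (Δ fS).app j) ≫ (pr₁ fS).app j ≫ fS.app j
      rw [E.map_id, Category.comp_id, Category.assoc, reassoc_of% (Δ_pr₁ (fS := fS) j)])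
    (by
      show (pr₁ fS).app j ≫ fS.app j ≫ E.map (𝟙 j) = 𝟙 _ ≫ (pr₁ fS).app j ≫ fS.app j
      rw [E.map_id, Category.comp_id, Category.id_comp])
    hab
  let ψ : k.left ⟶ j := ψ'.left
  have hk' : (E2 fS).map ψ ≫ (pr₁ fS).app j ≫ (Δ fS).app j = (E2 fS).map ψ ≫ 𝟙 _ := hk
  refine ⟨k.left, ?_⟩
  rw [← pullback.isIso_diagonal_iff]
  have key : (pr₁ fS).app k.left ≫ (Δ fS).app k.left = 𝟙 _ := by
    apply (isPullback_map_fst (hS.map ψ)).hom_ext
    · have h1 := (pr₁ fS).naturality ψ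
      have h2 := (Δ fS).naturality ψ
      show ((pr₁ fS).app k.left ≫ (Δ fS).app k.left) ≫ (E2 fS).map ψ = 𝟙 _ ≫ (E2 fS).map ψ
      rw [Category.assoc, ← h2, ← reassoc_of% h1, hk', Category.comp_id, Category.id_comp]
    · show ((pr₁ fS).app k.left ≫ (Δ fS).app k.left) ≫ (pr₁ fS).app k.left =
        𝟙 _ ≫ (pr₁ fS).app k.left
      rw [Category.assoc, Δ_pr₁, Category.comp_id, Category.id_comp]
  exact ⟨(pr₁ fS).app k.left, Δ_pr₁ k.left, key⟩

end

section Tau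

variable {J : Type u} [SmallCategory J] [IsCofiltered J] (E : J ⥤ Scheme.{u}) {T : Scheme.{u}}
  (τ : ∀ j, E.obj j ⟶ T) (hτ : ∀ {j k : J} (φ : j ⟶ k), E.map φ ≫ τ k = τ j)
  (cE : Cone E) (hcE : IsLimit cE) (p : cE.pt ⟶ T)
  (hp : ∀ j, cE.π.app j ≫ τ j = p) {X₀ : Scheme.{u}} (f₀ : X₀ ⟶ T)

include hτ hcE hp in
theorem core_tau_mono
    [∀ (i j : J) (φ : i ⟶ j), IsAffineHom (E.map φ)] [∀ j, CompactSpace (E.obj j)]
    [QuasiCompact f₀] [LocallyOfFiniteType f₀]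
    (h : Mono (pullback.fst p f₀)) : ∃ j, Mono (pullback.fst (τ j) f₀) := by
  have h1 : ∀ j, QuasiCompact ((LimCart.fS E τ hτ f₀).app j) :=
    fun j => inferInstanceAs (QuasiCompact (pullback.fst (τ j) f₀))
  have h3 : ∀ j, LocallyOfFiniteType ((LimCart.fS E τ hτ f₀).app j) :=
    fun j => inferInstanceAs (LocallyOfFiniteType (pullback.fst (τ j) f₀))
  exact @core_mono _ _ _ _ _ _ _ _ _ (LimCart.cartSys_tau E τ hτ cE p hp f₀)
    (LimPB.hcX E τ hτ cE hcE p hp f₀) _ _ h1 h3 h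

end Tau

end Groth.Agent.Lib.helper11.LimMono
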