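import Mathlib
import Groth.Agent.Lib.helper11.LimMono

set_option autoImplicit false
universe u
open CategoryTheory CategoryTheory.Limits AlgebraicGeometry

namespace Groth.Agent.Lib.helper11.LimUnram

open Groth.Agent.Lib.helper11 Groth.Agent.Lib.helper11.LimCart Groth.Agent.Lib.helper11.LimDiag

lemma lfp_diagonal {X Y : Scheme.{u}} (f : X ⟶ Y) [LocallyOfFiniteType f] :
    LocallyOfFinitePresentation (pullback.diagonal f) := by
  refine LfpOfComp.lfp_of_comp (pullback.diagonal f) (pullback.fst f f) ?_ inferInstance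
  rw [pullback.diagonal_fst]
  infer_instance

section

variable {J : Type u} [SmallCategory J] [IsCofiltered J] {E XS : J ⥤ Scheme.{u}} {fS : XS ⟶ E}
  {cE : Cone E} {cX : Cone XS} {f : cX.pt ⟶ cE.pt}

/-- Unramified morphisms descend (locally of finite type). -/
theorem core_formallyUnramified (hS : CartSys fS cE cX f) (hcX : IsLimit cX)
    [∀ (i j : J) (φ : i ⟶ j), IsAffineHom (E.map φ)] [∀ j, CompactSpace (E.obj j)]
    [∀ j, QuasiSeparatedSpace (E.obj j)]
    [∀ j, QuasiCompact (fS.app j)] [∀ j, QuasiSeparated (fS.app j)]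
    [∀ j, LocallyOfFiniteType (fS.app j)] [FormallyUnramified f] :
    ∃ j, FormallyUnramified (fS.app j) := by
  obtain ⟨j₀⟩ : Nonempty J := IsCofiltered.nonempty
  have hflft : LocallyOfFiniteType f := MorphismProperty.of_isPullback (hS.π j₀) inferInstance
  have hS2 := cartSys_diag hS
  have i1 : ∀ (i j : J) (φ : i ⟶ j), IsAffineHom ((E2 fS).map φ) :=
    fun _ _ φ => isAffineHom_E2_map hS φ
  have i2 : ∀ j, CompactSpace ((E2 fS).obj j) := fun j => compactSpace_E2_obj j
  have i3 : ∀ j, QuasiSeparatedSpace ((E2 fS).obj j) := fun j => quasiSeparatedSpace_E2_obj j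
  have i4 : ∀ j, QuasiCompact ((Δ fS).app j) :=
    fun j => inferInstanceAs (QuasiCompact (pullback.diagonal (fS.app j)))
  have i6 : ∀ j, LocallyOfFinitePresentation ((Δ fS).app j) :=
    fun j => lfp_diagonal (fS.app j)
  have hΔ : IsOpenImmersion (pullback.diagonal f) := inferInstance
  obtain ⟨j, hj⟩ := @LimOpenImm.core_isOpenImmersion _ _ _ _ _ _ _ _ _ hS2 (hcE2 hS hcX) hcX
    i1 i2 i3 i4 i6 hΔ
  have : IsOpenImmersion (pullback.diagonal (fS.app j)) := hj
  exact ⟨j, inferInstance⟩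

end

section Tau

variable {J : Type u} [SmallCategory J] [IsCofiltered J] (E : J ⥤ Scheme.{u}) {T : Scheme.{u}}
  (τ : ∀ j, E.obj j ⟶ T) (hτ : ∀ {j k : J} (φ : j ⟶ k), E.map φ ≫ τ k = τ j)
  (cE : Cone E) (hcE : IsLimit cE) (p : cE.pt ⟶ T)
  (hp : ∀ j, cE.π.app j ≫ τ j = p) {X₀ : Scheme.{u}} (f₀ : X₀ ⟶ T)

include hτ hcE hp in
theorem core_tau_formallyUnramified
    [∀ (i j : J) (φ : i ⟶ j), IsAffineHom (E.map φ)] [∀ j, CompactSpace (E.obj j)]
    [∀ j, QuasiSeparatedSpace (E.obj j)]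
    [QuasiCompact f₀] [QuasiSeparated f₀] [LocallyOfFiniteType f₀]
    (h : FormallyUnramified (pullback.fst p f₀)) :
    ∃ j, FormallyUnramified (pullback.fst (τ j) f₀) := by
  have h1 : ∀ j, QuasiCompact ((LimCart.fS E τ hτ f₀).app j) :=
    fun j => inferInstanceAs (QuasiCompact (pullback.fst (τ j) f₀))
  have h2 : ∀ j, QuasiSeparated ((LimCart.fS E τ hτ f₀).app j) :=
    fun j => inferInstanceAs (QuasiSeparated (pullback.fst (τ j) f₀))
  have h3 : ∀ j, LocallyOfFiniteType ((LimCart.fS E τ hτ f₀).app j) :=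
    fun j => inferInstanceAs (LocallyOfFiniteType (pullback.fst (τ j) f₀))
  exact @core_formallyUnramified _ _ _ _ _ _ _ _ _ (LimCart.cartSys_tau E τ hτ cE p hp f₀)
    (LimPB.hcX E τ hτ cE hcE p hp f₀) _ _ _ h1 h2 h3 h

end Tau

end Groth.Agent.Lib.helper11.LimUnram
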