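import Mathlib
import Groth.Agent.Lib.helper11.LimUnram

set_option autoImplicit false
universe u
open CategoryTheory CategoryTheory.Limits AlgebraicGeometry Topology

namespace Groth.Agent.Lib.helper11.LimSurj

open Groth.Agent.Lib.helper11 Groth.Agent.Lib.helper11.LimCart Groth.Agent.Lib.helper11.LimDiag

section

variable {J : Type u} [SmallCategory J] [IsCofiltered J] (E : J ⥤ Scheme.{u}) (cE : Cone E)
  (hcE : IsLimit cE)

include hcE in
/-- A constructible subset of a stage whose preimage in the limit is empty has empty preimage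
in some stage. -/
theorem exists_preimage_eq_empty
    [∀ (i j : J) (φ : i ⟶ j), IsAffineHom (E.map φ)] [∀ j, CompactSpace (E.obj j)]
    [∀ j, QuasiSeparatedSpace (E.obj j)] (j : J) (Z : Set (E.obj j)) (hZ : IsConstructible Z)
    (h : cE.π.app j ⁻¹' Z = ∅) : ∃ k : Over j, E.map k.hom ⁻¹' Z = ∅ := by
  classical
  have hEaff : ∀ {i j : J} (φ : i ⟶ j), IsAffineHom (E.map φ) := fun φ => inferInstance
  have mono : ∀ (s : Set (E.obj j)) {k' k : Over j} (g : k' ⟶ k), E.map k.hom ⁻¹' s = ∅ →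
      E.map k'.hom ⁻¹' s = ∅ := by
    intro s k' k g hk
    have : E.map k'.hom = E.map g.left ≫ E.map k.hom := by rw [← E.map_comp, Over.w g]
    rw [this, Scheme.Hom.comp_base, TopCat.coe_comp, Set.preimage_comp, hk, Set.preimage_empty]
  revert h
  have hne : Nonempty (E.obj j).affineOpens := ⟨⟨⊥, isAffineOpen_bot _⟩⟩
  induction Z, hZ using IsConstructible.induction_of_isTopologicalBasis
    (fun U : (E.obj j).affineOpens => (U.1 : Set (E.obj j))) with
  | basis =>
    have := (E.obj j).isBasis_affineOpens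
    rw [TopologicalSpace.Opens.IsBasis] at this
    convert this using 1
    ext s
    simp only [Set.mem_range, Set.mem_image, Subtype.exists]
    constructor
    · rintro ⟨U, hU, rfl⟩; exact ⟨U, hU, rfl⟩
    · rintro ⟨U, hU, rfl⟩; exact ⟨U, hU, rfl⟩
  | isCompact_basis i => exact IsAffineOpen.isCompact i.2
  | sdiff U s hs =>
    intro h
    let V : (E.obj j).Opens := ⨆ W ∈ s, (W : (E.obj j).affineOpens).1
    have hV : (V : Set (E.obj j)) = ⋃ W ∈ s, ((W : (E.obj j).affineOpens).1 : Set (E.obj j)) := by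
      simp [V]
    have hle : cE.π.app j ⁻¹ᵁ U.1 ≤ cE.π.app j ⁻¹ᵁ V := by
      intro x hx
      by_contra hxV
      have : x ∈ cE.π.app j ⁻¹' ((U.1 : Set (E.obj j)) \ ⋃ W ∈ s, ((W : (E.obj j).affineOpens).1 :
          Set (E.obj j))) := by
        refine ⟨hx, ?_⟩
        rw [← hV]
        exact hxV
      rw [h] at this
      exact this
    obtain ⟨k, ψ, hk⟩ := exists_map_preimage_le_map_preimage E cE hcE (IsAffineOpen.isCompact U.2) hle
    refine ⟨Over.mk ψ, ?_⟩
    rw [Set.eq_empty_iff_forall_notMem]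
    rintro x ⟨hxU, hxV⟩
    apply hxV
    rw [← hV]
    exact hk hxU
  | union s hs t ht ihs iht =>
    intro h
    rw [Set.preimage_union, Set.union_empty_iff] at h
    obtain ⟨k₁, hk₁⟩ := ihs h.1
    obtain ⟨k₂, hk₂⟩ := iht h.2
    refine ⟨IsCofiltered.min k₁ k₂, ?_⟩
    rw [Set.preimage_union, Set.union_empty_iff]
    exact ⟨mono s (IsCofiltered.minToLeft k₁ k₂) hk₁, mono t (IsCofiltered.minToRight k₁ k₂) hk₂⟩

end

section

variable {J : Type u} [SmallCategory J] [IsCofiltered J] {E XS : J ⥤ Scheme.{u}} {fS : XS ⟶ E}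
  {cE : Cone E} {cX : Cone XS} {f : cX.pt ⟶ cE.pt}

/-- Surjectivity descends (finite presentation). -/
theorem core_surjective (hS : CartSys fS cE cX f) (hcE : IsLimit cE)
    [∀ (i j : J) (φ : i ⟶ j), IsAffineHom (E.map φ)] [∀ j, CompactSpace (E.obj j)]
    [∀ j, QuasiSeparatedSpace (E.obj j)]
    [∀ j, QuasiCompact (fS.app j)] [∀ j, LocallyOfFinitePresentation (fS.app j)]
    [Surjective f] : ∃ j, Surjective (fS.app j) := by
  obtain ⟨j₀⟩ : Nonempty J := IsCofiltered.nonempty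
  have hZ : IsConstructible (Set.range (fS.app j₀))ᶜ := by
    rw [Topology.isConstructible_compl, ← Set.image_univ]
    exact (fS.app j₀).isConstructible_image Topology.IsConstructible.univ
  have h0 : cE.π.app j₀ ⁻¹' (Set.range (fS.app j₀))ᶜ = ∅ := by
    rw [Set.eq_empty_iff_forall_notMem]
    intro x hx
    apply hx
    obtain ⟨y, rfl⟩ := f.surjective x
    refine ⟨cX.π.app j₀ y, ?_⟩
    rw [← Scheme.Hom.comp_apply, ← Scheme.Hom.comp_apply, (hS.π j₀).w]
  obtain ⟨k, hk⟩ := exists_preimage_eq_empty E cE hcE j₀ _ hZ h0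
  refine ⟨k.left, ⟨fun y => ?_⟩⟩
  have hy : E.map k.hom y ∈ Set.range (fS.app j₀) := by
    by_contra hy
    have : y ∈ E.map k.hom ⁻¹' (Set.range (fS.app j₀))ᶜ := hy
    rw [hk] at this
    exact this
  obtain ⟨x₀, hx₀⟩ := hy
  obtain ⟨x, -, hx⟩ := Scheme.exists_preimage_of_isPullback (hS.map k.hom) x₀ y hx₀
  exact ⟨x, hx⟩

/-- Universal injectivity descends (finite type). -/
theorem core_universallyInjective (hS : CartSys fS cE cX f) (hcX : IsLimit cX)
    [∀ (i j : J) (φ : i ⟶ j), IsAffineHom (E.map φ)] [∀ j, CompactSpace (E.obj j)]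
    [∀ j, QuasiSeparatedSpace (E.obj j)]
    [∀ j, QuasiCompact (fS.app j)] [∀ j, QuasiSeparated (fS.app j)]
    [∀ j, LocallyOfFiniteType (fS.app j)] [UniversallyInjective f] :
    ∃ j, UniversallyInjective (fS.app j) := by
  have hS2 := cartSys_diag hS
  have i1 : ∀ (i j : J) (φ : i ⟶ j), IsAffineHom ((E2 fS).map φ) :=
    fun _ _ φ => isAffineHom_E2_map hS φ
  have i2 : ∀ j, CompactSpace ((E2 fS).obj j) := fun j => compactSpace_E2_obj j
  have i3 : ∀ j, QuasiSeparatedSpace ((E2 fS).obj j) := fun j => quasiSeparatedSpace_E2_obj j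
  have i4 : ∀ j, QuasiCompact ((Δ fS).app j) :=
    fun j => inferInstanceAs (QuasiCompact (pullback.diagonal (fS.app j)))
  have i6 : ∀ j, LocallyOfFinitePresentation ((Δ fS).app j) :=
    fun j => LimUnram.lfp_diagonal (fS.app j)
  have hΔ : Surjective (pullback.diagonal f) := (UniversallyInjective.iff_diagonal _).mp inferInstance
  obtain ⟨j, hj⟩ := @core_surjective _ _ _ _ _ _ _ _ _ hS2 (hcE2 hS hcX) i1 i2 i3 i4 i6 hΔ
  exact ⟨j, (UniversallyInjective.iff_diagonal _).mpr hj⟩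

end

section Tau

variable {J : Type u} [SmallCategory J] [IsCofiltered J] (E : J ⥤ Scheme.{u}) {T : Scheme.{u}}
  (τ : ∀ j, E.obj j ⟶ T) (hτ : ∀ {j k : J} (φ : j ⟶ k), E.map φ ≫ τ k = τ j)
  (cE : Cone E) (hcE : IsLimit cE) (p : cE.pt ⟶ T)
  (hp : ∀ j, cE.π.app j ≫ τ j = p) {X₀ : Scheme.{u}} (f₀ : X₀ ⟶ T)

include hτ hcE hp in
theorem core_tau_surjective
    [∀ (i j : J) (φ : i ⟶ j), IsAffineHom (E.map φ)] [∀ j, CompactSpace (E.obj j)]
    [∀ j, QuasiSeparatedSpace (E.obj j)]
    [QuasiCompact f₀] [LocallyOfFinitePresentation f₀]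
    (h : Surjective (pullback.fst p f₀)) :
    ∃ j, Surjective (pullback.fst (τ j) f₀) := by
  have h1 : ∀ j, QuasiCompact ((LimCart.fS E τ hτ f₀).app j) :=
    fun j => inferInstanceAs (QuasiCompact (pullback.fst (τ j) f₀))
  have h3 : ∀ j, LocallyOfFinitePresentation ((LimCart.fS E τ hτ f₀).app j) :=
    fun j => inferInstanceAs (LocallyOfFinitePresentation (pullback.fst (τ j) f₀))
  exact @core_surjective _ _ _ _ _ _ _ _ _ (LimCart.cartSys_tau E τ hτ cE p hp f₀) hcE
    _ _ _ h1 h3 h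

include hτ hcE hp in
theorem core_tau_universallyInjective
    [∀ (i j : J) (φ : i ⟶ j), IsAffineHom (E.map φ)] [∀ j, CompactSpace (E.obj j)]
    [∀ j, QuasiSeparatedSpace (E.obj j)]
    [QuasiCompact f₀] [QuasiSeparated f₀] [LocallyOfFiniteType f₀]
    (h : UniversallyInjective (pullback.fst p f₀)) :
    ∃ j, UniversallyInjective (pullback.fst (τ j) f₀) := by
  have h1 : ∀ j, QuasiCompact ((LimCart.fS E τ hτ f₀).app j) :=
    fun j => inferInstanceAs (QuasiCompact (pullback.fst (τ j) f₀))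
  have h2 : ∀ j, QuasiSeparated ((LimCart.fS E τ hτ f₀).app j) :=
    fun j => inferInstanceAs (QuasiSeparated (pullback.fst (τ j) f₀))
  have h3 : ∀ j, LocallyOfFiniteType ((LimCart.fS E τ hτ f₀).app j) :=
    fun j => inferInstanceAs (LocallyOfFiniteType (pullback.fst (τ j) f₀))
  exact @core_universallyInjective _ _ _ _ _ _ _ _ _ (LimCart.cartSys_tau E τ hτ cE p hp f₀)
    (LimPB.hcX E τ hτ cE hcE p hp f₀) _ _ _ h1 h2 h3 h

end Tau

end Groth.Agent.Lib.helper11.LimSurj
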