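import Mathlib
import Groth.Agent.Lib.helper11.LimSurj

set_option autoImplicit false
universe u
open CategoryTheory CategoryTheory.Limits AlgebraicGeometry

namespace Groth.Agent.Lib.helper11.LimCompact

open Groth.Agent.Lib.helper11 Groth.Agent.Lib.helper11.LimCart

/-- The shape of a core statement for systems of qcqs schemes, with an extra hypothesis `H` on the
morphisms `fS_j`. -/
def QcqsCore (P H : MorphismProperty Scheme.{u}) : Prop :=
  ∀ {J : Type u} [SmallCategory J] [IsCofiltered J] {E XS : J ⥤ Scheme.{u}} {fS : XS ⟶ E}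
    {cE : Cone E} {cX : Cone XS} {f : cX.pt ⟶ cE.pt} (_ : CartSys fS cE cX f) (_ : IsLimit cE)
    (_ : IsLimit cX) [∀ (i j : J) (φ : i ⟶ j), IsAffineHom (E.map φ)]
    [∀ j, CompactSpace (E.obj j)] [∀ j, QuasiSeparatedSpace (E.obj j)]
    [∀ j, QuasiCompact (fS.app j)] [∀ j, QuasiSeparated (fS.app j)] (_ : ∀ j, H (fS.app j)),
    P f → ∃ j, P (fS.app j)

section

variable {J : Type u} [SmallCategory J] [IsCofiltered J] {E XS : J ⥤ Scheme.{u}} {fS : XS ⟶ E}
  {cE : Cone E} {cX : Cone XS} {f : cX.pt ⟶ cE.pt}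

/-- Upgrade a core for qcqs systems to systems with one quasi-compact stage. -/
theorem core_compact {P H : MorphismProperty Scheme.{u}} [P.IsStableUnderBaseChange]
    [IsZariskiLocalAtTarget P] [IsZariskiLocalAtTarget H] (core : QcqsCore P H)
    (hS : CartSys fS cE cX f) (hcE : IsLimit cE) (hcX : IsLimit cX)
    [∀ (i j : J) (φ : i ⟶ j), IsAffineHom (E.map φ)] (j₁ : J) [CompactSpace (E.obj j₁)]
    [∀ j, QuasiCompact (fS.app j)] [∀ j, QuasiSeparated (fS.app j)] (hH : ∀ j, H (fS.app j))
    (hf : P f) : ∃ j : Over j₁, P (fS.app j.left) := by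
  have hEaff : ∀ {i j : J} (φ : i ⟶ j), IsAffineHom (E.map φ) := fun φ => inferInstance
  refine core_of_forall_affine hS j₁ (fun W hW hfW => ?_) hf
  have hSW := cartSysW fS cE cX f hS j₁ W
  have i1 : ∀ (i j : Over j₁) (φ : i ⟶ j), IsAffineHom ((opensDiagram E j₁ W).map φ) :=
    fun i j φ => inferInstance
  have i0 : ∀ j : Over j₁, IsAffine ((opensDiagram E j₁ W).obj j) :=
    fun j => hW.preimage (E.map j.hom)
  have i2 : ∀ j : Over j₁, CompactSpace ((opensDiagram E j₁ W).obj j) := fun j => inferInstance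
  have i3 : ∀ j : Over j₁, QuasiSeparatedSpace ((opensDiagram E j₁ W).obj j) :=
    fun j => inferInstance
  have i4 : ∀ j : Over j₁, QuasiCompact ((fSW fS j₁ W).app j) :=
    fun j => LimImm.P_fSW_app @QuasiCompact j₁ W j inferInstance
  have i5 : ∀ j : Over j₁, QuasiSeparated ((fSW fS j₁ W).app j) :=
    fun j => LimImm.P_fSW_app @QuasiSeparated j₁ W j inferInstance
  have i6 : ∀ j : Over j₁, H ((fSW fS j₁ W).app j) :=
    fun j => LimImm.P_fSW_app H j₁ W j (hH j.left)
  exact core hSW (isLimitOpensCone E cE hcE j₁ W)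
    (isLimitOpensCone XS cX hcX j₁ (fS.app j₁ ⁻¹ᵁ W)) i6 hfW

end

theorem qcqsCore_isIso : QcqsCore.{u} (MorphismProperty.isomorphisms Scheme.{u})
    @LocallyOfFinitePresentation := by
  intro J _ _ E XS fS cE cX f hS hcE hcX _ _ _ _ _ hH hf
  have : ∀ j, LocallyOfFinitePresentation (fS.app j) := hH
  have : IsIso f := hf
  exact LimIso.core_isIso hS hcE hcX

theorem qcqsCore_isOpenImmersion : QcqsCore.{u} @IsOpenImmersion
    @LocallyOfFinitePresentation := by
  intro J _ _ E XS fS cE cX f hS hcE hcX _ _ _ _ _ hH hf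
  have : ∀ j, LocallyOfFinitePresentation (fS.app j) := hH
  have : IsOpenImmersion f := hf
  exact LimOpenImm.core_isOpenImmersion hS hcE hcX

theorem qcqsCore_isClosedImmersion : QcqsCore.{u} @IsClosedImmersion
    @LocallyOfFiniteType := by
  intro J _ _ E XS fS cE cX f hS hcE hcX _ _ _ _ _ hH hf
  have : ∀ j, LocallyOfFiniteType (fS.app j) := hH
  exact core_of_affCore (P := @IsClosedImmersion)
    (fun g hg => by have : IsClosedImmersion g := hg; infer_instance)
    affCore_isClosedImmersion hS hcE hf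

theorem qcqsCore_isSeparated : QcqsCore.{u} @IsSeparated ⊤ := by
  intro J _ _ E XS fS cE cX f hS hcE hcX _ _ _ _ _ hH hf
  have : IsSeparated f := hf
  exact LimDiag.core_isSeparated hS hcX

end Groth.Agent.Lib.helper11.LimCompact
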