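import Mathlib
import Groth.Agent.Lib.helper11.LimCompact

set_option autoImplicit false
universe u
open CategoryTheory CategoryTheory.Limits AlgebraicGeometry

namespace Groth.Agent.Lib.helper11.LimDescend2

open Groth.Agent.Lib.helper11 Groth.Agent.Lib.helper11.LimCart

/-- The descent statement with only quasi-compactness of `Y₀`. -/
theorem descend_of_core' (P : MorphismProperty Scheme.{u}) [P.IsStableUnderBaseChange]
    {I : Type u} [SmallCategory I] [IsCofiltered I]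
    (D : I ⥤ Scheme.{u}) (c : Cone D) (hc : IsLimit c)
    [∀ (i j : I) (f : i ⟶ j), IsAffineHom (D.map f)] (i₀ : I)
    {X₀ Y₀ : Scheme.{u}} (f₀ : X₀ ⟶ Y₀) (g₀ : Y₀ ⟶ D.obj i₀)
    [CompactSpace Y₀]
    {X Y : Scheme.{u}} (f : X ⟶ Y) (g : Y ⟶ c.pt) (qY : Y ⟶ Y₀) (qX : X ⟶ X₀)
    (hY : IsPullback qY g g₀ (c.π.app i₀)) (hX : IsPullback qX f f₀ qY) (hf : P f)
    (core : ∀ {J : Type u} [SmallCategory J] [IsCofiltered J] (E : J ⥤ Scheme.{u})
      (τ : ∀ j, E.obj j ⟶ Y₀) (_ : ∀ {j k : J} (φ : j ⟶ k), E.map φ ≫ τ k = τ j)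
      (cE : Cone E) (_ : IsLimit cE) (p : cE.pt ⟶ Y₀) (_ : ∀ j, cE.π.app j ≫ τ j = p)
      [∀ (i j : J) (f : i ⟶ j), IsAffineHom (E.map f)]
      [∀ j, CompactSpace (E.obj j)],
      P (pullback.fst p f₀) → ∃ j, P (pullback.fst (τ j) f₀)) :
    ∃ (i : I) (φ : i ⟶ i₀) (Xi Yi : Scheme.{u}) (fi : Xi ⟶ Yi) (gi : Yi ⟶ D.obj i) (pY : Yi ⟶ Y₀)
      (pX : Xi ⟶ X₀), IsPullback pY gi g₀ (D.map φ) ∧ IsPullback pX fi f₀ pY ∧ P fi := by
  apply LimDescend.reduction P D c i₀ f₀ g₀ f g qY qX hY hX hf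
  intro hP
  have h1 : ∀ (i j : Over i₀) (a : i ⟶ j), IsAffineHom ((LimPullback.D' D i₀ g₀).map a) :=
    fun i j a => LimPullback.isAffineHom_map D i₀ g₀ a
  have h2 : ∀ j : Over i₀, CompactSpace ((LimPullback.D' D i₀ g₀).obj j) :=
    fun j => LimPullback.compactSpace_obj D i₀ g₀ j
  exact core (LimPullback.D' D i₀ g₀) (fun j => pullback.snd (D.map j.hom) g₀)
    (fun φ => LimPullback.map_snd D i₀ g₀ φ) (LimPullback.c' D c i₀ g₀)
    (LimPullback.hc' D c hc i₀ g₀) (pullback.snd (c.π.app i₀) g₀)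
    (fun j => LimPullback.π_snd D c i₀ g₀ j) hP

/-- The easy direction: a property stable under base change passes from a stage to the limit. -/
theorem of_stage (P : MorphismProperty Scheme.{u}) [P.IsStableUnderBaseChange]
    {I : Type u} [SmallCategory I]
    (D : I ⥤ Scheme.{u}) (c : Cone D) (i₀ : I) {X₀ Y₀ : Scheme.{u}} (f₀ : X₀ ⟶ Y₀)
    (g₀ : Y₀ ⟶ D.obj i₀)
    {X Y : Scheme.{u}} (f : X ⟶ Y) (g : Y ⟶ c.pt) (qY : Y ⟶ Y₀) (qX : X ⟶ X₀)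
    (hY : IsPullback qY g g₀ (c.π.app i₀)) (hX : IsPullback qX f f₀ qY)
    (h : ∃ (i : I) (φ : i ⟶ i₀) (Xi Yi : Scheme.{u}) (fi : Xi ⟶ Yi) (gi : Yi ⟶ D.obj i)
      (pY : Yi ⟶ Y₀) (pX : Xi ⟶ X₀), IsPullback pY gi g₀ (D.map φ) ∧ IsPullback pX fi f₀ pY ∧
        P fi) : P f := by
  obtain ⟨i, φ, Xi, Yi, fi, gi, pY, pX, hYi, hXi, hfi⟩ := h
  have hcond : qY ≫ g₀ = (g ≫ c.π.app i) ≫ D.map φ := by
    rw [Category.assoc, c.w, hY.w]
  let r : Y ⟶ Yi := hYi.lift qY (g ≫ c.π.app i) hcond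
  have hr : r ≫ pY = qY := hYi.lift_fst _ _ _
  have hcond2 : qX ≫ f₀ = (f ≫ r) ≫ pY := by
    rw [Category.assoc, hr, hX.w]
  have big : IsPullback (hXi.lift qX (f ≫ r) hcond2 ≫ pX) f f₀ (r ≫ pY) := by
    rw [hr, hXi.lift_fst]
    exact hX
  have left := IsPullback.of_right big (hXi.lift_snd _ _ hcond2) hXi
  exact MorphismProperty.of_isPullback left hfi

section Tau

variable {J : Type u} [SmallCategory J] [IsCofiltered J] (E : J ⥤ Scheme.{u}) {T : Scheme.{u}}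
  (τ : ∀ j, E.obj j ⟶ T) (hτ : ∀ {j k : J} (φ : j ⟶ k), E.map φ ≫ τ k = τ j)
  (cE : Cone E) (hcE : IsLimit cE) (p : cE.pt ⟶ T)
  (hp : ∀ j, cE.π.app j ≫ τ j = p) {X₀ : Scheme.{u}} (f₀ : X₀ ⟶ T)

include hτ hcE hp in
/-- τ-form of `core_compact`. -/
theorem core_tau_compact {P H : MorphismProperty Scheme.{u}} [P.IsStableUnderBaseChange]
    [IsZariskiLocalAtTarget P] [IsZariskiLocalAtTarget H] [H.IsStableUnderBaseChange]
    (core : LimCompact.QcqsCore P H)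
    [∀ (i j : J) (φ : i ⟶ j), IsAffineHom (E.map φ)] [∀ j, CompactSpace (E.obj j)]
    [QuasiCompact f₀] [QuasiSeparated f₀] (hH : H f₀)
    (h : P (pullback.fst p f₀)) : ∃ j, P (pullback.fst (τ j) f₀) := by
  have h1 : ∀ j, QuasiCompact ((LimCart.fS E τ hτ f₀).app j) :=
    fun j => inferInstanceAs (QuasiCompact (pullback.fst (τ j) f₀))
  have h2 : ∀ j, QuasiSeparated ((LimCart.fS E τ hτ f₀).app j) :=
    fun j => inferInstanceAs (QuasiSeparated (pullback.fst (τ j) f₀))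
  have h3 : ∀ j, H ((LimCart.fS E τ hτ f₀).app j) :=
    fun j => MorphismProperty.pullback_fst (τ j) f₀ hH
  obtain ⟨j₁⟩ : Nonempty J := IsCofiltered.nonempty
  obtain ⟨j, hj⟩ := LimCompact.core_compact core (LimCart.cartSys_tau E τ hτ cE p hp f₀) hcE
    (LimPB.hcX E τ hτ cE hcE p hp f₀) j₁ h3 h
  exact ⟨j.left, hj⟩

end Tau

end Groth.Agent.Lib.helper11.LimDescend2
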