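import Mathlib
import Groth.Agent.Lib.helper11.LimDescend2

set_option autoImplicit false
universe u
open CategoryTheory CategoryTheory.Limits AlgebraicGeometry

namespace Groth.Agent.Lib.helper11.LimDescend3

open Groth.Agent.Lib.helper11 Groth.Agent.Lib.helper11.LimCart

/-- base change of `pullback.snd ι₀ b` along `a` is `pullback.snd ι₀ (a ≫ b)`. -/
theorem snd_of_comp (P : MorphismProperty Scheme.{u}) [P.IsStableUnderBaseChange]
    {Z₀ S₀ S₁ S₂ : Scheme.{u}} (ι₀ : Z₀ ⟶ S₀) (b : S₁ ⟶ S₀) (a : S₂ ⟶ S₁) (ab : S₂ ⟶ S₀)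
    (hab : a ≫ b = ab)
    (h : P (pullback.snd ι₀ b)) : P (pullback.snd ι₀ ab) := by
  subst hab
  have hcond : pullback.fst ι₀ (a ≫ b) ≫ ι₀ = (pullback.snd ι₀ (a ≫ b) ≫ a) ≫ b := by
    rw [Category.assoc, pullback.condition]
  have big : IsPullback (pullback.lift (pullback.fst ι₀ (a ≫ b)) (pullback.snd ι₀ (a ≫ b) ≫ a) hcond
      ≫ pullback.fst ι₀ b) (pullback.snd ι₀ (a ≫ b)) ι₀ (a ≫ b) := by
    rw [pullback.lift_fst]
    exact IsPullback.of_hasPullback _ _
  have left := IsPullback.of_right big (pullback.lift_snd _ _ hcond) (IsPullback.of_hasPullback ι₀ b)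
  exact MorphismProperty.of_isPullback left h

/-- Statements of the form `P (Z₀ ×_{S_{i₀}} S ⟶ S) ↔ ∃ j, P (Z₀ ×_{S_{i₀}} S_j ⟶ S_j)`. -/
theorem snd_iff_eventually {P H : MorphismProperty Scheme.{u}} [P.IsStableUnderBaseChange]
    [IsZariskiLocalAtTarget P] [IsZariskiLocalAtTarget H] [H.IsStableUnderBaseChange]
    (core : LimCompact.QcqsCore P H)
    {I : Type u} [SmallCategory I] [IsCofiltered I]
    (D : I ⥤ Scheme.{u}) (c : Cone D) (hc : IsLimit c)
    [∀ (i j : I) (f : i ⟶ j), IsAffineHom (D.map f)] (i₀ : I) [CompactSpace (D.obj i₀)]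
    {Z₀ : Scheme.{u}} (ι₀ : Z₀ ⟶ D.obj i₀) [QuasiCompact ι₀] [QuasiSeparated ι₀] (hH : H ι₀) :
    P (pullback.snd ι₀ (c.π.app i₀)) ↔
      ∃ (j : I) (φ : j ⟶ i₀), P (pullback.snd ι₀ (D.map φ)) := by
  constructor
  · intro h
    have hY : IsPullback (c.π.app i₀) (𝟙 c.pt) (𝟙 (D.obj i₀)) (c.π.app i₀) :=
      IsPullback.id_vert _
    have hX : IsPullback (pullback.fst ι₀ (c.π.app i₀)) (pullback.snd ι₀ (c.π.app i₀)) ι₀
      (c.π.app i₀) := IsPullback.of_hasPullback _ _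
    obtain ⟨i, φ, Xi, Yi, fi, gi, pY, pX, h1, h2, h3⟩ :=
      LimDescend2.descend_of_core' P D c hc i₀ ι₀ (𝟙 (D.obj i₀)) (pullback.snd ι₀ (c.π.app i₀))
        (𝟙 c.pt) (c.π.app i₀) (pullback.fst ι₀ (c.π.app i₀)) hY hX h
        (fun E τ hτ cE hcE p hp _ _ h =>
          LimDescend2.core_tau_compact E τ hτ cE hcE p hp ι₀ core hH h)
    refine ⟨i, φ, ?_⟩
    have : IsIso gi := by
      exact MorphismProperty.of_isPullback (P := MorphismProperty.isomorphisms Scheme.{u}) h1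
        (inferInstanceAs (IsIso (𝟙 (D.obj i₀))))
    have hpY : inv gi ≫ pY = D.map φ := by
      rw [IsIso.inv_comp_eq]
      have := h1.w
      rw [Category.comp_id] at this
      exact this
    have hcond : pullback.fst ι₀ (D.map φ) ≫ ι₀ = (pullback.snd ι₀ (D.map φ) ≫ inv gi) ≫ pY := by
      rw [Category.assoc, hpY, pullback.condition]
    have big : IsPullback (h2.lift (pullback.fst ι₀ (D.map φ)) (pullback.snd ι₀ (D.map φ) ≫ inv gi)
        hcond ≫ pX) (pullback.snd ι₀ (D.map φ)) ι₀ (inv gi ≫ pY) := by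
      rw [h2.lift_fst, hpY]
      exact IsPullback.of_hasPullback _ _
    have left := IsPullback.of_right big (h2.lift_snd _ _ hcond) h2
    exact MorphismProperty.of_isPullback left h3
  · rintro ⟨j, φ, h⟩
    exact snd_of_comp P ι₀ (D.map φ) (c.π.app j) (c.π.app i₀) (c.w φ) h

end Groth.Agent.Lib.helper11.LimDescend3
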