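import Mathlib
import Groth.Agent.Lib.helper11.LimDescend3

set_option autoImplicit false
universe u
open CategoryTheory CategoryTheory.Limits AlgebraicGeometry

namespace Groth.Agent.Lib.helper11.ImmFactor

/-- `Z₁ ×_S T` factors through `Z₂ ×_S T` over `T` iff the projection
`(T ×_S Z₁) ×_{Z₁} (Z₁ ×_S Z₂) ⟶ T ×_S Z₁` is an isomorphism (for `ι₂` a monomorphism). -/
theorem exists_fac_iff {T S Z₁ Z₂ : Scheme.{u}} (t : T ⟶ S) (ι₁ : Z₁ ⟶ S) (ι₂ : Z₂ ⟶ S) [Mono ι₂] :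
    (∃ k : pullback ι₁ t ⟶ pullback ι₂ t, k ≫ pullback.snd ι₂ t = pullback.snd ι₁ t) ↔
      IsIso (pullback.fst (pullback.snd t ι₁) (pullback.fst ι₁ ι₂)) := by
  let σ : pullback ι₁ t ≅ pullback t ι₁ := pullbackSymmetry ι₁ t
  have hσ1 : σ.hom ≫ pullback.fst t ι₁ = pullback.snd ι₁ t := pullbackSymmetry_hom_comp_fst _ _
  have hσ2 : σ.hom ≫ pullback.snd t ι₁ = pullback.fst ι₁ t := pullbackSymmetry_hom_comp_snd _ _
  have hσ1' : σ.inv ≫ pullback.snd ι₁ t = pullback.fst t ι₁ := by rw [Iso.inv_comp_eq, hσ1]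
  have hσ2' : σ.inv ≫ pullback.fst ι₁ t = pullback.snd t ι₁ := by rw [Iso.inv_comp_eq, hσ2]
  constructor
  · rintro ⟨k, hk⟩
    have hc1 : pullback.snd t ι₁ ≫ ι₁ = (σ.inv ≫ k ≫ pullback.fst ι₂ t) ≫ ι₂ := by
      rw [Category.assoc, Category.assoc, pullback.condition, ← Category.assoc k, hk,
        ← Category.assoc, hσ1', pullback.condition]
    let w : pullback t ι₁ ⟶ pullback ι₁ ι₂ :=
      pullback.lift (pullback.snd t ι₁) (σ.inv ≫ k ≫ pullback.fst ι₂ t) hc1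
    have hw : w ≫ pullback.fst ι₁ ι₂ = pullback.snd t ι₁ := pullback.lift_fst _ _ _
    let s : pullback t ι₁ ⟶ pullback (pullback.snd t ι₁) (pullback.fst ι₁ ι₂) :=
      pullback.lift (𝟙 _) w (by rw [Category.id_comp, hw])
    have hs : s ≫ pullback.fst (pullback.snd t ι₁) (pullback.fst ι₁ ι₂) = 𝟙 _ :=
      pullback.lift_fst _ _ _
    have : IsSplitEpi (pullback.fst (pullback.snd t ι₁) (pullback.fst ι₁ ι₂)) := ⟨⟨s, hs⟩⟩
    have : Mono (pullback.fst (pullback.snd t ι₁) (pullback.fst ι₁ ι₂)) := inferInstance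
    exact isIso_of_mono_of_isSplitEpi _
  · intro h
    have hc : (σ.hom ≫ inv (pullback.fst (pullback.snd t ι₁) (pullback.fst ι₁ ι₂)) ≫
        pullback.snd (pullback.snd t ι₁) (pullback.fst ι₁ ι₂) ≫ pullback.snd ι₁ ι₂) ≫ ι₂ =
        pullback.snd ι₁ t ≫ t := by
      simp only [Category.assoc]
      rw [← pullback.condition (f := ι₁) (g := ι₂),
        ← pullback.condition_assoc (f := pullback.snd t ι₁) (g := pullback.fst ι₁ ι₂),
        IsIso.inv_hom_id_assoc, ← Category.assoc, hσ2, pullback.condition]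
    refine ⟨pullback.lift _ (pullback.snd ι₁ t) hc, pullback.lift_snd _ _ _⟩

end Groth.Agent.Lib.helper11.ImmFactor
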