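import Mathlib

/-! finiteness of the set of irreducible components: flat finite type ring maps, open covers -/

set_option autoImplicit false
universe u
open TensorProduct Topology

namespace Groth.Agent.Lib.helper11.IrrComp


theorem under_mem_minimalPrimes_of_flat {A B : Type*} [CommRing A] [CommRing B] [Algebra A B]
    [Module.Flat A B] {𝔮 : Ideal B} (h𝔮 : 𝔮 ∈ minimalPrimes B) :
    𝔮.under A ∈ minimalPrimes A := by
  haveI : 𝔮.IsPrime := h𝔮.1.1
  obtain ⟨𝔭₀, h𝔭₀, hle⟩ := Ideal.exists_minimalPrimes_le (I := (⊥ : Ideal A)) (J := 𝔮.under A) bot_le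
  haveI : 𝔭₀.IsPrime := h𝔭₀.1.1
  haveI : 𝔮.LiesOver (𝔮.under A) := ⟨rfl⟩
  obtain ⟨P, hP, hPprime, hPover⟩ := Ideal.exists_ideal_le_liesOver_of_le (p := 𝔭₀) (q := 𝔮.under A) 𝔮 hle
  have hPq : P = 𝔮 := le_antisymm hP (h𝔮.2 ⟨hPprime, bot_le⟩ hP)
  have : 𝔭₀ = 𝔮.under A := by
    rw [hPover.over, hPq]
  rw [← this]
  exact h𝔭₀

theorem finite_minimalPrimes_of_flat_finiteType {A B : Type u} [CommRing A] [CommRing B]
    [Algebra A B] [Module.Flat A B] [Algebra.FiniteType A B] (hA : (minimalPrimes A).Finite) :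
    (minimalPrimes B).Finite := by
  classical
  let S : Set (PrimeSpectrum A) := {p | p.asIdeal ∈ minimalPrimes A}
  have hS : S.Finite := by
    refine Set.Finite.of_finite_image (f := PrimeSpectrum.asIdeal) (hA.subset ?_) ?_
    · rintro _ ⟨p, hp, rfl⟩; exact hp
    · intro p _ q _ h; exact PrimeSpectrum.ext h
  have hfib : ∀ p : PrimeSpectrum A, (minimalPrimes (p.asIdeal.Fiber B)).Finite := by
    intro p
    haveI : Algebra.FiniteType p.asIdeal.ResidueField (p.asIdeal.Fiber B) := inferInstance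
    haveI : IsNoetherianRing (p.asIdeal.Fiber B) :=
      Algebra.FiniteType.isNoetherianRing p.asIdeal.ResidueField _
    exact minimalPrimes.finite_of_isNoetherianRing _
  have hfin : (⋃ p ∈ S, (fun Q : Ideal (p.asIdeal.Fiber B) =>
      Q.comap (Algebra.TensorProduct.includeRight : B →ₐ[A] p.asIdeal.Fiber B).toRingHom) ''
      minimalPrimes (p.asIdeal.Fiber B)).Finite :=
    hS.biUnion fun p _ => (hfib p).image _
  refine hfin.subset ?_
  intro 𝔮 h𝔮
  haveI : 𝔮.IsPrime := h𝔮.1.1
  let p : PrimeSpectrum A := ⟨𝔮.under A, inferInstance⟩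
  have hpS : p ∈ S := under_mem_minimalPrimes_of_flat h𝔮
  simp only [Set.mem_iUnion, Set.mem_image]
  refine ⟨p, hpS, ?_⟩
  let q' : PrimeSpectrum.comap (algebraMap A B) ⁻¹' {p} := ⟨⟨𝔮, inferInstance⟩, rfl⟩
  let Q := PrimeSpectrum.preimageEquivFiber A B p q'
  have hQ : Q.asIdeal.comap (Algebra.TensorProduct.includeRight : B →ₐ[A] p.asIdeal.Fiber B).toRingHom
      = 𝔮 := by
    have := (PrimeSpectrum.preimageEquivFiber A B p).symm_apply_apply q'
    exact congrArg (fun z => z.1.asIdeal) this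
  obtain ⟨Q₀, hQ₀, hle⟩ := Ideal.exists_minimalPrimes_le (I := (⊥ : Ideal (p.asIdeal.Fiber B)))
    (J := Q.asIdeal) bot_le
  haveI : Q₀.IsPrime := hQ₀.1.1
  refine ⟨Q₀, hQ₀, ?_⟩
  have h1 : Q₀.comap (Algebra.TensorProduct.includeRight : B →ₐ[A] p.asIdeal.Fiber B).toRingHom ≤ 𝔮 := by
    exact (Ideal.comap_mono hle).trans hQ.le
  exact le_antisymm h1 (h𝔮.2 ⟨Ideal.comap_isPrime _ _, bot_le⟩ h1)



theorem finite_irreducibleComponents_of_openEmbeddings {X : Type*} [TopologicalSpace X]
    {ι : Type*} [Finite ι] (T : ι → Type*) [∀ i, TopologicalSpace (T i)] (e : ∀ i, T i → X)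
    (he : ∀ i, IsOpenEmbedding (e i)) (hsurj : ∀ x, ∃ i t, e i t = x)
    (h : ∀ i, (irreducibleComponents (T i)).Finite) : (irreducibleComponents X).Finite := by
  have hfin : (⋃ i, (fun s : Set (T i) => closure (e i '' s)) '' irreducibleComponents (T i)).Finite :=
    Set.finite_iUnion fun i => (h i).image _
  refine hfin.subset ?_
  intro Z hZ
  obtain ⟨x, hxZ⟩ := hZ.1.1
  obtain ⟨i, t, rfl⟩ := hsurj x
  simp only [Set.mem_iUnion, Set.mem_image]
  have hne : (Z ∩ Set.range (e i)).Nonempty := ⟨e i t, hxZ, ⟨t, rfl⟩⟩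
  refine ⟨i, e i ⁻¹' Z, preimage_mem_irreducibleComponents hZ (he i) hne, ?_⟩
  rw [Set.image_preimage_eq_inter_range]
  refine le_antisymm ?_ ?_
  · rw [(isClosed_of_mem_irreducibleComponents Z hZ).closure_subset_iff]
    exact Set.inter_subset_left
  · exact subset_closure_inter_of_isPreirreducible_of_isOpen hZ.1.2 (he i).isOpen_range hne

theorem finite_irreducibleComponents_of_homeomorph {X Y : Type*} [TopologicalSpace X]
    [TopologicalSpace Y] (e : X ≃ₜ Y) (h : (irreducibleComponents X).Finite) :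
    (irreducibleComponents Y).Finite :=
  finite_irreducibleComponents_of_openEmbeddings (ι := Unit) (fun _ => X) (fun _ => e)
    (fun _ => e.isOpenEmbedding) (fun y => ⟨(), e.symm y, e.apply_symm_apply y⟩) (fun _ => h)

theorem finite_minimalPrimes_iff (R : Type*) [CommRing R] :
    (minimalPrimes R).Finite ↔ (irreducibleComponents (PrimeSpectrum R)).Finite := by
  have e := (minimalPrimes.equivIrreducibleComponents R).toEquiv
  constructor
  · intro h
    haveI : Finite (minimalPrimes R) := h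
    have : Finite ((irreducibleComponents (PrimeSpectrum R))ᵒᵈ) := Finite.of_equiv _ e
    have h2 : Finite (irreducibleComponents (PrimeSpectrum R)) := this
    exact Set.finite_coe_iff.mp h2
  · intro h
    have h1 : Finite (irreducibleComponents (PrimeSpectrum R)) := h
    haveI : Finite ((irreducibleComponents (PrimeSpectrum R))ᵒᵈ) := h1
    have : Finite (minimalPrimes R) := Finite.of_equiv _ e.symm
    exact Set.finite_coe_iff.mp this


open AlgebraicGeometry CategoryTheory in
theorem finite_irreducibleComponents_affineOpen_iff {X : Scheme.{u}} {U : X.Opens}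
    (hU : IsAffineOpen U) :
    (irreducibleComponents (U : Type u)).Finite ↔ (minimalPrimes Γ(X, U)).Finite := by
  have e : (U : Type u) ≃ₜ PrimeSpectrum Γ(X, U) := Scheme.homeoOfIso hU.isoSpec
  rw [finite_minimalPrimes_iff]
  exact ⟨finite_irreducibleComponents_of_homeomorph e,
    finite_irreducibleComponents_of_homeomorph e.symm⟩

end Groth.Agent.Lib.helper11.IrrComp
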