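import Mathlib
import Groth.Agent.Lib.helper28.FPColim

set_option autoImplicit false
universe u
open CategoryTheory CategoryTheory.Limits AlgebraicGeometry

namespace Groth.Agent.Lib.helper11.LfpConv

open Groth.Agent.Lib.helper28.FPColim

/-- (copied from helper28's S4777) kernel of a retraction from a finite type algebra is f.g. -/
lemma ker_fg_of_retract {R D B : Type u} [CommRing R] [CommRing D] [CommRing B] [Algebra R D]
    [Algebra.FiniteType R D] (r : D →+* B) (s : B →+* D) (hrs : ∀ b, r (s b) = b)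
    (hR : ∀ a : R, s (r (algebraMap R D a)) = algebraMap R D a) : (RingHom.ker r).FG := by
  classical
  obtain ⟨G, hG⟩ := (Algebra.FiniteType.out : (⊤ : Subalgebra R D).FG)
  let I : Ideal D := Ideal.span ((G.image fun g => g - s (r g) : Finset D) : Set D)
  have hI : RingHom.ker r = I := by
    apply le_antisymm
    · intro x hx
      have hx0 : r x = 0 := hx
      have key : ∀ y ∈ Algebra.adjoin R (G : Set D), y - s (r y) ∈ I := by
        intro y hy
        induction hy using Algebra.adjoin_induction with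
        | mem g hg =>
          apply Ideal.subset_span
          exact Finset.mem_coe.2 (Finset.mem_image_of_mem _ hg)
        | algebraMap a => rw [hR a, sub_self]; exact I.zero_mem
        | add x y _ _ hx hy =>
          have : x + y - s (r (x + y)) = (x - s (r x)) + (y - s (r y)) := by
            rw [map_add, map_add]; ring
          rw [this]; exact I.add_mem hx hy
        | mul x y _ _ hx hy =>
          have : x * y - s (r (x * y)) = x * (y - s (r y)) + (x - s (r x)) * s (r y) := by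
            rw [map_mul, map_mul]; ring
          rw [this]
          exact I.add_mem (I.mul_mem_left _ hy) (I.mul_mem_right _ hx)
      have := key x (by rw [hG]; trivial)
      rwa [hx0, map_zero, sub_zero] at this
    · rw [Ideal.span_le]
      intro y hy
      obtain ⟨g, _, rfl⟩ := Finset.mem_image.1 (Finset.mem_coe.1 hy)
      show r (g - s (r g)) = 0
      rw [map_sub, hrs, sub_self]
  rw [hI]
  exact ⟨_, rfl⟩

section system

variable (R B : Type u) [CommRing R] [CommRing B] [Algebra R B]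

/-- The inverse system of spectra of the finitely presented approximations of `B`. -/
noncomputable def DS : (Idx R B)ᵒᵖ ⥤ Scheme.{u} :=
  (DD R B ⋙ Under.forget _).op ⋙ Scheme.Spec

/-- The cone with vertex `Spec B`. -/
noncomputable def cS : Cone (DS R B) :=
  Scheme.Spec.mapCone ((Under.forget _).mapCocone (CC R B)).op

/-- It is a limit cone. -/
noncomputable def hcS : IsLimit (cS R B) :=
  isLimitOfPreserves Scheme.Spec (IsColimit.op (isColimitOfPreserves (Under.forget _)
    (CCisColimit R B)))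

lemma DS_obj (j : (Idx R B)ᵒᵖ) : (DS R B).obj j = Spec ((DD R B).obj j.unop).right := rfl

lemma DS_map {j k : (Idx R B)ᵒᵖ} (φ : j ⟶ k) :
    (DS R B).map φ = Spec.map ((DD R B).map φ.unop).right := rfl

lemma cS_pt : (cS R B).pt = Spec (CommRingCat.of B) := rfl

lemma cS_π (j : (Idx R B)ᵒᵖ) :
    (cS R B).π.app j = Spec.map ((CC R B).ι.app j.unop).right := rfl

instance (j : (Idx R B)ᵒᵖ) : IsAffine ((DS R B).obj j) := by
  rw [DS_obj]; infer_instance

end system

section core

/-- Pure `Spec` form of the retraction argument. -/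
theorem exists_retraction {R' B' Bj Bk : CommRingCat.{u}} {X S : Scheme.{u}} (f : X ⟶ S)
    (φ : R' ⟶ B') (iU : Spec R' ⟶ S) [Mono iU] (iV : Spec B' ⟶ X) [IsOpenImmersion iV]
    (hsq : iV ≫ f = Spec.map φ ≫ iU)
    (aj : R' ⟶ Bj) (ak : R' ⟶ Bk) (τ : Bj ⟶ Bk) (hτ : aj ≫ τ = ak)
    (rj : Bj ⟶ B') (rk : Bk ⟶ B') (hr : τ ≫ rk = rj)
    (gj : Spec Bj ⟶ X) (h1 : gj ≫ f = Spec.map aj ≫ iU) (h2 : Spec.map rj ≫ gj = iV)
    (hk : Spec.map τ ⁻¹ᵁ (gj ⁻¹ᵁ iV.opensRange) = ⊤) :
    ∃ σ : B' ⟶ Bk, σ ≫ rk = 𝟙 B' ∧ φ ≫ σ = ak := by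
  have hrange : Set.range (Spec.map τ ≫ gj) ⊆ Set.range iV := by
    rintro _ ⟨x, rfl⟩
    have hx : x ∈ Spec.map τ ⁻¹ᵁ (gj ⁻¹ᵁ iV.opensRange) := by rw [hk]; trivial
    exact hx
  have hs'' : IsOpenImmersion.lift iV (Spec.map τ ≫ gj) hrange ≫ iV = Spec.map τ ≫ gj :=
    IsOpenImmersion.lift_fac _ _ _
  obtain ⟨σ, hσ⟩ : ∃ σ : B' ⟶ Bk, Spec.map σ = IsOpenImmersion.lift iV (Spec.map τ ≫ gj) hrange :=
    ⟨Spec.preimage _, Spec.map_preimage _⟩
  rw [← hσ] at hs''
  refine ⟨σ, ?_, ?_⟩
  · apply Spec.map_injective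
    rw [Spec.map_comp, Spec.map_id, ← cancel_mono iV, Category.assoc, hs'', Category.id_comp,
      ← Category.assoc, ← Spec.map_comp, hr, h2]
  · apply Spec.map_injective
    rw [← cancel_mono iU, Spec.map_comp, Category.assoc, ← hsq, ← Category.assoc, hs'',
      Category.assoc, h1, ← Category.assoc, ← Spec.map_comp, hτ]

variable (R B : Type u) [CommRing R] [CommRing B] [Algebra R B]

/-- Core: if `Spec B → X` factors through a finitely presented approximation `Spec B_j`
compatibly with the maps to `S`, then `B` is of finite presentation over `R`. -/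
theorem fp_of_factor {X S : Scheme.{u}} (f : X ⟶ S)
    (iU : Spec (CommRingCat.of R) ⟶ S) [Mono iU]
    (iV : Spec (CommRingCat.of B) ⟶ X) [IsOpenImmersion iV]
    (hsq : iV ≫ f = Spec.map (CommRingCat.ofHom (algebraMap R B)) ≫ iU)
    (j : (Idx R B)ᵒᵖ) (gj : (DS R B).obj j ⟶ X)
    (h1 : gj ≫ f = Spec.map ((DD R B).obj j.unop).hom ≫ iU)
    (h2 : (cS R B).π.app j ≫ gj = iV) :
    (algebraMap R B).FinitePresentation := by
  have hW : (cS R B).π.app j ⁻¹ᵁ (gj ⁻¹ᵁ iV.opensRange) = ⊤ := by
    rw [← Scheme.Hom.comp_preimage, h2]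
    exact Scheme.Hom.preimage_opensRange iV
  obtain ⟨k, φ, hk⟩ := exists_map_eq_top (DS R B) (cS R B) (hcS R B) _ hW
  obtain ⟨σ, hσ1, hσ2⟩ := exists_retraction f (CommRingCat.ofHom (algebraMap R B)) iU iV hsq
    ((DD R B).obj j.unop).hom ((DD R B).obj k.unop).hom ((DD R B).map φ.unop).right
    (Under.w ((DD R B).map φ.unop))
    ((CC R B).ι.app j.unop).right ((CC R B).ι.app k.unop).right
    (congrArg (fun m => m.right) ((CC R B).w φ.unop)) gj h1 h2 hk
  let k' : Idx R B := k.unop
  let r : (PS R B k'.S ⧸ k'.J) →+* B := leg R B k'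
  let s : B →+* (PS R B k'.S ⧸ k'.J) := σ.hom
  have hrs : ∀ b, r (s b) = b := by
    intro b
    have := congrArg (fun g => g.hom b) hσ1
    exact this
  have hs_alg : ∀ a : R, s (algebraMap R B a) = algebraMap R (PS R B k'.S ⧸ k'.J) a := by
    intro a
    have := congrArg (fun g => g.hom a) hσ2
    exact this
  have hr_alg : ∀ a : R, r (algebraMap R (PS R B k'.S ⧸ k'.J) a) = algebraMap R B a := by
    intro a
    have := congrArg (fun g => g.hom a) (Under.w ((CC R B).ι.app k'))
    exact this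
  have hfp : (algebraMap R (PS R B k'.S ⧸ k'.J)).FinitePresentation := DD_fp R B k'
  have hAlgFP : Algebra.FinitePresentation R (PS R B k'.S ⧸ k'.J) :=
    RingHom.finitePresentation_algebraMap.1 hfp
  have hker : (RingHom.ker r).FG := by
    apply ker_fg_of_retract (R := R) r s hrs
    intro a
    rw [hr_alg, hs_alg]
  have hsurj : Function.Surjective r := fun b => ⟨s b, hrs b⟩
  have hcomp := RingHom.FinitePresentation.comp_surjective hfp hsurj hker
  have heq : r.comp (algebraMap R (PS R B k'.S ⧸ k'.J)) = algebraMap R B := by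
    ext a
    exact hr_alg a
  rw [heq] at hcomp
  exact hcomp

end core

section structureMaps

variable (R B : Type u) [CommRing R] [CommRing B] [Algebra R B]

/-- The structure maps of the approximating system to a scheme `S` receiving `Spec R`. -/
noncomputable def tS {S : Scheme.{u}} (iU : Spec (CommRingCat.of R) ⟶ S) :
    DS R B ⟶ (Functor.const _).obj S where
  app j := Spec.map ((DD R B).obj j.unop).hom ≫ iU
  naturality j k φ := by
    show Spec.map ((DD R B).map φ.unop).right ≫ (Spec.map ((DD R B).obj k.unop).hom ≫ iU) =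
      (Spec.map ((DD R B).obj j.unop).hom ≫ iU) ≫ 𝟙 S
    rw [Category.comp_id, ← Category.assoc, ← Spec.map_comp, Under.w ((DD R B).map φ.unop)]

lemma tS_app {S : Scheme.{u}} (iU : Spec (CommRingCat.of R) ⟶ S) (j : (Idx R B)ᵒᵖ) :
    (tS R B iU).app j = Spec.map ((DD R B).obj j.unop).hom ≫ iU := rfl

lemma cS_tS {S : Scheme.{u}} (iU : Spec (CommRingCat.of R) ⟶ S) (j : (Idx R B)ᵒᵖ) :
    (cS R B).π.app j ≫ (tS R B iU).app j =
      Spec.map (CommRingCat.ofHom (algebraMap R B)) ≫ iU := by
  show Spec.map ((CC R B).ι.app j.unop).right ≫ (Spec.map ((DD R B).obj j.unop).hom ≫ iU) =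
      Spec.map (CommRingCat.ofHom (algebraMap R B)) ≫ iU
  rw [← Category.assoc, ← Spec.map_comp, Under.w ((CC R B).ι.app j.unop)]
  rfl

end structureMaps

section wrapper

/-- Scheme-level wrapper: `f` is locally of finite presentation as soon as for all affine opens
`V ⊆ f⁻¹ U` the inclusion `Spec Γ(X,V) → X` factors, compatibly with the maps to `S`, through
one of the finitely presented approximations of `Γ(X,V)` over `Γ(S,U)`. -/
theorem lfp_of_forall_factor {X S : Scheme.{u}} (f : X ⟶ S)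
    (H : ∀ (U : S.Opens) (hU : IsAffineOpen U) (V : X.Opens) (hV : IsAffineOpen V)
      (e : V ≤ f ⁻¹ᵁ U),
      letI : Algebra Γ(S, U) Γ(X, V) := (f.appLE U V e).hom.toAlgebra
      ∃ (j : (Idx Γ(S, U) Γ(X, V))ᵒᵖ) (gj : (DS Γ(S, U) Γ(X, V)).obj j ⟶ X),
        gj ≫ f = Spec.map ((DD Γ(S, U) Γ(X, V)).obj j.unop).hom ≫ hU.fromSpec ∧
        (cS Γ(S, U) Γ(X, V)).π.app j ≫ gj = hV.fromSpec) :
    LocallyOfFinitePresentation f := by
  rw [HasRingHomProperty.iff_appLE (P := @LocallyOfFinitePresentation)]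
  rintro ⟨U, hU⟩ ⟨V, hV⟩ e
  letI : Algebra Γ(S, U) Γ(X, V) := (f.appLE U V e).hom.toAlgebra
  obtain ⟨j, gj, h1, h2⟩ := H U hU V hV e
  have hsq : hV.fromSpec ≫ f =
      Spec.map (CommRingCat.ofHom (algebraMap Γ(S, U) Γ(X, V))) ≫ hU.fromSpec :=
    (IsAffineOpen.SpecMap_appLE_fromSpec f hU hV e).symm
  exact fp_of_factor Γ(S, U) Γ(X, V) f hU.fromSpec hV.fromSpec hsq j gj h1 h2

end wrapper

end Groth.Agent.Lib.helper11.LfpConv
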