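import Mathlib

set_option autoImplicit false
universe u
open CategoryTheory CategoryTheory.Limits AlgebraicGeometry

namespace Groth.Agent.Lib.helper11.LimClosedImm

/-- Affine case: a closed immersion into a cofiltered limit of affine schemes, of finite type
over some stage, is a closed immersion into some stage. -/
theorem exists_isClosedImmersion_of_isAffine {J : Type u} [SmallCategory J] [IsCofiltered J]
    (D : J ⥤ Scheme.{u}) [∀ j, IsAffine (D.obj j)] (c : Cone D) (hc : IsLimit c)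
    {Y : Scheme.{u}} (h : Y ⟶ c.pt) [IsClosedImmersion h] (j₀ : J)
    [LocallyOfFiniteType (h ≫ c.π.app j₀)] :
    ∃ (j : J) (_ : j ⟶ j₀), IsClosedImmersion (h ≫ c.π.app j) := by
  classical
  have : IsAffine c.pt := Scheme.isAffine_of_isLimit c hc
  have : IsAffine Y := isAffine_of_isAffineHom h
  have hft : RingHom.FiniteType (h ≫ c.π.app j₀).appTop.hom :=
    (HasRingHomProperty.iff_of_isAffine (P := @LocallyOfFiniteType)).mp inferInstance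
  have hsurj : Function.Surjective h.appTop :=
    (IsClosedImmersion.isAffine_surjective_of_isAffine h).2
  algebraize [(h ≫ c.π.app j₀).appTop.hom]
  obtain ⟨s, hs⟩ := (Algebra.FiniteType.out : (⊤ : Subalgebra Γ(D.obj j₀, ⊤) Γ(Y, ⊤)).FG)
  have key : ∀ b : Γ(Y, ⊤), ∃ (j : J) (t : Γ(D.obj j, ⊤)), (h ≫ c.π.app j).appTop t = b := by
    intro b
    obtain ⟨a, rfl⟩ := hsurj b
    obtain ⟨j, t, rfl⟩ := exists_appTop_π_eq_of_isAffine_of_isLimit D c hc a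
    exact ⟨j, t, by simp⟩
  have hw : ∀ {j k : J} (f : j ⟶ k) (t : Γ(D.obj k, ⊤)),
      (h ≫ c.π.app j).appTop ((D.map f).appTop t) = (h ≫ c.π.app k).appTop t := by
    intro j k f t
    rw [← c.w f, Scheme.Hom.comp_appTop, Scheme.Hom.comp_appTop, Scheme.Hom.comp_appTop]
    rfl
  choose jb tb htb using key
  obtain ⟨j, hj⟩ := IsCofiltered.inf_objs_exists (insert j₀ (s.image jb))
  have f₀ : j ⟶ j₀ := (hj (Finset.mem_insert_self _ _)).some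
  have fb : ∀ b ∈ s, j ⟶ jb b := fun b hb =>
    (hj (Finset.mem_insert_of_mem (Finset.mem_image_of_mem _ hb))).some
  refine ⟨j, f₀, ?_⟩
  apply IsClosedImmersion.of_surjective_of_isAffine
  intro b
  have hb : b ∈ Algebra.adjoin Γ(D.obj j₀, ⊤) (s : Set Γ(Y, ⊤)) := by rw [hs]; trivial
  induction hb using Algebra.adjoin_induction with
  | mem x hx =>
    refine ⟨(D.map (fb x hx)).appTop (tb x), ?_⟩
    rw [hw]
    exact htb x
  | algebraMap r =>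
    refine ⟨(D.map f₀).appTop r, ?_⟩
    rw [hw]
    rfl
  | add x y _ _ hx hy =>
    obtain ⟨x', rfl⟩ := hx
    obtain ⟨y', rfl⟩ := hy
    exact ⟨x' + y', map_add _ _ _⟩
  | mul x y _ _ hx hy =>
    obtain ⟨x', rfl⟩ := hx
    obtain ⟨y', rfl⟩ := hy
    exact ⟨x' * y', map_mul _ _ _⟩

section

variable {I : Type u} [SmallCategory I] (D : I ⥤ Scheme.{u}) (c : Cone D) (i₀ : I)
  {Y : Scheme.{u}} (h : Y ⟶ c.pt)

lemma aux_le (U : (D.obj i₀).Opens) (j : Over i₀) :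
    c.π.app i₀ ⁻¹ᵁ U ≤ c.π.app j.left ⁻¹ᵁ (D.map j.hom ⁻¹ᵁ U) := by
  rw [← Scheme.Hom.comp_preimage, c.w]

lemma aux_π (U : (D.obj i₀).Opens) (j : Over i₀) :
    (opensCone D c i₀ U).π.app j =
      (c.π.app j.left).resLE (D.map j.hom ⁻¹ᵁ U) (c.π.app i₀ ⁻¹ᵁ U) (aux_le D c i₀ U j) := rfl

lemma aux_ι (U : (D.obj i₀).Opens) (j : Over i₀) :
    ((h ∣_ (c.π.app i₀ ⁻¹ᵁ U)) ≫ (opensCone D c i₀ U).π.app j) ≫ (D.map j.hom ⁻¹ᵁ U).ι =
      (h ⁻¹ᵁ (c.π.app i₀ ⁻¹ᵁ U)).ι ≫ h ≫ c.π.app j.left := by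
  rw [aux_π]
  show (h ∣_ (c.π.app i₀ ⁻¹ᵁ U) ≫ (c.π.app j.left).resLE (D.map j.hom ⁻¹ᵁ U) (c.π.app i₀ ⁻¹ᵁ U)
    (aux_le D c i₀ U j)) ≫ (D.map j.hom ⁻¹ᵁ U).ι = _
  rw [Category.assoc, Scheme.Hom.resLE_comp_ι, morphismRestrict_ι_assoc]

lemma le_aux (U : (D.obj i₀).Opens) (j : Over i₀) :
    h ⁻¹ᵁ (c.π.app i₀ ⁻¹ᵁ U) ≤ (h ≫ c.π.app j.left) ⁻¹ᵁ (D.map j.hom ⁻¹ᵁ U) := by
  rw [Scheme.Hom.comp_preimage, ← Scheme.Hom.comp_preimage (c.π.app j.left), c.w]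

/-- The restriction of `h ≫ π_j` over the preimage of `U`. -/
noncomputable def ψ (U : (D.obj i₀).Opens) (j : Over i₀) :
    (h ⁻¹ᵁ (c.π.app i₀ ⁻¹ᵁ U)).toScheme ⟶ (D.map j.hom ⁻¹ᵁ U).toScheme :=
  (h ≫ c.π.app j.left).resLE (D.map j.hom ⁻¹ᵁ U) (h ⁻¹ᵁ (c.π.app i₀ ⁻¹ᵁ U)) (le_aux D c i₀ h U j)

lemma ψ_ι (U : (D.obj i₀).Opens) (j : Over i₀) :
    ψ D c i₀ h U j ≫ (D.map j.hom ⁻¹ᵁ U).ι = (h ⁻¹ᵁ (c.π.app i₀ ⁻¹ᵁ U)).ι ≫ h ≫ c.π.app j.left :=
  Scheme.Hom.resLE_comp_ι _ _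

lemma aux_comp (U : (D.obj i₀).Opens) (j : Over i₀) :
    (h ∣_ (c.π.app i₀ ⁻¹ᵁ U)) ≫ (opensCone D c i₀ U).π.app j = ψ D c i₀ h U j := by
  apply (cancel_mono (D.map j.hom ⁻¹ᵁ U).ι).mp
  rw [ψ_ι]
  exact aux_ι D c i₀ h U j

lemma ψ_mono [∀ (i j : I) (f : i ⟶ j), IsAffineHom (D.map f)] (U : (D.obj i₀).Opens)
    {j j' : Over i₀} (g : j' ⟶ j) (H : IsClosedImmersion (ψ D c i₀ h U j)) :
    IsClosedImmersion (ψ D c i₀ h U j') := by
  have hle : D.map j'.hom ⁻¹ᵁ U ≤ D.map g.left ⁻¹ᵁ (D.map j.hom ⁻¹ᵁ U) := by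
    rw [← Scheme.Hom.comp_preimage, ← D.map_comp, Over.w g]
  let r := (D.map g.left).resLE (D.map j.hom ⁻¹ᵁ U) (D.map j'.hom ⁻¹ᵁ U) hle
  have hr : r ≫ (D.map j.hom ⁻¹ᵁ U).ι = (D.map j'.hom ⁻¹ᵁ U).ι ≫ D.map g.left :=
    Scheme.Hom.resLE_comp_ι _ _
  have : IsSeparated (r ≫ (D.map j.hom ⁻¹ᵁ U).ι) := by rw [hr]; infer_instance
  have : IsSeparated r := IsSeparated.of_comp r (D.map j.hom ⁻¹ᵁ U).ι
  have e : ψ D c i₀ h U j' ≫ r = ψ D c i₀ h U j := by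
    rw [← cancel_mono (D.map j.hom ⁻¹ᵁ U).ι, Category.assoc, hr, ψ_ι, reassoc_of% ψ_ι, c.w]
  have : IsClosedImmersion (ψ D c i₀ h U j' ≫ r) := by rw [e]; exact H
  exact IsClosedImmersion.of_comp _ r

/-- General case: a closed immersion into a cofiltered limit with affine transition maps, of
finite type over a quasi-compact stage, is a closed immersion into some stage. -/
theorem exists_isClosedImmersion_stage [IsCofiltered I]
    [∀ (i j : I) (f : i ⟶ j), IsAffineHom (D.map f)]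
    (hc : IsLimit c) [CompactSpace (D.obj i₀)] [IsClosedImmersion h]
    [LocallyOfFiniteType (h ≫ c.π.app i₀)] :
    ∃ (i : I) (_ : i ⟶ i₀), IsClosedImmersion (h ≫ c.π.app i) := by
  classical
  have step1 : ∀ U : (D.obj i₀).Opens, IsAffineOpen U →
      ∃ j : Over i₀, IsClosedImmersion (ψ D c i₀ h U j) := by
    intro U hU
    have (j : Over i₀) : IsAffine ((opensDiagram D i₀ U).obj j) := hU.preimage (D.map _)
    have hlft : LocallyOfFiniteType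
        ((h ∣_ (c.π.app i₀ ⁻¹ᵁ U)) ≫ (opensCone D c i₀ U).π.app (Over.mk (𝟙 i₀))) := by
      rw [aux_comp]
      have : LocallyOfFiniteType
          (ψ D c i₀ h U (Over.mk (𝟙 i₀)) ≫ (D.map (Over.mk (𝟙 i₀)).hom ⁻¹ᵁ U).ι) := by
        rw [ψ_ι]
        show LocallyOfFiniteType (_ ≫ h ≫ c.π.app i₀)
        infer_instance
      exact @locallyOfFiniteType_of_comp _ _ _ _ _ this
    have hcl : IsClosedImmersion (h ∣_ (c.π.app i₀ ⁻¹ᵁ U)) := inferInstance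
    obtain ⟨j, _, hj⟩ := @exists_isClosedImmersion_of_isAffine _ _ _ (opensDiagram D i₀ U) _
      (opensCone D c i₀ U) (isLimitOpensCone D c hc i₀ U) _ (h ∣_ (c.π.app i₀ ⁻¹ᵁ U)) hcl
      (Over.mk (𝟙 i₀)) hlft
    exact ⟨j, (aux_comp D c i₀ h U j) ▸ hj⟩
  -- finite affine cover
  have hnh : ∀ x : D.obj i₀, ∃ U : (D.obj i₀).Opens, IsAffineOpen U ∧ x ∈ U := by
    intro x
    obtain ⟨_, ⟨U, hU : IsAffineOpen U, rfl⟩, hxU, -⟩ :=
      (D.obj i₀).isBasis_affineOpens.exists_subset_of_mem_open (Set.mem_univ x) isOpen_univ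
    exact ⟨U, hU, hxU⟩
  choose U hU hxU using hnh
  obtain ⟨t, ht⟩ := CompactSpace.elim_nhds_subcover (fun x => (U x : Set (D.obj i₀)))
    (fun x => (U x).isOpen.mem_nhds (hxU x))
  choose jx hjx using fun x => step1 (U x) (hU x)
  obtain ⟨j, hj⟩ := IsCofiltered.inf_objs_exists (t.image jx)
  have gx : ∀ x ∈ t, j ⟶ jx x := fun x hx => (hj (Finset.mem_image_of_mem _ hx)).some
  have hclx : ∀ x ∈ t, IsClosedImmersion (ψ D c i₀ h (U x) j) :=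
    fun x hx => ψ_mono D c i₀ h (U x) (gx x hx) (hjx x)
  refine ⟨j.left, j.hom, ?_⟩
  have hcov : (⨆ x : t, D.map j.hom ⁻¹ᵁ U x.1) = ⊤ := by
    rw [← Scheme.Hom.preimage_iSup]
    have : (⨆ x : t, U x.1) = ⊤ := by
      rw [eq_top_iff]
      intro y _
      have hy : y ∈ ⋃ x ∈ t, (U x : Set (D.obj i₀)) := by rw [ht]; trivial
      simp only [Set.mem_iUnion] at hy
      obtain ⟨x, hx, hyx⟩ := hy
      exact TopologicalSpace.Opens.mem_iSup.mpr ⟨⟨x, hx⟩, hyx⟩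
    rw [this]
    rfl
  apply IsZariskiLocalAtTarget.of_iSup_eq_top (P := @IsClosedImmersion)
    (fun x : t => D.map j.hom ⁻¹ᵁ U x.1) hcov
  intro x
  rw [← Scheme.Hom.resLE_eq_morphismRestrict]
  have := hclx x.1 x.2
  unfold ψ at this
  refine (Scheme.Hom.resLE_congr _ _ rfl ?_ @IsClosedImmersion).mp this
  rw [Scheme.Hom.comp_preimage, ← Scheme.Hom.comp_preimage (c.π.app j.left), c.w]

end

end Groth.Agent.Lib.helper11.LimClosedImm
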