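import Mathlib
import Groth.Agent.Lib.helper11.LimDescend3

set_option autoImplicit false
universe u
open CategoryTheory CategoryTheory.Limits AlgebraicGeometry

namespace Groth.Agent.Lib.helper11.LimLocal

open Groth.Agent.Lib.helper11 Groth.Agent.Lib.helper11.LimCart

/-- `g` is the base change of `g ≫ ι` along a monomorphism `ι`. -/
lemma of_comp_mono (P : MorphismProperty Scheme.{u}) [P.IsStableUnderBaseChange]
    {A B C : Scheme.{u}} (g : A ⟶ B) (ι : B ⟶ C) [Mono ι] (h : P (g ≫ ι)) : P g := by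
  have h1 : IsPullback (𝟙 A) g g (𝟙 B) := IsPullback.id_horiz g
  have h2 : IsPullback (𝟙 B) (𝟙 B) ι ι := IsKernelPair.id_of_mono ι
  have h3 := h1.paste_vert h2
  rw [Category.comp_id] at h3
  exact MorphismProperty.of_isPullback h3 h

section Restrict

variable {J : Type u} [SmallCategory J] {E XS : J ⥤ Scheme.{u}} (fS : XS ⟶ E)
  (cE : Cone E) (cX : Cone XS) (f : cX.pt ⟶ cE.pt) (hS : CartSys fS cE cX f) (j₁ : J)
  (W : (E.obj j₁).Opens) (V : (XS.obj j₁).Opens) (hVW : V ≤ fS.app j₁ ⁻¹ᵁ W)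

include hVW in
lemma le_preimage (j : Over j₁) :
    XS.map j.hom ⁻¹ᵁ V ≤ fS.app j.left ⁻¹ᵁ (E.map j.hom ⁻¹ᵁ W) := by
  rw [← preimage_eq fS j₁ W j]
  exact Scheme.Hom.preimage_mono _ hVW

include hS hVW in
lemma le_preimage_π : cX.π.app j₁ ⁻¹ᵁ V ≤ f ⁻¹ᵁ (cE.π.app j₁ ⁻¹ᵁ W) := by
  rw [← preimage_eq_π fS cE cX f hS j₁ W]
  exact Scheme.Hom.preimage_mono _ hVW

/-- The restricted morphism of diagrams. -/
noncomputable def fSVW : opensDiagram XS j₁ V ⟶ opensDiagram E j₁ W where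
  app j := (fS.app j.left).resLE (E.map j.hom ⁻¹ᵁ W) (XS.map j.hom ⁻¹ᵁ V)
    (le_preimage fS j₁ W V hVW j)
  naturality := by
    intro j k φ
    show (XS.map φ.left).resLE _ _ _ ≫ (fS.app k.left).resLE _ _ _ =
      (fS.app j.left).resLE _ _ _ ≫ (E.map φ.left).resLE _ _ _
    rw [Scheme.Hom.resLE_comp_resLE, Scheme.Hom.resLE_comp_resLE]
    simp only [fS.naturality]

/-- The restricted morphism of cone points. -/
noncomputable def fVW :
    (opensCone XS cX j₁ V).pt ⟶ (opensCone E cE j₁ W).pt :=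
  f.resLE (cE.π.app j₁ ⁻¹ᵁ W) (cX.π.app j₁ ⁻¹ᵁ V) (le_preimage_π fS cE cX f hS j₁ W V hVW)

theorem cartSysVW : CartSys (fSVW fS j₁ W V hVW) (opensCone E cE j₁ W)
    (opensCone XS cX j₁ V) (fVW fS cE cX f hS j₁ W V hVW) where
  map := by
    intro k j φ
    refine Scheme.Hom.isPullback_resLE (hS.map φ.left) _ _ ?_
    have e1 : XS.map φ.left ⁻¹ᵁ XS.map j.hom ⁻¹ᵁ V = XS.map k.hom ⁻¹ᵁ V := by
      rw [← Scheme.Hom.comp_preimage (XS.map φ.left) (XS.map j.hom), ← XS.map_comp, Over.w φ]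
    rw [e1]
    exact (inf_eq_left.mpr (le_preimage fS j₁ W V hVW k)).symm
  π := by
    intro j
    refine Scheme.Hom.isPullback_resLE (hS.π j.left) _ _ ?_
    have e1 : cX.π.app j.left ⁻¹ᵁ XS.map j.hom ⁻¹ᵁ V = cX.π.app j₁ ⁻¹ᵁ V := by
      rw [← Scheme.Hom.comp_preimage (cX.π.app j.left) (XS.map j.hom), cX.w]
    rw [e1]
    refine (inf_eq_left.mpr ?_).symm
    have := le_preimage_π fS cE cX f hS j₁ W V hVW
    exact this

end Restrict

/-- τ-form affine core statement for `P`, finite presentation version. -/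
def AffCoreFP (P : MorphismProperty Scheme.{u}) : Prop :=
  ∀ {J : Type u} [SmallCategory J] [IsCofiltered J] (E : J ⥤ Scheme.{u}) {T : Scheme.{u}}
    (τ : ∀ j, E.obj j ⟶ T) (_ : ∀ {j k : J} (φ : j ⟶ k), E.map φ ≫ τ k = τ j)
    (cE : Cone E) (_ : IsLimit cE) (p : cE.pt ⟶ T) (_ : ∀ j, cE.π.app j ≫ τ j = p)
    {X₀ : Scheme.{u}} (f₀ : X₀ ⟶ T) [∀ j, IsAffine (E.obj j)] [IsAffine T] [IsAffine X₀]
    [LocallyOfFinitePresentation f₀], P (pullback.fst p f₀) → ∃ j, P (pullback.fst (τ j) f₀)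

lemma AffCoreFP.of_affCore {P : MorphismProperty Scheme.{u}} (h : AffCore P) : AffCoreFP P := by
  intro J _ _ E T τ hτ cE hcE p hp X₀ f₀ _ _ _ _ hP
  exact h E τ hτ cE hcE p hp f₀ hP

section

variable {J : Type u} [SmallCategory J] [IsCofiltered J] {E XS : J ⥤ Scheme.{u}} {fS : XS ⟶ E}
  {cE : Cone E} {cX : Cone XS} {f : cX.pt ⟶ cE.pt}

theorem affCoreFP_abstract {P : MorphismProperty Scheme.{u}} [P.IsStableUnderBaseChange]
    (hcore : AffCoreFP P) (hS : CartSys fS cE cX f) (hcE : IsLimit cE)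
    [∀ j, IsAffine (E.obj j)] [∀ j, IsAffine (XS.obj j)] (j₁ : J)
    [LocallyOfFinitePresentation (fS.app j₁)] (hf : P f) :
    ∃ (j : J) (_ : j ⟶ j₁), P (fS.app j) := by
  refine abstract_of_tau P hS j₁ hf (fun h => ?_)
  have h1 : ∀ j : Over j₁, IsAffine ((Over.forget j₁ ⋙ E).obj j) :=
    fun j => inferInstanceAs (IsAffine (E.obj j.left))
  exact hcore (Over.forget j₁ ⋙ E) (fun j => E.map j.hom)
    (fun {j k} φ => by
      show E.map φ.left ≫ E.map k.hom = E.map j.hom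
      rw [← E.map_comp, Over.w φ])
    (cE.whisker (Over.forget j₁))
    ((Functor.Initial.isLimitWhiskerEquiv (Over.forget j₁) cE).symm hcE) (cE.π.app j₁)
    (fun j => cE.w j.hom) (fS.app j₁) h

lemma lfp_resLE {X Y : Scheme.{u}} (f : X ⟶ Y) [LocallyOfFinitePresentation f]
    (W : Y.Opens) (V : X.Opens) (e : V ≤ f ⁻¹ᵁ W) :
    LocallyOfFinitePresentation (f.resLE W V e) := by
  have : LocallyOfFinitePresentation (f.resLE W V e ≫ W.ι) := by
    rw [Scheme.Hom.resLE_comp_ι]; infer_instance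
  exact LfpOfComp.lfp_of_comp _ W.ι inferInstance inferInstance

/-- The neighbourhood form of the descent: if `f` has `P` near `x`, then some `fS_j` has `P`
near the image of `x`. -/
theorem nhd_core {P : MorphismProperty Scheme.{u}} [P.IsStableUnderBaseChange]
    [IsZariskiLocalAtSource P] [P.IsStableUnderComposition]
    (hOI : ∀ {X Y : Scheme.{u}} (g : X ⟶ Y) [IsOpenImmersion g], P g)
    (hcore : AffCoreFP P) (hS : CartSys fS cE cX f) (hcE : IsLimit cE) (hcX : IsLimit cX)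
    [∀ (i j : J) (φ : i ⟶ j), IsAffineHom (E.map φ)]
    [∀ j, LocallyOfFinitePresentation (fS.app j)]
    (x : cX.pt) {Z : Scheme.{u}} (h : Z ⟶ cX.pt) [IsOpenImmersion h] (hx : x ∈ Set.range h)
    (hP : P (h ≫ f)) :
    ∃ (j : J) (V : (XS.obj j).Opens), cX.π.app j x ∈ V ∧ P (V.ι ≫ fS.app j) := by
  have hEaff : ∀ {i j : J} (φ : i ⟶ j), IsAffineHom (E.map φ) := fun φ => inferInstance
  have hXSaff : ∀ {i j : J} (φ : i ⟶ j), IsAffineHom (XS.map φ) :=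
    fun φ => LimDiag.isAffineHom_XS_map hS φ
  -- the open `U`
  let U : cX.pt.Opens := h.opensRange
  have hxU : x ∈ U := hx
  have hU : P (U.ι ≫ f) := by
    have e : U.ι = h.isoOpensRange.inv ≫ h := by
      rw [Iso.eq_inv_comp]; exact Scheme.Hom.isoOpensRange_hom_ι h
    rw [e, Category.assoc]
    exact (P.cancel_left_of_respectsIso _ _).mpr hP
  -- a basic open from a stage
  obtain ⟨_, ⟨j₁, V₁, hV₁, rfl⟩, hxV₁, hV₁U⟩ :=
    TopologicalSpace.Opens.isBasis_iff_nbhd.mp (isBasis_preimage_isAffineOpen XS cX hcX) hxU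
  obtain ⟨_, ⟨W, hW : IsAffineOpen W, rfl⟩, hyW, -⟩ :=
    (E.obj j₁).isBasis_affineOpens.exists_subset_of_mem_open
      (Set.mem_univ (fS.app j₁ (cX.π.app j₁ x))) isOpen_univ
  obtain ⟨_, ⟨V₂, hV₂ : IsAffineOpen V₂, rfl⟩, hxV₂, hV₂le⟩ :=
    (XS.obj j₁).isBasis_affineOpens.exists_subset_of_mem_open
      (a := cX.π.app j₁ x) (ou := (V₁ ⊓ fS.app j₁ ⁻¹ᵁ W).2)
      (show cX.π.app j₁ x ∈ ((V₁ ⊓ fS.app j₁ ⁻¹ᵁ W : (XS.obj j₁).Opens) : Set (XS.obj j₁)) from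
        ⟨hxV₁, hyW⟩)
  have hV₂V₁ : V₂ ≤ V₁ := fun y hy => (hV₂le hy).1
  have hVW : V₂ ≤ fS.app j₁ ⁻¹ᵁ W := fun y hy => (hV₂le hy).2
  have hS' := cartSysVW fS cE cX f hS j₁ W V₂ hVW
  have a1 : ∀ j : Over j₁, IsAffine ((opensDiagram E j₁ W).obj j) :=
    fun j => hW.preimage (E.map j.hom)
  have a2 : ∀ j : Over j₁, IsAffine ((opensDiagram XS j₁ V₂).obj j) :=
    fun j => hV₂.preimage (XS.map j.hom)
  have a3 : LocallyOfFinitePresentation ((fSVW fS j₁ W V₂ hVW).app (Over.mk (𝟙 j₁))) :=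
    lfp_resLE _ _ _ _
  have a4 : P (fVW fS cE cX f hS j₁ W V₂ hVW) := by
    apply of_comp_mono P _ (cE.π.app j₁ ⁻¹ᵁ W).ι
    show P (f.resLE _ _ _ ≫ _)
    rw [Scheme.Hom.resLE_comp_ι]
    have hle : cX.π.app j₁ ⁻¹ᵁ V₂ ≤ U :=
      (Scheme.Hom.preimage_mono (cX.π.app j₁) hV₂V₁).trans hV₁U
    have e : (cX.π.app j₁ ⁻¹ᵁ V₂).ι = cX.pt.homOfLE hle ≫ U.ι := (Scheme.homOfLE_ι _ hle).symm
    rw [e, Category.assoc]
    exact IsZariskiLocalAtSource.comp hU _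
  obtain ⟨j, _, hj⟩ := affCoreFP_abstract hcore hS' (isLimitOpensCone E cE hcE j₁ W)
    (Over.mk (𝟙 j₁)) a4
  refine ⟨j.left, XS.map j.hom ⁻¹ᵁ V₂, ?_, ?_⟩
  · show (cX.π.app j.left ≫ XS.map j.hom) x ∈ V₂
    rw [cX.w]
    exact hxV₂
  · have e : (XS.map j.hom ⁻¹ᵁ V₂).ι ≫ fS.app j.left =
        (fSVW fS j₁ W V₂ hVW).app j ≫ (E.map j.hom ⁻¹ᵁ W).ι :=
      (Scheme.Hom.resLE_comp_ι _ _).symm
    rw [e]
    have hoi : IsOpenImmersion (E.map j.hom ⁻¹ᵁ W).ι := inferInstance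
    exact P.comp_mem _ _ hj (@hOI _ _ (E.map j.hom ⁻¹ᵁ W).ι hoi)

/-- `(θ⁻¹V).ι ≫ fS_k` is a base change of `V.ι ≫ fS_j`. -/
lemma P_preimage_ι_comp {P : MorphismProperty Scheme.{u}} [P.IsStableUnderBaseChange]
    (hS : CartSys fS cE cX f) {k j : J} (θ : k ⟶ j) (V : (XS.obj j).Opens)
    (hV : P (V.ι ≫ fS.app j)) : P ((XS.map θ ⁻¹ᵁ V).ι ≫ fS.app k) := by
  have h1 : IsPullback (XS.map θ ∣_ V) (XS.map θ ⁻¹ᵁ V).ι V.ι (XS.map θ) :=
    isPullback_morphismRestrict (XS.map θ) V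
  have h2 := h1.paste_vert (hS.map θ)
  exact MorphismProperty.of_isPullback h2 hV

/-- Global form: if all stages of the source are quasi-compact, a source-local property
of `f` descends to a stage. -/
theorem global_core {P : MorphismProperty Scheme.{u}} [P.IsStableUnderBaseChange]
    [IsZariskiLocalAtSource P] [P.IsStableUnderComposition]
    (hOI : ∀ {X Y : Scheme.{u}} (g : X ⟶ Y) [IsOpenImmersion g], P g)
    (hcore : AffCoreFP P) (hS : CartSys fS cE cX f) (hcE : IsLimit cE) (hcX : IsLimit cX)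
    [∀ (i j : J) (φ : i ⟶ j), IsAffineHom (E.map φ)]
    [∀ j, LocallyOfFinitePresentation (fS.app j)] [∀ j, CompactSpace (XS.obj j)]
    (hP : P f) : ∃ j, P (fS.app j) := by
  classical
  have hXSaff : ∀ {i j : J} (φ : i ⟶ j), IsAffineHom (XS.map φ) :=
    fun φ => LimDiag.isAffineHom_XS_map hS φ
  have : CompactSpace cX.pt := Scheme.compactSpace_of_isLimit XS cX hcX
  have hloc : ∀ x : cX.pt, ∃ (j : J) (V : (XS.obj j).Opens),
      cX.π.app j x ∈ V ∧ P (V.ι ≫ fS.app j) := by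
    intro x
    refine nhd_core hOI hcore hS hcE hcX x (𝟙 _) ⟨x, rfl⟩ ?_
    rw [Category.id_comp]; exact hP
  choose jx V hxV hPV using hloc
  obtain ⟨t, ht⟩ := CompactSpace.elim_nhds_subcover
    (fun x => ((cX.π.app (jx x) ⁻¹ᵁ V x : cX.pt.Opens) : Set cX.pt))
    (fun x => IsOpen.mem_nhds (X := cX.pt)
      (cX.π.app (jx x) ⁻¹ᵁ V x : cX.pt.Opens).isOpen (hxV x))
  obtain ⟨j, hj⟩ := IsCofiltered.inf_objs_exists (t.image jx)
  let φ : ∀ x : t, j ⟶ jx x.1 := fun x => (hj (Finset.mem_image_of_mem _ x.2)).some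
  let V' : (XS.obj j).Opens := ⨆ x : t, XS.map (φ x) ⁻¹ᵁ V x.1
  have hV' : cX.π.app j ⁻¹ᵁ V' = ⊤ := by
    rw [eq_top_iff]
    intro y _
    have hy : y ∈ ⋃ x ∈ t, ((cX.π.app (jx x) ⁻¹ᵁ V x : cX.pt.Opens) : Set cX.pt) := by
      rw [ht]; trivial
    simp only [Set.mem_iUnion] at hy
    obtain ⟨x, hx, hyx⟩ := hy
    show cX.π.app j y ∈ V'
    refine TopologicalSpace.Opens.mem_iSup.mpr ⟨⟨x, hx⟩, ?_⟩
    show (cX.π.app j ≫ XS.map (φ ⟨x, hx⟩)) y ∈ V x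
    rw [cX.w]
    exact hyx
  obtain ⟨k, ψ, hk⟩ := exists_map_eq_top XS cX hcX V' hV'
  refine ⟨k, ?_⟩
  have hcov : (⨆ x : t, XS.map ψ ⁻¹ᵁ (XS.map (φ x) ⁻¹ᵁ V x.1)) = ⊤ := by
    rw [← Scheme.Hom.preimage_iSup]; exact hk
  refine (IsZariskiLocalAtSource.iff_of_iSup_eq_top (P := P)
    (fun x : t => XS.map ψ ⁻¹ᵁ (XS.map (φ x) ⁻¹ᵁ V x.1)) hcov).mpr ?_
  intro x
  exact P_preimage_ι_comp hS ψ _ (P_preimage_ι_comp hS (φ x) _ (hPV x.1))

end

end Groth.Agent.Lib.helper11.LimLocal
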