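import Mathlib
import Groth.Agent.Lib.helper11.LimLocal

set_option autoImplicit false
universe u
open CategoryTheory CategoryTheory.Limits AlgebraicGeometry

namespace Groth.Agent.Lib.helper11.LimLocal

open Groth.Agent.Lib.helper11 Groth.Agent.Lib.helper11.LimCart

section Concrete

variable {P : MorphismProperty Scheme.{u}} [P.IsStableUnderBaseChange]
  {I : Type u} [SmallCategory I] [IsCofiltered I]
  (D : I ⥤ Scheme.{u}) (c : Cone D) (hc : IsLimit c)
  [∀ (i j : I) (f : i ⟶ j), IsAffineHom (D.map f)] (i₀ : I)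
  {X₀ Y₀ : Scheme.{u}} (f₀ : X₀ ⟶ Y₀) (g₀ : Y₀ ⟶ D.obj i₀)
  {X Y : Scheme.{u}} (f : X ⟶ Y) (g : Y ⟶ c.pt) (qY : Y ⟶ Y₀) (qX : X ⟶ X₀)
  (hY : IsPullback qY g g₀ (c.π.app i₀)) (hX : IsPullback qX f f₀ qY)

include hY hX in
/-- The easy direction of the neighbourhood statement. -/
theorem nhd_of_stage (x : X)
    (h : ∃ (j : I) (φ : j ⟶ i₀) (Xj Yj : Scheme.{u}) (fj : Xj ⟶ Yj) (gj : Yj ⟶ D.obj j)
      (pY : Yj ⟶ Y₀) (pX : Xj ⟶ X₀) (rX : X ⟶ Xj), IsPullback pY gj g₀ (D.map φ) ∧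
        IsPullback pX fj f₀ pY ∧ rX ≫ pX = qX ∧ rX ≫ fj ≫ gj = f ≫ g ≫ c.π.app j ∧
        ∃ V : Xj.Opens, rX.base x ∈ V ∧ P (V.ι ≫ fj)) :
    ∃ U : X.Opens, x ∈ U ∧ P (U.ι ≫ f) := by
  obtain ⟨j, φ, Xj, Yj, fj, gj, pY, pX, rX, hYj, hXj, h3, h4, V, hxV, hPV⟩ := h
  have hcond : qY ≫ g₀ = (g ≫ c.π.app j) ≫ D.map φ := by
    rw [Category.assoc, c.w, hY.w]
  let rY : Y ⟶ Yj := hYj.lift qY (g ≫ c.π.app j) hcond
  have hrY1 : rY ≫ pY = qY := hYj.lift_fst _ _ _
  have hrY2 : rY ≫ gj = g ≫ c.π.app j := hYj.lift_snd _ _ _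
  have comm : rX ≫ fj = f ≫ rY := by
    apply hYj.hom_ext
    · rw [Category.assoc, Category.assoc, hrY1, ← hXj.w, ← Category.assoc, h3, hX.w]
    · rw [Category.assoc, Category.assoc, hrY2, h4]
  have big : IsPullback (rX ≫ pX) f f₀ (rY ≫ pY) := by
    rw [h3, hrY1]; exact hX
  have left : IsPullback rX f fj rY := IsPullback.of_right big comm hXj
  refine ⟨rX ⁻¹ᵁ V, hxV, ?_⟩
  have h1 : IsPullback (rX ∣_ V) (rX ⁻¹ᵁ V).ι V.ι rX := isPullback_morphismRestrict rX V
  have h2 := h1.paste_vert left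
  exact MorphismProperty.of_isPullback h2 hPV

variable [IsZariskiLocalAtSource P] [P.IsStableUnderComposition]
  (hOI : ∀ {X Y : Scheme.{u}} (g : X ⟶ Y) [IsOpenImmersion g], P g) (hcore : AffCoreFP P)
  [LocallyOfFinitePresentation g₀] [LocallyOfFinitePresentation (f₀ ≫ g₀)]

include hOI hcore hc hY hX in
/-- Global statement: `X₀` quasi-compact. -/
theorem global_iff [CompactSpace X₀] :
    P f ↔ ∃ (j : I) (φ : j ⟶ i₀) (Xj Yj : Scheme.{u}) (fj : Xj ⟶ Yj) (gj : Yj ⟶ D.obj j)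
      (pY : Yj ⟶ Y₀) (pX : Xj ⟶ X₀), IsPullback pY gj g₀ (D.map φ) ∧ IsPullback pX fj f₀ pY ∧
        P fj := by
  constructor
  · intro hf
    apply LimDescend.reduction P D c i₀ f₀ g₀ f g qY qX hY hX hf
    intro hP
    have hf₀ : LocallyOfFinitePresentation f₀ :=
      LfpOfComp.lfp_of_comp f₀ g₀ inferInstance inferInstance
    have h1 : ∀ (i j : Over i₀) (a : i ⟶ j), IsAffineHom ((LimPullback.D' D i₀ g₀).map a) :=
      fun i j a => LimPullback.isAffineHom_map D i₀ g₀ a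
    have h2 : ∀ j : Over i₀, LocallyOfFinitePresentation
        ((LimCart.fS (LimPullback.D' D i₀ g₀) (fun j => pullback.snd (D.map j.hom) g₀)
          (fun φ => LimPullback.map_snd D i₀ g₀ φ) f₀).app j) :=
      fun j => inferInstanceAs (LocallyOfFinitePresentation
        (pullback.fst (pullback.snd (D.map j.hom) g₀) f₀))
    have h3 : ∀ j : Over i₀, CompactSpace
        ((LimPB.XS (LimPullback.D' D i₀ g₀) (fun j => pullback.snd (D.map j.hom) g₀)
          (fun φ => LimPullback.map_snd D i₀ g₀ φ) f₀).obj j) := by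
      intro j
      have a0 : IsAffineHom (D.map j.hom) :=
        ‹∀ (i j : I) (f : i ⟶ j), IsAffineHom (D.map f)› _ _ j.hom
      have a1 : IsAffineHom (pullback.snd (D.map j.hom) g₀) :=
        MorphismProperty.pullback_snd (P := @IsAffineHom) _ _ a0
      have a2 : IsAffineHom (pullback.snd (pullback.snd (D.map j.hom) g₀) f₀) :=
        MorphismProperty.pullback_snd (P := @IsAffineHom) _ _ a1
      have a3 : QuasiCompact (pullback.snd (pullback.snd (D.map j.hom) g₀) f₀) := inferInstance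
      have a4 := QuasiCompact.compactSpace_of_compactSpace
        (pullback.snd (pullback.snd (D.map j.hom) g₀) f₀)
      exact a4
    exact global_core hOI hcore
      (LimCart.cartSys_tau (LimPullback.D' D i₀ g₀) (fun j => pullback.snd (D.map j.hom) g₀)
        (fun φ => LimPullback.map_snd D i₀ g₀ φ) (LimPullback.c' D c i₀ g₀)
        (pullback.snd (c.π.app i₀) g₀) (fun j => LimPullback.π_snd D c i₀ g₀ j) f₀)
      (LimPullback.hc' D c hc i₀ g₀)
      (LimPB.hcX _ _ _ _ (LimPullback.hc' D c hc i₀ g₀) _ _ f₀) hP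
  · intro h
    exact LimDescend2.of_stage P D c i₀ f₀ g₀ f g qY qX hY hX h

include hOI hcore hc hY hX in
/-- Neighbourhood statement. -/
theorem nhd_iff (x : X) :
    (∃ U : X.Opens, x ∈ U ∧ P (U.ι ≫ f)) ↔
      ∃ (j : I) (φ : j ⟶ i₀) (Xj Yj : Scheme.{u}) (fj : Xj ⟶ Yj) (gj : Yj ⟶ D.obj j)
        (pY : Yj ⟶ Y₀) (pX : Xj ⟶ X₀) (rX : X ⟶ Xj), IsPullback pY gj g₀ (D.map φ) ∧
          IsPullback pX fj f₀ pY ∧ rX ≫ pX = qX ∧ rX ≫ fj ≫ gj = f ≫ g ≫ c.π.app j ∧
          ∃ V : Xj.Opens, rX.base x ∈ V ∧ P (V.ι ≫ fj) := by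
  constructor
  · rintro ⟨U, hxU, hPU⟩
    have hf₀ : LocallyOfFinitePresentation f₀ :=
      LfpOfComp.lfp_of_comp f₀ g₀ inferInstance inferInstance
    have h1 : ∀ (i j : Over i₀) (a : i ⟶ j), IsAffineHom ((LimPullback.D' D i₀ g₀).map a) :=
      fun i j a => LimPullback.isAffineHom_map D i₀ g₀ a
    have h2 : ∀ j : Over i₀, LocallyOfFinitePresentation
        ((LimCart.fS (LimPullback.D' D i₀ g₀) (fun j => pullback.snd (D.map j.hom) g₀)
          (fun φ => LimPullback.map_snd D i₀ g₀ φ) f₀).app j) :=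
      fun j => inferInstanceAs (LocallyOfFinitePresentation
        (pullback.fst (pullback.snd (D.map j.hom) g₀) f₀))
    -- identifications
    let u : Y ≅ pullback (c.π.app i₀) g₀ := hY.flip.isoPullback
    have hu1 : u.hom ≫ pullback.fst (c.π.app i₀) g₀ = g := hY.flip.isoPullback_hom_fst
    have hu2 : u.hom ≫ pullback.snd (c.π.app i₀) g₀ = qY := hY.flip.isoPullback_hom_snd
    have hX' : IsPullback qX (f ≫ u.hom) f₀ (pullback.snd (c.π.app i₀) g₀) :=
      IsPullback.of_iso hX (Iso.refl _) (Iso.refl _) u (Iso.refl _) (by simp) (by simp) (by simp)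
        (by simp [hu2])
    let v : X ≅ pullback (pullback.snd (c.π.app i₀) g₀) f₀ := hX'.flip.isoPullback
    have hv1 : v.hom ≫ pullback.fst (pullback.snd (c.π.app i₀) g₀) f₀ = f ≫ u.hom :=
      hX'.flip.isoPullback_hom_fst
    have hv2 : v.hom ≫ pullback.snd (pullback.snd (c.π.app i₀) g₀) f₀ = qX :=
      hX'.flip.isoPullback_hom_snd
    have hP' : P ((U.ι ≫ v.hom) ≫ pullback.fst (pullback.snd (c.π.app i₀) g₀) f₀) := by
      rw [Category.assoc, hv1, ← Category.assoc]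
      exact (P.cancel_right_of_respectsIso _ u.hom).mpr hPU
    obtain ⟨j, V, hxV, hPV⟩ := nhd_core hOI hcore
      (LimCart.cartSys_tau (LimPullback.D' D i₀ g₀) (fun j => pullback.snd (D.map j.hom) g₀)
        (fun φ => LimPullback.map_snd D i₀ g₀ φ) (LimPullback.c' D c i₀ g₀)
        (pullback.snd (c.π.app i₀) g₀) (fun j => LimPullback.π_snd D c i₀ g₀ j) f₀)
      (LimPullback.hc' D c hc i₀ g₀)
      (LimPB.hcX _ _ _ _ (LimPullback.hc' D c hc i₀ g₀) _ _ f₀) (v.hom x) (U.ι ≫ v.hom)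
      ⟨⟨x, hxU⟩, rfl⟩ hP'
    refine ⟨j.left, j.hom, pullback (pullback.snd (D.map j.hom) g₀) f₀, pullback (D.map j.hom) g₀,
      pullback.fst (pullback.snd (D.map j.hom) g₀) f₀, pullback.fst (D.map j.hom) g₀,
      pullback.snd (D.map j.hom) g₀, pullback.snd (pullback.snd (D.map j.hom) g₀) f₀,
      v.hom ≫ (LimPB.cX (LimPullback.D' D i₀ g₀) (fun j => pullback.snd (D.map j.hom) g₀)
        (fun φ => LimPullback.map_snd D i₀ g₀ φ) (LimPullback.c' D c i₀ g₀)
        (pullback.snd (c.π.app i₀) g₀) (fun j => LimPullback.π_snd D c i₀ g₀ j) f₀).π.app j,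
      (IsPullback.of_hasPullback _ _).flip, (IsPullback.of_hasPullback _ _).flip, ?_, ?_,
      V, hxV, hPV⟩
    · rw [Category.assoc]
      exact (congrArg (v.hom ≫ ·) (LimPB.π_snd _ _ _ _ _ _ f₀ j)).trans hv2
    · rw [Category.assoc]
      have e1 := LimPB.π_fst (LimPullback.D' D i₀ g₀) (fun j => pullback.snd (D.map j.hom) g₀)
        (fun φ => LimPullback.map_snd D i₀ g₀ φ) (LimPullback.c' D c i₀ g₀)
        (pullback.snd (c.π.app i₀) g₀) (fun j => LimPullback.π_snd D c i₀ g₀ j) f₀ j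
      have e2 := LimPullback.π_fst D c i₀ g₀ j
      have key := ((Category.assoc _ _ _).symm.trans
        (congrArg (· ≫ pullback.fst (D.map j.hom) g₀) e1)).trans
        ((Category.assoc _ _ _).trans
          (congrArg (pullback.fst (pullback.snd (c.π.app i₀) g₀) f₀ ≫ ·) e2))
      refine (congrArg (v.hom ≫ ·) key).trans ?_
      show v.hom ≫ pullback.fst (pullback.snd (c.π.app i₀) g₀) f₀ ≫
        pullback.fst (c.π.app i₀) g₀ ≫ c.π.app j.left = f ≫ g ≫ c.π.app j.left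
      rw [← Category.assoc, hv1, Category.assoc, ← Category.assoc u.hom, hu1]
  · intro h
    exact nhd_of_stage D c i₀ f₀ g₀ f g qY qX hY hX x h

end Concrete

end Groth.Agent.Lib.helper11.LimLocal
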