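import Mathlib
import Groth.Agent.Lib.helper11.LimLocal2

set_option autoImplicit false
universe u
open CategoryTheory CategoryTheory.Limits AlgebraicGeometry

namespace Groth.Agent.Lib.helper11.LimIsoDescent

open Groth.Agent.Lib.helper11 Groth.Agent.Lib.helper11.LimCart

lemma isPullback_congr {A B C D : Scheme.{u}} {fst : A ⟶ B} {snd snd' : A ⟶ C} {f f' : B ⟶ D}
    {g : C ⟶ D} (h : IsPullback fst snd f g) (e1 : snd = snd') (e2 : f = f') :
    IsPullback fst snd' f' g := by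
  subst e1 e2; exact h

section Tau

variable {J : Type u} [SmallCategory J] [IsCofiltered J] (E : J ⥤ Scheme.{u}) {T : Scheme.{u}}
  (τ : ∀ j, E.obj j ⟶ T) (hτ : ∀ {j k : J} (φ : j ⟶ k), E.map φ ≫ τ k = τ j)
  (cE : Cone E) (hcE : IsLimit cE) (p : cE.pt ⟶ T)
  (hp : ∀ j, cE.π.app j ≫ τ j = p) {X₀ Y₀ : Scheme.{u}} (a₀ : X₀ ⟶ T) (b₀ : Y₀ ⟶ T)

/-- The natural transformation `X_j ⟶ T`. -/
noncomputable def tX : LimPB.XS E τ hτ a₀ ⟶ (Functor.const J).obj T where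
  app j := pullback.fst (τ j) a₀ ≫ τ j
  naturality := by
    intro j k φ
    show (LimPB.XS E τ hτ a₀).map φ ≫ pullback.fst (τ k) a₀ ≫ τ k =
      (pullback.fst (τ j) a₀ ≫ τ j) ≫ 𝟙 T
    rw [Category.comp_id]
    exact (congrArg (· ≫ τ k) (LimPB.map_fst E τ hτ a₀ φ)).trans
      ((Category.assoc _ _ _).trans (congrArg (pullback.fst (τ j) a₀ ≫ ·) (hτ φ)))

include hcE in
/-- Step 1: an isomorphism over the limit comes from a morphism at a finite stage. -/
theorem exists_stage_hom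
    [∀ (i j : J) (φ : i ⟶ j), IsAffineHom (E.map φ)] [∀ j, CompactSpace (E.obj j)]
    [∀ j, QuasiSeparatedSpace (E.obj j)]
    [QuasiCompact a₀] [QuasiSeparated a₀] [LocallyOfFinitePresentation b₀]
    (e : pullback p a₀ ⟶ pullback p b₀) (he : e ≫ pullback.fst p b₀ = pullback.fst p a₀) :
    ∃ (j : J) (g : pullback (τ j) a₀ ⟶ Y₀),
      (LimPB.cX E τ hτ cE p hp a₀).π.app j ≫ g = e ≫ pullback.snd p b₀ ∧
        g ≫ b₀ = pullback.fst (τ j) a₀ ≫ τ j := by
  have i1 : ∀ {i j : J} (φ : i ⟶ j), IsAffineHom ((LimPB.XS E τ hτ a₀).map φ) :=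
    fun φ => LimPB.isAffineHom_map E τ hτ a₀ φ
  have i2 : ∀ j, CompactSpace ((LimPB.XS E τ hτ a₀).obj j) :=
    fun j => LimPB.compactSpace_obj E τ hτ a₀ j
  have i3 : ∀ j, QuasiSeparatedSpace ((LimPB.XS E τ hτ a₀).obj j) :=
    fun j => LimPB.quasiSeparatedSpace_obj E τ hτ a₀ j
  have ha : (LimPB.cX E τ hτ cE p hp a₀).π ≫ tX E τ hτ a₀ =
      (Functor.const J).map ((e ≫ pullback.snd p b₀) ≫ b₀) := by
    ext j
    show (LimPB.cX E τ hτ cE p hp a₀).π.app j ≫ pullback.fst (τ j) a₀ ≫ τ j =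
      (e ≫ pullback.snd p b₀) ≫ b₀
    have e1 := LimPB.π_fst E τ hτ cE p hp a₀ j
    refine ((Category.assoc _ _ _).symm.trans (congrArg (· ≫ τ j) e1)).trans ?_
    have e2 : (e ≫ pullback.snd p b₀) ≫ b₀ = pullback.fst p a₀ ≫ p := by
      rw [Category.assoc, ← pullback.condition, ← Category.assoc, he]
    rw [e2]
    exact (Category.assoc _ _ _).trans (congrArg (pullback.fst p a₀ ≫ ·) (hp j))
  obtain ⟨j, g, hg1, hg2⟩ := Scheme.exists_π_app_comp_eq_of_locallyOfFinitePresentation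
    (LimPB.XS E τ hτ a₀) (tX E τ hτ a₀) b₀ (LimPB.cX E τ hτ cE p hp a₀)
    (LimPB.hcX E τ hτ cE hcE p hp a₀) (e ≫ pullback.snd p b₀) ha
  exact ⟨j, g, hg1, hg2⟩

include hτ hcE hp in
/-- Isomorphisms between finitely presented schemes over the limit descend to a stage. -/
theorem iso_descent_tau
    [∀ (i j : J) (φ : i ⟶ j), IsAffineHom (E.map φ)] [∀ j, CompactSpace (E.obj j)]
    [∀ j, QuasiSeparatedSpace (E.obj j)]
    [QuasiCompact a₀] [QuasiSeparated a₀] [LocallyOfFinitePresentation a₀]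
    [QuasiCompact b₀] [QuasiSeparated b₀] [LocallyOfFinitePresentation b₀]
    (e : pullback p a₀ ⟶ pullback p b₀) [IsIso e]
    (he : e ≫ pullback.fst p b₀ = pullback.fst p a₀) :
    ∃ (j : J) (ej : pullback (τ j) a₀ ⟶ pullback (τ j) b₀),
      IsIso ej ∧ ej ≫ pullback.fst (τ j) b₀ = pullback.fst (τ j) a₀ := by
  obtain ⟨j₁, g, hg1, hg2⟩ := exists_stage_hom E τ hτ cE hcE p hp a₀ b₀ e he
  let g' : pullback (τ j₁) a₀ ⟶ pullback (τ j₁) b₀ :=
    pullback.lift (pullback.fst (τ j₁) a₀) g hg2.symm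
  have hg'1 : g' ≫ pullback.fst (τ j₁) b₀ = pullback.fst (τ j₁) a₀ := pullback.lift_fst _ _ _
  have hg'2 : g' ≫ pullback.snd (τ j₁) b₀ = g := pullback.lift_snd _ _ _
  have ilfp : LocallyOfFinitePresentation g' :=
    LfpOfComp.lfp_of_comp g' (pullback.fst (τ j₁) b₀) (by rw [hg'1]; infer_instance) inferInstance
  have iqc : QuasiCompact g' := by
    have : QuasiCompact (g' ≫ pullback.fst (τ j₁) b₀) := by rw [hg'1]; infer_instance
    exact QuasiCompact.of_comp g' (pullback.fst (τ j₁) b₀)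
  -- the square at the limit
  have comm : (LimPB.cX E τ hτ cE p hp a₀).π.app j₁ ≫ g' =
      e ≫ (LimPB.cX E τ hτ cE p hp b₀).π.app j₁ := by
    apply pullback.hom_ext
    · have e1 := LimPB.π_fst E τ hτ cE p hp a₀ j₁
      have e2 := LimPB.π_fst E τ hτ cE p hp b₀ j₁
      refine ((Category.assoc _ _ _).trans ((congrArg (_ ≫ ·) hg'1).trans e1)).trans ?_
      refine Eq.trans ?_ ((Category.assoc _ _ _).trans (congrArg (e ≫ ·) e2)).symm
      rw [← Category.assoc, he]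
    · have e2 := LimPB.π_snd E τ hτ cE p hp b₀ j₁
      refine ((Category.assoc _ _ _).trans ((congrArg (_ ≫ ·) hg'2).trans hg1)).trans ?_
      exact ((Category.assoc _ _ _).trans (congrArg (e ≫ ·) e2)).symm
  have outer : IsPullback ((LimPB.cX E τ hτ cE p hp a₀).π.app j₁) (e ≫ pullback.fst p b₀)
      (g' ≫ pullback.fst (τ j₁) b₀) (cE.π.app j₁) := by
    exact isPullback_congr (LimPB.isPullback_π E τ hτ cE p hp a₀ j₁) he.symm hg'1.symm
  have sqπ : IsPullback ((LimPB.cX E τ hτ cE p hp a₀).π.app j₁) e g'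
      ((LimPB.cX E τ hτ cE p hp b₀).π.app j₁) :=
    IsPullback.of_bot outer comm (LimPB.isPullback_π E τ hτ cE p hp b₀ j₁)
  have h1 : IsIso (pullback.fst ((LimPB.cX E τ hτ cE p hp b₀).π.app j₁) g') :=
    (fst_iff (MorphismProperty.isomorphisms Scheme.{u}) sqπ.flip
      (IsPullback.of_hasPullback _ _)).mp (inferInstanceAs (IsIso e))
  -- the system `Y_k`, `k ⟶ j₁`
  have a1 : ∀ (i j : Over j₁) (φ : i ⟶ j),
      IsAffineHom ((Over.forget j₁ ⋙ LimPB.XS E τ hτ b₀).map φ) :=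
    fun i j φ => LimPB.isAffineHom_map E τ hτ b₀ φ.left
  have a2 : ∀ j : Over j₁, CompactSpace ((Over.forget j₁ ⋙ LimPB.XS E τ hτ b₀).obj j) :=
    fun j => LimPB.compactSpace_obj E τ hτ b₀ j.left
  have a3 : ∀ j : Over j₁, QuasiSeparatedSpace ((Over.forget j₁ ⋙ LimPB.XS E τ hτ b₀).obj j) :=
    fun j => LimPB.quasiSeparatedSpace_obj E τ hτ b₀ j.left
  let g'' : pullback (τ j₁) a₀ ⟶ (LimPB.XS E τ hτ b₀).obj j₁ := g'
  have ilfp' : LocallyOfFinitePresentation g'' := ilfp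
  have iqc' : QuasiCompact g'' := iqc
  have h1' : IsIso (pullback.fst ((LimPB.cX E τ hτ cE p hp b₀).π.app j₁) g'') := h1
  obtain ⟨k, hk⟩ := LimOpenImm.core_tau_isIso (Over.forget j₁ ⋙ LimPB.XS E τ hτ b₀)
    (fun k => (LimPB.XS E τ hτ b₀).map k.hom)
    (fun {j k} φ => by
      show (LimPB.XS E τ hτ b₀).map φ.left ≫ (LimPB.XS E τ hτ b₀).map k.hom =
        (LimPB.XS E τ hτ b₀).map j.hom
      rw [← (LimPB.XS E τ hτ b₀).map_comp, Over.w φ])
    ((LimPB.cX E τ hτ cE p hp b₀).whisker (Over.forget j₁))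
    ((Functor.Initial.isLimitWhiskerEquiv (Over.forget j₁) _).symm
      (LimPB.hcX E τ hτ cE hcE p hp b₀))
    ((LimPB.cX E τ hτ cE p hp b₀).π.app j₁)
    (fun k => (LimPB.cX E τ hτ cE p hp b₀).w k.hom) g'' h1'
  -- the square at stage `k`
  have hcond : pullback.fst (τ k.left) a₀ ≫ τ k.left =
      ((LimPB.XS E τ hτ a₀).map k.hom ≫ g) ≫ b₀ := by
    have e1 := LimPB.map_fst E τ hτ a₀ k.hom
    have s1 : ((LimPB.XS E τ hτ a₀).map k.hom ≫ g) ≫ b₀ =
        (LimPB.XS E τ hτ a₀).map k.hom ≫ (pullback.fst (τ j₁) a₀ ≫ τ j₁) :=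
      (Category.assoc _ _ _).trans (congrArg ((LimPB.XS E τ hτ a₀).map k.hom ≫ ·) hg2)
    have s2 : (LimPB.XS E τ hτ a₀).map k.hom ≫ (pullback.fst (τ j₁) a₀ ≫ τ j₁) =
        (pullback.fst (τ k.left) a₀ ≫ E.map k.hom) ≫ τ j₁ :=
      (Category.assoc _ _ _).symm.trans (congrArg (· ≫ τ j₁) e1)
    have s3 : (pullback.fst (τ k.left) a₀ ≫ E.map k.hom) ≫ τ j₁ =
        pullback.fst (τ k.left) a₀ ≫ τ k.left :=
      (Category.assoc _ _ _).trans (congrArg (pullback.fst (τ k.left) a₀ ≫ ·) (hτ k.hom))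
    exact (s1.trans (s2.trans s3)).symm
  let gk : pullback (τ k.left) a₀ ⟶ pullback (τ k.left) b₀ :=
    pullback.lift (pullback.fst (τ k.left) a₀) ((LimPB.XS E τ hτ a₀).map k.hom ≫ g) hcond
  have hgk1 : gk ≫ pullback.fst (τ k.left) b₀ = pullback.fst (τ k.left) a₀ :=
    pullback.lift_fst _ _ _
  have hgk2 : gk ≫ pullback.snd (τ k.left) b₀ = (LimPB.XS E τ hτ a₀).map k.hom ≫ g :=
    pullback.lift_snd _ _ _
  have commk : (LimPB.XS E τ hτ a₀).map k.hom ≫ g' = gk ≫ (LimPB.XS E τ hτ b₀).map k.hom := by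
    apply pullback.hom_ext
    · have e1 := LimPB.map_fst E τ hτ a₀ k.hom
      have e2 := LimPB.map_fst E τ hτ b₀ k.hom
      refine ((Category.assoc _ _ _).trans ((congrArg (_ ≫ ·) hg'1).trans e1)).trans ?_
      refine Eq.trans ?_ ((Category.assoc _ _ _).trans (congrArg (gk ≫ ·) e2)).symm
      rw [← Category.assoc, hgk1]
    · have e2 := LimPB.map_snd E τ hτ b₀ k.hom
      refine ((Category.assoc _ _ _).trans (congrArg (_ ≫ ·) hg'2)).trans ?_
      exact (((Category.assoc _ _ _).trans (congrArg (gk ≫ ·) e2)).trans hgk2).symm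
  have outerk : IsPullback ((LimPB.XS E τ hτ a₀).map k.hom) (gk ≫ pullback.fst (τ k.left) b₀)
      (g' ≫ pullback.fst (τ j₁) b₀) (E.map k.hom) := by
    exact isPullback_congr (LimPB.isPullback_map E τ hτ a₀ k.hom) hgk1.symm hg'1.symm
  have sqk : IsPullback ((LimPB.XS E τ hτ a₀).map k.hom) gk g'
      ((LimPB.XS E τ hτ b₀).map k.hom) :=
    IsPullback.of_bot outerk commk (LimPB.isPullback_map E τ hτ b₀ k.hom)
  have hgk : IsIso gk :=
    (fst_iff (MorphismProperty.isomorphisms Scheme.{u}) sqk.flip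
      (IsPullback.of_hasPullback _ _)).mpr hk
  exact ⟨k.left, gk, hgk, hgk1⟩

end Tau

end Groth.Agent.Lib.helper11.LimIsoDescent
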