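import Mathlib
import Groth.Agent.Lib.helper11.LimLocal2

set_option autoImplicit false
universe u
open CategoryTheory CategoryTheory.Limits AlgebraicGeometry

namespace Groth.Agent.Lib.helper11.LimLocal

open Groth.Agent.Lib.helper11 Groth.Agent.Lib.helper11.LimCart

theorem affCoreFP_formallyUnramified : AffCoreFP.{u} @FormallyUnramified := by
  intro J _ _ E T τ hτ cE hcE p hp X₀ f₀ _ _ _ _ hP
  have h1 : ∀ (i j : J) (φ : i ⟶ j), IsAffineHom (E.map φ) := fun i j φ => inferInstance
  exact LimUnram.core_tau_formallyUnramified E τ hτ cE hcE p hp f₀ hP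

end Groth.Agent.Lib.helper11.LimLocal
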