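import Mathlib
import Groth.Agent.Lib.helper11.LimIsoDescent

set_option autoImplicit false
universe u
open CategoryTheory CategoryTheory.Limits AlgebraicGeometry TensorProduct

namespace Groth.Agent.Lib.helper11.SmoothModel

/-- A smooth morphism of affine schemes is the base change of a smooth morphism between
affine schemes whose target is of finite presentation over `ℤ`. -/
theorem exists_smooth_model {X S : Scheme.{u}} [IsAffine X] [IsAffine S] (f : X ⟶ S) [Smooth f] :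
    ∃ (A₀ B₀ : CommRingCat.{u}) (φ₀ : A₀ ⟶ B₀) (p' : S ⟶ Spec A₀) (q' : X ⟶ Spec B₀),
      Smooth (Spec.map φ₀) ∧ IsPullback q' f (Spec.map φ₀) p' ∧
        LocallyOfFinitePresentation (specULiftZIsTerminal.{u}.from (Spec A₀)) := by
  have hsm : RingHom.Smooth f.appTop.hom :=
    (HasRingHomProperty.iff_of_isAffine (P := @Smooth)).mp inferInstance
  algebraize [f.appTop.hom]
  obtain ⟨A₀, B₀, _, _, hfg, hsm₀, ⟨e⟩⟩ :=
    Algebra.Smooth.exists_subalgebra_fg ℤ Γ(S, ⊤) Γ(X, ⊤)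
  let ψ : B₀ →+* Γ(X, ⊤) := (e.symm : Γ(S, ⊤) ⊗[A₀] B₀ →+* Γ(X, ⊤)).comp
    (Algebra.TensorProduct.includeRight (R := A₀) (A := Γ(S, ⊤)) (B := B₀)).toRingHom
  have hpo : IsPushout (CommRingCat.ofHom (algebraMap A₀ Γ(S, ⊤)))
      (CommRingCat.ofHom (algebraMap A₀ B₀)) f.appTop (CommRingCat.ofHom ψ) := by
    refine (CommRingCat.isPushout_tensorProduct A₀ Γ(S, ⊤) B₀).of_iso (Iso.refl _) (Iso.refl _)
      (Iso.refl _) e.symm.toRingEquiv.toCommRingCatIso ?_ ?_ ?_ ?_
    · simp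
    · simp
    · ext x
      have h1 := e.symm.commutes x
      rw [Algebra.TensorProduct.algebraMap_apply] at h1
      have h2 : e.symm (x ⊗ₜ[↥A₀] 1) = (algebraMap Γ(S, ⊤) Γ(X, ⊤)) x := by simpa using h1
      exact h2
    · ext x
      simp [ψ]
  have hpb := (isPullback_SpecMap_of_isPushout _ _ _ _ hpo).flip
  refine ⟨CommRingCat.of A₀, CommRingCat.of B₀, CommRingCat.ofHom (algebraMap A₀ B₀),
    S.isoSpec.hom ≫ Spec.map (CommRingCat.ofHom (algebraMap A₀ Γ(S, ⊤))),
    X.isoSpec.hom ≫ Spec.map (CommRingCat.ofHom ψ), ?_, ?_, ?_⟩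
  · refine (HasRingHomProperty.Spec_iff (P := @Smooth)).mpr ?_
    exact RingHom.smooth_algebraMap.mpr hsm₀
  · refine IsPullback.of_iso hpb X.isoSpec.symm (Iso.refl _) S.isoSpec.symm (Iso.refl _)
      ?_ ?_ ?_ ?_
    · simp
    · exact Scheme.isoSpec_inv_naturality f
    · simp
    · simp
  · let ρ : ULift.{u} ℤ →+* A₀ := (algebraMap ℤ A₀).comp (ULift.ringEquiv : ULift.{u} ℤ ≃+* ℤ).toRingHom
    have e1 : specULiftZIsTerminal.{u}.from (Spec (CommRingCat.of A₀)) =
        Spec.map (CommRingCat.ofHom ρ) := specULiftZIsTerminal.hom_ext _ _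
    rw [e1]
    refine (HasRingHomProperty.Spec_iff (P := @LocallyOfFinitePresentation)).mpr ?_
    have : IsNoetherianRing (ULift.{u} ℤ) :=
      isNoetherianRing_of_ringEquiv ℤ (ULift.ringEquiv : ULift.{u} ℤ ≃+* ℤ).symm
    refine RingHom.FinitePresentation.of_finiteType.mp ?_
    show ρ.FiniteType
    refine RingHom.FiniteType.comp ?_ ?_
    · exact RingHom.finiteType_algebraMap.mpr ((Subalgebra.fg_iff_finiteType A₀).mp hfg)
    · exact RingHom.FiniteType.of_surjective _ (ULift.ringEquiv : ULift.{u} ℤ ≃+* ℤ).surjective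

end Groth.Agent.Lib.helper11.SmoothModel
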