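import Mathlib
import Groth.Agent.Lib.helper11.SmoothModel
import Groth.Agent.Lib.helper11.LimLocalUnram

set_option autoImplicit false
universe u
open CategoryTheory CategoryTheory.Limits AlgebraicGeometry

namespace Groth.Agent.Lib.helper11.LimLocal

open Groth.Agent.Lib.helper11 Groth.Agent.Lib.helper11.LimCart

theorem affCoreFP_smooth : AffCoreFP.{u} @Smooth := by
  intro J _ _ E T τ hτ cE hcE p hp X₀ f₀ _ _ _ _ hP
  have hEaff : ∀ (i j : J) (φ : i ⟶ j), IsAffineHom (E.map φ) := fun i j φ => inferInstance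
  have hEaff' : ∀ {i j : J} (φ : i ⟶ j), IsAffineHom (E.map φ) := fun φ => inferInstance
  have : IsAffine cE.pt := Scheme.isAffine_of_isLimit cE hcE
  have : Smooth (pullback.fst p f₀) := hP
  obtain ⟨A₀, B₀, φ₀, p', q', hsm, hpb, hfp⟩ :=
    SmoothModel.exists_smooth_model (pullback.fst p f₀)
  -- descend `p'` to a stage
  let t : E ⟶ (Functor.const J).obj (Spec (.of (ULift.{u} ℤ))) :=
    { app := fun j => specULiftZIsTerminal.{u}.from (E.obj j)
      naturality := fun _ _ _ => specULiftZIsTerminal.hom_ext _ _ }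
  obtain ⟨j₁, τ', hτ'1, -⟩ := Scheme.exists_π_app_comp_eq_of_locallyOfFinitePresentation E t
    (specULiftZIsTerminal.{u}.from (Spec A₀)) cE hcE p'
    (by ext j; exact specULiftZIsTerminal.hom_ext _ _)
  have hS := LimCart.cartSys_tau E τ hτ cE p hp f₀
  suffices H : ∃ j : Over j₁, Smooth (pullback.fst (E.map j.hom) (pullback.fst (τ j₁) f₀)) by
    obtain ⟨j, _, hj⟩ := abstract_of_tau @Smooth hS j₁ hP (fun _ => H)
    exact ⟨j, hj⟩
  -- the two schemes over `E_{j₁}`
  let a₀ : pullback (τ j₁) f₀ ⟶ E.obj j₁ := pullback.fst (τ j₁) f₀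
  let b₀ : pullback τ' (Spec.map φ₀) ⟶ E.obj j₁ := pullback.fst τ' (Spec.map φ₀)
  have hA : IsPullback ((LimPB.cX E τ hτ cE p hp f₀).π.app j₁) (pullback.fst p f₀) a₀
      (cE.π.app j₁) := LimPB.isPullback_π E τ hτ cE p hp f₀ j₁
  have hcond : (pullback.fst p f₀ ≫ cE.π.app j₁) ≫ τ' = q' ≫ Spec.map φ₀ := by
    rw [Category.assoc, hτ'1, hpb.w]
  let r : pullback p f₀ ⟶ pullback τ' (Spec.map φ₀) :=
    pullback.lift (pullback.fst p f₀ ≫ cE.π.app j₁) q' hcond
  have hr1 : r ≫ pullback.fst τ' (Spec.map φ₀) = pullback.fst p f₀ ≫ cE.π.app j₁ :=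
    pullback.lift_fst _ _ _
  have hr2 : r ≫ pullback.snd τ' (Spec.map φ₀) = q' := pullback.lift_snd _ _ _
  have big : IsPullback (r ≫ pullback.snd τ' (Spec.map φ₀)) (pullback.fst p f₀) (Spec.map φ₀)
      (cE.π.app j₁ ≫ τ') := by
    rw [hr2, hτ'1]; exact hpb
  have hB : IsPullback r (pullback.fst p f₀) b₀ (cE.π.app j₁) :=
    IsPullback.of_right big hr1 (IsPullback.of_hasPullback τ' (Spec.map φ₀)).flip
  let iso1 := (IsPullback.of_hasPullback (cE.π.app j₁) a₀).isoIsPullback _ _ hA.flip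
  have hiso1 : iso1.hom ≫ pullback.fst p f₀ = pullback.fst (cE.π.app j₁) a₀ :=
    IsPullback.isoIsPullback_hom_fst _ _ _ _
  let iso2 := hB.flip.isoIsPullback _ _ (IsPullback.of_hasPullback (cE.π.app j₁) b₀)
  have hiso2 : iso2.hom ≫ pullback.fst (cE.π.app j₁) b₀ = pullback.fst p f₀ :=
    IsPullback.isoIsPullback_hom_fst _ _ _ _
  let e : pullback (cE.π.app j₁) a₀ ⟶ pullback (cE.π.app j₁) b₀ := iso1.hom ≫ iso2.hom
  have he : e ≫ pullback.fst (cE.π.app j₁) b₀ = pullback.fst (cE.π.app j₁) a₀ := by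
    exact (Category.assoc _ _ _).trans ((congrArg (iso1.hom ≫ ·) hiso2).trans hiso1)
  have : IsIso e := by show IsIso (iso1.hom ≫ iso2.hom); infer_instance
  have h1 : ∀ (i j : Over j₁) (φ : i ⟶ j), IsAffineHom ((Over.forget j₁ ⋙ E).map φ) :=
    fun i j φ => inferInstanceAs (IsAffineHom (E.map φ.left))
  have h2 : ∀ j : Over j₁, CompactSpace ((Over.forget j₁ ⋙ E).obj j) :=
    fun j => inferInstanceAs (CompactSpace (E.obj j.left))
  have h3 : ∀ j : Over j₁, QuasiSeparatedSpace ((Over.forget j₁ ⋙ E).obj j) :=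
    fun j => inferInstanceAs (QuasiSeparatedSpace (E.obj j.left))
  have : Smooth b₀ := inferInstanceAs (Smooth (pullback.fst τ' (Spec.map φ₀)))
  have : IsAffineHom b₀ := inferInstanceAs (IsAffineHom (pullback.fst τ' (Spec.map φ₀)))
  have : IsAffineHom a₀ := inferInstanceAs (IsAffineHom (pullback.fst (τ j₁) f₀))
  have : LocallyOfFinitePresentation a₀ :=
    inferInstanceAs (LocallyOfFinitePresentation (pullback.fst (τ j₁) f₀))
  obtain ⟨k, (ek : pullback (E.map k.hom) a₀ ⟶ pullback (E.map k.hom) b₀),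
      (hek : IsIso ek), (hek1 : ek ≫ pullback.fst (E.map k.hom) b₀ =
        pullback.fst (E.map k.hom) a₀)⟩ := LimIsoDescent.iso_descent_tau (Over.forget j₁ ⋙ E)
    (fun j => E.map j.hom)
    (fun {j k} φ => by
      show E.map φ.left ≫ E.map k.hom = E.map j.hom
      rw [← E.map_comp, Over.w φ])
    (cE.whisker (Over.forget j₁))
    ((Functor.Initial.isLimitWhiskerEquiv (Over.forget j₁) cE).symm hcE) (cE.π.app j₁)
    (fun j => cE.w j.hom) a₀ b₀ e he
  refine ⟨k, ?_⟩
  have hs1 : Smooth (pullback.fst (E.map k.hom) b₀) := inferInstance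
  have hs0 : Smooth ek := inferInstance
  have hs2 : Smooth (ek ≫ pullback.fst (E.map k.hom) b₀) := smooth_comp ek _
  exact (congrArg (fun g => Smooth g) hek1).mp hs2

end Groth.Agent.Lib.helper11.LimLocal
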