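import Mathlib
import Groth.Agent.Lib.helper11.LimLocalSmooth

set_option autoImplicit false
universe u
open CategoryTheory CategoryTheory.Limits AlgebraicGeometry

namespace Groth.Agent.Lib.helper11.LimLocal

open Groth.Agent.Lib.helper11 Groth.Agent.Lib.helper11.LimCart

lemma etale_iff_smooth_and_unramified {X Y : Scheme.{u}} (f : X ⟶ Y) :
    Etale f ↔ Smooth f ∧ FormallyUnramified f := by
  constructor
  · intro h; exact ⟨inferInstance, inferInstance⟩
  · rintro ⟨h1, h2⟩
    refine ⟨fun {U} hU {V} hV e => ?_⟩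
    exact (RingHom.etale_iff_formallyUnramified_and_smooth (f := (f.appLE U V e).hom)).mpr
      ⟨h2.formallyUnramified_appLE hU hV e, h1.smooth_appLE hU hV e⟩

theorem affCoreFP_etale : AffCoreFP.{u} @Etale := by
  intro J _ _ E T τ hτ cE hcE p hp X₀ f₀ _ _ _ _ hP
  have hP' : Etale (pullback.fst p f₀) := hP
  obtain ⟨j₁, h1⟩ := affCoreFP_smooth E τ hτ cE hcE p hp f₀
    ((etale_iff_smooth_and_unramified _).mp hP').1
  obtain ⟨j₂, h2⟩ := affCoreFP_formallyUnramified E τ hτ cE hcE p hp f₀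
    ((etale_iff_smooth_and_unramified _).mp hP').2
  have hS := LimCart.cartSys_tau E τ hτ cE p hp f₀
  refine ⟨IsCofiltered.min j₁ j₂, (etale_iff_smooth_and_unramified _).mpr ⟨?_, ?_⟩⟩
  · exact hS.of_map @Smooth (IsCofiltered.minToLeft j₁ j₂) h1
  · exact hS.of_map @FormallyUnramified (IsCofiltered.minToRight j₁ j₂) h2

end Groth.Agent.Lib.helper11.LimLocal
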