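import Mathlib
import Groth.Agent.Lib.helper11.LimLocalEtale

set_option autoImplicit false
universe u
open CategoryTheory CategoryTheory.Limits AlgebraicGeometry

namespace Groth.Agent.Lib.helper11.LimLocal

open Groth.Agent.Lib.helper11 Groth.Agent.Lib.helper11.LimCart

section Concrete

variable {P : MorphismProperty Scheme.{u}} [P.IsStableUnderBaseChange]
  [IsZariskiLocalAtSource P] [P.IsStableUnderComposition]
  {I : Type u} [SmallCategory I] [IsCofiltered I]
  (D : I ⥤ Scheme.{u}) (c : Cone D) (hc : IsLimit c)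
  [∀ (i j : I) (f : i ⟶ j), IsAffineHom (D.map f)] (i₀ : I)
  {X₀ Y₀ : Scheme.{u}} (f₀ : X₀ ⟶ Y₀) (g₀ : Y₀ ⟶ D.obj i₀)
  {X Y : Scheme.{u}} (f : X ⟶ Y) (g : Y ⟶ c.pt) (qY : Y ⟶ Y₀) (qX : X ⟶ X₀)
  (hY : IsPullback qY g g₀ (c.π.app i₀)) (hX : IsPullback qX f f₀ qY)
  (hOI : ∀ {X Y : Scheme.{u}} (g : X ⟶ Y) [IsOpenImmersion g], P g) (hcore : AffCoreFP P)

include hOI hcore hc hY hX in
/-- Global descent with `f₀` locally of finite presentation and `X₀` quasi-compact. -/
theorem global_descend [LocallyOfFinitePresentation f₀] [CompactSpace X₀] (hf : P f) :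
    ∃ (j : I) (φ : j ⟶ i₀) (Xj Yj : Scheme.{u}) (fj : Xj ⟶ Yj) (gj : Yj ⟶ D.obj j)
      (pY : Yj ⟶ Y₀) (pX : Xj ⟶ X₀), IsPullback pY gj g₀ (D.map φ) ∧ IsPullback pX fj f₀ pY ∧
        P fj := by
  apply LimDescend.reduction P D c i₀ f₀ g₀ f g qY qX hY hX hf
  intro hP
  have h1 : ∀ (i j : Over i₀) (a : i ⟶ j), IsAffineHom ((LimPullback.D' D i₀ g₀).map a) :=
    fun i j a => LimPullback.isAffineHom_map D i₀ g₀ a
  have h2 : ∀ j : Over i₀, LocallyOfFinitePresentation
      ((LimCart.fS (LimPullback.D' D i₀ g₀) (fun j => pullback.snd (D.map j.hom) g₀)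
        (fun φ => LimPullback.map_snd D i₀ g₀ φ) f₀).app j) :=
    fun j => inferInstanceAs (LocallyOfFinitePresentation
      (pullback.fst (pullback.snd (D.map j.hom) g₀) f₀))
  have h3 : ∀ j : Over i₀, CompactSpace
      ((LimPB.XS (LimPullback.D' D i₀ g₀) (fun j => pullback.snd (D.map j.hom) g₀)
        (fun φ => LimPullback.map_snd D i₀ g₀ φ) f₀).obj j) := by
    intro j
    have a0 : IsAffineHom (D.map j.hom) :=
      ‹∀ (i j : I) (f : i ⟶ j), IsAffineHom (D.map f)› _ _ j.hom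
    have a1 : IsAffineHom (pullback.snd (D.map j.hom) g₀) :=
      MorphismProperty.pullback_snd (P := @IsAffineHom) _ _ a0
    have a2 : IsAffineHom (pullback.snd (pullback.snd (D.map j.hom) g₀) f₀) :=
      MorphismProperty.pullback_snd (P := @IsAffineHom) _ _ a1
    have a3 : QuasiCompact (pullback.snd (pullback.snd (D.map j.hom) g₀) f₀) := inferInstance
    have a4 := QuasiCompact.compactSpace_of_compactSpace
      (pullback.snd (pullback.snd (D.map j.hom) g₀) f₀)
    exact a4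
  exact global_core hOI hcore
    (LimCart.cartSys_tau (LimPullback.D' D i₀ g₀) (fun j => pullback.snd (D.map j.hom) g₀)
      (fun φ => LimPullback.map_snd D i₀ g₀ φ) (LimPullback.c' D c i₀ g₀)
      (pullback.snd (c.π.app i₀) g₀) (fun j => LimPullback.π_snd D c i₀ g₀ j) f₀)
    (LimPullback.hc' D c hc i₀ g₀)
    (LimPB.hcX _ _ _ _ (LimPullback.hc' D c hc i₀ g₀) _ _ f₀) hP

end Concrete

end Groth.Agent.Lib.helper11.LimLocal
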