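import Mathlib
import Groth.Agent.Lib.helper11.LimDescend2

set_option autoImplicit false
universe u
open CategoryTheory CategoryTheory.Limits AlgebraicGeometry

namespace Groth.Agent.Lib.helper11.LimLqf

open Groth.Agent.Lib.helper11

/-- `x` is isolated in its set-theoretic fibre. -/
def IsolatedInFibre {X Y : Scheme.{u}} (f : X ⟶ Y) (x : X) : Prop :=
  ∃ W : X.Opens, x ∈ W ∧ ∀ z ∈ W, f z = f x → z = x

lemma isOpen_singleton_fiber_iff {X Y : Scheme.{u}} (f : X ⟶ Y) (y : Y) (w₀ : f.fiber y) :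
    IsOpen ({w₀} : Set (f.fiber y)) ↔
      ∃ W : X.Opens, f.fiberι y w₀ ∈ W ∧ ∀ z ∈ W, f z = y → z = f.fiberι y w₀ := by
  have hemb := (f.fiberι y).isEmbedding
  rw [hemb.isInducing.isOpen_iff]
  constructor
  · rintro ⟨t, ht, hpre⟩
    refine ⟨⟨t, ht⟩, ?_, ?_⟩
    · have : w₀ ∈ (f.fiberι y) ⁻¹' t := by rw [hpre]; rfl
      exact this
    · intro z hz hzy
      have hz' : z ∈ Set.range (f.fiberι y) := by rw [f.range_fiberι]; exact hzy
      obtain ⟨w, rfl⟩ := hz'
      have : w ∈ (f.fiberι y) ⁻¹' t := hz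
      rw [hpre] at this
      rw [Set.mem_singleton_iff.mp this]
  · rintro ⟨W, hW, hiso⟩
    refine ⟨W.1, W.2, ?_⟩
    ext w
    simp only [Set.mem_preimage, Set.mem_singleton_iff]
    constructor
    · intro hw
      have hwy : f (f.fiberι y w) = y := by
        have : f.fiberι y w ∈ Set.range (f.fiberι y) := ⟨w, rfl⟩
        rw [f.range_fiberι] at this
        exact this
      exact hemb.injective (hiso _ hw hwy)
    · rintro rfl
      exact hW

lemma quasiFiniteAt_iff_isolated {X Y : Scheme.{u}} {f : X ⟶ Y} [LocallyOfFiniteType f] {x : X} :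
    f.QuasiFiniteAt x ↔ IsolatedInFibre f x := by
  rw [Scheme.Hom.quasiFiniteAt_iff_isOpen_singleton_asFiber, isOpen_singleton_fiber_iff,
    Scheme.Hom.fiberι_asFiber]
  rfl

set_option backward.isDefEq.respectTransparency false in
/-- Isolation in the fibre descends along an arbitrary base change (field extension invariance). -/
theorem isolated_of_isPullback {P X Y Z : Scheme.{u}} {fst : P ⟶ X} {snd : P ⟶ Y} {f : X ⟶ Z}
    {g : Y ⟶ Z} (h : IsPullback fst snd f g) (x' : P) (hx' : IsolatedInFibre snd x') :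
    IsolatedInFibre f (fst x') := by
  let y : Y := snd x'
  let m : snd.fiber y ⟶ f.fiber (g y) :=
    pullback.map _ _ _ _ fst (Spec.map (g.residueFieldMap y)) g h.w.symm (by simp)
  have hm : IsPullback m (snd.fiberToSpecResidueField y) (f.fiberToSpecResidueField (g y))
      (Spec.map (g.residueFieldMap y)) := isPullback_fiberToSpecResidueField_of_isPullback h y
  have hmo : UniversallyOpen m :=
    MorphismProperty.of_isPullback (P := @UniversallyOpen) hm.flip inferInstance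
  have hmι : m ≫ f.fiberι (g y) = snd.fiberι y ≫ fst := by
    simp [m, Scheme.Hom.fiberι]
  let z₀ : snd.fiber y := snd.asFiber x'
  have hz₀ : snd.fiberι y z₀ = x' := snd.fiberι_asFiber x'
  have hopen : IsOpen ({z₀} : Set (snd.fiber y)) := by
    rw [isOpen_singleton_fiber_iff, hz₀]
    exact hx'
  have hopen' : IsOpen ({m z₀} : Set (f.fiber (g y))) := by
    have := m.isOpenMap _ hopen
    rwa [Set.image_singleton] at this
  have hfx : f.fiberι (g y) (m z₀) = fst x' := by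
    have := congrArg (fun ψ : snd.fiber y ⟶ X => ψ z₀) hmι
    simp only [Scheme.Hom.comp_apply] at this
    rw [this, hz₀]
  obtain ⟨W, hW, hiso⟩ := (isOpen_singleton_fiber_iff f (g y) (m z₀)).mp hopen'
  rw [hfx] at hW hiso
  refine ⟨W, hW, fun z hz hzf => hiso z hz ?_⟩
  rw [hzf]
  have := congrArg (fun ψ : P ⟶ Z => ψ x') h.w
  simpa only [Scheme.Hom.comp_apply] using this

/-- Quasi-finiteness at a point is preserved by base change (via the open quasi-finite locus). -/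
theorem quasiFiniteAt_of_isPullback {P X Y Z : Scheme.{u}} {fst : P ⟶ X} {snd : P ⟶ Y}
    {f : X ⟶ Z} {g : Y ⟶ Z} (h : IsPullback fst snd f g) [LocallyOfFiniteType f] (x' : P)
    (hx : f.QuasiFiniteAt (fst x')) : snd.QuasiFiniteAt x' := by
  have hQ : LocallyQuasiFinite (f.quasiFiniteLocus.ι ≫ f) := by
    rw [← Scheme.Hom.quasiFiniteLocus_eq_top_iff, Scheme.Hom.quasiFiniteLocus_comp]
    exact f.quasiFiniteLocus.ι_preimage_self
  have hsq : IsPullback (fst ∣_ f.quasiFiniteLocus) ((fst ⁻¹ᵁ f.quasiFiniteLocus).ι ≫ snd)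
      (f.quasiFiniteLocus.ι ≫ f) g :=
    (isPullback_morphismRestrict fst f.quasiFiniteLocus).paste_vert h
  have hlqf : LocallyQuasiFinite ((fst ⁻¹ᵁ f.quasiFiniteLocus).ι ≫ snd) :=
    MorphismProperty.of_isPullback (P := @LocallyQuasiFinite) hsq hQ
  have hmem : x' ∈ fst ⁻¹ᵁ f.quasiFiniteLocus := hx
  have h1 := Scheme.Hom.quasiFiniteAt ((fst ⁻¹ᵁ f.quasiFiniteLocus).ι ≫ snd) ⟨x', hmem⟩
  exact Scheme.Hom.quasiFiniteAt_comp_iff_of_isOpenImmersion.mp h1

section Tau

variable {J : Type u} [SmallCategory J] [IsCofiltered J] (E : J ⥤ Scheme.{u}) {T : Scheme.{u}}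
  (τ : ∀ j, E.obj j ⟶ T) (hτ : ∀ {j k : J} (φ : j ⟶ k), E.map φ ≫ τ k = τ j)
  (cE : Cone E) (hcE : IsLimit cE) (p : cE.pt ⟶ T)
  (hp : ∀ j, cE.π.app j ≫ τ j = p) {X₀ : Scheme.{u}} (f₀ : X₀ ⟶ T)

include hτ hcE hp in
/-- τ-core for local quasi-finiteness. -/
theorem core_tau_lqf [∀ (i j : J) (φ : i ⟶ j), IsAffineHom (E.map φ)]
    [∀ j, CompactSpace (E.obj j)] [LocallyOfFiniteType f₀] [QuasiCompact f₀]
    (h : LocallyQuasiFinite (pullback.fst p f₀)) :
    ∃ j, LocallyQuasiFinite (pullback.fst (τ j) f₀) := by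
  obtain ⟨j⟩ := IsCofiltered.nonempty (C := J)
  have hA : ∀ {i j : J} (φ : i ⟶ j), IsAffineHom ((LimPB.XS E τ hτ f₀).map φ) :=
    fun φ => LimPB.isAffineHom_map E τ hτ f₀ φ
  have hC : ∀ j, CompactSpace ((LimPB.XS E τ hτ f₀).obj j) :=
    fun j => LimPB.compactSpace_obj E τ hτ f₀ j
  let Q : ((LimPB.XS E τ hτ f₀).obj j).Opens := (pullback.fst (τ j) f₀).quasiFiniteLocus
  have hQ : (LimPB.cX E τ hτ cE p hp f₀).π.app j ⁻¹ᵁ Q = ⊤ := by
    rw [eq_top_iff]
    intro s _
    have hs : (pullback.fst p f₀).QuasiFiniteAt s :=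
      @Scheme.Hom.quasiFiniteAt _ _ (pullback.fst p f₀) h s
    have hs' := (quasiFiniteAt_iff_isolated (f := pullback.fst p f₀)).mp hs
    have := isolated_of_isPullback (LimPB.isPullback_π E τ hτ cE p hp f₀ j) s hs'
    exact (quasiFiniteAt_iff_isolated (f := pullback.fst (τ j) f₀)).mpr this
  obtain ⟨k, φ, hk⟩ := exists_map_eq_top (LimPB.XS E τ hτ f₀) (LimPB.cX E τ hτ cE p hp f₀)
    (LimPB.hcX E τ hτ cE hcE p hp f₀) Q hQ
  refine ⟨k, ?_⟩
  rw [← Scheme.Hom.quasiFiniteLocus_eq_top_iff, eq_top_iff]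
  intro x _
  have hx : x ∈ (LimPB.XS E τ hτ f₀).map φ ⁻¹ᵁ Q := by rw [hk]; trivial
  have hlft : LocallyOfFiniteType (pullback.fst (τ j) f₀) := inferInstance
  exact @quasiFiniteAt_of_isPullback _ _ _ _ _ _ _ _ (LimPB.isPullback_map E τ hτ f₀ φ) hlft x hx

end Tau

end Groth.Agent.Lib.helper11.LimLqf
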