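import Mathlib
import Groth.Prelude

set_option autoImplicit false
universe u
open CategoryTheory CategoryTheory.Limits AlgebraicGeometry

namespace Groth.Agent.Lib.helper11.QuasiAffineLocal

open AlgebraicGeometry.Scheme

/-- A scheme quasi-compact and quasi-separated over an affine scheme `S`, which is quasi-affine
locally on `S`, is quasi-affine. -/
theorem isQuasiAffine_of_cover {Z S : Scheme.{u}} [IsAffine S] (g : Z ⟶ S) [QuasiCompact g]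
    [QuasiSeparated g]
    (H : ∀ y : S, ∃ V : S.Opens, y ∈ V ∧ Scheme.IsQuasiAffine (g ⁻¹ᵁ V : Scheme.{u})) : Z.IsQuasiAffine := by
  have : CompactSpace Z := QuasiCompact.compactSpace_of_compactSpace g
  have : QuasiSeparatedSpace Z := quasiSeparatedSpace_of_quasiSeparated g
  suffices IsOpenImmersion Z.toSpecΓ by constructor
  refine IsZariskiLocalAtTarget.of_forall_source_exists_preimage _ fun x ↦ ?_
  obtain ⟨V, hyV, hV⟩ := H (g x)
  obtain ⟨s, hsV, hxs⟩ := (isAffineOpen_top S).exists_basicOpen_le (V := V) ⟨g x, hyV⟩ trivial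
  let r := g.appTop s
  have hr : Z.basicOpen r = g ⁻¹ᵁ S.basicOpen s := (Scheme.preimage_basicOpen_top g s).symm
  have hxr : x ∈ Z.basicOpen r := by rw [hr]; exact hxs
  have hle : Z.basicOpen r ≤ g ⁻¹ᵁ V := by rw [hr]; exact Scheme.Hom.preimage_mono g hsV
  have hcomp : CompactSpace (Z.basicOpen r : Scheme.{u}) :=
    isCompact_iff_compactSpace.mp (isCompact_basicOpen Z isCompact_univ r)
  have hqa : Scheme.IsQuasiAffine (Z.basicOpen r : Scheme.{u}) :=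
    IsQuasiAffine.of_isImmersion (Z.homOfLE hle)
  refine ⟨PrimeSpectrum.basicOpen r, (Z.toSpecΓ_preimage_basicOpen r).ge hxr, ?_⟩
  suffices IsOpenImmersion ((Z.basicOpen r).ι ≫ Z.toSpecΓ) by
    convert! this <;> rw [toSpecΓ_preimage_basicOpen]
  rw [← Opens.toSpecΓ_SpecMap_presheaf_map_top]
  have := isLocalization_basicOpen_of_qcqs isCompact_univ isQuasiSeparated_univ r
  have h1 : IsOpenImmersion (Z.basicOpen r).toSpecΓ := by
    delta Scheme.Opens.toSpecΓ; infer_instance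
  exact MorphismProperty.comp_mem _ (Z.basicOpen r).toSpecΓ _ h1 (.of_isLocalization r)

/-- Quasi-affine morphisms (in the sense of `Mor2.IsQuasiAffine`) can be checked locally on
the target. -/
theorem mor2_isQuasiAffine_of_cover {X Y : Scheme.{u}} (f : X ⟶ Y) [QuasiCompact f]
    [QuasiSeparated f]
    (H : ∀ y : Y, ∃ V : Y.Opens, y ∈ V ∧ Scheme.IsQuasiAffine (f ⁻¹ᵁ V : Scheme.{u})) :
    Mor2.IsQuasiAffine f := by
  refine ⟨inferInstance, fun W hW => ?_⟩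
  have : IsAffine W := hW
  apply isQuasiAffine_of_cover (f ∣_ W)
  intro y
  obtain ⟨V, hyV, hV⟩ := H y.1
  obtain ⟨_, ⟨V', hV' : IsAffineOpen V', rfl⟩, hyV', hV'le⟩ :=
    Y.isBasis_affineOpens.exists_subset_of_mem_open
      (a := y.1) (ou := (W ⊓ V).2)
      (show y.1 ∈ ((W ⊓ V : Y.Opens) : Set Y) from ⟨y.2, hyV⟩)
  have hV'W : V' ≤ W := fun z hz => (hV'le hz).1
  have hV'V : V' ≤ V := fun z hz => (hV'le hz).2
  refine ⟨W.ι ⁻¹ᵁ V', hyV', ?_⟩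
  have haff : IsAffineOpen (W.ι ⁻¹ᵁ V') :=
    hV'.preimage_of_isOpenImmersion W.ι (by rw [Scheme.Opens.opensRange_ι]; exact hV'W)
  have hcomp : CompactSpace ((f ∣_ W) ⁻¹ᵁ (W.ι ⁻¹ᵁ V') : Scheme.{u}) :=
    isCompact_iff_compactSpace.mp ((f ∣_ W).isCompact_preimage haff.isCompact)
  -- the open immersion into `f ⁻¹ V`
  have hrange : Set.range (((f ∣_ W) ⁻¹ᵁ (W.ι ⁻¹ᵁ V')).ι ≫ (f ⁻¹ᵁ W).ι) ⊆
      Set.range (f ⁻¹ᵁ V).ι := by
    rintro _ ⟨z, rfl⟩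
    rw [Scheme.Opens.range_ι]
    show f ((((f ∣_ W) ⁻¹ᵁ (W.ι ⁻¹ᵁ V')).ι ≫ (f ⁻¹ᵁ W).ι) z) ∈ V
    have hz : (f ∣_ W) z.1 ∈ W.ι ⁻¹ᵁ V' := z.2
    have e : f ((((f ∣_ W) ⁻¹ᵁ (W.ι ⁻¹ᵁ V')).ι ≫ (f ⁻¹ᵁ W).ι) z) = W.ι ((f ∣_ W) z.1) := by
      have := congrArg (fun φ => φ z.1) (morphismRestrict_ι f W)
      exact this.symm
    rw [e]
    exact hV'V hz
  let l := IsOpenImmersion.lift (f ⁻¹ᵁ V).ι
    (((f ∣_ W) ⁻¹ᵁ (W.ι ⁻¹ᵁ V')).ι ≫ (f ⁻¹ᵁ W).ι) hrange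
  have hl : l ≫ (f ⁻¹ᵁ V).ι = ((f ∣_ W) ⁻¹ᵁ (W.ι ⁻¹ᵁ V')).ι ≫ (f ⁻¹ᵁ W).ι :=
    IsOpenImmersion.lift_fac _ _ _
  have : IsOpenImmersion l := by
    have : IsOpenImmersion (l ≫ (f ⁻¹ᵁ V).ι) := by rw [hl]; infer_instance
    exact IsOpenImmersion.of_comp l (f ⁻¹ᵁ V).ι
  exact IsQuasiAffine.of_isImmersion l

end Groth.Agent.Lib.helper11.QuasiAffineLocal
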