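import Mathlib
import Groth.Agent.Lib.helper11.QuasiAffineLocal
import Groth.Agent.Lib.helper11.LimLocal3

set_option autoImplicit false
universe u
open CategoryTheory CategoryTheory.Limits AlgebraicGeometry

namespace Groth.Agent.Lib.helper11.LimQuasiAffine

open Groth.Agent.Lib.helper11 Groth.Agent.Lib.helper11.LimCart AlgebraicGeometry.Scheme

section

variable {J : Type u} [SmallCategory J] [IsCofiltered J] {E XS : J ⥤ Scheme.{u}} {fS : XS ⟶ E}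
  {cE : Cone E} {cX : Cone XS} {f : cX.pt ⟶ cE.pt}

/-- Quasi-affine morphisms descend. -/
theorem core_quasiAffine (hS : CartSys fS cE cX f) (hcE : IsLimit cE) (hcX : IsLimit cX)
    [∀ (i j : J) (φ : i ⟶ j), IsAffineHom (E.map φ)] [∀ j, CompactSpace (E.obj j)]
    [∀ j, QuasiSeparatedSpace (E.obj j)]
    [∀ j, QuasiCompact (fS.app j)] [∀ j, QuasiSeparated (fS.app j)]
    (hf : Mor2.IsQuasiAffine f) : ∃ j, Mor2.IsQuasiAffine (fS.app j) := by
  classical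
  have hEaff : ∀ {i j : J} (φ : i ⟶ j), IsAffineHom (E.map φ) := fun φ => inferInstance
  have hXSaff : ∀ {i j : J} (φ : i ⟶ j), IsAffineHom (XS.map φ) :=
    fun φ => LimDiag.isAffineHom_XS_map hS φ
  obtain ⟨j₁⟩ : Nonempty J := IsCofiltered.nonempty
  have hπaff : IsAffineHom (cE.π.app j₁) := isAffineHom_π_app E cE hcE j₁
  -- step for one affine open
  have step : ∀ V : (E.obj j₁).Opens, IsAffineOpen V →
      ∃ k : Over j₁, Scheme.IsQuasiAffine ((opensDiagram XS j₁ (fS.app j₁ ⁻¹ᵁ V)).obj k) := by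
    intro V hV
    have i1 : ∀ k : Over j₁, CompactSpace ((opensDiagram XS j₁ (fS.app j₁ ⁻¹ᵁ V)).obj k) := by
      intro k
      have h1 : IsAffineOpen (E.map k.hom ⁻¹ᵁ V) := hV.preimage (E.map k.hom)
      have h2 : IsCompact ((fS.app k.left ⁻¹ᵁ (E.map k.hom ⁻¹ᵁ V) : (XS.obj k.left).Opens) :
          Set (XS.obj k.left)) := (fS.app k.left).isCompact_preimage h1.isCompact
      rw [← preimage_eq fS j₁ V k] at h2
      exact isCompact_iff_compactSpace.mp h2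
    have i2 : ∀ k : Over j₁,
        QuasiSeparatedSpace ((opensDiagram XS j₁ (fS.app j₁ ⁻¹ᵁ V)).obj k) := by
      intro k
      have h1 : IsAffineOpen (E.map k.hom ⁻¹ᵁ V) := hV.preimage (E.map k.hom)
      have : IsAffine (E.map k.hom ⁻¹ᵁ V : Scheme.{u}) := h1
      have h2 : QuasiSeparatedSpace (fS.app k.left ⁻¹ᵁ (E.map k.hom ⁻¹ᵁ V) : Scheme.{u}) :=
        quasiSeparatedSpace_of_quasiSeparated (fS.app k.left ∣_ (E.map k.hom ⁻¹ᵁ V))
      rw [← preimage_eq fS j₁ V k] at h2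
      exact h2
    have i3 : Scheme.IsQuasiAffine (opensCone XS cX j₁ (fS.app j₁ ⁻¹ᵁ V)).pt := by
      show Scheme.IsQuasiAffine (cX.π.app j₁ ⁻¹ᵁ (fS.app j₁ ⁻¹ᵁ V) : Scheme.{u})
      rw [preimage_eq_π fS cE cX f hS j₁ V]
      exact hf.2 _ (hV.preimage (cE.π.app j₁))
    exact Scheme.exists_isQuasiAffine_of_isLimit _ _
      (isLimitOpensCone XS cX hcX j₁ (fS.app j₁ ⁻¹ᵁ V))
  -- finite affine cover of `E_{j₁}`
  have hnh : ∀ x : E.obj j₁, ∃ U : (E.obj j₁).Opens, IsAffineOpen U ∧ x ∈ U := by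
    intro x
    obtain ⟨_, ⟨U, hU : IsAffineOpen U, rfl⟩, hxU, -⟩ :=
      (E.obj j₁).isBasis_affineOpens.exists_subset_of_mem_open (Set.mem_univ x) isOpen_univ
    exact ⟨U, hU, hxU⟩
  choose U hU hxU using hnh
  obtain ⟨t, ht⟩ := CompactSpace.elim_nhds_subcover (fun x => (U x : Set (E.obj j₁)))
    (fun x => (U x).isOpen.mem_nhds (hxU x))
  choose kx hkx using fun x => step (U x) (hU x)
  obtain ⟨k, hk⟩ := IsCofiltered.inf_objs_exists (t.image kx)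
  refine ⟨k.left, ?_⟩
  apply QuasiAffineLocal.mor2_isQuasiAffine_of_cover
  intro y
  have hy : E.map k.hom y ∈ ⋃ x ∈ t, (U x : Set (E.obj j₁)) := by rw [ht]; trivial
  simp only [Set.mem_iUnion] at hy
  obtain ⟨x, hx, hyx⟩ := hy
  refine ⟨E.map k.hom ⁻¹ᵁ U x, hyx, ?_⟩
  have φ : k ⟶ kx x := (hk (Finset.mem_image_of_mem _ hx)).some
  have a1 : IsAffineHom ((opensDiagram XS j₁ (fS.app j₁ ⁻¹ᵁ U x)).map φ) := inferInstance
  have a2 : Scheme.IsQuasiAffine ((opensDiagram XS j₁ (fS.app j₁ ⁻¹ᵁ U x)).obj (kx x)) := hkx x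
  have a3 : Scheme.IsQuasiAffine ((opensDiagram XS j₁ (fS.app j₁ ⁻¹ᵁ U x)).obj k) :=
    IsQuasiAffine.of_isAffineHom ((opensDiagram XS j₁ (fS.app j₁ ⁻¹ᵁ U x)).map φ)
  have a4 : Scheme.IsQuasiAffine (XS.map k.hom ⁻¹ᵁ (fS.app j₁ ⁻¹ᵁ U x) : Scheme.{u}) := a3
  rw [preimage_eq fS j₁ (U x) k] at a4
  exact a4

end

lemma isQuasiAffine_iso_comp {X' X Y : Scheme.{u}} (e : X' ⟶ X) [IsIso e] (f : X ⟶ Y)
    (hf : Mor2.IsQuasiAffine f) : Mor2.IsQuasiAffine (e ≫ f) := by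
  have := hf.1
  refine ⟨inferInstance, fun V hV => ?_⟩
  have h1 : Scheme.IsQuasiAffine (f ⁻¹ᵁ V : Scheme.{u}) := hf.2 V hV
  have h2 : Scheme.IsQuasiAffine (e ⁻¹ᵁ (f ⁻¹ᵁ V) : Scheme.{u}) :=
    IsQuasiAffine.of_isAffineHom (e ∣_ (f ⁻¹ᵁ V))
  exact h2

lemma isQuasiAffine_comp_iso {X Y Y' : Scheme.{u}} (f : X ⟶ Y) (e : Y ⟶ Y') [IsIso e]
    (hf : Mor2.IsQuasiAffine f) : Mor2.IsQuasiAffine (f ≫ e) := by
  have := hf.1
  refine ⟨inferInstance, fun V hV => ?_⟩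
  have h1 : Scheme.IsQuasiAffine (f ⁻¹ᵁ (e ⁻¹ᵁ V) : Scheme.{u}) := hf.2 _ (hV.preimage e)
  exact h1

section Concrete

variable {I : Type u} [SmallCategory I] [IsCofiltered I]
  (D : I ⥤ Scheme.{u}) (c : Cone D) (hc : IsLimit c)
  [∀ (i j : I) (f : i ⟶ j), IsAffineHom (D.map f)] (i₀ : I)
  {X₀ Y₀ : Scheme.{u}} (f₀ : X₀ ⟶ Y₀) (g₀ : Y₀ ⟶ D.obj i₀)
  {X Y : Scheme.{u}} (f : X ⟶ Y) (g : Y ⟶ c.pt) (qY : Y ⟶ Y₀) (qX : X ⟶ X₀)
  (hY : IsPullback qY g g₀ (c.π.app i₀)) (hX : IsPullback qX f f₀ qY)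

include hc hY hX in
theorem descend_quasiAffine [CompactSpace Y₀] [QuasiSeparatedSpace Y₀] [QuasiCompact f₀]
    [QuasiSeparated f₀] (hf : Mor2.IsQuasiAffine f) :
    ∃ (i : I) (φ : i ⟶ i₀) (Xi Yi : Scheme.{u}) (fi : Xi ⟶ Yi) (gi : Yi ⟶ D.obj i) (pY : Yi ⟶ Y₀)
      (pX : Xi ⟶ X₀), IsPullback pY gi g₀ (D.map φ) ∧ IsPullback pX fi f₀ pY ∧
        Mor2.IsQuasiAffine fi := by
  -- identifications
  let u : Y ≅ pullback (c.π.app i₀) g₀ := hY.flip.isoPullback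
  have hu2 : u.hom ≫ pullback.snd (c.π.app i₀) g₀ = qY := hY.flip.isoPullback_hom_snd
  have hX' : IsPullback qX (f ≫ u.hom) f₀ (pullback.snd (c.π.app i₀) g₀) :=
    IsPullback.of_iso hX (Iso.refl _) (Iso.refl _) u (Iso.refl _) (by simp) (by simp) (by simp)
      (by simp [hu2])
  let v : X ≅ pullback (pullback.snd (c.π.app i₀) g₀) f₀ := hX'.flip.isoPullback
  have hv1 : v.hom ≫ pullback.fst (pullback.snd (c.π.app i₀) g₀) f₀ = f ≫ u.hom :=
    hX'.flip.isoPullback_hom_fst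
  have hf' : Mor2.IsQuasiAffine (pullback.fst (pullback.snd (c.π.app i₀) g₀) f₀) := by
    have e : pullback.fst (pullback.snd (c.π.app i₀) g₀) f₀ = v.inv ≫ (f ≫ u.hom) := by
      rw [Iso.eq_inv_comp, hv1]
    rw [e]
    exact isQuasiAffine_iso_comp _ _ (isQuasiAffine_comp_iso _ _ hf)
  have h1 : ∀ (i j : Over i₀) (a : i ⟶ j), IsAffineHom ((LimPullback.D' D i₀ g₀).map a) :=
    fun i j a => LimPullback.isAffineHom_map D i₀ g₀ a
  have h2 : ∀ j : Over i₀, CompactSpace ((LimPullback.D' D i₀ g₀).obj j) :=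
    fun j => LimPullback.compactSpace_obj D i₀ g₀ j
  have h3 : ∀ j : Over i₀, QuasiSeparatedSpace ((LimPullback.D' D i₀ g₀).obj j) :=
    fun j => LimPullback.quasiSeparatedSpace_obj D i₀ g₀ j
  have h4 : ∀ j : Over i₀, QuasiCompact
      ((LimCart.fS (LimPullback.D' D i₀ g₀) (fun j => pullback.snd (D.map j.hom) g₀)
        (fun φ => LimPullback.map_snd D i₀ g₀ φ) f₀).app j) :=
    fun j => inferInstanceAs (QuasiCompact (pullback.fst (pullback.snd (D.map j.hom) g₀) f₀))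
  have h5 : ∀ j : Over i₀, QuasiSeparated
      ((LimCart.fS (LimPullback.D' D i₀ g₀) (fun j => pullback.snd (D.map j.hom) g₀)
        (fun φ => LimPullback.map_snd D i₀ g₀ φ) f₀).app j) :=
    fun j => inferInstanceAs (QuasiSeparated (pullback.fst (pullback.snd (D.map j.hom) g₀) f₀))
  obtain ⟨j, hj⟩ := core_quasiAffine
    (LimCart.cartSys_tau (LimPullback.D' D i₀ g₀) (fun j => pullback.snd (D.map j.hom) g₀)
      (fun φ => LimPullback.map_snd D i₀ g₀ φ) (LimPullback.c' D c i₀ g₀)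
      (pullback.snd (c.π.app i₀) g₀) (fun j => LimPullback.π_snd D c i₀ g₀ j) f₀)
    (LimPullback.hc' D c hc i₀ g₀)
    (LimPB.hcX _ _ _ _ (LimPullback.hc' D c hc i₀ g₀) _ _ f₀) hf'
  exact ⟨j.left, j.hom, _, _, pullback.fst (pullback.snd (D.map j.hom) g₀) f₀,
    pullback.fst (D.map j.hom) g₀, pullback.snd (D.map j.hom) g₀,
    pullback.snd (pullback.snd (D.map j.hom) g₀) f₀,
    (IsPullback.of_hasPullback _ _).flip, (IsPullback.of_hasPullback _ _).flip, hj⟩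

end Concrete

end Groth.Agent.Lib.helper11.LimQuasiAffine
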