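import Mathlib

set_option autoImplicit false
universe u
open CategoryTheory CategoryTheory.Limits AlgebraicGeometry

namespace Groth.Agent.Lib.helper11.LimSections

variable {I : Type u} [SmallCategory I] [IsCofiltered I] (D : I ⥤ Scheme.{u})
  (c : Cone D) (hc : IsLimit c)

lemma le_aux (i : I) (V : (D.obj i).Opens) (j : Over i) :
    c.π.app i ⁻¹ᵁ V ≤ c.π.app j.left ⁻¹ᵁ (D.map j.hom ⁻¹ᵁ V) := by
  rw [← Scheme.Hom.comp_preimage, c.w]

set_option backward.defeqAttrib.useBackward true in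
set_option backward.isDefEq.respectTransparency false in
open Scheme.Opens in
include hc in
/-- Sections over the preimage of an affine open of a stage come from a later stage. -/
theorem exists_appLE_eq [∀ (i j : I) (f : i ⟶ j), IsAffineHom (D.map f)]
    (i : I) (V : (D.obj i).Opens) (hV : IsAffineOpen V) (r : Γ(c.pt, c.π.app i ⁻¹ᵁ V)) :
    ∃ (j : Over i) (s : Γ(D.obj j.left, D.map j.hom ⁻¹ᵁ V)),
      (c.π.app j.left).appLE (D.map j.hom ⁻¹ᵁ V) (c.π.app i ⁻¹ᵁ V) (le_aux D c i V j) s = r := by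
  have (j : _) : IsAffine ((opensDiagram D i V).op.obj j).unop := hV.preimage _
  have (j : _) : IsAffine ((opensDiagram D i V).obj j) := hV.preimage _
  obtain ⟨⟨j⟩, s, hs⟩ := (Types.jointly_surjective_of_isColimit (isColimitOfPreserves
    (Scheme.Γ ⋙ forget _) (isLimitOpensCone D c hc i V).op) ((c.π.app i ⁻¹ᵁ V).topIso.inv r))
  obtain ⟨s, rfl⟩ := (D.map j.hom ⁻¹ᵁ V).topIso.symm.commRingCatIsoToRingEquiv.surjective s
  have h : c.π.app j.left ⁻¹ᵁ D.map j.hom ⁻¹ᵁ V = c.π.app i ⁻¹ᵁ V := congr($(c.w j.hom) ⁻¹ᵁ V)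
  have : r = (c.π.app j.left).appLE (D.map j.hom ⁻¹ᵁ V) (c.π.app i ⁻¹ᵁ V) h.ge s := by
    convert!
      show r = ((topIso _).inv ≫ ((opensCone D c i V).π.app j).appTop ≫ (topIso _).hom) s from
        (c.π.app i ⁻¹ᵁ V).topIso.commRingCatIsoToRingEquiv.symm_apply_eq.mp hs.symm using 3
    simp [Scheme.Hom.app_eq_appLE, Scheme.Hom.resLE_appLE]
  exact ⟨j, s, this.symm⟩

lemma evaluation_map {X : Scheme.{u}} {V V' : X.Opens} (e : V ≤ V') (s : X) (hs : s ∈ V)
    (t : Γ(X, V')) :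
    (X.evaluation V s hs).hom (X.presheaf.map (homOfLE e).op t) =
      (X.evaluation V' s (e hs)).hom t := by
  rw [← Scheme.germ_residue, ← Scheme.germ_residue]
  simp only [CommRingCat.hom_comp, RingHom.coe_comp, Function.comp_apply]
  congr 1
  exact TopCat.Presheaf.germ_res_apply X.presheaf (homOfLE e) s hs t

lemma appLE_congr_hom {X Y : Scheme.{u}} (f f' : X ⟶ Y) (h : f = f') (U : Y.Opens) (V : X.Opens)
    (e : V ≤ f ⁻¹ᵁ U) : f.appLE U V e = f'.appLE U V (h ▸ e) := by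
  subst h; rfl

lemma le_aux' (i : I) (V : (D.obj i).Opens) {j k : Over i} (g : k ⟶ j) :
    D.map k.hom ⁻¹ᵁ V ≤ D.map g.left ⁻¹ᵁ (D.map j.hom ⁻¹ᵁ V) := by
  rw [← Scheme.Hom.comp_preimage, ← D.map_comp, Over.w g]

/-- Transporting a section to a later stage does not change its image in the limit. -/
theorem appLE_appLE (i : I) (V : (D.obj i).Opens) {j k : Over i} (g : k ⟶ j)
    (s : Γ(D.obj j.left, D.map j.hom ⁻¹ᵁ V)) :
    (c.π.app k.left).appLE (D.map k.hom ⁻¹ᵁ V) (c.π.app i ⁻¹ᵁ V) (le_aux D c i V k)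
      ((D.map g.left).appLE (D.map j.hom ⁻¹ᵁ V) (D.map k.hom ⁻¹ᵁ V) (le_aux' D i V g) s) =
    (c.π.app j.left).appLE (D.map j.hom ⁻¹ᵁ V) (c.π.app i ⁻¹ᵁ V) (le_aux D c i V j) s := by
  rw [← CommRingCat.comp_apply, Scheme.Hom.appLE_comp_appLE]
  rw [appLE_congr_hom _ _ (c.w g.left)]

end Groth.Agent.Lib.helper11.LimSections
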