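import Mathlib
import Groth.Agent.Lib.helper11.LimDescendCI

set_option autoImplicit false
universe u
open CategoryTheory CategoryTheory.Limits AlgebraicGeometry

namespace Groth.Agent.Lib.helper11.LimSep

open Groth.Agent.Lib.helper11

section abstract

variable {J : Type u} [SmallCategory J] (A B C : J ⥤ Scheme.{u})
  (α : C ⟶ A) (β : C ⟶ B)

/-- The subring of `Γ(C_j)` generated by the images of `Γ(A_j)` and `Γ(B_j)`. -/
noncomputable def G (j : J) : Subring Γ(C.obj j, ⊤) :=
  Subring.closure (Set.range (α.app j).appTop ∪ Set.range (β.app j).appTop)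

lemma G_inl (j : J) (a : Γ(A.obj j, ⊤)) : (α.app j).appTop a ∈ G A B C α β j :=
  Subring.subset_closure (Or.inl ⟨a, rfl⟩)

lemma G_inr (j : J) (b : Γ(B.obj j, ⊤)) : (β.app j).appTop b ∈ G A B C α β j :=
  Subring.subset_closure (Or.inr ⟨b, rfl⟩)

lemma appTop_comp_apply {X Y Z : Scheme.{u}} (f : X ⟶ Y) (g : Y ⟶ Z) (x : Γ(Z, ⊤)) :
    (f ≫ g).appTop x = f.appTop (g.appTop x) := by
  simp only [Scheme.Hom.comp_appTop, CommRingCat.hom_comp, RingHom.comp_apply]

lemma appTop_congr {X Y : Scheme.{u}} {f g : X ⟶ Y} (h : f = g) (x : Γ(Y, ⊤)) :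
    f.appTop x = g.appTop x := by rw [h]

lemma G_map {j k : J} (φ : k ⟶ j) (x : Γ(C.obj j, ⊤)) (hx : x ∈ G A B C α β j) :
    (C.map φ).appTop x ∈ G A B C α β k := by
  have : G A B C α β j ≤ (G A B C α β k).comap (C.map φ).appTop.hom := by
    refine Subring.closure_le.mpr ?_
    rintro _ (⟨a, rfl⟩ | ⟨b, rfl⟩)
    · show (C.map φ).appTop ((α.app j).appTop a) ∈ G A B C α β k
      rw [← appTop_comp_apply, appTop_congr (α.naturality φ), appTop_comp_apply]
      exact G_inl A B C α β k _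
    · show (C.map φ).appTop ((β.app j).appTop b) ∈ G A B C α β k
      rw [← appTop_comp_apply, appTop_congr (β.naturality φ), appTop_comp_apply]
      exact G_inr A B C α β k _
  exact this hx

variable [IsCofiltered J]
  [∀ j, IsAffine (A.obj j)] [∀ j, IsAffine (B.obj j)]
  [∀ {j k : J} (φ : j ⟶ k), IsAffineHom (C.map φ)] [∀ j, CompactSpace (C.obj j)]
  [∀ j, QuasiSeparatedSpace (C.obj j)]
  (cA : Cone A) (hcA : IsLimit cA) (cB : Cone B) (hcB : IsLimit cB) (cC : Cone C)
  (hcC : IsLimit cC)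
  (α' : cC.pt ⟶ cA.pt) (β' : cC.pt ⟶ cB.pt)
  (hα : ∀ j, cC.π.app j ≫ α.app j = α' ≫ cA.π.app j)
  (hβ : ∀ j, cC.π.app j ≫ β.app j = β' ≫ cB.π.app j)

include hcA hcB hα hβ in
lemma exists_mem_G (j₁ : J)
    (z : Γ(cC.pt, ⊤)) (hz : z ∈ Subring.closure (Set.range α'.appTop ∪ Set.range β'.appTop)) :
    ∃ j, ∃ y ∈ G A B C α β j, (cC.π.app j).appTop y = z := by
  induction hz using Subring.closure_induction with
  | mem x hx =>
    rcases hx with ⟨a, rfl⟩ | ⟨b, rfl⟩
    · obtain ⟨j, a', rfl⟩ := exists_appTop_π_eq_of_isAffine_of_isLimit A cA hcA a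
      refine ⟨j, (α.app j).appTop a', G_inl A B C α β j _, ?_⟩
      rw [← appTop_comp_apply, appTop_congr (hα j), appTop_comp_apply]
    · obtain ⟨j, b', rfl⟩ := exists_appTop_π_eq_of_isAffine_of_isLimit B cB hcB b
      refine ⟨j, (β.app j).appTop b', G_inr A B C α β j _, ?_⟩
      rw [← appTop_comp_apply, appTop_congr (hβ j), appTop_comp_apply]
  | zero => exact ⟨j₁, 0, zero_mem _, map_zero _⟩
  | one => exact ⟨j₁, 1, one_mem _, map_one _⟩
  | add x y _ _ hx hy =>
    obtain ⟨j, u, hu, rfl⟩ := hx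
    obtain ⟨k, v, hv, rfl⟩ := hy
    refine ⟨IsCofiltered.min j k, (C.map (IsCofiltered.minToLeft j k)).appTop u +
      (C.map (IsCofiltered.minToRight j k)).appTop v,
      add_mem (G_map A B C α β _ _ hu) (G_map A B C α β _ _ hv), ?_⟩
    rw [map_add, ← appTop_comp_apply, ← appTop_comp_apply, appTop_congr (cC.w _),
      appTop_congr (cC.w _)]
  | neg x _ hx =>
    obtain ⟨j, u, hu, rfl⟩ := hx
    exact ⟨j, -u, neg_mem hu, map_neg _ _⟩
  | mul x y _ _ hx hy =>
    obtain ⟨j, u, hu, rfl⟩ := hx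
    obtain ⟨k, v, hv, rfl⟩ := hy
    refine ⟨IsCofiltered.min j k, (C.map (IsCofiltered.minToLeft j k)).appTop u *
      (C.map (IsCofiltered.minToRight j k)).appTop v,
      mul_mem (G_map A B C α β _ _ hu) (G_map A B C α β _ _ hv), ?_⟩
    rw [map_mul, ← appTop_comp_apply, ← appTop_comp_apply, appTop_congr (cC.w _),
      appTop_congr (cC.w _)]

include hcA hcB hcC hα hβ in
/-- every section over `C_{j₁}` eventually lands in the generated subring. -/
lemma exists_map_mem_G (j₁ : J)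
    (hgen : Subring.closure (Set.range α'.appTop ∪ Set.range β'.appTop) = ⊤)
    (x : Γ(C.obj j₁, ⊤)) :
    ∃ (k : J) (φ : k ⟶ j₁), (C.map φ).appTop x ∈ G A B C α β k := by
  obtain ⟨j, y, hy, hyx⟩ := exists_mem_G A B C α β cA hcA cB hcB cC α' β' hα hβ j₁
    ((cC.π.app j₁).appTop x) (by rw [hgen]; trivial)
  let W := IsCofiltered.min j j₁
  let y' := (C.map (IsCofiltered.minToLeft j j₁)).appTop y
  let x' := (C.map (IsCofiltered.minToRight j j₁)).appTop x
  have hd : (cC.π.app W).appTop (x' - y') = 0 := by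
    rw [map_sub, sub_eq_zero]
    show (cC.π.app W).appTop ((C.map _).appTop x) = (cC.π.app W).appTop ((C.map _).appTop y)
    rw [← appTop_comp_apply, ← appTop_comp_apply, appTop_congr (cC.w _), appTop_congr (cC.w _),
      hyx]
  obtain ⟨k, ψ, hk⟩ := exists_appTop_map_eq_zero_of_isLimit C cC hcC (x' - y') hd
  refine ⟨k, ψ ≫ IsCofiltered.minToRight j j₁, ?_⟩
  rw [map_sub, sub_eq_zero] at hk
  rw [C.map_comp, appTop_comp_apply]
  show (C.map ψ).appTop x' ∈ _
  rw [hk]
  exact G_map A B C α β ψ _ (G_map A B C α β _ _ hy)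

include hcA hcB hcC hα hβ in
lemma exists_forall_mem_G (j₁ : J)
    (hgen : Subring.closure (Set.range α'.appTop ∪ Set.range β'.appTop) = ⊤)
    (s : Finset Γ(C.obj j₁, ⊤)) :
    ∃ (j : J) (φ : j ⟶ j₁), ∀ x ∈ s, (C.map φ).appTop x ∈ G A B C α β j := by
  classical
  induction s using Finset.induction_on with
  | empty => exact ⟨j₁, 𝟙 _, by simp⟩
  | insert x s' _ ih =>
    obtain ⟨j, φ, hj⟩ := ih
    obtain ⟨k, φ', hk⟩ := exists_map_mem_G A B C α β cA hcA cB hcB cC hcC α' β' hα hβ j₁ hgen x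
    obtain ⟨W, h, h', hW⟩ := IsCofiltered.cospan φ φ'
    refine ⟨W, h ≫ φ, ?_⟩
    intro y hy
    rcases Finset.mem_insert.mp hy with rfl | hy
    · rw [hW, C.map_comp, appTop_comp_apply]
      exact G_map A B C α β h' _ hk
    · rw [C.map_comp, appTop_comp_apply]
      exact G_map A B C α β h _ (hj y hy)

include hcA hcB hcC hα hβ in
theorem exists_forall_G_eq_top (j₁ : J) [IsAffine (C.obj j₁)] [LocallyOfFiniteType (α.app j₁)]
    (hcart : ∀ {k : J} (φ : k ⟶ j₁), IsPullback (C.map φ) (α.app k) (α.app j₁) (A.map φ))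
    (hgen : Subring.closure (Set.range α'.appTop ∪ Set.range β'.appTop) = ⊤) :
    ∃ (j : J) (_ : j ⟶ j₁), ∀ (k : J) (_ : k ⟶ j), G A B C α β k = ⊤ := by
  classical
  have hft : RingHom.FiniteType (α.app j₁).appTop.hom :=
    (HasRingHomProperty.iff_of_isAffine (P := @LocallyOfFiniteType)).mp inferInstance
  algebraize [(α.app j₁).appTop.hom]
  obtain ⟨s, hs⟩ := (Algebra.FiniteType.out :
    (⊤ : Subalgebra Γ(A.obj j₁, ⊤) Γ(C.obj j₁, ⊤)).FG)
  obtain ⟨j, φ, hj⟩ := exists_forall_mem_G A B C α β cA hcA cB hcB cC hcC α' β' hα hβ j₁ hgen s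
  refine ⟨j, φ, fun k ψ => ?_⟩
  have hpo := isPushout_appTop_of_isPullback (hcart (ψ ≫ φ))
  refine LimDescendCI.subring_eq_top_of_isPushout hpo (G A B C α β k) ?_ (G_inl A B C α β k)
  intro a
  have ha : a ∈ Algebra.adjoin Γ(A.obj j₁, ⊤) (s : Set Γ(C.obj j₁, ⊤)) := by rw [hs]; trivial
  induction ha using Algebra.adjoin_induction with
  | mem x hx =>
    rw [C.map_comp, appTop_comp_apply]
    exact G_map A B C α β ψ _ (hj x hx)
  | algebraMap r =>
    show (C.map (ψ ≫ φ)).appTop ((α.app j₁).appTop r) ∈ G A B C α β k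
    rw [← appTop_comp_apply, appTop_congr (α.naturality (ψ ≫ φ)), appTop_comp_apply]
    exact G_inl A B C α β k _
  | add x y _ _ hx hy => rw [map_add]; exact add_mem hx hy
  | mul x y _ _ hx hy => rw [map_mul]; exact mul_mem hx hy

end abstract

section criteria

/-- Limit side: for a separated morphism to an affine scheme, the "intersection" of two affine
schemes over `X` is affine and its sections are generated by the sections of the two pieces. -/
theorem gen_of_isSeparated {X S : Scheme.{u}} (t : X ⟶ S) [IsAffine S] [IsSeparated t]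
    {U V P : Scheme.{u}} (iU : U ⟶ X) (iV : V ⟶ X) [IsAffine U] [IsAffine V]
    (a : P ⟶ U) (b : P ⟶ V) (h : IsPullback a b iU iV) :
    IsAffine P ∧ Subring.closure (Set.range a.appTop ∪ Set.range b.appTop) = ⊤ := by
  have hw : a ≫ (iU ≫ t) = b ≫ (iV ≫ t) := by rw [← Category.assoc, h.w, Category.assoc]
  let δ : P ⟶ pullback (iU ≫ t) (iV ≫ t) := pullback.lift a b hw
  have hδ1 : δ ≫ pullback.fst _ _ = a := pullback.lift_fst _ _ _
  have hδ2 : δ ≫ pullback.snd _ _ = b := pullback.lift_snd _ _ _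
  have hmap : IsClosedImmersion (pullback.map iU iV (iU ≫ t) (iV ≫ t) (𝟙 _) (𝟙 _) t
      (Category.id_comp _).symm (Category.id_comp _).symm) :=
    MorphismProperty.of_isPullback (P := @IsClosedImmersion)
      (pullback_map_diagonal_isPullback iU iV t) (inferInstance : IsClosedImmersion
        (pullback.diagonal t))
  have hδ : δ = h.isoPullback.hom ≫ pullback.map iU iV (iU ≫ t) (iV ≫ t) (𝟙 _) (𝟙 _) t
      (Category.id_comp _).symm (Category.id_comp _).symm := by
    apply pullback.hom_ext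
    · rw [hδ1, Category.assoc, pullback.lift_fst, Category.comp_id,
        IsPullback.isoPullback_hom_fst]
    · rw [hδ2, Category.assoc, pullback.lift_snd, Category.comp_id,
        IsPullback.isoPullback_hom_snd]
  have hδci : IsClosedImmersion δ := by rw [hδ]; infer_instance
  obtain ⟨hPaff, hsurj⟩ := IsClosedImmersion.isAffine_surjective_of_isAffine δ
  refine ⟨hPaff, ?_⟩
  have hT := CommRingCat.closure_range_union_range_eq_top_of_isPushout
    (isPushout_appTop_of_isPullback (IsPullback.of_hasPullback (iU ≫ t) (iV ≫ t)))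
  have hle : Subring.closure (Set.range (pullback.fst (iU ≫ t) (iV ≫ t)).appTop ∪
      Set.range (pullback.snd (iU ≫ t) (iV ≫ t)).appTop) ≤
      (Subring.closure (Set.range a.appTop ∪ Set.range b.appTop)).comap δ.appTop.hom := by
    refine Subring.closure_le.mpr ?_
    rintro _ (⟨u, rfl⟩ | ⟨v, rfl⟩)
    · change δ.appTop ((pullback.fst (iU ≫ t) (iV ≫ t)).appTop u) ∈
        Subring.closure (Set.range a.appTop ∪ Set.range b.appTop)
      rw [← appTop_comp_apply, appTop_congr hδ1]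
      exact Subring.subset_closure (Or.inl ⟨u, rfl⟩)
    · change δ.appTop ((pullback.snd (iU ≫ t) (iV ≫ t)).appTop v) ∈
        Subring.closure (Set.range a.appTop ∪ Set.range b.appTop)
      rw [← appTop_comp_apply, appTop_congr hδ2]
      exact Subring.subset_closure (Or.inr ⟨v, rfl⟩)
  rw [eq_top_iff]
  intro z _
  obtain ⟨w, rfl⟩ := hsurj z
  exact hle (by rw [hT]; trivial)

/-- Stage side: a morphism to an affine scheme is separated as soon as for an affine open cover
the pairwise intersections are affine with sections generated by those of the two pieces. -/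
theorem isSeparated_of_gen {X S : Scheme.{u}} (t : X ⟶ S) [IsAffine S] {ι : Type u}
    (U : ι → X.Opens) (hU : TopologicalSpace.IsOpenCover U) [∀ a, IsAffine (U a)]
    (H : ∀ a b, ∃ (P : Scheme.{u}) (p₁ : P ⟶ U a) (p₂ : P ⟶ U b),
      IsPullback p₁ p₂ (U a).ι (U b).ι ∧ IsAffine P ∧
        Subring.closure (Set.range p₁.appTop ∪ Set.range p₂.appTop) = ⊤) :
    IsSeparated t := by
  constructor
  let 𝒰 := X.openCoverOfIsOpenCover U hU
  refine IsZariskiLocalAtTarget.of_openCover (P := @IsClosedImmersion)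
    (Scheme.Pullback.openCoverOfLeftRight 𝒰 𝒰 t t) ?_
  rintro ⟨a, b⟩
  obtain ⟨P, p₁, p₂, hP, hPaff, hgen⟩ := H a b
  change IsClosedImmersion (pullback.snd (pullback.diagonal t)
    (pullback.map ((U a).ι ≫ t) ((U b).ι ≫ t) t t (U a).ι (U b).ι (𝟙 _)
      (Category.comp_id _) (Category.comp_id _)))
  refine (MorphismProperty.cancel_left_of_respectsIso (P := @IsClosedImmersion)
    (f := (pullbackDiagonalMapIdIso (U a).ι (U b).ι t).inv) _).mp ?_
  rw [← MorphismProperty.cancel_left_of_respectsIso (P := @IsClosedImmersion)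
    hP.isoPullback.hom]
  set m := hP.isoPullback.hom ≫ (pullbackDiagonalMapIdIso (U a).ι (U b).ι t).inv ≫
    pullback.snd (pullback.diagonal t)
    (pullback.map ((U a).ι ≫ t) ((U b).ι ≫ t) t t (U a).ι (U b).ι (𝟙 _)
      (Category.comp_id _) (Category.comp_id _)) with hm
  have hm1 : m ≫ pullback.fst _ _ = p₁ := by
    rw [hm, Category.assoc, Category.assoc, pullbackDiagonalMapIdIso_inv_snd_fst,
      IsPullback.isoPullback_hom_fst]
  have hm2 : m ≫ pullback.snd _ _ = p₂ := by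
    rw [hm, Category.assoc, Category.assoc, pullbackDiagonalMapIdIso_inv_snd_snd,
      IsPullback.isoPullback_hom_snd]
  apply IsClosedImmersion.of_surjective_of_isAffine
  rw [← RingHom.range_eq_top, eq_top_iff, ← hgen]
  refine Subring.closure_le.mpr ?_
  rintro _ (⟨u, rfl⟩ | ⟨v, rfl⟩)
  · exact ⟨(pullback.fst ((U a).ι ≫ t) ((U b).ι ≫ t)).appTop u, by
      rw [← appTop_comp_apply, appTop_congr hm1]⟩
  · exact ⟨(pullback.snd ((U a).ι ≫ t) ((U b).ι ≫ t)).appTop v, by
      rw [← appTop_comp_apply, appTop_congr hm2]⟩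

end criteria

section pair

variable {I : Type u} [SmallCategory I] (D : I ⥤ Scheme.{u})

set_option backward.defeqAttrib.useBackward true in
set_option backward.isDefEq.respectTransparency false in
/-- The natural transformation between restricted diagrams induced by an inclusion of opens. -/
noncomputable def opensDiagramLE (i₀ : I) {W U : (D.obj i₀).Opens} (h : W ≤ U) :
    opensDiagram D i₀ W ⟶ opensDiagram D i₀ U where
  app j := (D.obj j.left).homOfLE ((D.map j.hom).preimage_mono h)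
  naturality j k f := by
    rw [← cancel_mono (Scheme.Opens.ι _)]
    simp

@[simp] lemma opensDiagramLE_app (i₀ : I) {W U : (D.obj i₀).Opens} (h : W ≤ U) (j : Over i₀) :
    (opensDiagramLE D i₀ h).app j = (D.obj j.left).homOfLE ((D.map j.hom).preimage_mono h) := rfl

variable [IsCofiltered I] (c : Cone D) (hc : IsLimit c)
  [∀ {i j : I} (f : i ⟶ j), IsAffineHom (D.map f)] [∀ i, QuasiSeparatedSpace (D.obj i)]
  (i₀ : I) (U V : (D.obj i₀).Opens) (hU : IsAffineOpen U) (hV : IsAffineOpen V)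

set_option backward.defeqAttrib.useBackward true in
set_option backward.isDefEq.respectTransparency false in
lemma isPullback_opensDiagramLE {W U : (D.obj i₀).Opens} (h : W ≤ U) {j k : Over i₀} (φ : k ⟶ j) :
    IsPullback ((opensDiagram D i₀ W).map φ) ((opensDiagramLE D i₀ h).app k)
      ((opensDiagramLE D i₀ h).app j) ((opensDiagram D i₀ U).map φ) := by
  have : IsOpenImmersion ((opensDiagramLE D i₀ h).app k) := by
    rw [opensDiagramLE_app]; infer_instance
  have : IsOpenImmersion ((opensDiagramLE D i₀ h).app j) := by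
    rw [opensDiagramLE_app]; infer_instance
  refine IsOpenImmersion.isPullback _ _ _ _ ((opensDiagramLE D i₀ h).naturality φ).symm ?_
  simp only [opensDiagramLE_app, Scheme.opensRange_homOfLE, opensDiagram_map,
    ← Scheme.Hom.comp_preimage, Scheme.Hom.resLE_comp_ι_assoc, ← D.map_comp, Over.w φ]

set_option backward.defeqAttrib.useBackward true in
set_option backward.isDefEq.respectTransparency false in
include hc hU hV in
theorem pair {S : Scheme.{u}} [IsAffine S] (t : c.pt ⟶ S) [IsSeparated t] :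
    ∃ j : Over i₀, ∀ (k : Over i₀) (_ : k ⟶ j),
      IsAffine ((opensDiagram D i₀ (U ⊓ V)).obj k) ∧
      G (opensDiagram D i₀ U) (opensDiagram D i₀ V) (opensDiagram D i₀ (U ⊓ V))
        (opensDiagramLE D i₀ inf_le_left) (opensDiagramLE D i₀ inf_le_right) k = ⊤ := by
  have hUV : IsCompact (X := D.obj i₀) (U ⊓ V : (D.obj i₀).Opens) :=
    QuasiSeparatedSpace.inter_isCompact U.1 V.1 U.2 hU.isCompact V.2 hV.isCompact
  have hA (j : Over i₀) : IsAffine ((opensDiagram D i₀ U).obj j) := hU.preimage (D.map _)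
  have hB (j : Over i₀) : IsAffine ((opensDiagram D i₀ V).obj j) := hV.preimage (D.map _)
  have hCc (j : Over i₀) : CompactSpace ((opensDiagram D i₀ (U ⊓ V)).obj j) :=
    isCompact_iff_compactSpace.mp (QuasiCompact.isCompact_preimage _ (U ⊓ V).2 hUV)
  have hCq (j : Over i₀) : QuasiSeparatedSpace ((opensDiagram D i₀ (U ⊓ V)).obj j) :=
    (isQuasiSeparated_iff_quasiSeparatedSpace _ (D.map _ ⁻¹ᵁ _).2).mp (.of_quasiSeparatedSpace _)
  have := isAffineHom_π_app D c hc
  have hU' : IsAffine (c.π.app i₀ ⁻¹ᵁ U).toScheme := hU.preimage (c.π.app i₀)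
  have hV' : IsAffine (c.π.app i₀ ⁻¹ᵁ V).toScheme := hV.preimage (c.π.app i₀)
  have hpb : IsPullback
      (c.pt.homOfLE ((c.π.app i₀).preimage_mono (inf_le_left : U ⊓ V ≤ U)))
      (c.pt.homOfLE ((c.π.app i₀).preimage_mono (inf_le_right : U ⊓ V ≤ V)))
      (c.π.app i₀ ⁻¹ᵁ U).ι (c.π.app i₀ ⁻¹ᵁ V).ι :=
    isPullback_opens_inf (c.π.app i₀ ⁻¹ᵁ U) (c.π.app i₀ ⁻¹ᵁ V)
  obtain ⟨hPaff, hgen⟩ := gen_of_isSeparated t _ _ _ _ hpb
  have : IsAffine (opensCone D c i₀ (U ⊓ V)).pt := hPaff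
  obtain ⟨j₁, hj₁⟩ := Scheme.exists_isAffine_of_isLimit _ _ (isLimitOpensCone D c hc i₀ (U ⊓ V))
  have hlft : LocallyOfFiniteType ((opensDiagramLE D i₀ (inf_le_left : U ⊓ V ≤ U)).app j₁) := by
    rw [opensDiagramLE_app]; infer_instance
  obtain ⟨j, φ, hj⟩ := exists_forall_G_eq_top (opensDiagram D i₀ U) (opensDiagram D i₀ V)
    (opensDiagram D i₀ (U ⊓ V))
    (opensDiagramLE D i₀ inf_le_left) (opensDiagramLE D i₀ inf_le_right)
    (opensCone D c i₀ U) (isLimitOpensCone D c hc i₀ U)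
    (opensCone D c i₀ V) (isLimitOpensCone D c hc i₀ V)
    (opensCone D c i₀ (U ⊓ V)) (isLimitOpensCone D c hc i₀ (U ⊓ V))
    (c.pt.homOfLE ((c.π.app i₀).preimage_mono (inf_le_left : U ⊓ V ≤ U)))
    (c.pt.homOfLE ((c.π.app i₀).preimage_mono (inf_le_right : U ⊓ V ≤ V)))
    (fun j => by
      rw [← cancel_mono (Scheme.Opens.ι _)]
      simp)
    (fun j => by
      rw [← cancel_mono (Scheme.Opens.ι _)]
      simp)
    j₁ (fun φ => isPullback_opensDiagramLE D i₀ _ φ) hgen
  refine ⟨j, fun k ψ => ⟨?_, hj k ψ⟩⟩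
  exact isAffine_of_isAffineHom ((opensDiagram D i₀ (U ⊓ V)).map (ψ ≫ φ))

end pair

section main

variable {I : Type u} [SmallCategory I] [IsCofiltered I] (D : I ⥤ Scheme.{u}) (c : Cone D)
  (hc : IsLimit c)
  [∀ {i j : I} (f : i ⟶ j), IsAffineHom (D.map f)] [∀ i, CompactSpace (D.obj i)]
  [∀ i, QuasiSeparatedSpace (D.obj i)]

set_option backward.defeqAttrib.useBackward true in
set_option backward.isDefEq.respectTransparency false in
include hc in
/-- Affine base: if the limit is separated over an affine scheme `S` (through stage `i₀`), then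
some stage over `i₀` is separated over `S`. -/
theorem exists_stage_isSeparated {S : Scheme.{u}} [IsAffine S] (i₀ : I) (t₀ : D.obj i₀ ⟶ S)
    [IsSeparated (c.π.app i₀ ≫ t₀)] :
    ∃ j : Over i₀, IsSeparated (D.map j.hom ≫ t₀) := by
  classical
  obtain ⟨s, hsfin, hs⟩ := (isCompact_and_isOpen_iff_finite_and_eq_biUnion_affineOpens (X := D.obj i₀)
    (U := (Set.univ : Set (D.obj i₀)))).mp ⟨isCompact_univ, isOpen_univ⟩
  have : Finite ↥s := hsfin.to_subtype
  have : Fintype ↥s := Fintype.ofFinite _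
  let Uo : ↥s → (D.obj i₀).Opens := fun a => a.1.1
  have hUo : ∀ a, IsAffineOpen (Uo a) := fun a => a.1.2
  have hcov : ⨆ a, Uo a = ⊤ := by
    rw [eq_top_iff]
    intro x _
    have hx : x ∈ (Set.univ : Set (D.obj i₀)) := trivial
    rw [hs] at hx
    obtain ⟨a, ha, hxa⟩ := Set.mem_iUnion₂.mp hx
    exact TopologicalSpace.Opens.mem_iSup.mpr ⟨⟨a, ha⟩, hxa⟩
  choose jj hjj using fun (p : ↥s × ↥s) =>
    pair D c hc i₀ (Uo p.1) (Uo p.2) (hUo p.1) (hUo p.2) (c.π.app i₀ ≫ t₀)
  obtain ⟨j, hj⟩ := IsCofiltered.inf_objs_exists (Finset.univ.image jj)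
  refine ⟨j, ?_⟩
  have haff : ∀ a : ↥s, IsAffine (D.map j.hom ⁻¹ᵁ Uo a).toScheme :=
    fun a => (hUo a).preimage (D.map j.hom)
  refine isSeparated_of_gen (D.map j.hom ≫ t₀) (fun a : ↥s => D.map j.hom ⁻¹ᵁ Uo a) ?_ ?_
  · show ⨆ a, D.map j.hom ⁻¹ᵁ Uo a = ⊤
    rw [← Scheme.Hom.preimage_iSup, hcov, Scheme.Hom.preimage_top]
  · intro a b
    have φ : j ⟶ jj (a, b) := (hj (Finset.mem_image_of_mem _ (Finset.mem_univ _))).some
    have h1 : IsAffine (D.map j.hom ⁻¹ᵁ (Uo a ⊓ Uo b)).toScheme := (hjj (a, b) j φ).1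
    have h2 : Subring.closure
        (Set.range ((D.obj j.left).homOfLE ((D.map j.hom).preimage_mono
          (inf_le_left : Uo a ⊓ Uo b ≤ Uo a))).appTop ∪
         Set.range ((D.obj j.left).homOfLE ((D.map j.hom).preimage_mono
          (inf_le_right : Uo a ⊓ Uo b ≤ Uo b))).appTop) = ⊤ := (hjj (a, b) j φ).2
    have h3 : IsPullback ((D.obj j.left).homOfLE ((D.map j.hom).preimage_mono
          (inf_le_left : Uo a ⊓ Uo b ≤ Uo a)))
        ((D.obj j.left).homOfLE ((D.map j.hom).preimage_mono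
          (inf_le_right : Uo a ⊓ Uo b ≤ Uo b)))
        (D.map j.hom ⁻¹ᵁ Uo a).ι (D.map j.hom ⁻¹ᵁ Uo b).ι :=
      isPullback_opens_inf (D.map j.hom ⁻¹ᵁ Uo a) (D.map j.hom ⁻¹ᵁ Uo b)
    exact ⟨_, _, _, h3, h1, h2⟩

end main

end Groth.Agent.Lib.helper11.LimSep
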