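import Mathlib
import Groth.Agent.Lib.helper11.LimSep

set_option autoImplicit false
universe u
open CategoryTheory CategoryTheory.Limits AlgebraicGeometry

namespace Groth.Agent.Lib.helper11.LimSep

variable {I : Type u} [SmallCategory I] [IsCofiltered I] (D : I ⥤ Scheme.{u}) (c : Cone D)
  (hc : IsLimit c)
  [∀ {i j : I} (f : i ⟶ j), IsAffineHom (D.map f)]
  [∀ i, QuasiSeparatedSpace (D.obj i)]

set_option backward.defeqAttrib.useBackward true in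
set_option backward.isDefEq.respectTransparency false in
include hc in
/-- Restricted version: over an affine open `W` of an arbitrary base. -/
theorem exists_stage_isSeparated_restrict {S : Scheme.{u}} (W : S.Opens) (hW : IsAffineOpen W)
    (i₀ : I) (f₀ : D.obj i₀ ⟶ S) (hV : IsCompact (X := D.obj i₀) (f₀ ⁻¹ᵁ W))
    [IsSeparated (c.π.app i₀ ≫ f₀)] :
    ∃ j : Over i₀, ∀ (k : Over i₀) (_ : k ⟶ j),
      IsSeparated ((D.map k.hom ⁻¹ᵁ (f₀ ⁻¹ᵁ W)).ι ≫ D.map k.hom ≫ f₀) := by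
  have hCc (j : Over i₀) : CompactSpace ((opensDiagram D i₀ (f₀ ⁻¹ᵁ W)).obj j) :=
    isCompact_iff_compactSpace.mp (QuasiCompact.isCompact_preimage _ (f₀ ⁻¹ᵁ W).2 hV)
  have hCq (j : Over i₀) : QuasiSeparatedSpace ((opensDiagram D i₀ (f₀ ⁻¹ᵁ W)).obj j) :=
    (isQuasiSeparated_iff_quasiSeparatedSpace _ (D.map _ ⁻¹ᵁ _).2).mp (.of_quasiSeparatedSpace _)
  have hWaff : IsAffine W.toScheme := hW
  let j₀ : Over i₀ := Over.mk (𝟙 i₀)
  let t₀ : (opensDiagram D i₀ (f₀ ⁻¹ᵁ W)).obj j₀ ⟶ W.toScheme :=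
    (D.map j₀.hom ≫ f₀).resLE W (D.map j₀.hom ⁻¹ᵁ (f₀ ⁻¹ᵁ W)) (by
      rw [Scheme.Hom.comp_preimage])
  have hsep : IsSeparated ((opensCone D c i₀ (f₀ ⁻¹ᵁ W)).π.app j₀ ≫ t₀) := by
    have h1 : IsSeparated (((opensCone D c i₀ (f₀ ⁻¹ᵁ W)).π.app j₀ ≫ t₀) ≫ W.ι) := by
      have h2 : ((opensCone D c i₀ (f₀ ⁻¹ᵁ W)).π.app j₀ ≫ t₀) ≫ W.ι =
          (c.π.app i₀ ⁻¹ᵁ (f₀ ⁻¹ᵁ W)).ι ≫ c.π.app i₀ ≫ f₀ := by
        simp [t₀, j₀]
      rw [h2]
      infer_instance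
    exact IsSeparated.of_comp _ W.ι
  obtain ⟨j', hj'⟩ := exists_stage_isSeparated (opensDiagram D i₀ (f₀ ⁻¹ᵁ W))
    (opensCone D c i₀ (f₀ ⁻¹ᵁ W)) (isLimitOpensCone D c hc i₀ (f₀ ⁻¹ᵁ W)) j₀ t₀
  refine ⟨j'.left, fun k φ => ?_⟩
  have hidx : φ.left ≫ j'.hom.left = k.hom := by
    have h := Over.w (φ ≫ j'.hom)
    simpa [j₀] using h
  have h3 : (D.map k.hom ⁻¹ᵁ (f₀ ⁻¹ᵁ W)).ι ≫ D.map k.hom ≫ f₀ =
      ((opensDiagram D i₀ (f₀ ⁻¹ᵁ W)).map φ ≫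
        ((opensDiagram D i₀ (f₀ ⁻¹ᵁ W)).map j'.hom ≫ t₀)) ≫ W.ι := by
    simp only [opensDiagram_map, t₀, Category.assoc, Scheme.Hom.resLE_comp_ι,
      Scheme.Hom.resLE_comp_ι_assoc]
    rw [← hidx, D.map_comp]
    simp [j₀]
  rw [h3]
  infer_instance

include hc in
/-- Relative version over a quasi-separated base. -/
theorem eventually_isSeparated {S : Scheme.{u}} [QuasiSeparatedSpace S]
    [∀ i, CompactSpace (D.obj i)] (t : D ⟶ (Functor.const I).obj S) (i₀ : I)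
    [IsSeparated (c.π.app i₀ ≫ t.app i₀)] :
    ∃ i₁ : I, ∀ (i : I) (_ : i ⟶ i₁), IsSeparated (t.app i) := by
  classical
  let f₀ : D.obj i₀ ⟶ S := t.app i₀
  have hsep0 : IsSeparated (c.π.app i₀ ≫ f₀) := ‹_›
  have hW : ∀ x : D.obj i₀, ∃ W : S.Opens, IsAffineOpen W ∧ f₀ x ∈ W := by
    intro x
    obtain ⟨_, ⟨W, hW : IsAffineOpen W, rfl⟩, hxW, -⟩ :=
      S.isBasis_affineOpens.exists_subset_of_mem_open (Set.mem_univ (f₀ x)) isOpen_univ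
    exact ⟨W, hW, hxW⟩
  choose W hWaff hxW using hW
  obtain ⟨T, hT⟩ := CompactSpace.elim_nhds_subcover (fun x => (f₀ ⁻¹ᵁ W x : Set (D.obj i₀)))
    (fun x => (f₀ ⁻¹ᵁ W x).2.mem_nhds (hxW x))
  have hqc : QuasiCompact f₀ := quasiCompact_of_compactSpace f₀
  have hcomp : ∀ x, IsCompact (X := D.obj i₀) (f₀ ⁻¹ᵁ W x) := fun x =>
    QuasiCompact.isCompact_preimage _ (W x).2 (hWaff x).isCompact
  choose jj hjj using fun x =>
    exists_stage_isSeparated_restrict D c hc (W x) (hWaff x) i₀ f₀ (hcomp x)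
  obtain ⟨j, hj⟩ := IsCofiltered.inf_objs_exists (T.image jj)
  refine ⟨j.left, fun i ψ => ?_⟩
  let k : Over i₀ := Over.mk (ψ ≫ j.hom)
  let ψ' : k ⟶ j := Over.homMk ψ
  have ht : t.app i = D.map k.hom ≫ f₀ := by
    have h := t.naturality (ψ ≫ j.hom)
    dsimp at h
    rw [Category.comp_id] at h
    exact h.symm
  rw [ht]
  have : MorphismProperty.RespectsRight @IsSeparated @IsOpenImmersion :=
    ⟨fun i hi f hf => by
      have : IsOpenImmersion i := hi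
      have : IsSeparated f := hf
      exact (inferInstance : IsSeparated (f ≫ i))⟩
  refine IsZariskiLocalAtTarget.of_forall_source_exists_preimage (P := @IsSeparated) _ ?_
  intro y
  have hy : (D.map k.hom) y ∈ (⊤ : Set (D.obj i₀)) := trivial
  rw [← hT] at hy
  obtain ⟨x, hxT, hyx⟩ := Set.mem_iUnion₂.mp hy
  refine ⟨W x, hyx, ?_⟩
  have φ : j ⟶ jj x := (hj (Finset.mem_image_of_mem _ hxT)).some
  exact hjj x k (ψ' ≫ φ)

end Groth.Agent.Lib.helper11.LimSep
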