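import Groth.Agent.Lib.helper11.Spectral
import Mathlib.Topology.Constructible

/-!
Constructible subsets of a spectral space are exactly the clopens of the constructible topology.
-/

set_option autoImplicit false
universe u

namespace Groth.Agent.Lib.helper11.Spec

open Topology Set

variable {X : Type u} [TopologicalSpace X]

theorem isClopen_constr_of_isConstructible [CompactSpace X] [QuasiSeparatedSpace X] {s : Set X}
    (hs : IsConstructible s) :
    IsClosed[constructibleTopology X] s ∧ IsOpen[constructibleTopology X] s := by
  induction hs using IsConstructible.empty_union_induction with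
  | open_retrocompact U hUopen hUcomp =>
    have hc : IsCompact U := hUcomp.isCompact
    exact ⟨isClosed_constr_of_isCompact_isOpen hc hUopen, isOpen_constr_of_isCompact_isOpen hc hUopen⟩
  | union s hs t ht hs' ht' =>
    exact ⟨@IsClosed.union X s t (constructibleTopology X) hs'.1 ht'.1,
      @IsOpen.union X s t (constructibleTopology X) hs'.2 ht'.2⟩
  | compl s hs hs' =>
    exact ⟨(@isClosed_compl_iff X (constructibleTopology X) s).mpr hs'.2,
      (@isOpen_compl_iff X s (constructibleTopology X)).mpr hs'.1⟩

theorem isClosed_constr_of_isConstructible [CompactSpace X] [QuasiSeparatedSpace X] {s : Set X}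
    (hs : IsConstructible s) : IsClosed[constructibleTopology X] s :=
  (isClopen_constr_of_isConstructible hs).1

theorem isOpen_constr_of_isConstructible [CompactSpace X] [QuasiSeparatedSpace X] {s : Set X}
    (hs : IsConstructible s) : IsOpen[constructibleTopology X] s :=
  (isClopen_constr_of_isConstructible hs).2

theorem isConstructible_of_mem_subbasis [QuasiSeparatedSpace X] {s : Set X}
    (hs : s ∈ constructibleTopologySubbasis X) : IsConstructible s := by
  rcases hs with ⟨ho, hc⟩ | ⟨hcl, hc⟩
  · exact hc.isConstructible ho
  · have := (hc.isConstructible hcl.isOpen_compl).compl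
    rwa [compl_compl] at this

/-- In a spectral space, a set which is both open and closed for the constructible topology is
constructible. -/
theorem isConstructible_of_isClopen_constr [SpectralSpace X] {s : Set X}
    (hcl : IsClosed[constructibleTopology X] s) (ho : IsOpen[constructibleTopology X] s) :
    IsConstructible s := by
  have hB := @TopologicalSpace.isTopologicalBasis_of_subbasis X (constructibleTopology X)
    (constructibleTopologySubbasis X) rfl
  have hcomp : @IsCompact X (constructibleTopology X) s := isCompact_constr_of_isClosed_constr hcl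
  -- the property of being contained in a constructible subset of `s`
  have key : ∃ t : Set X, IsConstructible t ∧ s ⊆ t ∧ t ⊆ s := by
    refine @IsCompact.induction_on X (constructibleTopology X) s hcomp
      (fun u => ∃ t : Set X, IsConstructible t ∧ u ⊆ t ∧ t ⊆ s)
      ⟨∅, .empty, subset_rfl, empty_subset _⟩ ?_ ?_ ?_
    · rintro u v huv ⟨t, ht, hvt, hts⟩
      exact ⟨t, ht, huv.trans hvt, hts⟩
    · rintro u v ⟨t, ht, hut, hts⟩ ⟨t', ht', hvt', ht's⟩
      exact ⟨t ∪ t', ht.union ht', union_subset_union hut hvt', union_subset hts ht's⟩
    · intro x hx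
      obtain ⟨b, ⟨F, ⟨hFfin, hFsub⟩, rfl⟩, hxb, hbs⟩ :=
        (@TopologicalSpace.IsTopologicalBasis.exists_subset_of_mem_open X (constructibleTopology X)
          _ hB x s hx ho)
      have hbc : IsConstructible (⋂₀ F) :=
        IsConstructible.sInter hFfin fun u hu => isConstructible_of_mem_subbasis (hFsub hu)
      have hbo : IsOpen[constructibleTopology X] (⋂₀ F) := isOpen_constr_of_isConstructible hbc
      refine ⟨⋂₀ F, ?_, ⋂₀ F, hbc, subset_rfl, hbs⟩
      exact @mem_nhdsWithin_of_mem_nhds X (constructibleTopology X) _ _ _
        (@IsOpen.mem_nhds X (constructibleTopology X) _ _ hbo hxb)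
  obtain ⟨t, ht, hst, hts⟩ := key
  rwa [Subset.antisymm hst hts]

end Groth.Agent.Lib.helper11.Spec
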