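import Mathlib
import Groth.Agent.Lib.helper7.Lim8h

/-!
# Maximal points in cofiltered limits of schemes (EGA IV 8.4.?) — helper11 library
-/

set_option autoImplicit false
universe u

namespace Groth.Agent.Lib.helper11.MaxPts

open Topology Set TopologicalSpace CategoryTheory CategoryTheory.Limits AlgebraicGeometry

/-- A point with no proper generization. -/
def IsMax {X : Type*} [TopologicalSpace X] (s : X) : Prop := ∀ z : X, z ⤳ s → z = s

theorem exists_maximal_generization {X : Type*} [TopologicalSpace X] [QuasiSober X] [T0Space X]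
    (t : X) : ∃ η : X, IsMax η ∧ η ⤳ t := by
  let Z := irreducibleComponent t
  have hZ : Z ∈ irreducibleComponents X := irreducibleComponent_mem_irreducibleComponents t
  have hZirr : IsIrreducible Z := hZ.1
  have hZcl : IsClosed Z := isClosed_of_mem_irreducibleComponents Z hZ
  have hη := hZirr.isGenericPoint_genericPoint hZcl
  refine ⟨hZirr.genericPoint, ?_, hη.specializes mem_irreducibleComponent⟩
  intro z hz
  have h1 : Z ⊆ closure {z} := by
    rw [← hη.def]
    exact specializes_iff_closure_subset.mp hz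
  have h2 : IsIrreducible (closure {z}) := isIrreducible_singleton.closure
  have h3 : closure {z} ⊆ Z := hZ.2 h2 h1
  have h4 : IsGenericPoint z Z := subset_antisymm h3 h1
  exact h4.eq hη

theorem dense_of_max_subset {X : Type*} [TopologicalSpace X] [QuasiSober X] [T0Space X]
    (V : Set X) (hV : ∀ η : X, IsMax η → η ∈ V) : Dense V := by
  rw [dense_iff_inter_open]
  intro O hO ⟨t, ht⟩
  obtain ⟨η, hη, hηt⟩ := exists_maximal_generization t
  exact ⟨η, hηt.mem_open hO ht, hV η hη⟩

theorem max_mem_of_dense {X : Type*} [TopologicalSpace X] [QuasiSober X] [T0Space X]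
    (hfin : {s : X | IsMax s}.Finite) (V : Set X) (hVo : IsOpen V) (hV : Dense V)
    (η : X) (hη : IsMax η) : η ∈ V := by
  let C : Set X := ⋃ m ∈ {m : X | IsMax m ∧ m ≠ η}, closure {m}
  have hC : IsClosed C := (hfin.subset (fun m hm => hm.1)).isClosed_biUnion
    (fun m _ => isClosed_closure)
  have hηC : η ∉ C := by
    intro h
    obtain ⟨m, hm, hηm⟩ := Set.mem_iUnion₂.mp h
    exact hm.2 (hη m (specializes_iff_mem_closure.mpr hηm))
  obtain ⟨t, htC, htV⟩ := (dense_iff_inter_open.mp hV) Cᶜ hC.isOpen_compl ⟨η, hηC⟩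
  obtain ⟨m, hm, hmt⟩ := exists_maximal_generization t
  have : m = η := by
    by_contra hne
    exact htC (Set.mem_iUnion₂.mpr ⟨m, ⟨hm, hne⟩, specializes_iff_mem_closure.mp hmt⟩)
  subst this
  exact hmt.mem_open hVo htV

variable {I : Type u} [SmallCategory I] [IsCofiltered I] (D : I ⥤ Scheme.{u}) (c : Cone D)
  (hc : IsLimit c) [∀ {i j : I} (f : i ⟶ j), IsAffineHom (D.map f)]

include hc in
theorem isMax_of_forall (s : c.pt) (h : ∀ i, IsMax (c.π.app i s)) : IsMax s := by
  intro z hz
  refine Groth.Agent.Lib.helper7.Lim8.eq_of_forall_π_app_eq D c hc (fun i => ?_)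
  exact h i _ (hz.map (c.π.app i).continuous)

include hc in
theorem specializes_of_forall (z s : c.pt) (h : ∀ i, c.π.app i z ⤳ c.π.app i s) : z ⤳ s := by
  obtain ⟨i₀⟩ := IsCofiltered.nonempty (C := I)
  rw [specializes_iff_forall_open]
  intro u hu hs
  obtain ⟨k, _, V, hsV, hVu⟩ := Groth.Agent.Lib.helper7.Lim8.exists_basic_open_over D c hc i₀ hu hs
  exact hVu ((h k).mem_open V.2 hsV)

include hc in
/-- A compatible system of nonempty sets of maximal points gives a point of the limit. -/
theorem exists_point (hfin : ∀ i : I, {s : D.obj i | IsMax s}.Finite)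
    (hsys : ∀ (i j : I) (g : i ⟶ j) (s : D.obj i), IsMax s → IsMax (D.map g s))
    (P : ∀ i, Set (D.obj i))
    (hP : ∀ (i j : I) (g : i ⟶ j) (m : D.obj i), IsMax m → m ∈ P i → D.map g m ∈ P j)
    (hne : ∀ i, ∃ m : D.obj i, IsMax m ∧ m ∈ P i) :
    ∃ s : c.pt, ∀ i, IsMax (c.π.app i s) ∧ c.π.app i s ∈ P i := by
  let F : I ⥤ Type u :=
    { obj := fun i => {m : D.obj i // IsMax m ∧ m ∈ P i}
      map := fun {i j} g => TypeCat.ofHom (fun m =>
        ⟨D.map g m.1, hsys i j g m.1 m.2.1, hP i j g m.1 m.2.1 m.2.2⟩)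
      map_id := by
        intro i
        ext m
        show D.map (𝟙 i) m.1 = m.1
        rw [D.map_id]; rfl
      map_comp := by
        intro i j k f g
        ext m
        show D.map (f ≫ g) m.1 = D.map g (D.map f m.1)
        rw [D.map_comp]; rfl }
  have : ∀ i, Finite (F.obj i) := fun i =>
    ((hfin i).subset (fun m hm => hm.1)).to_subtype
  have : ∀ i, Nonempty (F.obj i) := fun i => by
    obtain ⟨m, hm1, hm2⟩ := hne i
    exact ⟨⟨m, hm1, hm2⟩⟩
  obtain ⟨sec, hsec⟩ := nonempty_sections_of_finite_cofiltered_system F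
  obtain ⟨s, hs⟩ := Groth.Agent.Lib.helper7.Lim8.exists_forall_π_app_eq D c hc
    (fun i => (sec i).1) (fun i j f => congrArg Subtype.val (hsec f))
  exact ⟨s, fun i => by rw [hs i]; exact (sec i).2⟩

include hc in
theorem isMax_π (hfin : ∀ i : I, {s : D.obj i | IsMax s}.Finite)
    (hsys : ∀ (i j : I) (g : i ⟶ j) (s : D.obj i), IsMax s → IsMax (D.map g s))
    (s : c.pt) (hs : IsMax s) (i : I) : IsMax (c.π.app i s) := by
  obtain ⟨z, hz⟩ := exists_point D c hc hfin hsys (fun i => {m | m ⤳ c.π.app i s})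
    (fun i j g m _ hm => by
      have := hm.map (D.map g).continuous
      rwa [Groth.Agent.Lib.helper7.Lim8.π_app_apply] at this)
    (fun i => exists_maximal_generization (c.π.app i s))
  have hzs : z = s := hs z (specializes_of_forall D c hc z s (fun i => (hz i).2))
  rw [← hzs]
  exact (hz i).1

end Groth.Agent.Lib.helper11.MaxPts
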