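import Groth.Prelude.Def_MeroDiv

set_option autoImplicit false
universe u
open CategoryTheory AlgebraicGeometry TopologicalSpace Opposite

namespace Groth.Agent.Lib.helper11.MeroBasic

theorem lmk_eq_mk {R : Type u} [CommRing R] {S : Submonoid R} (a : R) (b : S) :
    (LocalizedModule.mk a b : Localization S) = Localization.mk a b := rfl

theorem mk_eq_algebraMap_iff {R : Type u} [CommRing R] {S : Submonoid R}
    (hS : S ≤ nonZeroDivisors R) (a r : R) (b : S) :
    (LocalizedModule.mk a b : Localization S) = algebraMap R (Localization S) r ↔ a = r * b := by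
  rw [lmk_eq_mk, Localization.mk_eq_mk'_apply, IsLocalization.mk'_eq_iff_eq_mul, ← map_mul]
  exact (IsLocalization.injective (Localization S) hS).eq_iff

theorem mk_eq_mk_iff {R : Type u} [CommRing R] {S : Submonoid R}
    (hS : S ≤ nonZeroDivisors R) (a a' : R) (b b' : S) :
    (LocalizedModule.mk a b : Localization S) = LocalizedModule.mk a' b' ↔ a * b' = a' * b := by
  rw [lmk_eq_mk, lmk_eq_mk, Localization.mk_eq_mk'_apply, Localization.mk_eq_mk'_apply,
    IsLocalization.mk'_eq_iff_eq]
  have hinj := IsLocalization.injective (Localization S) hS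
  constructor
  · intro h
    have := hinj h
    rw [mul_comm, this, mul_comm]
  · intro h
    congr 1
    rw [mul_comm, h, mul_comm]

end Groth.Agent.Lib.helper11.MeroBasic
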