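import Mathlib
import Groth.Prelude.Def_MeroDiv
import Groth.Agent.Lib.helper11.MeroBasic

set_option autoImplicit false
universe u
open CategoryTheory AlgebraicGeometry TopologicalSpace Opposite

namespace Groth.Agent.Lib.helper11.MeroPseudo

/-- In a Noetherian ring, or a reduced ring with finitely many minimal primes, an ideal with
trivial annihilator contains a nonzerodivisor. -/
theorem exists_nzd_mem_of_ann_eq_bot {A : Type u} [CommRing A]
    (hA : IsNoetherianRing A ∨ (IsReduced A ∧ (minimalPrimes A).Finite))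
    (I : Ideal A) (hI : ∀ a : A, (∀ b ∈ I, a * b = 0) → a = 0) :
    ∃ b ∈ I, b ∈ nonZeroDivisors A := by
  classical
  by_contra hcon
  push_neg at hcon
  rcases hA with hN | ⟨hR, hfin⟩
  · have hsub : (I : Set A) ⊆ ⋃ p ∈ ((associatedPrimes.finite A A).toFinset : Set (Ideal A)),
        ((fun q : Ideal A => q) p : Set A) := by
      intro b hb
      have h1 : b ∈ (nonZeroDivisors A : Set A)ᶜ := hcon b hb
      rw [← biUnion_associatedPrimes_eq_compl_nonZeroDivisors] at h1
      simpa using h1
    rw [Ideal.subset_union_prime (⊥ : Ideal A) ⊥] at hsub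
    · obtain ⟨p, hp, hIp⟩ := hsub
      rw [Set.Finite.mem_toFinset] at hp
      obtain ⟨hpp, x, hx⟩ := (isAssociatedPrime_iff (I := p) (M := A)).mp hp
      have hx0 : x = 0 := by
        apply hI
        intro b hb
        have : b ∈ Submodule.colon (⊥ : Submodule A A) {x} := hx ▸ hIp hb
        rw [Submodule.mem_colon_singleton] at this
        rw [mul_comm]
        simpa using this
      apply hpp.ne_top
      rw [hx, hx0]
      ext r
      simp [Submodule.mem_colon_singleton]
    · intro p hp _ _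
      rw [Set.Finite.mem_toFinset] at hp
      exact hp.1
  · -- reduced case
    have hnil : ∀ c : A, (∀ q ∈ minimalPrimes A, c ∈ q) → c = 0 := by
      intro c hc
      have h1 : c ∈ sInf (minimalPrimes A) := by
        rw [Submodule.mem_sInf]
        exact hc
      rw [minimalPrimes, Ideal.sInf_minimalPrimes] at h1
      have h2 : c ∈ nilradical A := h1
      rw [nilradical_eq_zero] at h2
      simpa using h2
    have hsub : (I : Set A) ⊆ ⋃ p ∈ (hfin.toFinset : Set (Ideal A)),
        ((fun q : Ideal A => q) p : Set A) := by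
      intro b hb
      have h1 : b ∉ nonZeroDivisors A := hcon b hb
      rw [mem_nonZeroDivisors_iff_right] at h1
      push_neg at h1
      obtain ⟨c, hcb, hc0⟩ := h1
      have h2 : ¬ ∀ q ∈ minimalPrimes A, c ∈ q := fun h => hc0 (hnil c h)
      push_neg at h2
      obtain ⟨q, hq, hcq⟩ := h2
      have hbq : b ∈ q := by
        have : c * b ∈ q := by rw [hcb]; exact q.zero_mem
        exact (hq.1.1.mem_or_mem this).resolve_left hcq
      simp only [Set.mem_iUnion, Finset.mem_coe, Set.Finite.mem_toFinset]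
      exact ⟨q, hq, hbq⟩
    rw [Ideal.subset_union_prime (⊥ : Ideal A) ⊥] at hsub
    · obtain ⟨p, hp, hIp⟩ := hsub
      rw [Set.Finite.mem_toFinset] at hp
      have hpp : p.IsPrime := hp.1.1
      have hJ : ((hfin.toFinset.erase p).inf fun q : Ideal A => q) ≤ p := by
        intro a ha
        rw [Submodule.mem_finsetInf] at ha
        have ha0 : a = 0 := by
          apply hI
          intro b hb
          apply hnil
          intro q hq
          by_cases hqp : q = p
          · rw [hqp]
            exact p.mul_mem_left _ (hIp hb)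
          · exact q.mul_mem_right _ (ha q (by
              rw [Finset.mem_erase, Set.Finite.mem_toFinset]; exact ⟨hqp, hq⟩))
        rw [ha0]
        exact p.zero_mem
      rw [hpp.inf_le'] at hJ
      obtain ⟨q, hq, hqp⟩ := hJ
      rw [Finset.mem_erase, Set.Finite.mem_toFinset] at hq
      have hq' : q ∈ (⊥ : Ideal A).minimalPrimes := hq.2
      have : p ≤ q := hp.2 ⟨hq'.1.1, bot_le⟩ hqp
      exact hq.1 (le_antisymm hqp this)
    · intro p hp _ _
      rw [Set.Finite.mem_toFinset] at hp
      exact hp.1.1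


theorem germ_flat {X : Scheme.{u}} {W : X.Opens} (hW : IsAffineOpen W) (y : X) (hy : y ∈ W) :
    (X.presheaf.germ W y hy).hom.Flat := by
  letI := X.presheaf.algebra_section_stalk ⟨y, hy⟩
  haveI := hW.isLocalization_stalk ⟨y, hy⟩
  have : Module.Flat Γ(X, W) (X.presheaf.stalk y) :=
    IsLocalization.flat _ (hW.primeIdealOf ⟨y, hy⟩).asIdeal.primeCompl
  rw [← RingHom.flat_algebraMap_iff] at this
  exact this

theorem map_mem_nonZeroDivisors_of_flat {A B : Type*} [CommRing A] [CommRing B] (φ : A →+* B)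
    (hφ : φ.Flat) (t : A) (ht : t ∈ nonZeroDivisors A) : φ t ∈ nonZeroDivisors B := by
  letI := φ.toAlgebra
  haveI : Module.Flat A B := hφ
  have h1 : IsSMulRegular A t := by
    intro a b hab
    simp only [smul_eq_mul] at hab
    have : t * (a - b) = 0 := by rw [mul_sub, hab, sub_self]
    exact sub_eq_zero.mp ((mul_left_mem_nonZeroDivisors_eq_zero_iff ht).mp this)
  have h2 : IsSMulRegular B t := h1.of_flat
  rw [mem_nonZeroDivisors_iff_right]
  intro b hb
  apply h2
  simp only [smul_zero]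
  rw [Algebra.smul_def, mul_comm]
  exact hb

theorem mem_regSub_of_mem_nonZeroDivisors {X : Scheme.{u}} {W : X.Opens} (hW : IsAffineOpen W)
    (b : Γ(X, W)) (hb : b ∈ nonZeroDivisors Γ(X, W)) : b ∈ Mero.regSub X W := by
  intro y
  exact map_mem_nonZeroDivisors_of_flat _ (germ_flat hW y.1 y.2) b hb

theorem exists_reg_basicOpen_le {X : Scheme.{u}} {W : X.Opens} (hW : IsAffineOpen W)
    (hA : IsNoetherianRing Γ(X, W) ∨ (IsReduced Γ(X, W) ∧ (minimalPrimes Γ(X, W)).Finite))
    (O : X.Opens) (hOW : O ≤ W)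
    (hinj : Function.Injective (X.presheaf.map (homOfLE hOW).op)) :
    ∃ b : Γ(X, W), b ∈ nonZeroDivisors Γ(X, W) ∧ X.basicOpen b ≤ O := by
  let I : Ideal Γ(X, W) :=
    { carrier := {b | X.basicOpen b ≤ O}
      add_mem' := fun {a b} ha hb => (X.basicOpen_add_le a b).trans (sup_le ha hb)
      zero_mem' := by simp
      smul_mem' := fun c {b} hb => by
        change X.basicOpen (c * b) ≤ O
        rw [X.basicOpen_mul]; exact inf_le_right.trans hb }
  obtain ⟨b, hbI, hb⟩ := exists_nzd_mem_of_ann_eq_bot hA I (by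
    intro a ha
    apply hinj
    rw [map_zero]
    refine TopCat.Presheaf.section_ext X.sheaf O _ _ (fun y hyO => ?_)
    change X.presheaf.germ O y hyO _ = X.presheaf.germ O y hyO 0
    rw [map_zero]
    obtain ⟨b, hbO, hyb⟩ := hW.exists_basicOpen_le ⟨y, hyO⟩ (hOW hyO)
    have h1 := congrArg (X.presheaf.germ W y (hOW hyO)) (ha b hbO)
    rw [map_mul, map_zero] at h1
    have hu : IsUnit (X.presheaf.germ W y (hOW hyO) b) := (X.mem_basicOpen _ y (hOW hyO)).mp hyb
    have h2 := hu.mul_left_eq_zero.mp h1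
    have h3 := TopCat.Presheaf.germ_res_apply X.presheaf (homOfLE hOW) y hyO a
    exact h3.trans h2)
  exact ⟨b, hb, hbI⟩


theorem exists_local_fraction {X : Scheme.{u}} {W V : X.Opens} (hW : IsAffineOpen W)
    (hA : IsNoetherianRing Γ(X, W) ∨ (IsReduced Γ(X, W) ∧ (minimalPrimes Γ(X, W)).Finite))
    (hinj : Function.Injective (X.presheaf.map (homOfLE (inf_le_left : W ⊓ V ≤ W)).op))
    (g : Γ(X, V)) :
    ∃ (m : Γ(X, W)) (b : Mero.regSub X W), ∀ (y : X) (hyW : y ∈ W) (hyV : y ∈ V),
      X.presheaf.germ W y hyW m = X.presheaf.germ V y hyV g * X.presheaf.germ W y hyW b.1 := by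
  obtain ⟨b, hb, hbO⟩ := exists_reg_basicOpen_le hW hA (W ⊓ V) inf_le_left hinj
  have hbV : X.basicOpen b ≤ V := hbO.trans inf_le_right
  have hbreg : b ∈ Mero.regSub X W := mem_regSub_of_mem_nonZeroDivisors hW b hb
  haveI := hW.isLocalization_basicOpen b
  obtain ⟨n, m, hm⟩ := IsLocalization.Away.surj b (X.presheaf.map (homOfLE hbV).op g)
  have hbn : b ^ n ∈ Mero.regSub X W := pow_mem hbreg n
  refine ⟨m, ⟨b ^ n, hbn⟩, ?_⟩
  have hE : ∀ (z : X) (hz : z ∈ X.basicOpen b),
      X.presheaf.germ W z (X.basicOpen_le b hz) m =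
        X.presheaf.germ V z (hbV hz) g * X.presheaf.germ W z (X.basicOpen_le b hz) (b ^ n) := by
    intro z hz
    have h1 := congrArg (X.presheaf.germ (X.basicOpen b) z hz) hm
    rw [map_mul, map_pow] at h1
    have e1 : ∀ a : Γ(X, W), X.presheaf.germ (X.basicOpen b) z hz
        (algebraMap Γ(X, W) Γ(X, X.basicOpen b) a) = X.presheaf.germ W z (X.basicOpen_le b hz) a :=
      fun a => TopCat.Presheaf.germ_res_apply X.presheaf (homOfLE (X.basicOpen_le b)) z hz a
    rw [e1, e1, TopCat.Presheaf.germ_res_apply] at h1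
    rw [map_pow]
    exact h1.symm
  intro y hyW hyV
  obtain ⟨O', hO', hyO', hO'le⟩ := Opens.isBasis_iff_nbhd.mp X.isBasis_affineOpens
    (show y ∈ W ⊓ V from ⟨hyW, hyV⟩)
  have hO'W : O' ≤ W := hO'le.trans inf_le_left
  have hO'V : O' ≤ V := hO'le.trans inf_le_right
  have hres : X.presheaf.map (homOfLE (X.basicOpen_le (X.presheaf.map (homOfLE hO'W).op b))).op
      (X.presheaf.map (homOfLE hO'W).op m -
        X.presheaf.map (homOfLE hO'V).op g * X.presheaf.map (homOfLE hO'W).op (b ^ n)) = 0 := by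
    refine TopCat.Presheaf.section_ext X.sheaf _ _ _ (fun z hz => ?_)
    change X.presheaf.germ _ z hz _ = X.presheaf.germ _ z hz 0
    have hz' : z ∈ X.basicOpen b := by
      have := hz
      rw [X.basicOpen_res] at this
      exact this.2
    rw [map_zero, TopCat.Presheaf.germ_res_apply, map_sub, map_mul,
      TopCat.Presheaf.germ_res_apply, TopCat.Presheaf.germ_res_apply,
      TopCat.Presheaf.germ_res_apply, hE z hz', sub_self]
  obtain ⟨k, hk⟩ := exists_pow_mul_eq_zero_of_res_basicOpen_eq_zero_of_isAffineOpen X hO' _ _ hres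
  have h4 := congrArg (X.presheaf.germ O' y hyO') hk
  rw [map_mul, map_pow, map_zero, map_sub, map_mul,
      TopCat.Presheaf.germ_res_apply, TopCat.Presheaf.germ_res_apply,
      TopCat.Presheaf.germ_res_apply, TopCat.Presheaf.germ_res_apply] at h4
  have h5 : X.presheaf.germ W y hyW b ^ k ∈ nonZeroDivisors (X.presheaf.stalk y) :=
    pow_mem (hbreg ⟨y, hyW⟩) k
  exact sub_eq_zero.mp ((mul_left_mem_nonZeroDivisors_eq_zero_iff h5).mp h4)


theorem finite_minimalPrimes_of_finite_irreducibleComponents {X : Scheme.{u}} {W : X.Opens}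
    (hW : IsAffineOpen W)
    (hfin : {Z : Set X | Z ∈ irreducibleComponents X ∧ (Z ∩ (W : Set X)).Nonempty}.Finite) :
    (minimalPrimes Γ(X, W)).Finite := by
  rw [← PrimeSpectrum.vanishingIdeal_irreducibleComponents]
  apply Set.Finite.image
  let φ : PrimeSpectrum Γ(X, W) → X := fun p => hW.fromSpec p
  have hφ : Topology.IsOpenEmbedding φ := hW.fromSpec.isOpenEmbedding
  have hrange : Set.range φ = (W : Set X) := hW.range_fromSpec
  refine (hfin.image (fun Z => φ ⁻¹' Z)).subset ?_
  intro T hT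
  have hirr : IsIrreducible (φ '' T) := hT.1.image φ hφ.continuous.continuousOn
  obtain ⟨Z, hZpre, hTZ, hZmax⟩ := exists_preirreducible (φ '' T) hirr.isPreirreducible
  have hZirr : IsIrreducible Z := ⟨hirr.nonempty.mono hTZ, hZpre⟩
  have hZcomp : Z ∈ irreducibleComponents X := by
    refine ⟨hZirr, fun u hu hZu => ?_⟩
    exact (hZmax u hu.isPreirreducible hZu).le
  obtain ⟨t, ht⟩ := hT.1.nonempty
  have hne : (Z ∩ (W : Set X)).Nonempty :=
    ⟨φ t, hTZ ⟨t, ht, rfl⟩, hrange ▸ Set.mem_range_self t⟩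
  refine ⟨Z, ⟨hZcomp, hne⟩, ?_⟩
  have hsub : T ⊆ φ ⁻¹' Z := fun s hs => hTZ ⟨s, hs, rfl⟩
  have hpre : IsIrreducible (φ ⁻¹' Z) := ⟨⟨t, hsub ht⟩, hZpre.preimage hφ⟩
  exact le_antisymm (hT.2 hpre hsub) hsub

end Groth.Agent.Lib.helper11.MeroPseudo
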