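import Mathlib
import Groth.Prelude.Def_MeroDiv
import Groth.Agent.Lib.helper11.MeroBasic
import Groth.Agent.Lib.helper11.MeroPseudo

set_option autoImplicit false
universe u
open CategoryTheory AlgebraicGeometry TopologicalSpace Opposite

namespace Groth.Agent.Lib.helper11.MeroFrac

open Mero Groth.Agent.Lib.helper11.MeroBasic Groth.Agent.Lib.helper11.MeroPseudo

variable {X : Scheme.{u}}

/-- local presentation of a section of `K_X` over `U` as a fraction. -/
theorem exists_local_frac {U : X.Opens} (s : Γ(kmod X, U)) (x : X) (hx : x ∈ U) :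
    ∃ (V : X.Opens) (_ : x ∈ V) (_ : V ≤ U) (a : Γ(X, V)) (b : regSub X V),
      ∀ (y : X) (hyV : y ∈ V) (hyU : y ∈ U), s.1 ⟨y, hyU⟩ =
        LocalizedModule.mk (X.presheaf.germ V y hyV a) (regGerm ⟨y, hyV⟩ b) := by
  obtain ⟨V, hxV, i, a, b, hab⟩ := s.2 ⟨x, hx⟩
  exact ⟨V, hxV, i.le, a, b, fun y hyV hyU => hab ⟨y, hyV⟩⟩

/-- If `s_x` lies in the image of `O_x`, then `s` is a function near `x`. -/
theorem exists_nhd_eq_germ {U : X.Opens} (s : Γ(kmod X, U)) (x : X) (hx : x ∈ U)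
    (h : s.1 ⟨x, hx⟩ ∈ (algebraMap (X.presheaf.stalk x) (KStalk X x)).range) :
    ∃ (W : X.Opens) (_ : x ∈ W) (_ : W ≤ U) (r : Γ(X, W)),
      ∀ (y : X) (hyW : y ∈ W) (hyU : y ∈ U),
        s.1 ⟨y, hyU⟩ = algebraMap _ (KStalk X y) (X.presheaf.germ W y hyW r) := by
  obtain ⟨r0, hr0⟩ := h
  obtain ⟨W, hxW, r, rfl⟩ := X.presheaf.exists_germ_eq r0
  obtain ⟨V, hxV, hVU, a, b, hab⟩ := exists_local_frac s x hx
  have h1 := hab x hxV hx
  rw [← hr0] at h1
  have h1' := h1.symm
  rw [mk_eq_algebraMap_iff (regStalk_le_nonZeroDivisors x)] at h1'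
  have h2 : X.presheaf.germ (V ⊓ W) x ⟨hxV, hxW⟩ (X.presheaf.map (homOfLE inf_le_left).op a) =
      X.presheaf.germ (V ⊓ W) x ⟨hxV, hxW⟩ (X.presheaf.map (homOfLE inf_le_right).op r *
        X.presheaf.map (homOfLE inf_le_left).op b.1) := by
    rw [map_mul, TopCat.Presheaf.germ_res_apply, TopCat.Presheaf.germ_res_apply,
      TopCat.Presheaf.germ_res_apply]
    exact h1'
  obtain ⟨W', hxW', i1, i2, heq⟩ := X.presheaf.germ_eq x _ _ _ _ h2
  refine ⟨W', hxW', i1.le.trans (inf_le_left.trans hVU),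
    X.presheaf.map (i1 ≫ homOfLE inf_le_right).op r, ?_⟩
  intro y hy hyU
  have hyV : y ∈ V := (i1.le hy).1
  have hyW : y ∈ W := (i1.le hy).2
  rw [hab y hyV hyU, mk_eq_algebraMap_iff (regStalk_le_nonZeroDivisors y)]
  have h3 := congrArg (X.presheaf.germ W' y hy) heq
  rw [TopCat.Presheaf.germ_res_apply, TopCat.Presheaf.germ_res_apply,
    TopCat.Presheaf.germ_res_apply, map_mul, TopCat.Presheaf.germ_res_apply,
    TopCat.Presheaf.germ_res_apply] at h3
  rw [TopCat.Presheaf.germ_res_apply]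
  exact h3

/-- Two sections of `K_X` over `U` which agree on `D(b)`, `b` regular, are equal. -/
theorem eq_of_forall_basicOpen {U : X.Opens} (b : Γ(X, U)) (hb : b ∈ regSub X U)
    (t t' : Γ(kmod X, U))
    (h : ∀ (z : X) (hz : z ∈ X.basicOpen b),
      t.1 ⟨z, X.basicOpen_le b hz⟩ = t'.1 ⟨z, X.basicOpen_le b hz⟩) : t = t' := by
  apply Subtype.ext
  funext y
  obtain ⟨V1, hyV1, hV1U, a1, b1, hab1⟩ := exists_local_frac t y.1 y.2
  obtain ⟨V2, hyV2, hV2U, a2, b2, hab2⟩ := exists_local_frac t' y.1 y.2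
  obtain ⟨W, hW, hyW, hWle⟩ := Opens.isBasis_iff_nbhd.mp X.isBasis_affineOpens
    (show y.1 ∈ V1 ⊓ V2 from ⟨hyV1, hyV2⟩)
  have hW1 : W ≤ V1 := hWle.trans inf_le_left
  have hW2 : W ≤ V2 := hWle.trans inf_le_right
  have hWU : W ≤ U := hW1.trans hV1U
  have hres : X.presheaf.map (homOfLE (X.basicOpen_le (X.presheaf.map (homOfLE hWU).op b))).op
      (X.presheaf.map (homOfLE hW1).op a1 * X.presheaf.map (homOfLE hW2).op b2.1 -
        X.presheaf.map (homOfLE hW2).op a2 * X.presheaf.map (homOfLE hW1).op b1.1) = 0 := by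
    refine TopCat.Presheaf.section_ext X.sheaf _ _ _ (fun z hz => ?_)
    change X.presheaf.germ _ z hz _ = X.presheaf.germ _ z hz 0
    have hzW : z ∈ W := X.basicOpen_le _ hz
    have hz' : z ∈ X.basicOpen b := by
      have := hz
      rw [X.basicOpen_res] at this
      exact this.2
    have h1 := h z hz'
    rw [hab1 z (hW1 hzW) _, hab2 z (hW2 hzW) _,
      mk_eq_mk_iff (regStalk_le_nonZeroDivisors z)] at h1
    rw [map_zero, TopCat.Presheaf.germ_res_apply, map_sub, map_mul, map_mul,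
      TopCat.Presheaf.germ_res_apply, TopCat.Presheaf.germ_res_apply,
      TopCat.Presheaf.germ_res_apply, TopCat.Presheaf.germ_res_apply]
    exact sub_eq_zero.mpr h1
  obtain ⟨k, hk⟩ := exists_pow_mul_eq_zero_of_res_basicOpen_eq_zero_of_isAffineOpen X hW _ _ hres
  have h4 := congrArg (X.presheaf.germ W y.1 hyW) hk
  rw [map_mul, map_pow, map_zero, map_sub, map_mul, map_mul,
      TopCat.Presheaf.germ_res_apply, TopCat.Presheaf.germ_res_apply,
      TopCat.Presheaf.germ_res_apply, TopCat.Presheaf.germ_res_apply,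
      TopCat.Presheaf.germ_res_apply] at h4
  have h5 : X.presheaf.germ U y.1 y.2 b ^ k ∈ nonZeroDivisors (X.presheaf.stalk y.1) :=
    pow_mem (hb y) k
  have h6 := sub_eq_zero.mp ((mul_left_mem_nonZeroDivisors_eq_zero_iff h5).mp h4)
  rw [hab1 y.1 hyV1 y.2, hab2 y.1 hyV2 y.2, mk_eq_mk_iff (regStalk_le_nonZeroDivisors y.1)]
  exact h6


/-- On an affine open whose ring is Noetherian (or reduced with finitely many minimal primes),
every section of `K_X` is a global fraction with a nonzerodivisor as denominator. -/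
theorem exists_global_frac {U : X.Opens} (hU : IsAffineOpen U)
    (hA : IsNoetherianRing Γ(X, U) ∨ (_root_.IsReduced Γ(X, U) ∧ (minimalPrimes Γ(X, U)).Finite))
    (s : Γ(kmod X, U)) :
    ∃ (a b : Γ(X, U)), b ∈ nonZeroDivisors Γ(X, U) ∧ s * toK X U b = toK X U a := by
  classical
  -- the index set: points of the domain of definition
  let ι := {x : U // s.1 x ∈ (algebraMap (X.presheaf.stalk x.1) (KStalk X x.1)).range}
  have hch : ∀ i : ι, ∃ (W : X.Opens) (_ : i.1.1 ∈ W) (_ : W ≤ U) (r : Γ(X, W)),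
      ∀ (y : X) (hyW : y ∈ W) (hyU : y ∈ U),
        s.1 ⟨y, hyU⟩ = algebraMap _ (KStalk X y) (X.presheaf.germ W y hyW r) :=
    fun i => exists_nhd_eq_germ s i.1.1 i.1.2 i.2
  choose W hxW hWU r hr using hch
  have hOU : iSup W ≤ U := iSup_le hWU
  -- compatibility
  have hcompat : TopCat.Presheaf.IsCompatible X.presheaf W r := by
    intro i j
    refine TopCat.Presheaf.section_ext X.sheaf _ _ _ (fun z hz => ?_)
    change X.presheaf.germ _ z hz _ = X.presheaf.germ _ z hz _
    rw [TopCat.Presheaf.germ_res_apply, TopCat.Presheaf.germ_res_apply]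
    apply algebraMap_KStalk_injective z
    rw [← hr i z hz.1 (hWU i hz.1), ← hr j z hz.2 (hWU i hz.1)]
  obtain ⟨g, hg, -⟩ := X.sheaf.existsUnique_gluing W r hcompat
  have hgz : ∀ (z : X) (hzO : z ∈ iSup W) (hzU : z ∈ U),
      s.1 ⟨z, hzU⟩ = algebraMap _ (KStalk X z) (X.presheaf.germ (iSup W) z hzO g) := by
    intro z hzO hzU
    obtain ⟨i, hzi⟩ := Opens.mem_iSup.mp hzO
    rw [hr i z hzi hzU]
    congr 1
    have := congrArg (X.presheaf.germ (W i) z hzi) (hg i)
    rw [← this]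
    exact (TopCat.Presheaf.germ_res_apply X.presheaf (Opens.leSupr W i) z hzi g)
  -- injectivity of restriction to the domain
  have hinj : Function.Injective (X.presheaf.map (homOfLE hOU).op) := by
    rw [injective_iff_map_eq_zero]
    intro c hc
    refine TopCat.Presheaf.section_ext X.sheaf U c 0 (fun y hyU => ?_)
    change X.presheaf.germ U y hyU c = X.presheaf.germ U y hyU 0
    rw [map_zero]
    obtain ⟨V1, hyV1, hV1U, a1, b1, hab1⟩ := exists_local_frac s y hyU
    obtain ⟨W', hW', hyW', hW'le⟩ := Opens.isBasis_iff_nbhd.mp X.isBasis_affineOpens hyV1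
    have hW'U : W' ≤ U := hW'le.trans hV1U
    have hle : X.basicOpen (X.presheaf.map (homOfLE hW'le).op b1.1) ≤ iSup W := by
      intro z hz
      have hzW' : z ∈ W' := X.basicOpen_le _ hz
      have hu : IsUnit (X.presheaf.germ W' z hzW' (X.presheaf.map (homOfLE hW'le).op b1.1)) :=
        (X.mem_basicOpen _ z hzW').mp hz
      rw [TopCat.Presheaf.germ_res_apply] at hu
      obtain ⟨u, hu⟩ := hu
      have hmem : s.1 ⟨z, hW'U hzW'⟩ ∈
          (algebraMap (X.presheaf.stalk z) (KStalk X z)).range := by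
        refine ⟨X.presheaf.germ V1 z (hW'le hzW') a1 * ↑u⁻¹, ?_⟩
        rw [hab1 z (hW'le hzW') _, eq_comm, mk_eq_algebraMap_iff (regStalk_le_nonZeroDivisors z)]
        change _ = _ * X.presheaf.germ V1 z (hW'le hzW') b1.1
        rw [← hu, mul_assoc, Units.inv_mul, mul_one]
      exact Opens.mem_iSup.mpr ⟨⟨⟨z, hW'U hzW'⟩, hmem⟩, hxW _⟩
    have e : X.presheaf.map (homOfLE (X.basicOpen_le (X.presheaf.map (homOfLE hW'le).op b1.1))).op
        (X.presheaf.map (homOfLE hW'U).op c) = 0 := by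
      have e1 : X.presheaf.map
          (homOfLE (X.basicOpen_le (X.presheaf.map (homOfLE hW'le).op b1.1))).op
          (X.presheaf.map (homOfLE hW'U).op c) = X.presheaf.map (homOfLE hle).op
            (X.presheaf.map (homOfLE hOU).op c) := by
        simp only [← CommRingCat.comp_apply, ← Functor.map_comp]
        rfl
      rw [e1, hc, map_zero]
    obtain ⟨n, hn⟩ := exists_pow_mul_eq_zero_of_res_basicOpen_eq_zero_of_isAffineOpen X hW' _ _ e
    have h4 := congrArg (X.presheaf.germ W' y hyW') hn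
    rw [map_mul, map_pow, map_zero, TopCat.Presheaf.germ_res_apply,
      TopCat.Presheaf.germ_res_apply] at h4
    have h5 : X.presheaf.germ V1 y hyV1 b1.1 ^ n ∈
        nonZeroDivisors (X.presheaf.stalk y) := pow_mem (b1.2 ⟨y, hyV1⟩) n
    exact (mul_left_mem_nonZeroDivisors_eq_zero_iff h5).mp h4
  obtain ⟨b, hb, hbO⟩ := exists_reg_basicOpen_le hU hA (iSup W) hOU hinj
  have hbreg : b ∈ regSub X U := mem_regSub_of_mem_nonZeroDivisors hU b hb
  haveI := hU.isLocalization_basicOpen b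
  obtain ⟨n, a, hm⟩ := IsLocalization.Away.surj b (X.presheaf.map (homOfLE hbO).op g)
  refine ⟨a, b ^ n, pow_mem hb n, ?_⟩
  apply eq_of_forall_basicOpen b hbreg
  intro z hz
  have hzU : z ∈ U := X.basicOpen_le b hz
  have h1 := congrArg (X.presheaf.germ (X.basicOpen b) z hz) hm
  rw [map_mul, map_pow] at h1
  have e1 : ∀ a : Γ(X, U), X.presheaf.germ (X.basicOpen b) z hz
      (algebraMap Γ(X, U) Γ(X, X.basicOpen b) a) = X.presheaf.germ U z hzU a :=
    fun a => TopCat.Presheaf.germ_res_apply X.presheaf (homOfLE (X.basicOpen_le b)) z hz a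
  rw [e1, e1, TopCat.Presheaf.germ_res_apply] at h1
  change s.1 ⟨z, hzU⟩ * LocalizedModule.mk (X.presheaf.germ U z hzU (b ^ n)) 1 =
    LocalizedModule.mk (X.presheaf.germ U z hzU a) 1
  rw [hgz z (hbO hz) hzU, lmk_eq_mk, lmk_eq_mk, Localization.mk_one_eq_algebraMap,
    Localization.mk_one_eq_algebraMap, ← map_mul, map_pow, h1]

end Groth.Agent.Lib.helper11.MeroFrac
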