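import Mathlib
import Groth.Prelude.Def_CAlg
import Groth.Prelude.Def_MeroDiv
import Groth.Agent.Lib.helper11.MeroFrac

set_option autoImplicit false
universe u
open CategoryTheory AlgebraicGeometry TopologicalSpace Opposite

namespace Groth.Agent.Lib.helper11.MeroDepth

open Mero Groth.Agent.Lib.helper11.MeroBasic Groth.Agent.Lib.helper11.MeroPseudo
  Groth.Agent.Lib.helper11.MeroFrac

/-- depth zero for a local ring: no element of the maximal ideal is regular. -/
theorem depth_self_eq_zero_iff (A : Type u) [CommRing A] [IsLocalRing A] :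
    LocCoh.depth A A = 0 ↔ ∀ r ∈ IsLocalRing.maximalIdeal A, ¬ IsSMulRegular A r := by
  classical
  have hne : ¬ (IsLocalRing.maximalIdeal A • (⊤ : Submodule A A) = ⊤) := by
    rw [smul_eq_mul, Ideal.mul_top]
    exact Ideal.IsPrime.ne_top'
  unfold LocCoh.depth LocCoh.idealDepth
  rw [if_neg hne]
  constructor
  · intro h r hr hreg
    have h1 : ((([r] : List A).length : ℕ) : ℕ∞) ≤ 0 := by
      rw [← h]
      exact le_iSup₂_of_le [r] ⟨(RingTheory.Sequence.isWeaklyRegular_singleton_iff A r).mpr hreg,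
        fun s hs => by rw [List.mem_singleton] at hs; rw [hs]; exact hr⟩ le_rfl
    simp at h1
  · intro h
    rw [← bot_eq_zero, iSup_eq_bot]
    intro rs
    rw [iSup_eq_bot]
    rintro ⟨hw, hm⟩
    cases rs with
    | nil => simp
    | cons r rs =>
      exfalso
      rw [RingTheory.Sequence.isWeaklyRegular_cons_iff] at hw
      exact h r (hm r List.mem_cons_self) hw.1

variable {X : Scheme.{u}}

theorem toK_injective (U : X.Opens) : Function.Injective (toK X U) := by
  intro a a' h
  refine TopCat.Presheaf.section_ext X.sheaf U a a' (fun y hy => ?_)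
  change X.presheaf.germ U y hy a = X.presheaf.germ U y hy a'
  have h1 : (toK X U a).1 ⟨y, hy⟩ = (toK X U a').1 ⟨y, hy⟩ := by rw [h]
  rw [toK_apply, toK_apply, mk_eq_mk_iff (regStalk_le_nonZeroDivisors y)] at h1
  simpa using h1

theorem isUnit_toK_of_mem_regSub (U : X.Opens) (b : Γ(X, U)) (hbreg : b ∈ regSub X U) :
    IsUnit (toK X U b) := by
  let inv : Γ(kmod X, U) :=
    ⟨fun y => LocalizedModule.mk 1 (regGerm y ⟨b, hbreg⟩),
      fun y => ⟨U, y.2, 𝟙 _, 1, ⟨b, hbreg⟩, fun z => mk_congr (map_one _).symm rfl⟩⟩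
  refine isUnit_iff_exists_inv.mpr ⟨inv, ?_⟩
  refine Subtype.ext (funext fun y => ?_)
  change (LocalizedModule.mk (X.presheaf.germ U y.1 y.2 b) 1 : KStalk X y.1) *
    LocalizedModule.mk 1 (regGerm y ⟨b, hbreg⟩) = 1
  refine LocalizedModule.mk_mul_mk.trans ?_
  refine (mk_congr (mul_one _) ?_).trans (mk_self_eq_one (regGerm y ⟨b, hbreg⟩))
  simp

theorem toK_eval_eq_algebraMap (U : X.Opens) (c : Γ(X, U)) (y : U) :
    (toK X U c).1 y = algebraMap (X.presheaf.stalk y.1) (KStalk X y.1)
      (X.presheaf.germ U y.1 y.2 c) := by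
  rw [toK_apply, lmk_eq_mk, Localization.mk_one_eq_algebraMap]

end Groth.Agent.Lib.helper11.MeroDepth
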