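import Mathlib
import Groth.Prelude.Def_MeroDiv
import Groth.Agent.Lib.helper11.MeroDepth
import Groth.Agent.S5086

set_option autoImplicit false
universe u
open CategoryTheory AlgebraicGeometry TopologicalSpace Opposite

namespace Groth.Agent.Lib.helper11.MeroGeneric

open Mero Groth.Agent.Lib.helper11.MeroBasic Groth.Agent.Lib.helper11.MeroPseudo
  Groth.Agent.Lib.helper11.MeroFrac Groth.Agent.Lib.helper11.MeroDepth

variable {X : Scheme.{u}}

/-- every point of an open set has a generization in it which is a generic point of a component. -/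
theorem exists_generic_mem (O : X.Opens) (w : X) (hw : w ∈ O) :
    ∃ η : X, η ∈ O ∧ closure ({η} : Set X) ∈ irreducibleComponents X := by
  obtain ⟨η, hη⟩ := QuasiSober.sober (isIrreducible_irreducibleComponent (x := w))
    isClosed_irreducibleComponent
  have hη' : closure ({η} : Set X) = irreducibleComponent w := hη
  refine ⟨η, ?_, ?_⟩
  · have hspec : η ⤳ w := by
      rw [specializes_iff_mem_closure, hη']
      exact mem_irreducibleComponent
    exact hspec.mem_open O.isOpen hw
  · rw [hη']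
    exact irreducibleComponent_mem_irreducibleComponents w

/-- a section of a reduced scheme vanishing at all generic points is zero. -/
theorem eq_zero_of_forall_generic [IsReduced X] {W : X.Opens} (c : Γ(X, W))
    (h : ∀ (η : X) (hη : η ∈ W), closure ({η} : Set X) ∈ irreducibleComponents X →
      X.presheaf.germ W η hη c = 0) : c = 0 := by
  rw [← basicOpen_eq_bot_iff]
  by_contra hne
  obtain ⟨w, hw⟩ : ∃ w, w ∈ X.basicOpen c := by
    by_contra hcon
    apply hne
    ext z
    simp only [Opens.coe_bot, Set.mem_empty_iff_false, iff_false]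
    exact fun hz => hcon ⟨z, hz⟩
  obtain ⟨η, hηO, hη⟩ := exists_generic_mem (X.basicOpen c) w hw
  have hηW : η ∈ W := X.basicOpen_le c hηO
  have hu : IsUnit (X.presheaf.germ W η hηW c) := (X.mem_basicOpen c η hηW).mp hηO
  rw [h η hηW hη] at hu
  exact not_isUnit_zero hu

/-- Stalks at generic points: `O_x → K_x` is bijective. -/
theorem algebraMap_bijective_of_generic [IsReduced X] (x : X)
    (hx : closure ({x} : Set X) ∈ irreducibleComponents X) :
    Function.Bijective (algebraMap (X.presheaf.stalk x) (KStalk X x)) := by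
  have hF : IsField (X.presheaf.stalk x) :=
    isField_stalk_of_closure_mem_irreducibleComponents X x hx
  refine ⟨algebraMap_KStalk_injective x, ?_⟩
  intro z
  obtain ⟨a, s, rfl⟩ := IsLocalization.exists_mk'_eq (regStalk X x) z
  have hs0 : (s : X.presheaf.stalk x) ≠ 0 := by
    intro h0
    have := regStalk_le_nonZeroDivisors x s.2
    rw [h0] at this
    exact zero_notMem_nonZeroDivisors this
  obtain ⟨i, hi⟩ := hF.mul_inv_cancel hs0
  refine ⟨a * i, ?_⟩
  rw [IsLocalization.eq_mk'_iff_mul_eq, ← map_mul, mul_assoc, mul_comm i, hi, mul_one]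


theorem evalK_injective [IsReduced X] (U : X.Opens) (s s' : Γ(kmod X, U))
    (h : ∀ (η : X) (hη : η ∈ U), closure ({η} : Set X) ∈ irreducibleComponents X →
      s.1 ⟨η, hη⟩ = s'.1 ⟨η, hη⟩) : s = s' := by
  apply Subtype.ext
  funext y
  obtain ⟨V1, hyV1, hV1U, a1, b1, hab1⟩ := exists_local_frac s y.1 y.2
  obtain ⟨V2, hyV2, hV2U, a2, b2, hab2⟩ := exists_local_frac s' y.1 y.2
  obtain ⟨W, hW, hyW, hWle⟩ := Opens.isBasis_iff_nbhd.mp X.isBasis_affineOpens
    (show y.1 ∈ V1 ⊓ V2 from ⟨hyV1, hyV2⟩)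
  have hW1 : W ≤ V1 := hWle.trans inf_le_left
  have hW2 : W ≤ V2 := hWle.trans inf_le_right
  have hWU : W ≤ U := hW1.trans hV1U
  have hd : X.presheaf.map (homOfLE hW1).op a1 * X.presheaf.map (homOfLE hW2).op b2.1 -
      X.presheaf.map (homOfLE hW2).op a2 * X.presheaf.map (homOfLE hW1).op b1.1 = 0 := by
    apply eq_zero_of_forall_generic
    intro η hηW hη
    have h1 := h η (hWU hηW) hη
    rw [hab1 η (hW1 hηW) _, hab2 η (hW2 hηW) _,
      mk_eq_mk_iff (regStalk_le_nonZeroDivisors η)] at h1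
    rw [map_sub, map_mul, map_mul,
      TopCat.Presheaf.germ_res_apply, TopCat.Presheaf.germ_res_apply,
      TopCat.Presheaf.germ_res_apply, TopCat.Presheaf.germ_res_apply]
    exact sub_eq_zero.mpr h1
  have h4 := congrArg (X.presheaf.germ W y.1 hyW) hd
  rw [map_zero, map_sub, map_mul, map_mul,
      TopCat.Presheaf.germ_res_apply, TopCat.Presheaf.germ_res_apply,
      TopCat.Presheaf.germ_res_apply, TopCat.Presheaf.germ_res_apply] at h4
  rw [hab1 y.1 hyV1 y.2, hab2 y.1 hyV2 y.2, mk_eq_mk_iff (regStalk_le_nonZeroDivisors y.1)]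
  exact sub_eq_zero.mp h4

theorem evalK_surjective [IsReduced X] (hfin : (irreducibleComponents X).Finite) (U : X.Opens)
    (t : ∀ x : {x : U // closure ({x.1} : Set X) ∈ irreducibleComponents X}, KStalk X x.1.1) :
    ∃ s : Γ(kmod X, U), ∀ x, s.1 x.1 = t x := by
  classical
  have hr : ∀ x : {x : U // closure ({x.1} : Set X) ∈ irreducibleComponents X},
      ∃ r : X.presheaf.stalk x.1.1, algebraMap _ (KStalk X x.1.1) r = t x :=
    fun x => (algebraMap_bijective_of_generic x.1.1 x.2).2 (t x)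
  choose r hr using hr
  have hρ : ∀ x : {x : U // closure ({x.1} : Set X) ∈ irreducibleComponents X},
      ∃ (V' : X.Opens) (hx : x.1.1 ∈ V') (ρ : Γ(X, V')), X.presheaf.germ V' x.1.1 hx ρ = r x :=
    fun x => X.presheaf.exists_germ_eq (r x)
  choose V' hxV' ρ hρ using hρ
  let C : {x : U // closure ({x.1} : Set X) ∈ irreducibleComponents X} → Set X := fun x =>
    ⋃ Z ∈ {Z : Set X | Z ∈ irreducibleComponents X ∧ Z ≠ closure ({x.1.1} : Set X)}, Z
  have hC : ∀ x, IsClosed (C x) := fun x =>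
    (hfin.subset (fun Z hZ => hZ.1)).isClosed_biUnion
      (fun Z hZ => isClosed_of_mem_irreducibleComponents Z hZ.1)
  let Vx : {x : U // closure ({x.1} : Set X) ∈ irreducibleComponents X} → X.Opens := fun x =>
    V' x ⊓ U ⊓ ⟨(C x)ᶜ, (hC x).isOpen_compl⟩
  have hxV : ∀ x, x.1.1 ∈ Vx x := by
    intro x
    refine ⟨⟨hxV' x, x.1.2⟩, ?_⟩
    change x.1.1 ∉ C x
    intro hmem
    simp only [C, Set.mem_iUnion, Set.mem_setOf_eq, exists_prop] at hmem
    obtain ⟨Z, ⟨hZ, hZne⟩, hxZ⟩ := hmem
    apply hZne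
    have hsub : closure ({x.1.1} : Set X) ⊆ Z :=
      (isClosed_of_mem_irreducibleComponents Z hZ).closure_subset_iff.mpr
        (Set.singleton_subset_iff.mpr hxZ)
    exact (le_antisymm (x.2.2 hZ.1 hsub) hsub)
  have hdisj : ∀ x x' (z : X), z ∈ Vx x → z ∈ Vx x' → x = x' := by
    intro x x' z hz hz'
    have key : ∀ x'' : {x : U // closure ({x.1} : Set X) ∈ irreducibleComponents X},
        z ∈ Vx x'' → irreducibleComponent z = closure ({x''.1.1} : Set X) := by
      intro x'' hz''
      by_contra hne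
      have : z ∈ C x'' := by
        simp only [C, Set.mem_iUnion, Set.mem_setOf_eq, exists_prop]
        exact ⟨irreducibleComponent z,
          ⟨irreducibleComponent_mem_irreducibleComponents z, hne⟩, mem_irreducibleComponent⟩
      exact hz''.2 this
    have h1 : closure ({x.1.1} : Set X) = closure ({x'.1.1} : Set X) :=
      (key x hz).symm.trans (key x' hz')
    have h2 : x.1.1 = x'.1.1 := (inseparable_iff_closure_eq.mpr h1).eq
    exact Subtype.ext (Subtype.ext h2)
  have hVU : iSup Vx ≤ U := iSup_le (fun x => inf_le_left.trans inf_le_right)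
  let sf : ∀ x, Γ(X, Vx x) := fun x =>
    X.presheaf.map (homOfLE (inf_le_left.trans inf_le_left : Vx x ≤ V' x)).op (ρ x)
  have hcompat : TopCat.Presheaf.IsCompatible X.presheaf Vx sf := by
    intro x x'
    refine TopCat.Presheaf.section_ext X.sheaf _ _ _ (fun z hz => ?_)
    obtain rfl := hdisj x x' z hz.1 hz.2
    change X.presheaf.germ _ z hz _ = X.presheaf.germ _ z hz _
    rw [TopCat.Presheaf.germ_res_apply, TopCat.Presheaf.germ_res_apply,
      TopCat.Presheaf.germ_res_apply, TopCat.Presheaf.germ_res_apply]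
  obtain ⟨g, hg, -⟩ := X.sheaf.existsUnique_gluing Vx sf hcompat
  have hgx : ∀ x, X.presheaf.germ (iSup Vx) x.1.1 (Opens.mem_iSup.mpr ⟨x, hxV x⟩) g = r x := by
    intro x
    have h1 := congrArg (X.presheaf.germ (Vx x) x.1.1 (hxV x)) (hg x)
    have h2 : X.presheaf.germ (Vx x) x.1.1 (hxV x) (X.presheaf.map (Opens.leSupr Vx x).op g) =
        X.presheaf.germ (iSup Vx) x.1.1 (Opens.mem_iSup.mpr ⟨x, hxV x⟩) g :=
      TopCat.Presheaf.germ_res_apply X.presheaf (Opens.leSupr Vx x) x.1.1 (hxV x) g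
    rw [← h2]
    refine h1.trans ?_
    rw [← hρ x]
    exact TopCat.Presheaf.germ_res_apply X.presheaf
      (homOfLE (inf_le_left.trans inf_le_left : Vx x ≤ V' x)) x.1.1 (hxV x) (ρ x)
  have hV : ∀ W : X.Opens, W ≤ U → Function.Injective
      (X.presheaf.map (homOfLE (inf_le_left : W ⊓ iSup Vx ≤ W)).op) := by
    intro W hWU
    rw [injective_iff_map_eq_zero]
    intro c hc
    apply eq_zero_of_forall_generic
    intro η hηW hη
    have hηV : η ∈ iSup Vx :=
      Opens.mem_iSup.mpr ⟨⟨⟨η, hWU hηW⟩, hη⟩, hxV ⟨⟨η, hWU hηW⟩, hη⟩⟩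
    have h1 := congrArg (X.presheaf.germ (W ⊓ iSup Vx) η ⟨hηW, hηV⟩) hc
    rw [map_zero, TopCat.Presheaf.germ_res_apply] at h1
    exact h1
  obtain ⟨s, hs⟩ := Groth.Agent.S5086.result X
    (Or.inr ⟨inferInstance, fun x => ⟨⊤, trivial, hfin.subset (fun Z hZ => hZ.1)⟩⟩)
    U (iSup Vx) hVU hV g
  refine ⟨s, fun x => ?_⟩
  have hxVV : x.1.1 ∈ iSup Vx := Opens.mem_iSup.mpr ⟨x, hxV x⟩
  have h1 := congrArg (fun w : Γ(kmod X, iSup Vx) => w.1 ⟨x.1.1, hxVV⟩) hs
  change s.1 ⟨x.1.1, hVU hxVV⟩ = (toK X (iSup Vx) g).1 ⟨x.1.1, hxVV⟩ at h1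
  rw [toK_eval_eq_algebraMap] at h1
  rw [← hr x, ← hgx x]
  exact h1

end Groth.Agent.Lib.helper11.MeroGeneric
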