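import Mathlib
import Groth.Prelude.Def_MeroDiv
import Groth.Agent.Lib.helper11.MeroGeneric

set_option autoImplicit false
universe u
open CategoryTheory AlgebraicGeometry TopologicalSpace Opposite

namespace Groth.Agent.Lib.helper11.MeroGeneric2

open Mero Groth.Agent.Lib.helper11.MeroBasic Groth.Agent.Lib.helper11.MeroPseudo
  Groth.Agent.Lib.helper11.MeroFrac Groth.Agent.Lib.helper11.MeroDepth
  Groth.Agent.Lib.helper11.MeroGeneric

variable {X : Scheme.{u}}

/-- an irreducible closed set meeting an open set is the closure of the intersection. -/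
theorem closure_inter_eq {T : Type*} [TopologicalSpace T] {Z W : Set T} (hZ : IsIrreducible Z)
    (hZc : IsClosed Z) (hW : IsOpen W) (hne : (Z ∩ W).Nonempty) : closure (Z ∩ W) = Z := by
  apply le_antisymm
  · exact hZc.closure_subset_iff.mpr Set.inter_subset_left
  · have h1 : Z ⊆ (Z \ W) ∪ closure (Z ∩ W) := by
      intro z hz
      by_cases hzW : z ∈ W
      · exact Or.inr (subset_closure ⟨hz, hzW⟩)
      · exact Or.inl ⟨hz, hzW⟩
    have h2 : IsClosed (Z \ W) := hZc.sdiff hW
    rcases (isPreirreducible_iff_isClosed_union_isClosed.mp hZ.isPreirreducible) _ _ h2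
      isClosed_closure h1 with h | h
    · exfalso
      obtain ⟨z, hz, hzW⟩ := hne
      exact (h hz).2 hzW
    · exact h

/-- components of `X` meeting an open set `W` give components of the subspace `W`. -/
theorem preimage_mem_irreducibleComponents {T : Type*} [TopologicalSpace T] {W : Set T}
    (hW : IsOpen W) {Z : Set T} (hZ : Z ∈ irreducibleComponents T) (hne : (Z ∩ W).Nonempty) :
    ((↑) : W → T) ⁻¹' Z ∈ irreducibleComponents W := by
  have hZi : IsIrreducible Z := hZ.1
  have hZc : IsClosed Z := isClosed_of_mem_irreducibleComponents Z hZ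
  have hcl := closure_inter_eq hZi hZc hW hne
  refine ⟨⟨?_, ?_⟩, ?_⟩
  · obtain ⟨z, hz, hzW⟩ := hne
    exact ⟨⟨z, hzW⟩, hz⟩
  · exact hZi.isPreirreducible.preimage hW.isOpenEmbedding_subtypeVal
  · intro S hS hle
    have h1 : IsIrreducible (closure (((↑) : W → T) '' S)) :=
      (hS.image _ continuous_subtype_val.continuousOn).closure
    have h2 : Z ⊆ closure (((↑) : W → T) '' S) := by
      rw [← hcl]
      apply closure_mono
      rintro z ⟨hz, hzW⟩
      exact ⟨⟨z, hzW⟩, hle hz, rfl⟩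
    have h3 : closure (((↑) : W → T) '' S) ⊆ Z := hZ.2 h1 h2
    intro s hs
    exact h3 (subset_closure ⟨s, hs, rfl⟩)

theorem finite_components_meeting {T : Type*} [TopologicalSpace T] {W : Set T}
    (hW : IsOpen W) (h : (irreducibleComponents W).Finite) :
    {Z : Set T | Z ∈ irreducibleComponents T ∧ (Z ∩ W).Nonempty}.Finite := by
  refine (h.image (fun S : Set W => closure (((↑) : W → T) '' S))).subset ?_
  rintro Z ⟨hZ, hne⟩
  refine ⟨((↑) : W → T) ⁻¹' Z, preimage_mem_irreducibleComponents hW hZ hne, ?_⟩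
  change closure (((↑) : W → T) '' (((↑) : W → T) ⁻¹' Z)) = Z
  rw [Subtype.image_preimage_coe, Set.inter_comm]
  exact closure_inter_eq hZ.1 (isClosed_of_mem_irreducibleComponents Z hZ) hW hne

theorem evalK_surjective' [IsReduced X]
    (hloc : ∀ x : X, ∃ W : X.Opens, x ∈ W ∧
      {Z : Set X | Z ∈ irreducibleComponents X ∧ (Z ∩ (W : Set X)).Nonempty}.Finite)
    (U : X.Opens)
    (hfin : {Z : Set X | Z ∈ irreducibleComponents X ∧ (Z ∩ (U : Set X)).Nonempty}.Finite)
    (t : ∀ x : {x : U // closure ({x.1} : Set X) ∈ irreducibleComponents X}, KStalk X x.1.1) :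
    ∃ s : Γ(kmod X, U), ∀ x, s.1 x.1 = t x := by
  classical
  have hr : ∀ x : {x : U // closure ({x.1} : Set X) ∈ irreducibleComponents X},
      ∃ r : X.presheaf.stalk x.1.1, algebraMap _ (KStalk X x.1.1) r = t x :=
    fun x => (algebraMap_bijective_of_generic x.1.1 x.2).2 (t x)
  choose r hr using hr
  have hρ : ∀ x : {x : U // closure ({x.1} : Set X) ∈ irreducibleComponents X},
      ∃ (V' : X.Opens) (hx : x.1.1 ∈ V') (ρ : Γ(X, V')), X.presheaf.germ V' x.1.1 hx ρ = r x :=
    fun x => X.presheaf.exists_germ_eq (r x)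
  choose V' hxV' ρ hρ using hρ
  let C : {x : U // closure ({x.1} : Set X) ∈ irreducibleComponents X} → Set X := fun x =>
    ⋃ Z ∈ {Z : Set X | (Z ∈ irreducibleComponents X ∧ (Z ∩ (U : Set X)).Nonempty) ∧
      Z ≠ closure ({x.1.1} : Set X)}, Z
  have hC : ∀ x, IsClosed (C x) := fun x =>
    (hfin.subset (fun Z hZ => hZ.1)).isClosed_biUnion
      (fun Z hZ => isClosed_of_mem_irreducibleComponents Z hZ.1.1)
  let Vx : {x : U // closure ({x.1} : Set X) ∈ irreducibleComponents X} → X.Opens := fun x =>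
    V' x ⊓ U ⊓ ⟨(C x)ᶜ, (hC x).isOpen_compl⟩
  have hxV : ∀ x, x.1.1 ∈ Vx x := by
    intro x
    refine ⟨⟨hxV' x, x.1.2⟩, ?_⟩
    change x.1.1 ∉ C x
    intro hmem
    simp only [C, Set.mem_iUnion, Set.mem_setOf_eq, exists_prop] at hmem
    obtain ⟨Z, ⟨hZ, hZne⟩, hxZ⟩ := hmem
    apply hZne
    have hsub : closure ({x.1.1} : Set X) ⊆ Z :=
      (isClosed_of_mem_irreducibleComponents Z hZ.1).closure_subset_iff.mpr
        (Set.singleton_subset_iff.mpr hxZ)
    exact (le_antisymm (x.2.2 hZ.1.1 hsub) hsub)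
  have hdisj : ∀ x x' (z : X), z ∈ Vx x → z ∈ Vx x' → x = x' := by
    intro x x' z hz hz'
    have key : ∀ x'' : {x : U // closure ({x.1} : Set X) ∈ irreducibleComponents X},
        z ∈ Vx x'' → irreducibleComponent z = closure ({x''.1.1} : Set X) := by
      intro x'' hz''
      by_contra hne
      have : z ∈ C x'' := by
        simp only [C, Set.mem_iUnion, Set.mem_setOf_eq, exists_prop]
        exact ⟨irreducibleComponent z,
          ⟨⟨irreducibleComponent_mem_irreducibleComponents z,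
            ⟨z, mem_irreducibleComponent, hz''.1.2⟩⟩, hne⟩, mem_irreducibleComponent⟩
      exact hz''.2 this
    have h1 : closure ({x.1.1} : Set X) = closure ({x'.1.1} : Set X) :=
      (key x hz).symm.trans (key x' hz')
    have h2 : x.1.1 = x'.1.1 := (inseparable_iff_closure_eq.mpr h1).eq
    exact Subtype.ext (Subtype.ext h2)
  have hVU : iSup Vx ≤ U := iSup_le (fun x => inf_le_left.trans inf_le_right)
  let sf : ∀ x, Γ(X, Vx x) := fun x =>
    X.presheaf.map (homOfLE (inf_le_left.trans inf_le_left : Vx x ≤ V' x)).op (ρ x)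
  have hcompat : TopCat.Presheaf.IsCompatible X.presheaf Vx sf := by
    intro x x'
    refine TopCat.Presheaf.section_ext X.sheaf _ _ _ (fun z hz => ?_)
    obtain rfl := hdisj x x' z hz.1 hz.2
    change X.presheaf.germ _ z hz _ = X.presheaf.germ _ z hz _
    rw [TopCat.Presheaf.germ_res_apply, TopCat.Presheaf.germ_res_apply,
      TopCat.Presheaf.germ_res_apply, TopCat.Presheaf.germ_res_apply]
  obtain ⟨g, hg, -⟩ := X.sheaf.existsUnique_gluing Vx sf hcompat
  have hgx : ∀ x, X.presheaf.germ (iSup Vx) x.1.1 (Opens.mem_iSup.mpr ⟨x, hxV x⟩) g = r x := by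
    intro x
    have h1 := congrArg (X.presheaf.germ (Vx x) x.1.1 (hxV x)) (hg x)
    have h2 : X.presheaf.germ (Vx x) x.1.1 (hxV x) (X.presheaf.map (Opens.leSupr Vx x).op g) =
        X.presheaf.germ (iSup Vx) x.1.1 (Opens.mem_iSup.mpr ⟨x, hxV x⟩) g :=
      TopCat.Presheaf.germ_res_apply X.presheaf (Opens.leSupr Vx x) x.1.1 (hxV x) g
    rw [← h2]
    refine h1.trans ?_
    rw [← hρ x]
    exact TopCat.Presheaf.germ_res_apply X.presheaf
      (homOfLE (inf_le_left.trans inf_le_left : Vx x ≤ V' x)) x.1.1 (hxV x) (ρ x)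
  have hV : ∀ W : X.Opens, W ≤ U → Function.Injective
      (X.presheaf.map (homOfLE (inf_le_left : W ⊓ iSup Vx ≤ W)).op) := by
    intro W hWU
    rw [injective_iff_map_eq_zero]
    intro c hc
    apply eq_zero_of_forall_generic
    intro η hηW hη
    have hηV : η ∈ iSup Vx :=
      Opens.mem_iSup.mpr ⟨⟨⟨η, hWU hηW⟩, hη⟩, hxV ⟨⟨η, hWU hηW⟩, hη⟩⟩
    have h1 := congrArg (X.presheaf.germ (W ⊓ iSup Vx) η ⟨hηW, hηV⟩) hc
    rw [map_zero, TopCat.Presheaf.germ_res_apply] at h1
    exact h1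
  obtain ⟨s, hs⟩ := Groth.Agent.S5086.result X
    (Or.inr ⟨inferInstance, hloc⟩)
    U (iSup Vx) hVU hV g
  refine ⟨s, fun x => ?_⟩
  have hxVV : x.1.1 ∈ iSup Vx := Opens.mem_iSup.mpr ⟨x, hxV x⟩
  have h1 := congrArg (fun w : Γ(kmod X, iSup Vx) => w.1 ⟨x.1.1, hxVV⟩) hs
  change s.1 ⟨x.1.1, hVU hxVV⟩ = (toK X (iSup Vx) g).1 ⟨x.1.1, hxVV⟩ at h1
  rw [toK_eval_eq_algebraMap] at h1
  rw [← hr x, ← hgx x]
  exact h1


end Groth.Agent.Lib.helper11.MeroGeneric2
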