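import Mathlib
import Groth.Prelude.Def_MeroDiv
import Groth.Agent.Lib.helper11.MeroGeneric2
import Groth.Agent.Lib.helper1.MR4

set_option autoImplicit false
universe u
open CategoryTheory AlgebraicGeometry TopologicalSpace Opposite

namespace Groth.Agent.Lib.helper11.MeroRegSec

open Mero Groth.Agent.Lib.helper11.MeroBasic Groth.Agent.Lib.helper11.MeroPseudo
  Groth.Agent.Lib.helper11.MeroFrac Groth.Agent.Lib.helper11.MeroDepth
  Groth.Agent.Lib.helper11.MeroGeneric Groth.Agent.Lib.helper11.MeroGeneric2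

variable {X : Scheme.{u}}

/-- `e` freely generates `L` over every open subset of `W`. -/
def IsGen (L : X.Modules) (W : X.Opens) (e : Γ(L, W)) : Prop :=
  ∀ (V : X.Opens) (h : V ≤ W),
    Function.Bijective (fun r : Γ(X, V) => r • L.presheaf.map (homOfLE h).op e)

theorem exists_smul_germ {L : X.Modules} {W : X.Opens} {e : Γ(L, W)} (he : IsGen L W e)
    (y : X) (hy : y ∈ W) (m : L.presheaf.stalk y) :
    ∃ ρ : X.presheaf.stalk y, m = ρ • L.presheaf.germ W y hy e := by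
  obtain ⟨V, hyV, m₀, rfl⟩ := L.presheaf.exists_germ_eq m
  obtain ⟨r, hr⟩ := (he (V ⊓ W) inf_le_right).2 (L.presheaf.map (homOfLE inf_le_left).op m₀)
  refine ⟨X.presheaf.germ (V ⊓ W) y ⟨hyV, hy⟩ r, ?_⟩
  have h1 := congrArg (L.presheaf.germ (V ⊓ W) y ⟨hyV, hy⟩) hr
  dsimp only at h1
  rw [germ_smul, TopCat.Presheaf.germ_res_apply, TopCat.Presheaf.germ_res_apply] at h1
  exact h1.symm

theorem eq_zero_of_smul_germ {L : X.Modules} {W : X.Opens} {e : Γ(L, W)} (he : IsGen L W e)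
    (y : X) (hy : y ∈ W) (ρ : X.presheaf.stalk y)
    (h : ρ • L.presheaf.germ W y hy e = 0) : ρ = 0 := by
  obtain ⟨V, hyV, r, rfl⟩ := X.presheaf.exists_germ_eq ρ
  have h1 : L.presheaf.germ (V ⊓ W) y ⟨hyV, hy⟩
      (X.presheaf.map (homOfLE (inf_le_left : V ⊓ W ≤ V)).op r •
        L.presheaf.map (homOfLE (inf_le_right : V ⊓ W ≤ W)).op e) =
      L.presheaf.germ (V ⊓ W) y ⟨hyV, hy⟩ 0 := by
    rw [germ_smul, TopCat.Presheaf.germ_res_apply, TopCat.Presheaf.germ_res_apply, map_zero]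
    exact h
  obtain ⟨V', hyV', i1, i2, h2⟩ := L.presheaf.germ_eq (U := V ⊓ W) (V := V ⊓ W) y ⟨hyV, hy⟩ ⟨hyV, hy⟩ _ _ h1
  rw [Scheme.Modules.map_smul, map_zero] at h2
  have hle : V' ≤ W := i1.le.trans inf_le_right
  have hcomp : L.presheaf.map i1.op (L.presheaf.map (homOfLE (inf_le_right : V ⊓ W ≤ W)).op e) =
      L.presheaf.map (homOfLE hle).op e := by
    rw [← ConcreteCategory.comp_apply, ← L.presheaf.map_comp]
    rfl
  rw [hcomp] at h2
  have h3 : X.presheaf.map i1.op (X.presheaf.map (homOfLE (inf_le_left : V ⊓ W ≤ V)).op r) = 0 := by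
    apply (he V' hle).1
    dsimp only
    rw [h2, zero_smul]
  rw [← TopCat.Presheaf.germ_res_apply X.presheaf (homOfLE (inf_le_left : V ⊓ W ≤ V)) y ⟨hyV, hy⟩ r,
    ← TopCat.Presheaf.germ_res_apply X.presheaf i1 y hyV' _, h3, map_zero]

theorem exists_smul_mk {L : X.Modules} {W : X.Opens} {e : Γ(L, W)} (he : IsGen L W e)
    (y : X) (hy : y ∈ W) (t : MStalk L y) :
    ∃ q : KStalk X y, t = q • (LocalizedModule.mk (L.presheaf.germ W y hy e) 1 : MStalk L y) := by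
  induction t using LocalizedModule.induction_on with
  | h m b =>
    obtain ⟨ρ, rfl⟩ := exists_smul_germ he y hy m
    refine ⟨Localization.mk ρ b, ?_⟩
    rw [LocalizedModule.mk_smul_mk, mul_one]

theorem eq_zero_of_smul_mk {L : X.Modules} {W : X.Opens} {e : Γ(L, W)} (he : IsGen L W e)
    (y : X) (hy : y ∈ W) (q : KStalk X y)
    (h : q • (LocalizedModule.mk (L.presheaf.germ W y hy e) 1 : MStalk L y) = 0) : q = 0 := by
  induction q using Localization.induction_on with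
  | H p =>
    obtain ⟨ρ, b⟩ := p
    rw [LocalizedModule.mk_smul_mk, ← LocalizedModule.zero_mk (1 : regStalk X y),
      LocalizedModule.mk_eq] at h
    obtain ⟨c, hc⟩ := h
    rw [one_smul, smul_zero, smul_zero, Submonoid.smul_def, smul_smul] at hc
    have h1 := eq_zero_of_smul_germ he y hy _ hc
    have h2 : ρ = 0 :=
      (mul_left_mem_nonZeroDivisors_eq_zero_iff (regStalk_le_nonZeroDivisors y c.2)).mp
        h1
    rw [h2, Localization.mk_zero]

theorem eq_of_smul_mk_eq {L : X.Modules} {W : X.Opens} {e : Γ(L, W)} (he : IsGen L W e)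
    (y : X) (hy : y ∈ W) (q q' : KStalk X y)
    (h : q • (LocalizedModule.mk (L.presheaf.germ W y hy e) 1 : MStalk L y) =
      q' • (LocalizedModule.mk (L.presheaf.germ W y hy e) 1 : MStalk L y)) : q = q' := by
  rw [← sub_eq_zero]
  apply eq_zero_of_smul_mk he y hy
  rw [sub_smul, h, sub_self]

theorem main (X : Scheme.{u}) [IsReduced X]
    (hfin : ∀ U : X.Opens, IsCompact (U : Set ↥X) → (irreducibleComponents ↥(U : Scheme.{u})).Finite)
    (L : X.Modules) (hL : PicF.IsInvertible L) : Mero.HasRegularMero L := by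
  classical
  have hdata : ∀ x : X, ∃ (U' : X.Opens) (e : Γ(L, U')) (W : X.Opens),
      IsGen L U' e ∧ IsAffineOpen W ∧ x ∈ W ∧ W ≤ U' := by
    intro x
    obtain ⟨U, hxU, ⟨iso⟩⟩ := hL x
    obtain ⟨e, he⟩ := Groth.Agent.Lib.helper1.MR4.gen_conv L U iso
    have hxU' : x ∈ U.ι ''ᵁ ⊤ := by simpa using hxU
    obtain ⟨W, hW, hxW, hWle⟩ := Opens.isBasis_iff_nbhd.mp X.isBasis_affineOpens hxU'
    exact ⟨_, e, W, he, hW, hxW, hWle⟩
  choose U' e W he hWaff hxW hWU using hdata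
  have hfinW : ∀ x, {Z : Set X | Z ∈ irreducibleComponents X ∧
      (Z ∩ (W x : Set X)).Nonempty}.Finite :=
    fun x => finite_components_meeting (W x).2 (hfin (W x) (hWaff x).isCompact)
  have hloc : ∀ x : X, ∃ W' : X.Opens, x ∈ W' ∧
      {Z : Set X | Z ∈ irreducibleComponents X ∧ (Z ∩ (W' : Set X)).Nonempty}.Finite :=
    fun x => ⟨W x, hxW x, hfinW x⟩
  -- transition coefficients at generic points
  have hc : ∀ (x : X) (η : {z : W x // closure ({z.1} : Set X) ∈ irreducibleComponents X}),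
      ∃ q : KStalk X η.1.1,
        (LocalizedModule.mk (L.presheaf.germ (U' η.1.1) η.1.1 (hWU _ (hxW _)) (e η.1.1)) 1 :
          MStalk L η.1.1) =
        q • LocalizedModule.mk (L.presheaf.germ (U' x) η.1.1 (hWU x η.1.2) (e x)) 1 :=
    fun x η => exists_smul_mk (he x) η.1.1 (hWU x η.1.2) _
  choose c hc using hc
  have hc' : ∀ (x : X) (η : {z : W x // closure ({z.1} : Set X) ∈ irreducibleComponents X}),
      ∃ q : KStalk X η.1.1,
        (LocalizedModule.mk (L.presheaf.germ (U' x) η.1.1 (hWU x η.1.2) (e x)) 1 :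
          MStalk L η.1.1) =
        q • LocalizedModule.mk (L.presheaf.germ (U' η.1.1) η.1.1 (hWU _ (hxW _)) (e η.1.1)) 1 :=
    fun x η => exists_smul_mk (he η.1.1) η.1.1 (hWU _ (hxW _)) _
  choose c' hc' using hc'
  have hf : ∀ x, ∃ f : Γ(kmod X, W x), ∀ η, f.1 η.1 = c x η :=
    fun x => evalK_surjective' hloc (W x) (hfinW x) (c x)
  choose f hf using hf
  have hg : ∀ x, ∃ g : Γ(kmod X, W x), ∀ η, g.1 η.1 = c' x η :=
    fun x => evalK_surjective' hloc (W x) (hfinW x) (c' x)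
  choose g hg using hg
  have hfg : ∀ x, f x * g x = 1 := by
    intro x
    apply evalK_injective (W x)
    intro η hη hgen
    change (f x).1 ⟨η, hη⟩ * (g x).1 ⟨η, hη⟩ = 1
    have e1 := hf x ⟨⟨η, hη⟩, hgen⟩
    have e2 := hg x ⟨⟨η, hη⟩, hgen⟩
    dsimp only at e1 e2
    rw [e1, e2, mul_comm]
    apply eq_of_smul_mk_eq (he x) η (hWU x hη)
    rw [mul_smul, one_smul, ← hc x ⟨⟨η, hη⟩, hgen⟩, ← hc' x ⟨⟨η, hη⟩, hgen⟩]
  -- independence of the chart
  have key : ∀ (x x' : X) (z : X) (hz : z ∈ W x) (hz' : z ∈ W x'),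
      (f x).1 ⟨z, hz⟩ • (LocalizedModule.mk (L.presheaf.germ (U' x) z (hWU x hz) (e x)) 1 :
        MStalk L z) =
      (f x').1 ⟨z, hz'⟩ • (LocalizedModule.mk (L.presheaf.germ (U' x') z (hWU x' hz') (e x')) 1 :
        MStalk L z) := by
    intro x x' z hz hz'
    have hV1 : W x ⊓ W x' ≤ U' x := inf_le_left.trans (hWU x)
    have hV2 : W x ⊓ W x' ≤ U' x' := inf_le_right.trans (hWU x')
    obtain ⟨u, hu⟩ := (he x' (W x ⊓ W x') hV2).2 (L.presheaf.map (homOfLE hV1).op (e x))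
    dsimp only at hu
    have hgerm : ∀ (y : X) (hy : y ∈ W x ⊓ W x'),
        (LocalizedModule.mk (L.presheaf.germ (U' x) y (hV1 hy) (e x)) 1 : MStalk L y) =
        (Localization.mk (X.presheaf.germ (W x ⊓ W x') y hy u) 1 : KStalk X y) •
          (LocalizedModule.mk (L.presheaf.germ (U' x') y (hV2 hy) (e x')) 1 : MStalk L y) := by
      intro y hy
      have h1 := congrArg (L.presheaf.germ (W x ⊓ W x') y hy) hu
      rw [germ_smul, TopCat.Presheaf.germ_res_apply, TopCat.Presheaf.germ_res_apply] at h1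
      rw [LocalizedModule.mk_smul_mk, mul_one, h1]
    have hsec : (kmod X).presheaf.map (homOfLE (inf_le_left : W x ⊓ W x' ≤ W x)).op (f x) *
        toK X (W x ⊓ W x') u =
        (kmod X).presheaf.map (homOfLE (inf_le_right : W x ⊓ W x' ≤ W x')).op (f x') := by
      apply evalK_injective (W x ⊓ W x')
      intro η hη hgen
      change (f x).1 ⟨η, hη.1⟩ * (Localization.mk (X.presheaf.germ (W x ⊓ W x') η hη u) 1 :
        KStalk X η) = (f x').1 ⟨η, hη.2⟩
      apply eq_of_smul_mk_eq (he x') η (hV2 hη)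
      have e1 := hf x ⟨⟨η, hη.1⟩, hgen⟩
      have e2 := hf x' ⟨⟨η, hη.2⟩, hgen⟩
      dsimp only at e1 e2
      rw [mul_smul, ← hgerm η hη, e1, e2, ← hc x ⟨⟨η, hη.1⟩, hgen⟩, ← hc x' ⟨⟨η, hη.2⟩, hgen⟩]
    have hsecz := congrArg (fun w : Γ(kmod X, W x ⊓ W x') => w.1 ⟨z, ⟨hz, hz'⟩⟩) hsec
    change (f x).1 ⟨z, hz⟩ * (Localization.mk (X.presheaf.germ (W x ⊓ W x') z ⟨hz, hz'⟩ u) 1 :
        KStalk X z) = (f x').1 ⟨z, hz'⟩ at hsecz
    rw [hgerm z ⟨hz, hz'⟩, ← mul_smul, hsecz]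
  -- the section
  let sfun : ∀ y : (⊤ : X.Opens), MStalk L y.1 := fun y =>
    (f y.1).1 ⟨y.1, hxW y.1⟩ •
      (LocalizedModule.mk (L.presheaf.germ (U' y.1) y.1 (hWU _ (hxW _)) (e y.1)) 1 : MStalk L y.1)
  have hs : (mLoc L).pred sfun := by
    intro y
    obtain ⟨V, hyV, hVW, a, b, hab⟩ := exists_local_frac (f y.1) y.1 (hxW y.1)
    refine ⟨V, hyV, homOfLE le_top,
      a • L.presheaf.map (homOfLE (hVW.trans (hWU y.1))).op (e y.1), b, fun z => ?_⟩
    change (f z.1).1 ⟨z.1, hxW z.1⟩ •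
      (LocalizedModule.mk (L.presheaf.germ (U' z.1) z.1 (hWU _ (hxW _)) (e z.1)) 1 :
        MStalk L z.1) = _
    rw [key z.1 y.1 z.1 (hxW z.1) (hVW z.2), hab z.1 z.2 (hVW z.2)]
    refine (LocalizedModule.mk_smul_mk _ _ _ _).trans ?_
    refine mk_congr ?_ (mul_one _)
    rw [germ_smul, TopCat.Presheaf.germ_res_apply]
  refine ⟨⟨sfun, hs⟩, fun x q hq => ?_⟩
  change q • ((f x).1 ⟨x, hxW x⟩ •
    (LocalizedModule.mk (L.presheaf.germ (U' x) x (hWU _ (hxW _)) (e x)) 1 : MStalk L x)) = 0 at hq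
  rw [← mul_smul] at hq
  have h1 := eq_zero_of_smul_mk (he x) x (hWU x (hxW x)) _ hq
  have h2 : (f x).1 ⟨x, hxW x⟩ * (g x).1 ⟨x, hxW x⟩ = 1 :=
    congrArg (fun w : Γ(kmod X, W x) => w.1 ⟨x, hxW x⟩) (hfg x)
  calc q = (q * (f x).1 ⟨x, hxW x⟩) * (g x).1 ⟨x, hxW x⟩ := by rw [mul_assoc, h2, mul_one]
    _ = 0 := by rw [h1, zero_mul]

end Groth.Agent.Lib.helper11.MeroRegSec
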