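import Mathlib
import Groth.Prelude.Def_MeroDiv
import Groth.Agent.Lib.helper11.MeroRegSec

set_option autoImplicit false
universe u
open CategoryTheory AlgebraicGeometry TopologicalSpace Opposite

namespace Groth.Agent.Lib.helper11.MeroCharts

open Mero Groth.Agent.Lib.helper11.MeroBasic Groth.Agent.Lib.helper11.MeroPseudo
  Groth.Agent.Lib.helper11.MeroFrac Groth.Agent.Lib.helper11.MeroDepth
  Groth.Agent.Lib.helper11.MeroGeneric Groth.Agent.Lib.helper11.MeroGeneric2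
  Groth.Agent.Lib.helper11.MeroRegSec

variable {X : Scheme.{u}}

theorem map_map (L : X.Modules) {U V W : X.Opens} (h : V ≤ U) (h' : W ≤ V) (e : Γ(L, U)) :
    L.presheaf.map (homOfLE h').op (L.presheaf.map (homOfLE h).op e) =
      L.presheaf.map (homOfLE (h'.trans h)).op e := by
  rw [← ConcreteCategory.comp_apply, ← L.presheaf.map_comp]
  rfl

theorem IsGen.res {L : X.Modules} {U : X.Opens} {e : Γ(L, U)} (he : IsGen L U e)
    {W : X.Opens} (h : W ≤ U) : IsGen L W (L.presheaf.map (homOfLE h).op e) := by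
  intro V hV
  have := he V (hV.trans h)
  convert this using 2
  rw [map_map]

/-- chart data for an invertible module with a regular meromorphic section. -/
structure Charts (L : X.Modules) where
  W : X → X.Opens
  e : ∀ x, Γ(L, W x)
  he : ∀ x, IsGen L (W x) (e x)
  hxW : ∀ x, x ∈ W x
  f : ∀ x, Γ(kmod X, W x)
  g : ∀ x, Γ(kmod X, W x)
  hfg : ∀ x, f x * g x = 1
  trans : ∀ (x x' : X) (u : Γ(X, W x ⊓ W x')),
    u • L.presheaf.map (homOfLE (inf_le_right : W x ⊓ W x' ≤ W x')).op (e x') =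
      L.presheaf.map (homOfLE (inf_le_left : W x ⊓ W x' ≤ W x)).op (e x) →
    (kmod X).presheaf.map (homOfLE (inf_le_left : W x ⊓ W x' ≤ W x)).op (f x) *
        toK X (W x ⊓ W x') u =
      (kmod X).presheaf.map (homOfLE (inf_le_right : W x ⊓ W x' ≤ W x')).op (f x')

theorem exists_charts (X : Scheme.{u}) [IsReduced X]
    (hX : ∀ x : ↥X, ∃ W : X.Opens, x ∈ W ∧
      {Z : Set ↥X | Z ∈ irreducibleComponents ↥X ∧ (Z ∩ (W : Set ↥X)).Nonempty}.Finite)
    (L : X.Modules) (hL : PicF.IsInvertible L) : Nonempty (Charts L) := by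
  classical
  have hdata : ∀ x : X, ∃ (W : X.Opens) (e : Γ(L, W)),
      IsGen L W e ∧ x ∈ W ∧
      {Z : Set ↥X | Z ∈ irreducibleComponents ↥X ∧ (Z ∩ (W : Set ↥X)).Nonempty}.Finite := by
    intro x
    obtain ⟨U, hxU, ⟨iso⟩⟩ := hL x
    obtain ⟨e, he⟩ := Groth.Agent.Lib.helper1.MR4.gen_conv L U iso
    have hxU' : x ∈ U.ι ''ᵁ ⊤ := by simpa using hxU
    obtain ⟨W₀, hxW₀, hfinW₀⟩ := hX x
    refine ⟨U.ι ''ᵁ ⊤ ⊓ W₀, L.presheaf.map (homOfLE inf_le_left).op e,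
      IsGen.res he inf_le_left, ⟨hxU', hxW₀⟩, hfinW₀.subset ?_⟩
    rintro Z ⟨hZ, z, hzZ, hzW⟩
    exact ⟨hZ, z, hzZ, hzW.2⟩
  choose W e he hxW hfinW using hdata
  have hc : ∀ (x : X) (η : {z : W x // closure ({z.1} : Set X) ∈ irreducibleComponents X}),
      ∃ q : KStalk X η.1.1,
        (LocalizedModule.mk (L.presheaf.germ (W η.1.1) η.1.1 (hxW _) (e η.1.1)) 1 :
          MStalk L η.1.1) =
        q • LocalizedModule.mk (L.presheaf.germ (W x) η.1.1 η.1.2 (e x)) 1 :=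
    fun x η => exists_smul_mk (he x) η.1.1 η.1.2 _
  choose c hc using hc
  have hc' : ∀ (x : X) (η : {z : W x // closure ({z.1} : Set X) ∈ irreducibleComponents X}),
      ∃ q : KStalk X η.1.1,
        (LocalizedModule.mk (L.presheaf.germ (W x) η.1.1 η.1.2 (e x)) 1 :
          MStalk L η.1.1) =
        q • LocalizedModule.mk (L.presheaf.germ (W η.1.1) η.1.1 (hxW _) (e η.1.1)) 1 :=
    fun x η => exists_smul_mk (he η.1.1) η.1.1 (hxW _) _
  choose c' hc' using hc'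
  have hf : ∀ x, ∃ f : Γ(kmod X, W x), ∀ η, f.1 η.1 = c x η :=
    fun x => evalK_surjective' hX (W x) (hfinW x) (c x)
  choose f hf using hf
  have hg : ∀ x, ∃ g : Γ(kmod X, W x), ∀ η, g.1 η.1 = c' x η :=
    fun x => evalK_surjective' hX (W x) (hfinW x) (c' x)
  choose g hg using hg
  have hfg : ∀ x, f x * g x = 1 := by
    intro x
    apply evalK_injective (W x)
    intro η hη hgen
    change (f x).1 ⟨η, hη⟩ * (g x).1 ⟨η, hη⟩ = 1
    have e1 := hf x ⟨⟨η, hη⟩, hgen⟩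
    have e2 := hg x ⟨⟨η, hη⟩, hgen⟩
    dsimp only at e1 e2
    rw [e1, e2, mul_comm]
    apply eq_of_smul_mk_eq (he x) η hη
    rw [mul_smul, one_smul, ← hc x ⟨⟨η, hη⟩, hgen⟩, ← hc' x ⟨⟨η, hη⟩, hgen⟩]
  refine ⟨⟨W, e, he, hxW, f, g, hfg, ?_⟩⟩
  intro x x' u hu
  have hgerm : ∀ (y : X) (hy : y ∈ W x ⊓ W x'),
      (LocalizedModule.mk (L.presheaf.germ (W x) y hy.1 (e x)) 1 : MStalk L y) =
      (Localization.mk (X.presheaf.germ (W x ⊓ W x') y hy u) 1 : KStalk X y) •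
        (LocalizedModule.mk (L.presheaf.germ (W x') y hy.2 (e x')) 1 : MStalk L y) := by
    intro y hy
    have h1 := congrArg (L.presheaf.germ (W x ⊓ W x') y hy) hu
    rw [germ_smul, TopCat.Presheaf.germ_res_apply, TopCat.Presheaf.germ_res_apply] at h1
    rw [LocalizedModule.mk_smul_mk, mul_one, h1]
  apply evalK_injective (W x ⊓ W x')
  intro η hη hgen
  change (f x).1 ⟨η, hη.1⟩ * (Localization.mk (X.presheaf.germ (W x ⊓ W x') η hη u) 1 :
    KStalk X η) = (f x').1 ⟨η, hη.2⟩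
  apply eq_of_smul_mk_eq (he x') η hη.2
  have e1 := hf x ⟨⟨η, hη.1⟩, hgen⟩
  have e2 := hf x' ⟨⟨η, hη.2⟩, hgen⟩
  dsimp only at e1 e2
  rw [mul_smul, ← hgerm η hη, e1, e2, ← hc x ⟨⟨η, hη.1⟩, hgen⟩, ← hc x' ⟨⟨η, hη.2⟩, hgen⟩]

end Groth.Agent.Lib.helper11.MeroCharts
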