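import Mathlib
import Groth.Prelude.Def_MeroDiv
import Groth.Agent.Lib.helper11.MeroCharts

set_option autoImplicit false
universe u
open CategoryTheory AlgebraicGeometry TopologicalSpace Opposite

namespace Groth.Agent.Lib.helper11.MeroCharts

open Mero Groth.Agent.Lib.helper11.MeroBasic Groth.Agent.Lib.helper11.MeroPseudo
  Groth.Agent.Lib.helper11.MeroFrac Groth.Agent.Lib.helper11.MeroDepth
  Groth.Agent.Lib.helper11.MeroGeneric Groth.Agent.Lib.helper11.MeroGeneric2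
  Groth.Agent.Lib.helper11.MeroRegSec

variable {X : Scheme.{u}} {L : X.Modules} (C : Charts L)

namespace Charts

theorem fg_apply (x y : X) (hy : y ∈ C.W x) :
    (C.f x).1 ⟨y, hy⟩ * (C.g x).1 ⟨y, hy⟩ = 1 :=
  congrArg (fun w : Γ(kmod X, C.W x) => w.1 ⟨y, hy⟩) (C.hfg x)

theorem gf_apply (x y : X) (hy : y ∈ C.W x) :
    (C.g x).1 ⟨y, hy⟩ * (C.f x).1 ⟨y, hy⟩ = 1 := by
  rw [mul_comm]; exact C.fg_apply x y hy

/-- transition functions. -/
theorem exists_trans (x x' : X) : ∃ u u' : Γ(X, C.W x ⊓ C.W x'),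
    u • L.presheaf.map (homOfLE (inf_le_right : C.W x ⊓ C.W x' ≤ C.W x')).op (C.e x') =
      L.presheaf.map (homOfLE (inf_le_left : C.W x ⊓ C.W x' ≤ C.W x)).op (C.e x) ∧
    u' * u = 1 := by
  obtain ⟨u, hu⟩ := (C.he x' (C.W x ⊓ C.W x') inf_le_right).2
    (L.presheaf.map (homOfLE (inf_le_left : C.W x ⊓ C.W x' ≤ C.W x)).op (C.e x))
  obtain ⟨u', hu'⟩ := (C.he x (C.W x ⊓ C.W x') inf_le_left).2
    (L.presheaf.map (homOfLE (inf_le_right : C.W x ⊓ C.W x' ≤ C.W x')).op (C.e x'))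
  dsimp only at hu hu'
  refine ⟨u, u', hu, ?_⟩
  apply (C.he x' (C.W x ⊓ C.W x') inf_le_right).1
  dsimp only
  rw [mul_smul, hu, hu', one_smul]

theorem germ_trans (x x' : X) (u : Γ(X, C.W x ⊓ C.W x'))
    (hu : u • L.presheaf.map (homOfLE (inf_le_right : C.W x ⊓ C.W x' ≤ C.W x')).op (C.e x') =
      L.presheaf.map (homOfLE (inf_le_left : C.W x ⊓ C.W x' ≤ C.W x)).op (C.e x))
    (z : X) (hz : z ∈ C.W x ⊓ C.W x') :
    L.presheaf.germ (C.W x) z hz.1 (C.e x) =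
      X.presheaf.germ (C.W x ⊓ C.W x') z hz u • L.presheaf.germ (C.W x') z hz.2 (C.e x') := by
  have h1 := congrArg (L.presheaf.germ (C.W x ⊓ C.W x') z hz) hu
  rw [germ_smul, TopCat.Presheaf.germ_res_apply, TopCat.Presheaf.germ_res_apply] at h1
  exact h1.symm

theorem f_trans (x x' : X) (u : Γ(X, C.W x ⊓ C.W x'))
    (hu : u • L.presheaf.map (homOfLE (inf_le_right : C.W x ⊓ C.W x' ≤ C.W x')).op (C.e x') =
      L.presheaf.map (homOfLE (inf_le_left : C.W x ⊓ C.W x' ≤ C.W x)).op (C.e x))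
    (z : X) (hz : z ∈ C.W x ⊓ C.W x') :
    (C.f x).1 ⟨z, hz.1⟩ * algebraMap (X.presheaf.stalk z) (KStalk X z)
      (X.presheaf.germ (C.W x ⊓ C.W x') z hz u) = (C.f x').1 ⟨z, hz.2⟩ := by
  have h := congrArg (fun w : Γ(kmod X, C.W x ⊓ C.W x') => w.1 ⟨z, hz⟩) (C.trans x x' u hu)
  change (C.f x).1 ⟨z, hz.1⟩ * (toK X (C.W x ⊓ C.W x') u).1 ⟨z, hz⟩ = (C.f x').1 ⟨z, hz.2⟩ at h
  rw [toK_eval_eq_algebraMap] at h
  exact h

theorem g_trans (x x' : X) (u : Γ(X, C.W x ⊓ C.W x'))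
    (hu : u • L.presheaf.map (homOfLE (inf_le_right : C.W x ⊓ C.W x' ≤ C.W x')).op (C.e x') =
      L.presheaf.map (homOfLE (inf_le_left : C.W x ⊓ C.W x' ≤ C.W x)).op (C.e x))
    (z : X) (hz : z ∈ C.W x ⊓ C.W x') :
    (C.g x).1 ⟨z, hz.1⟩ = algebraMap (X.presheaf.stalk z) (KStalk X z)
      (X.presheaf.germ (C.W x ⊓ C.W x') z hz u) * (C.g x').1 ⟨z, hz.2⟩ := by
  have h1 := C.f_trans x x' u hu z hz
  have h2 := C.fg_apply x' z hz.2
  have h3 := C.gf_apply x z hz.1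
  calc (C.g x).1 ⟨z, hz.1⟩ = (C.g x).1 ⟨z, hz.1⟩ * ((C.f x').1 ⟨z, hz.2⟩ * (C.g x').1 ⟨z, hz.2⟩) := by
        rw [h2, mul_one]
    _ = ((C.g x).1 ⟨z, hz.1⟩ * (C.f x).1 ⟨z, hz.1⟩) * (algebraMap (X.presheaf.stalk z) (KStalk X z)
      (X.presheaf.germ (C.W x ⊓ C.W x') z hz u) * (C.g x').1 ⟨z, hz.2⟩) := by
        rw [← h1]; ring
    _ = _ := by rw [h3, one_mul]

/-- coordinate of a germ of `L` in the chart at the point itself. -/
noncomputable def rho (z : X) (μ : L.presheaf.stalk z) : X.presheaf.stalk z :=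
  Classical.choose (exists_smul_germ (C.he z) z (C.hxW z) μ)

theorem rho_spec (z : X) (μ : L.presheaf.stalk z) :
    μ = C.rho z μ • L.presheaf.germ (C.W z) z (C.hxW z) (C.e z) :=
  Classical.choose_spec (exists_smul_germ (C.he z) z (C.hxW z) μ)

theorem rho_unique (z : X) (μ : L.presheaf.stalk z) (a : X.presheaf.stalk z)
    (h : μ = a • L.presheaf.germ (C.W z) z (C.hxW z) (C.e z)) : C.rho z μ = a := by
  rw [← sub_eq_zero]
  apply eq_zero_of_smul_germ (C.he z) z (C.hxW z)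
  rw [sub_smul, ← h, ← C.rho_spec z μ, sub_self]

theorem rho_add (z : X) (μ ν : L.presheaf.stalk z) : C.rho z (μ + ν) = C.rho z μ + C.rho z ν := by
  apply C.rho_unique
  rw [add_smul, ← C.rho_spec, ← C.rho_spec]

theorem rho_zero (z : X) : C.rho z (0 : L.presheaf.stalk z) = 0 := by
  apply C.rho_unique
  rw [zero_smul]

theorem rho_smul (z : X) (a : X.presheaf.stalk z) (μ : L.presheaf.stalk z) :
    C.rho z (a • μ) = a * C.rho z μ := by
  apply C.rho_unique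
  rw [mul_smul, ← C.rho_spec]

/-- the value at `z` of the image of a germ in `O_X(D)`. -/
noncomputable def phi (z : X) (μ : L.presheaf.stalk z) : KStalk X z :=
  algebraMap (X.presheaf.stalk z) (KStalk X z) (C.rho z μ) * (C.g z).1 ⟨z, C.hxW z⟩

theorem phi_eq_of_chart (y0 z : X) (hz : z ∈ C.W y0) (μ : L.presheaf.stalk z)
    (ρ' : X.presheaf.stalk z) (hμ : μ = ρ' • L.presheaf.germ (C.W y0) z hz (C.e y0)) :
    C.phi z μ = algebraMap (X.presheaf.stalk z) (KStalk X z) ρ' * (C.g y0).1 ⟨z, hz⟩ := by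
  obtain ⟨u, u', hu, -⟩ := C.exists_trans y0 z
  have hzz : z ∈ C.W y0 ⊓ C.W z := ⟨hz, C.hxW z⟩
  have h1 := C.germ_trans y0 z u hu z hzz
  have h2 := C.g_trans y0 z u hu z hzz
  have h3 : C.rho z μ = ρ' * X.presheaf.germ (C.W y0 ⊓ C.W z) z hzz u := by
    apply C.rho_unique
    rw [hμ, h1, mul_smul]
  unfold phi
  rw [h3, h2, map_mul, mul_assoc]

theorem phi_add (z : X) (μ ν : L.presheaf.stalk z) : C.phi z (μ + ν) = C.phi z μ + C.phi z ν := by
  unfold phi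
  rw [rho_add, map_add, add_mul]

theorem phi_zero (z : X) : C.phi z (0 : L.presheaf.stalk z) = 0 := by
  unfold phi
  rw [rho_zero, map_zero, zero_mul]

theorem phi_smul (z : X) (a : X.presheaf.stalk z) (μ : L.presheaf.stalk z) :
    C.phi z (a • μ) = a • C.phi z μ := by
  unfold phi
  rw [rho_smul, map_mul, mul_assoc, Algebra.smul_def]

theorem phi_injective (z : X) (μ ν : L.presheaf.stalk z) (h : C.phi z μ = C.phi z ν) : μ = ν := by
  unfold phi at h
  have h1 : algebraMap (X.presheaf.stalk z) (KStalk X z) (C.rho z μ) =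
      algebraMap (X.presheaf.stalk z) (KStalk X z) (C.rho z ν) := by
    have := congrArg (· * (C.f z).1 ⟨z, C.hxW z⟩) h
    simp only [mul_assoc, C.gf_apply z z (C.hxW z), mul_one] at this
    exact this
  have h2 := algebraMap_KStalk_injective z h1
  rw [C.rho_spec z μ, C.rho_spec z ν, h2]

end Charts

end Groth.Agent.Lib.helper11.MeroCharts
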