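import Mathlib
import Groth.Prelude.Def_MeroDiv
import Groth.Agent.Lib.helper11.MeroCharts2

set_option autoImplicit false
universe u
open CategoryTheory AlgebraicGeometry TopologicalSpace Opposite

namespace Groth.Agent.Lib.helper11.MeroCharts

open Mero Groth.Agent.Lib.helper11.MeroBasic Groth.Agent.Lib.helper11.MeroPseudo
  Groth.Agent.Lib.helper11.MeroFrac Groth.Agent.Lib.helper11.MeroDepth
  Groth.Agent.Lib.helper11.MeroGeneric Groth.Agent.Lib.helper11.MeroGeneric2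
  Groth.Agent.Lib.helper11.MeroRegSec

variable {X : Scheme.{u}} {L : X.Modules} (C : Charts L)

theorem isIso_of_app_bijective {M N : X.Modules} (φ : M ⟶ N)
    (h : ∀ U : X.Opens, Function.Bijective (φ.app U)) : IsIso φ := by
  have h1 : IsIso ((Scheme.Modules.toPresheaf X).map φ) := by
    have : ∀ U, IsIso (((Scheme.Modules.toPresheaf X).map φ).app U) := fun U =>
      (ConcreteCategory.isIso_iff_bijective _).mpr (h U.unop)
    exact NatIso.isIso_of_isIso_app _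
  exact isIso_of_reflects_iso φ (Scheme.Modules.toPresheaf X)

namespace Charts

noncomputable def fUnit (z : X) : (KStalk X z)ˣ :=
  ⟨(C.f z).1 ⟨z, C.hxW z⟩, (C.g z).1 ⟨z, C.hxW z⟩, C.fg_apply z z _, C.gf_apply z z _⟩

noncomputable def secUnit (x : X) : (Γ(kmod X, C.W x))ˣ :=
  ⟨C.f x, C.g x, C.hfg x, by rw [mul_comm]; exact C.hfg x⟩

noncomputable def D : Divisor X :=
  ⟨fun z => QuotientGroup.mk (C.fUnit z), fun x => ⟨C.W x, C.hxW x, C.secUnit x, fun y => by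
    change (QuotientGroup.mk (C.fUnit y.1) : Germ X y.1) =
      QuotientGroup.mk (Units.map (evalK X (C.W x) y).toMonoidHom (C.secUnit x))
    rw [QuotientGroup.eq]
    obtain ⟨u, u', hu, huu⟩ := C.exists_trans y.1 x
    have hyy : y.1 ∈ C.W y.1 ⊓ C.W x := ⟨C.hxW y.1, y.2⟩
    have h1 := C.f_trans y.1 x u hu y.1 hyy
    have hgu : X.presheaf.germ (C.W y.1 ⊓ C.W x) y.1 hyy u *
        X.presheaf.germ (C.W y.1 ⊓ C.W x) y.1 hyy u' = 1 := by
      rw [← map_mul, mul_comm, huu, map_one]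
    have hgu' : X.presheaf.germ (C.W y.1 ⊓ C.W x) y.1 hyy u' *
        X.presheaf.germ (C.W y.1 ⊓ C.W x) y.1 hyy u = 1 := by
      rw [mul_comm]; exact hgu
    refine ⟨⟨_, _, hgu, hgu'⟩, ?_⟩
    apply Units.ext
    change algebraMap (X.presheaf.stalk y.1) (KStalk X y.1)
      (X.presheaf.germ (C.W y.1 ⊓ C.W x) y.1 hyy u) =
      (C.g y.1).1 ⟨y.1, C.hxW y.1⟩ * (C.f x).1 ⟨y.1, y.2⟩
    rw [← h1, ← mul_assoc, C.gf_apply y.1 y.1 (C.hxW y.1), one_mul]⟩⟩

theorem phi_kLoc (V : X.Opens) (m : Γ(L, V)) :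
    (kLoc X).pred (fun z : V => C.phi z.1 (L.presheaf.germ V z.1 z.2 m)) := by
  apply (kLoc X).locality
  intro y0
  obtain ⟨r, hr⟩ := (C.he y0.1 (V ⊓ C.W y0.1) inf_le_right).2
    (L.presheaf.map (homOfLE (inf_le_left : V ⊓ C.W y0.1 ≤ V)).op m)
  dsimp only at hr
  refine ⟨V ⊓ C.W y0.1, ⟨y0.2, C.hxW y0.1⟩, homOfLE inf_le_left, ?_⟩
  have hfun : (fun z : ↥(V ⊓ C.W y0.1) => C.phi z.1 (L.presheaf.germ V z.1 z.2.1 m)) =
      (toK X _ r * (kmod X).presheaf.map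
        (homOfLE (inf_le_right : V ⊓ C.W y0.1 ≤ C.W y0.1)).op (C.g y0.1)).1 := by
    funext z
    have h1 : L.presheaf.germ V z.1 z.2.1 m = X.presheaf.germ (V ⊓ C.W y0.1) z.1 z.2 r •
        L.presheaf.germ (C.W y0.1) z.1 z.2.2 (C.e y0.1) := by
      have := congrArg (L.presheaf.germ (V ⊓ C.W y0.1) z.1 z.2) hr
      rw [germ_smul, TopCat.Presheaf.germ_res_apply, TopCat.Presheaf.germ_res_apply] at this
      exact this.symm
    rw [C.phi_eq_of_chart y0.1 z.1 z.2.2 _ _ h1]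
    change _ = (toK X _ r).1 z * (C.g y0.1).1 ⟨z.1, z.2.2⟩
    rw [toK_eval_eq_algebraMap]
  change (kLoc X).pred (fun z : ↥(V ⊓ C.W y0.1) => C.phi z.1 (L.presheaf.germ V z.1 z.2.1 m))
  rw [hfun]
  exact (toK X _ r * (kmod X).presheaf.map
    (homOfLE (inf_le_right : V ⊓ C.W y0.1 ≤ C.W y0.1)).op (C.g y0.1)).2

theorem phi_divCond (z : X) (μ : L.presheaf.stalk z) : DivCond C.D z (C.phi z μ) := by
  intro gg hgg
  have h1 : (C.fUnit z)⁻¹ * gg ∈ stalkUnits X z := QuotientGroup.eq.mp hgg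
  obtain ⟨υ, hυ⟩ := h1
  have h2 : gg = C.fUnit z * Units.map
      (algebraMap (X.presheaf.stalk z) (KStalk X z)).toMonoidHom υ := by
    rw [hυ, mul_inv_cancel_left]
  refine ⟨C.rho z μ * υ, ?_⟩
  rw [h2, map_mul]
  change _ = algebraMap (X.presheaf.stalk z) (KStalk X z) (C.rho z μ) * (C.g z).1 ⟨z, C.hxW z⟩ *
    ((C.f z).1 ⟨z, C.hxW z⟩ * algebraMap (X.presheaf.stalk z) (KStalk X z) υ)
  rw [mul_assoc, ← mul_assoc ((C.g z).1 ⟨z, C.hxW z⟩), C.gf_apply z z (C.hxW z), one_mul]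

/-- the comparison map on sections. -/
noncomputable def toDivFun (U : X.Opens) : Γ(L, U) →+ Γ(divMod C.D, U) where
  toFun m := ⟨fun z => C.phi z.1 (L.presheaf.germ U z.1 z.2 m),
    ⟨C.phi_kLoc _ m, fun z => C.phi_divCond z.1 _⟩⟩
  map_zero' := Subtype.ext <| funext fun z => by
    change C.phi z.1 (L.presheaf.germ U z.1 z.2 0) = 0
    rw [map_zero, phi_zero]
  map_add' m m' := Subtype.ext <| funext fun z => by
    change C.phi z.1 (L.presheaf.germ U z.1 z.2 (m + m')) =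
      C.phi z.1 (L.presheaf.germ U z.1 z.2 m) + C.phi z.1 (L.presheaf.germ U z.1 z.2 m')
    rw [map_add, phi_add]

/-- the comparison morphism `L ⟶ O_X(D)`. -/
noncomputable def toDiv : L ⟶ divMod C.D :=
  ⟨PresheafOfModules.homMk (M₁ := L.val) (M₂ := (divMod C.D).val)
    { app := fun U => AddCommGrpCat.ofHom (C.toDivFun U.unop)
      naturality := fun {U V} i => by
        ext m
        refine Subtype.ext (funext fun z => ?_)
        exact congrArg (C.phi z.1) (TopCat.Presheaf.germ_res_apply' L.presheaf i z.1 z.2 m) }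
    (fun U r m => Subtype.ext <| funext fun z =>
      (congrArg (C.phi z.1) (germ_smul L U.unop z.1 z.2 r m)).trans (C.phi_smul z.1 _ _))⟩

theorem toDiv_app_apply (V : X.Opens) (m : Γ(L, V)) (z : V) :
    (C.toDiv.app V m).1 z = C.phi z.1 (L.presheaf.germ V z.1 z.2 m) := rfl

theorem toDiv_injective (V : X.Opens) : Function.Injective (C.toDiv.app V) := by
  intro m m' h
  refine TopCat.Presheaf.section_ext (⟨L.presheaf, L.isSheaf⟩ : TopCat.Sheaf Ab X) V m m'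
    (fun z hz => ?_)
  apply C.phi_injective z
  have := congrArg (fun w : Γ(divMod C.D, V) => w.1 ⟨z, hz⟩) h
  exact this

theorem exists_local_preimage (V : X.Opens) (t : Γ(divMod C.D, V)) (y0 : V) :
    ∃ (V'' : X.Opens) (_ : y0.1 ∈ V'') (hle : V'' ≤ V) (m0 : Γ(L, V'')),
      ∀ (z : X) (hz : z ∈ V''), C.phi z (L.presheaf.germ V'' z hz m0) = t.1 ⟨z, hle hz⟩ := by
  let tk : Γ(kmod X, V) := ⟨t.1, t.2.1⟩
  let T : Γ(kmod X, V ⊓ C.W y0.1) :=
    (kmod X).presheaf.map (homOfLE (inf_le_left : V ⊓ C.W y0.1 ≤ V)).op tk *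
      (kmod X).presheaf.map (homOfLE (inf_le_right : V ⊓ C.W y0.1 ≤ C.W y0.1)).op (C.f y0.1)
  have hT : ∀ (z : X) (hz : z ∈ V ⊓ C.W y0.1), T.1 ⟨z, hz⟩ =
      t.1 ⟨z, hz.1⟩ * (C.f y0.1).1 ⟨z, hz.2⟩ := fun z hz => rfl
  have hy0 : y0.1 ∈ V ⊓ C.W y0.1 := ⟨y0.2, C.hxW y0.1⟩
  have hrange : T.1 ⟨y0.1, hy0⟩ ∈ (algebraMap (X.presheaf.stalk y0.1) (KStalk X y0.1)).range := by
    rw [hT]
    exact t.2.2 y0 (C.fUnit y0.1) rfl
  obtain ⟨V'', hyV'', hV'', r, hr⟩ := exists_nhd_eq_germ T y0.1 hy0 hrange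
  refine ⟨V'', hyV'', hV''.trans inf_le_left,
    r • L.presheaf.map (homOfLE (hV''.trans inf_le_right)).op (C.e y0.1), fun z hz => ?_⟩
  have h1 : L.presheaf.germ V'' z hz
      (r • L.presheaf.map (homOfLE (hV''.trans inf_le_right)).op (C.e y0.1)) =
      X.presheaf.germ V'' z hz r • L.presheaf.germ (C.W y0.1) z (hV'' hz).2 (C.e y0.1) := by
    rw [germ_smul, TopCat.Presheaf.germ_res_apply]
  rw [C.phi_eq_of_chart y0.1 z (hV'' hz).2 _ _ h1, ← hr z hz (hV'' hz), hT, mul_assoc,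
    C.fg_apply y0.1 z (hV'' hz).2, mul_one]

theorem toDiv_surjective (V : X.Opens) : Function.Surjective (C.toDiv.app V) := by
  intro t
  choose V'' hyV'' hle m0 hm0 using C.exists_local_preimage V t
  let F : TopCat.Sheaf Ab X := ⟨L.presheaf, L.isSheaf⟩
  have hcompat : TopCat.Presheaf.IsCompatible L.presheaf V'' m0 := by
    intro i j
    refine TopCat.Presheaf.section_ext F _ _ _ (fun z hz => ?_)
    apply C.phi_injective z
    change C.phi z (L.presheaf.germ _ z hz _) = C.phi z (L.presheaf.germ _ z hz _)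
    rw [TopCat.Presheaf.germ_res_apply, TopCat.Presheaf.germ_res_apply,
      hm0 i z hz.1, hm0 j z hz.2]
  have hcover : V ≤ iSup V'' := fun z hz => Opens.mem_iSup.mpr ⟨⟨z, hz⟩, hyV'' ⟨z, hz⟩⟩
  obtain ⟨m, hm, -⟩ := F.existsUnique_gluing' V'' V (fun i => homOfLE (hle i)) hcover m0 hcompat
  refine ⟨m, Subtype.ext (funext fun z => ?_)⟩
  rw [toDiv_app_apply]
  have h1 : L.presheaf.germ V z.1 z.2 m = L.presheaf.germ (V'' z) z.1 (hyV'' z) (m0 z) := by
    rw [← hm z]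
    exact (TopCat.Presheaf.germ_res_apply L.presheaf (homOfLE (hle z)) z.1 (hyV'' z) m).symm
  rw [h1, hm0 z z.1 (hyV'' z)]

theorem exists_iso (C' : Charts L) : ∃ D : Mero.Divisor X, Nonempty (L ≅ Mero.divMod D) := by
  haveI : IsIso C'.toDiv :=
    isIso_of_app_bijective C'.toDiv (fun V => ⟨C'.toDiv_injective V, C'.toDiv_surjective V⟩)
  exact ⟨C'.D, ⟨asIso C'.toDiv⟩⟩

end Charts

end Groth.Agent.Lib.helper11.MeroCharts
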