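import Mathlib
import Groth.Prelude.Def_MeroDiv
import Groth.Agent.Lib.helper11.MeroCharts3

set_option autoImplicit false
universe u
open CategoryTheory AlgebraicGeometry TopologicalSpace Opposite

namespace Groth.Agent.Lib.helper11.MeroCharts

open Mero Groth.Agent.Lib.helper11.MeroBasic Groth.Agent.Lib.helper11.MeroPseudo
  Groth.Agent.Lib.helper11.MeroFrac Groth.Agent.Lib.helper11.MeroDepth
  Groth.Agent.Lib.helper11.MeroGeneric Groth.Agent.Lib.helper11.MeroGeneric2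
  Groth.Agent.Lib.helper11.MeroRegSec

variable {X : Scheme.{u}} {L : X.Modules}

theorem Charts.hasRegularMero (C' : Charts L) : HasRegularMero L := by
  have key : ∀ (x z : X) (hz : z ∈ C'.W x),
      (C'.f x).1 ⟨z, hz⟩ •
        (LocalizedModule.mk (L.presheaf.germ (C'.W x) z hz (C'.e x)) 1 : MStalk L z) =
      (C'.f z).1 ⟨z, C'.hxW z⟩ •
        (LocalizedModule.mk (L.presheaf.germ (C'.W z) z (C'.hxW z) (C'.e z)) 1 : MStalk L z) := by
    intro x z hz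
    obtain ⟨u, u', hu, -⟩ := C'.exists_trans x z
    have hzz : z ∈ C'.W x ⊓ C'.W z := ⟨hz, C'.hxW z⟩
    rw [C'.germ_trans x z u hu z hzz, ← C'.f_trans x z u hu z hzz, mul_smul,
      ← Localization.mk_one_eq_algebraMap, LocalizedModule.mk_smul_mk, mul_one]
  let sfun : ∀ y : (⊤ : X.Opens), MStalk L y.1 := fun y =>
    (C'.f y.1).1 ⟨y.1, C'.hxW y.1⟩ •
      (LocalizedModule.mk (L.presheaf.germ (C'.W y.1) y.1 (C'.hxW _) (C'.e y.1)) 1 : MStalk L y.1)
  have hs : (mLoc L).pred sfun := by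
    intro y
    obtain ⟨V, hyV, hVW, a, b, hab⟩ := exists_local_frac (C'.f y.1) y.1 (C'.hxW y.1)
    refine ⟨V, hyV, homOfLE le_top, a • L.presheaf.map (homOfLE hVW).op (C'.e y.1), b,
      fun z => ?_⟩
    change (C'.f z.1).1 ⟨z.1, C'.hxW z.1⟩ •
      (LocalizedModule.mk (L.presheaf.germ (C'.W z.1) z.1 (C'.hxW _) (C'.e z.1)) 1 :
        MStalk L z.1) = _
    rw [← key y.1 z.1 (hVW z.2), hab z.1 z.2 (hVW z.2)]
    refine (LocalizedModule.mk_smul_mk _ _ _ _).trans ?_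
    refine mk_congr ?_ (mul_one _)
    rw [germ_smul, TopCat.Presheaf.germ_res_apply]
  refine ⟨⟨sfun, hs⟩, fun x q hq => ?_⟩
  change q • ((C'.f x).1 ⟨x, C'.hxW x⟩ •
    (LocalizedModule.mk (L.presheaf.germ (C'.W x) x (C'.hxW _) (C'.e x)) 1 : MStalk L x)) = 0 at hq
  rw [← mul_smul] at hq
  have h1 := eq_zero_of_smul_mk (C'.he x) x (C'.hxW x) _ hq
  have h2 := C'.fg_apply x x (C'.hxW x)
  calc q = (q * (C'.f x).1 ⟨x, C'.hxW x⟩) * (C'.g x).1 ⟨x, C'.hxW x⟩ := by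
        rw [mul_assoc, h2, mul_one]
    _ = 0 := by rw [h1, zero_mul]

theorem charts_of_regularMero (L : X.Modules) (hL : PicF.IsInvertible L)
    (s : Γ(merMod L, ⊤)) (hs : IsRegularMero L s) : Nonempty (Charts L) := by
  classical
  have hdata : ∀ x : X, ∃ (W : X.Opens) (e : Γ(L, W)), IsGen L W e ∧ x ∈ W := by
    intro x
    obtain ⟨U, hxU, ⟨iso⟩⟩ := hL x
    obtain ⟨e, he⟩ := Groth.Agent.Lib.helper1.MR4.gen_conv L U iso
    exact ⟨_, e, he, by simpa using hxU⟩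
  choose W e he hxW using hdata
  have hq : ∀ (x : X) (y : W x), ∃ q : KStalk X y.1, s.1 ⟨y.1, Opens.mem_top y.1⟩ =
      q • (LocalizedModule.mk (L.presheaf.germ (W x) y.1 y.2 (e x)) 1 : MStalk L y.1) :=
    fun x y => exists_smul_mk (he x) y.1 y.2 _
  choose q hq using hq
  have hqloc : ∀ x, (kLoc X).pred (q x) := by
    intro x y
    obtain ⟨V, hyV, i, m, b, hmb⟩ := s.2 ⟨y.1, Opens.mem_top y.1⟩
    obtain ⟨r, hr⟩ := (he x (V ⊓ W x) inf_le_right).2
      (L.presheaf.map (homOfLE (inf_le_left : V ⊓ W x ≤ V)).op m)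
    dsimp only at hr
    refine ⟨V ⊓ W x, ⟨hyV, y.2⟩, homOfLE inf_le_right, r,
      ⟨X.presheaf.map (homOfLE (inf_le_left : V ⊓ W x ≤ V)).op b.1,
        regSub_res (homOfLE inf_le_left) b.2⟩, fun z => ?_⟩
    change q x ⟨z.1, z.2.2⟩ = _
    apply eq_of_smul_mk_eq (he x) z.1 z.2.2
    rw [← hq x ⟨z.1, z.2.2⟩]
    have h1 := hmb ⟨z.1, z.2.1⟩
    have h2 := congrArg (L.presheaf.germ (V ⊓ W x) z.1 z.2) hr
    rw [germ_smul, TopCat.Presheaf.germ_res_apply, TopCat.Presheaf.germ_res_apply] at h2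
    refine h1.trans ?_
    refine Eq.trans ?_ (LocalizedModule.mk_smul_mk _ _ _ _).symm
    refine mk_congr h2.symm ?_
    change X.presheaf.germ V z.1 z.2.1 b.1 = X.presheaf.germ (V ⊓ W x) z.1 z.2 _ * 1
    rw [mul_one, TopCat.Presheaf.germ_res_apply]
  let f : ∀ x, Γ(kmod X, W x) := fun x => ⟨q x, hqloc x⟩
  have hunit : ∀ x, ∃ g : Γ(kmod X, W x), f x * g = 1 := by
    intro x
    have hreg : ∀ (V : X.Opens) (h : V ≤ W x) (r : Γ(X, V)),
        toK X V r * (kmod X).presheaf.map (homOfLE h).op (f x) = 0 → r = 0 := by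
      intro V h r hr
      refine TopCat.Presheaf.section_ext X.sheaf V r 0 (fun z hz => ?_)
      have h1 := congrArg (fun w : Γ(kmod X, V) => w.1 ⟨z, hz⟩) hr
      change (toK X V r).1 ⟨z, hz⟩ * q x ⟨z, h hz⟩ = 0 at h1
      rw [toK_eval_eq_algebraMap] at h1
      have h2 : algebraMap (X.presheaf.stalk z) (KStalk X z) (X.presheaf.germ V z hz r) •
          s.1 ⟨z, Opens.mem_top z⟩ = 0 := by
        rw [hq x ⟨z, h hz⟩, ← mul_smul, h1, zero_smul]
      have h3 := hs z _ h2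
      change X.presheaf.germ V z hz r = X.presheaf.germ V z hz 0
      rw [map_zero]
      exact algebraMap_KStalk_injective z (h3.trans (map_zero _).symm)
    obtain ⟨G, hG⟩ := Groth.Agent.Lib.helper1.MR4.isUnit_of_regular (W x) (f x) hreg
    exact ⟨((G⁻¹ : (Γ(kmod X, W x))ˣ) : Γ(kmod X, W x)), by rw [← hG]; exact G.mul_inv⟩
  choose g hg using hunit
  refine ⟨⟨W, e, he, hxW, f, g, hg, ?_⟩⟩
  intro x x' u hu
  apply Subtype.ext
  funext z
  change q x ⟨z.1, z.2.1⟩ * (toK X _ u).1 z = q x' ⟨z.1, z.2.2⟩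
  rw [toK_eval_eq_algebraMap]
  apply eq_of_smul_mk_eq (he x') z.1 z.2.2
  rw [← hq x' ⟨z.1, z.2.2⟩, mul_smul, ← Localization.mk_one_eq_algebraMap,
    LocalizedModule.mk_smul_mk, mul_one]
  have h1 := congrArg (L.presheaf.germ (W x ⊓ W x') z.1 z.2) hu
  rw [germ_smul, TopCat.Presheaf.germ_res_apply, TopCat.Presheaf.germ_res_apply] at h1
  rw [h1, ← hq x ⟨z.1, z.2.1⟩]

open Groth.Agent.Lib.helper1 in
theorem charts_of_iso (D : Divisor X) (e : L ≅ divMod D) : Nonempty (Charts L) := by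
  classical
  have hD := D.2
  choose U hxU F hF using hD
  let σ : ∀ x, Γ(divMod D, U x) := fun x => MR3.sec D (U x) (F x) (hF x)
  have hres : ∀ (x : X) (V : X.Opens) (h : V ≤ U x),
      L.presheaf.map (homOfLE h).op (e.inv.app (U x) (σ x)) =
        e.inv.app V ((divMod D).presheaf.map (homOfLE h).op (σ x)) :=
    fun x V h => (GL1.hom_app_map e.inv (homOfLE h) _).symm
  have hgen : ∀ x, IsGen L (U x) (e.inv.app (U x) (σ x)) := by
    intro x V h
    have hb := MR3.sec_bijective D (U x) (F x) (hF x) V h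
    have hfun : (fun r : Γ(X, V) => r • L.presheaf.map (homOfLE h).op (e.inv.app (U x) (σ x))) =
        (e.inv.app V) ∘ (fun r : Γ(X, V) => r • (divMod D).presheaf.map (homOfLE h).op (σ x)) := by
      funext r
      rw [hres, Function.comp_apply, Scheme.Modules.Hom.app_smul]
    rw [hfun]
    exact (ConcreteCategory.bijective_of_isIso (e.inv.app V)).comp hb
  have hinv : ∀ (V : X.Opens) (t : Γ(divMod D, V)), e.hom.app V (e.inv.app V t) = t := by
    intro V t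
    have := congrArg (fun φ : divMod D ⟶ divMod D => φ.app V t) e.inv_hom_id
    exact this
  refine ⟨⟨U, fun x => e.inv.app (U x) (σ x), hgen, hxU, fun x => (F x).1,
    fun x => ((F x)⁻¹ : (Γ(kmod X, U x))ˣ).1, fun x => (F x).mul_inv, ?_⟩⟩
  intro x x' u hu
  rw [hres, hres] at hu
  have hu' := congrArg (e.hom.app (U x ⊓ U x')) hu
  rw [Scheme.Modules.Hom.app_smul, hinv, hinv] at hu'
  apply Subtype.ext
  funext z
  have h1 := congrArg (fun w : Γ(divMod D, U x ⊓ U x') => w.1 z) hu'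
  change X.presheaf.germ (U x ⊓ U x') z.1 z.2 u •
      ((F x')⁻¹ : (Γ(kmod X, U x'))ˣ).1.1 ⟨z.1, z.2.2⟩ =
    ((F x)⁻¹ : (Γ(kmod X, U x))ˣ).1.1 ⟨z.1, z.2.1⟩ at h1
  rw [Algebra.smul_def] at h1
  change (F x).1.1 ⟨z.1, z.2.1⟩ * (toK X _ u).1 z = (F x').1.1 ⟨z.1, z.2.2⟩
  rw [toK_eval_eq_algebraMap]
  have h2 := MR3.inv_mul_apply (F x') ⟨z.1, z.2.2⟩
  have h3 := MR3.inv_mul_apply (F x) ⟨z.1, z.2.1⟩
  calc (F x).1.1 ⟨z.1, z.2.1⟩ * algebraMap (X.presheaf.stalk z.1) (KStalk X z.1)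
        (X.presheaf.germ (U x ⊓ U x') z.1 z.2 u)
      = (F x).1.1 ⟨z.1, z.2.1⟩ * (algebraMap (X.presheaf.stalk z.1) (KStalk X z.1)
        (X.presheaf.germ (U x ⊓ U x') z.1 z.2 u) *
          (((F x')⁻¹ : (Γ(kmod X, U x'))ˣ).1.1 ⟨z.1, z.2.2⟩ * (F x').1.1 ⟨z.1, z.2.2⟩)) := by
        rw [h2, mul_one]
    _ = (((F x)⁻¹ : (Γ(kmod X, U x))ˣ).1.1 ⟨z.1, z.2.1⟩ * (F x).1.1 ⟨z.1, z.2.1⟩) *
          (F x').1.1 ⟨z.1, z.2.2⟩ := by
        rw [← h1]; ring
    _ = _ := by rw [h3, one_mul]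

theorem main_iff (L : X.Modules) (hL : PicF.IsInvertible L) :
    (∃ D : Mero.Divisor X, Nonempty (L ≅ Mero.divMod D)) ↔ Mero.HasRegularMero L := by
  constructor
  · rintro ⟨D, ⟨e⟩⟩
    obtain ⟨C⟩ := charts_of_iso D e
    exact C.hasRegularMero
  · rintro ⟨s, hs⟩
    obtain ⟨C⟩ := charts_of_regularMero L hL s hs
    exact Charts.exists_iso C

end Groth.Agent.Lib.helper11.MeroCharts
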