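import Mathlib
import Groth.Prelude.Def_CAlg
import Groth.Prelude.Def_MeroDiv
import Groth.Agent.Lib.helper11.MeroDepth

set_option autoImplicit false
universe u
open CategoryTheory AlgebraicGeometry TopologicalSpace Opposite
open scoped Pointwise

namespace Groth.Agent.Lib.helper11.MeroDepth2

open Mero Groth.Agent.Lib.helper11.MeroBasic Groth.Agent.Lib.helper11.MeroPseudo
  Groth.Agent.Lib.helper11.MeroFrac Groth.Agent.Lib.helper11.MeroDepth

/-- If `b ∈ m` is regular and `m` is associated to `R/bR` (witnessed by `c`), then `depth R = 1`. -/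
theorem depth_eq_one_of_socle {R : Type u} [CommRing R] [IsLocalRing R] (b c : R)
    (hbm : b ∈ IsLocalRing.maximalIdeal R) (hb : IsSMulRegular R b) (hc : ¬ b ∣ c)
    (hmc : ∀ s ∈ IsLocalRing.maximalIdeal R, b ∣ s * c) :
    LocCoh.depth R R = 1 := by
  classical
  have hne : ¬ (IsLocalRing.maximalIdeal R • (⊤ : Submodule R R) = ⊤) := by
    rw [smul_eq_mul, Ideal.mul_top]
    exact Ideal.IsPrime.ne_top'
  unfold LocCoh.depth LocCoh.idealDepth
  rw [if_neg hne]
  apply le_antisymm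
  · refine iSup₂_le ?_
    rintro rs ⟨hw, hm⟩
    match rs, hw, hm with
    | [], _, _ => simp
    | [t1], _, _ => simp
    | t1 :: t2 :: rs'', hw, hm =>
      exfalso
      rw [RingTheory.Sequence.isWeaklyRegular_cons_iff] at hw
      obtain ⟨ht1, hw2⟩ := hw
      rw [RingTheory.Sequence.isWeaklyRegular_cons_iff] at hw2
      obtain ⟨ht2, -⟩ := hw2
      have ht1m : t1 ∈ IsLocalRing.maximalIdeal R := hm t1 List.mem_cons_self
      have ht2m : t2 ∈ IsLocalRing.maximalIdeal R :=
        hm t2 (List.mem_cons_of_mem _ List.mem_cons_self)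
      obtain ⟨c1, hc1⟩ := hmc t1 ht1m
      have hnd : ¬ t1 ∣ c1 := by
        rintro ⟨e, he⟩
        apply hc
        refine ⟨e, ?_⟩
        apply ht1
        simp only [smul_eq_mul]
        rw [hc1, he]
        ring
      have hsoc : ∀ s ∈ IsLocalRing.maximalIdeal R, t1 ∣ s * c1 := by
        intro s hs
        obtain ⟨d, hd⟩ := hmc s hs
        refine ⟨d, ?_⟩
        apply hb
        simp only [smul_eq_mul]
        calc b * (s * c1) = s * (b * c1) := by ring
          _ = s * (t1 * c) := by rw [hc1]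
          _ = t1 * (s * c) := by ring
          _ = t1 * (b * d) := by rw [hd]
          _ = b * (t1 * d) := by ring
      have hmem : ∀ y : R, y ∈ (t1 • (⊤ : Submodule R R)) ↔ t1 ∣ y := by
        intro y
        rw [Submodule.mem_smul_pointwise_iff_exists]
        constructor
        · rintro ⟨s, -, rfl⟩
          exact ⟨s, rfl⟩
        · rintro ⟨s, rfl⟩
          exact ⟨s, trivial, rfl⟩
      have h0 : (Submodule.Quotient.mk c1 : QuotSMulTop t1 R) = 0 := by
        apply ht2
        show t2 • (Submodule.Quotient.mk c1 : QuotSMulTop t1 R) = t2 • 0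
        rw [smul_zero, ← Submodule.Quotient.mk_smul, Submodule.Quotient.mk_eq_zero, hmem]
        exact hsoc t2 ht2m
      rw [Submodule.Quotient.mk_eq_zero, hmem] at h0
      exact hnd h0
  · refine le_iSup₂_of_le [b] ⟨(RingTheory.Sequence.isWeaklyRegular_singleton_iff R b).mpr hb,
      fun s hs => by rw [List.mem_singleton] at hs; rw [hs]; exact hbm⟩ ?_
    simp

/-- Transfer of the socle condition to the localization at an associated prime. -/
theorem depth_localization_eq_one {A : Type u} [CommRing A] (p : Ideal A) [p.IsPrime]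
    (R : Type u) [CommRing R] [IsLocalRing R] [Algebra A R] [IsLocalization.AtPrime R p]
    (β c : A) (hβp : β ∈ p) (hβ : β ∈ nonZeroDivisors A)
    (hcolon : ∀ s : A, β ∣ s * c ↔ s ∈ p) :
    LocCoh.depth R R = 1 := by
  have hflat : Module.Flat A R := IsLocalization.flat R p.primeCompl
  have hbnzd : algebraMap A R β ∈ nonZeroDivisors R :=
    Groth.Agent.Lib.helper11.MeroPseudo.map_mem_nonZeroDivisors_of_flat (algebraMap A R)
      ((RingHom.flat_algebraMap_iff).mpr hflat) β hβ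
  refine depth_eq_one_of_socle (algebraMap A R β) (algebraMap A R c) ?_ ?_ ?_ ?_
  · exact (IsLocalization.AtPrime.to_map_mem_maximal_iff R p β).mpr hβp
  · intro a a' haa'
    simp only [smul_eq_mul] at haa'
    have : algebraMap A R β * (a - a') = 0 := by rw [mul_sub, haa', sub_self]
    exact sub_eq_zero.mp ((mul_left_mem_nonZeroDivisors_eq_zero_iff hbnzd).mp this)
  · rintro ⟨r, hr⟩
    obtain ⟨a, s, rfl⟩ := IsLocalization.exists_mk'_eq p.primeCompl r
    have h1 : algebraMap A R (c * s) = algebraMap A R (β * a) := by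
      rw [map_mul, map_mul, hr, mul_assoc, IsLocalization.mk'_spec]
    obtain ⟨t, ht⟩ := (IsLocalization.eq_iff_exists p.primeCompl R).mp h1
    have h2 : β ∣ (t * s : A) * c := ⟨t * a, by
      calc (t * s : A) * c = t * (c * s) := by ring
        _ = t * (β * a) := ht
        _ = β * (t * a) := by ring⟩
    have h3 : (t * s : A) ∈ p := (hcolon _).mp h2
    exact (p.primeCompl.mul_mem t.2 s.2) h3
  · intro y hy
    obtain ⟨q, s, rfl⟩ := IsLocalization.exists_mk'_eq p.primeCompl y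
    have hq : q ∈ p := (IsLocalization.AtPrime.mk'_mem_maximal_iff R p q s).mp hy
    obtain ⟨e, he⟩ := (hcolon q).mpr hq
    refine ⟨IsLocalization.mk' R e s, ?_⟩
    rw [mul_comm, IsLocalization.mul_mk'_eq_mk'_of_mul, IsLocalization.mul_mk'_eq_mk'_of_mul,
      mul_comm c q, he]


/-- divisibility in a localization at a prime, read in the base ring. -/
theorem exists_mul_iff_of_atPrime {A : Type u} [CommRing A] (p : Ideal A) [p.IsPrime]
    (R : Type u) [CommRing R] [Algebra A R] [IsLocalization.AtPrime R p] (α β : A) :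
    (∃ r : R, algebraMap A R α = algebraMap A R β * r) ↔ ∃ s : A, s ∉ p ∧ β ∣ s * α := by
  constructor
  · rintro ⟨r, hr⟩
    obtain ⟨c, t, rfl⟩ := IsLocalization.exists_mk'_eq p.primeCompl r
    have h1 : algebraMap A R (α * t) = algebraMap A R (β * c) := by
      rw [map_mul, map_mul, hr, mul_assoc, IsLocalization.mk'_spec]
    obtain ⟨t', ht'⟩ := (IsLocalization.eq_iff_exists p.primeCompl R).mp h1
    refine ⟨t' * t, p.primeCompl.mul_mem t'.2 t.2, ⟨t' * c, ?_⟩⟩
    calc (t' * t : A) * α = t' * (α * t) := by ring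
      _ = t' * (β * c) := ht'
      _ = β * (t' * c) := by ring
  · rintro ⟨s, hs, e, he⟩
    refine ⟨IsLocalization.mk' R e (⟨s, hs⟩ : p.primeCompl), ?_⟩
    rw [IsLocalization.mul_mk'_eq_mk'_of_mul, ← he]
    exact (IsLocalization.mk'_mul_cancel_left α (⟨s, hs⟩ : p.primeCompl)).symm

variable {X : Scheme.{u}}

/-- Local description of a divisor near a point of a locally Noetherian scheme. -/
theorem exists_local_description [IsLocallyNoetherian X] (D : Divisor X) (x : X) :
    ∃ (W : X.Opens) (_ : IsAffineOpen W) (_ : x ∈ W) (α β : Γ(X, W)),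
      α ∈ nonZeroDivisors Γ(X, W) ∧ β ∈ nonZeroDivisors Γ(X, W) ∧
      ∀ (z : X) (hz : z ∈ W),
        ∃ fz : (KStalk X z)ˣ, D.1 z = QuotientGroup.mk fz ∧
          (fz : KStalk X z) * algebraMap _ _ (X.presheaf.germ W z hz β) =
            algebraMap _ _ (X.presheaf.germ W z hz α) := by
  obtain ⟨U, hxU, f, hf⟩ := D.2 x
  obtain ⟨W, hW, hxW, hWU⟩ := Opens.isBasis_iff_nbhd.mp X.isBasis_affineOpens hxU
  haveI : IsNoetherianRing Γ(X, W) := IsLocallyNoetherian.component_noetherian ⟨W, hW⟩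
  let fW : Γ(kmod X, W) := (kmod X).presheaf.map (homOfLE hWU).op (f : Γ(kmod X, U))
  let fW' : Γ(kmod X, W) := (kmod X).presheaf.map (homOfLE hWU).op
    ((f⁻¹ : (Γ(kmod X, U))ˣ) : Γ(kmod X, U))
  have hff' : fW * fW' = 1 := by
    refine Subtype.ext (funext fun z => ?_)
    change (f : Γ(kmod X, U)).1 ⟨z.1, hWU z.2⟩ *
      ((f⁻¹ : (Γ(kmod X, U))ˣ) : Γ(kmod X, U)).1 ⟨z.1, hWU z.2⟩ = 1
    have := congrArg (fun t : Γ(kmod X, U) => t.1 ⟨z.1, hWU z.2⟩) (Units.mul_inv f)
    exact this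
  obtain ⟨a, b, hb, hab⟩ := exists_global_frac hW (Or.inl inferInstance) fW
  obtain ⟨a', b', hb', hab'⟩ := exists_global_frac hW (Or.inl inferInstance) fW'
  have haa' : a * a' = b * b' := by
    apply toK_injective W
    rw [map_mul, map_mul, ← hab, ← hab']
    calc fW * toK X W b * (fW' * toK X W b') = (fW * fW') * (toK X W b * toK X W b') := by ring
      _ = toK X W b * toK X W b' := by rw [hff', one_mul]
  have ha : a ∈ nonZeroDivisors Γ(X, W) := by
    rw [mem_nonZeroDivisors_iff_right]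
    intro k hk
    have h1 : k * (b * b') = 0 := by rw [← haa', ← mul_assoc, hk, zero_mul]
    exact (mul_right_mem_nonZeroDivisors_eq_zero_iff (mul_mem hb hb')).mp h1
  refine ⟨W, hW, hxW, a, b, ha, hb, fun z hz => ?_⟩
  refine ⟨Units.map (evalK X U ⟨z, hWU hz⟩).toMonoidHom f, hf ⟨z, hWU hz⟩, ?_⟩
  have h1 := congrArg (fun t : Γ(kmod X, W) => t.1 ⟨z, hz⟩) hab
  change fW.1 ⟨z, hz⟩ * (toK X W b).1 ⟨z, hz⟩ = (toK X W a).1 ⟨z, hz⟩ at h1
  rw [toK_eval_eq_algebraMap, toK_eval_eq_algebraMap] at h1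
  exact h1


theorem germ_mem_nonZeroDivisors {W : X.Opens} (hW : IsAffineOpen W) (a : Γ(X, W))
    (ha : a ∈ nonZeroDivisors Γ(X, W)) (z : X) (hz : z ∈ W) :
    X.presheaf.germ W z hz a ∈ nonZeroDivisors (X.presheaf.stalk z) :=
  mem_regSub_of_mem_nonZeroDivisors hW a ha ⟨z, hz⟩

/-- Triviality criterion for the germ of a divisor in terms of a local description. -/
theorem germ_eq_one_iff {W : X.Opens} (hW : IsAffineOpen W) (α β : Γ(X, W))
    (hα : α ∈ nonZeroDivisors Γ(X, W)) (hβ : β ∈ nonZeroDivisors Γ(X, W))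
    (z : X) (hz : z ∈ W) (fz : (KStalk X z)ˣ)
    (hfz : (fz : KStalk X z) * algebraMap _ _ (X.presheaf.germ W z hz β) =
      algebraMap _ _ (X.presheaf.germ W z hz α)) :
    (QuotientGroup.mk fz : Germ X z) = 1 ↔
      (∃ s : Γ(X, W), IsUnit (X.presheaf.germ W z hz s) ∧ β ∣ s * α) ∧
      (∃ s : Γ(X, W), IsUnit (X.presheaf.germ W z hz s) ∧ α ∣ s * β) := by
  letI := X.presheaf.algebra_section_stalk ⟨z, hz⟩
  haveI := hW.isLocalization_stalk ⟨z, hz⟩
  have hunit : ∀ s : Γ(X, W), IsUnit (X.presheaf.germ W z hz s) ↔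
      s ∉ (hW.primeIdealOf ⟨z, hz⟩).asIdeal := fun s =>
    IsLocalization.AtPrime.isUnit_to_map_iff (X.presheaf.stalk z)
      (hW.primeIdealOf ⟨z, hz⟩).asIdeal s
  have hR : ∀ a b : Γ(X, W), (∃ s : Γ(X, W), IsUnit (X.presheaf.germ W z hz s) ∧ b ∣ s * a) ↔
      ∃ r : X.presheaf.stalk z, X.presheaf.germ W z hz a = X.presheaf.germ W z hz b * r := by
    intro a b
    rw [show (∃ r : X.presheaf.stalk z, X.presheaf.germ W z hz a = X.presheaf.germ W z hz b * r) ↔
      (∃ r : X.presheaf.stalk z, algebraMap Γ(X, W) (X.presheaf.stalk z) a =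
        algebraMap Γ(X, W) (X.presheaf.stalk z) b * r) from Iff.rfl,
      exists_mul_iff_of_atPrime (hW.primeIdealOf ⟨z, hz⟩).asIdeal (X.presheaf.stalk z) a b]
    simp only [hunit]
  rw [hR α β, hR β α]
  have hgα := germ_mem_nonZeroDivisors hW α hα z hz
  have hgβ := germ_mem_nonZeroDivisors hW β hβ z hz
  have hβreg : X.presheaf.germ W z hz β ∈ regStalk X z :=
    germ_mem_regStalk ⟨z, hz⟩ (mem_regSub_of_mem_nonZeroDivisors hW β hβ)
  have hβunit : IsUnit (algebraMap (X.presheaf.stalk z) (KStalk X z) (X.presheaf.germ W z hz β)) :=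
    IsLocalization.map_units (KStalk X z) (⟨_, hβreg⟩ : regStalk X z)
  constructor
  · intro h
    rw [QuotientGroup.eq_one_iff] at h
    obtain ⟨u, hu⟩ := h
    have hu' : algebraMap (X.presheaf.stalk z) (KStalk X z) (u : X.presheaf.stalk z) = fz :=
      congrArg (fun t : (KStalk X z)ˣ => (t : KStalk X z)) hu
    rw [← hu', ← map_mul] at hfz
    have h1 := algebraMap_KStalk_injective z hfz
    refine ⟨⟨u, by rw [← h1, mul_comm]⟩, ⟨((u⁻¹ : (X.presheaf.stalk z)ˣ) : X.presheaf.stalk z), ?_⟩⟩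
    rw [← h1, mul_comm (u : X.presheaf.stalk z), mul_assoc, Units.mul_inv, mul_one]
  · rintro ⟨⟨r, hr⟩, ⟨r', hr'⟩⟩
    have h1 : X.presheaf.germ W z hz α * (r' * r - 1) = 0 := by
      rw [mul_sub, mul_one, ← mul_assoc, ← hr', ← hr, sub_self]
    have h2 : r' * r = 1 := sub_eq_zero.mp ((mul_left_mem_nonZeroDivisors_eq_zero_iff hgα).mp h1)
    have h3 : (fz : KStalk X z) = algebraMap (X.presheaf.stalk z) (KStalk X z) r := by
      apply hβunit.mul_right_cancel
      rw [hfz, hr, map_mul, mul_comm]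
    rw [QuotientGroup.eq_one_iff]
    refine ⟨⟨r, r', by rw [mul_comm]; exact h2, h2⟩, Units.ext ?_⟩
    exact h3.symm

/-- The depth computation at a point minimal over a colon ideal. -/
theorem depth_eq_one_of_colon {W : X.Opens} (hW : IsAffineOpen W)
    [IsNoetherianRing Γ(X, W)] (a b : Γ(X, W))
    (hb : b ∈ nonZeroDivisors Γ(X, W)) (x : X) (hxW : x ∈ W)
    (hx : ¬ ∃ s : Γ(X, W), IsUnit (X.presheaf.germ W x hxW s) ∧ b ∣ s * a)
    (hgen : ∀ (z : X) (hz : z ∈ W), z ⤳ x → z ≠ x →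
      ∃ s : Γ(X, W), IsUnit (X.presheaf.germ W z hz s) ∧ b ∣ s * a) :
    LocCoh.depth (X.presheaf.stalk x) (X.presheaf.stalk x) = 1 := by
  letI := X.presheaf.algebra_section_stalk ⟨x, hxW⟩
  haveI := hW.isLocalization_stalk ⟨x, hxW⟩
  set p : Ideal Γ(X, W) := (hW.primeIdealOf ⟨x, hxW⟩).asIdeal with hp
  have hunit : ∀ s : Γ(X, W), IsUnit (X.presheaf.germ W x hxW s) ↔ s ∉ p := fun s =>
    IsLocalization.AtPrime.isUnit_to_map_iff (X.presheaf.stalk x) p s
  let I : Ideal Γ(X, W) := (Ideal.span {b} : Submodule Γ(X, W) Γ(X, W)).colon {a}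
  have hI : ∀ s : Γ(X, W), s ∈ I ↔ b ∣ s * a := by
    intro s
    change s ∈ (Ideal.span {b} : Submodule Γ(X, W) Γ(X, W)).colon {a} ↔ _
    rw [Submodule.mem_colon_singleton, smul_eq_mul]
    exact Ideal.mem_span_singleton
  have hIp : I ≤ p := by
    intro s hs
    by_contra hsp
    exact hx ⟨s, (hunit s).mpr hsp, (hI s).mp hs⟩
  have hmin : p ∈ I.minimalPrimes := by
    refine ⟨⟨inferInstance, hIp⟩, ?_⟩
    rintro q ⟨hq, hIq⟩ hqp
    let y : PrimeSpectrum Γ(X, W) := ⟨q, hq⟩
    have hzW : hW.fromSpec y ∈ W := by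
      have : hW.fromSpec y ∈ Set.range hW.fromSpec := Set.mem_range_self y
      rw [hW.range_fromSpec] at this
      exact this
    have hxeq : hW.fromSpec (hW.primeIdealOf ⟨x, hxW⟩) = x := hW.fromSpec_primeIdealOf ⟨x, hxW⟩
    have hspec : hW.fromSpec y ⤳ x := by
      rw [← hxeq]
      exact ((PrimeSpectrum.le_iff_specializes y (hW.primeIdealOf ⟨x, hxW⟩)).mp hqp).map
        hW.fromSpec.continuous
    by_cases hzx : hW.fromSpec y = x
    · have : y = hW.primeIdealOf ⟨x, hxW⟩ := by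
        apply hW.fromSpec.isOpenEmbedding.injective
        rw [hzx, hxeq]
      rw [hp, ← this]
    · exfalso
      obtain ⟨s, hs, hdiv⟩ := hgen _ hzW hspec hzx
      have hsq : s ∈ q := hIq ((hI s).mpr hdiv)
      have := (@IsLocalization.AtPrime.isUnit_to_map_iff Γ(X, W) _ (X.presheaf.stalk (hW.fromSpec y)) _
        (X.presheaf.algebra_section_stalk ⟨hW.fromSpec y, hzW⟩) y.asIdeal y.isPrime
        (hW.isLocalization_stalk' y hzW) s).mp hs
      exact this hsq
  obtain ⟨c, hc⟩ := Submodule.exists_eq_colon_of_mem_minimalPrimes hmin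
  have hcolon : ∀ s : Γ(X, W), b ∣ s * c ↔ s ∈ p := by
    intro s
    rw [hc, Submodule.mem_colon_singleton, smul_eq_mul]
    exact Ideal.mem_span_singleton.symm
  have hbp : b ∈ p := hIp ((hI b).mpr ⟨a, rfl⟩)
  exact depth_localization_eq_one p (X.presheaf.stalk x) b c hbp hb hcolon

/-- A maximal point of the support of a divisor on a locally Noetherian scheme has depth one. -/
theorem depth_eq_one_of_maximal [IsLocallyNoetherian X] (D : Divisor X) (x : X) (hx : D.1 x ≠ 1)
    (hmax : ∀ z : X, D.1 z ≠ 1 → z ⤳ x → z = x) :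
    LocCoh.depth (X.presheaf.stalk x) (X.presheaf.stalk x) = 1 := by
  obtain ⟨W, hW, hxW, α, β, hα, hβ, hdesc⟩ := exists_local_description D x
  haveI : IsNoetherianRing Γ(X, W) := IsLocallyNoetherian.component_noetherian ⟨W, hW⟩
  obtain ⟨fx, hDx, hfx⟩ := hdesc x hxW
  rw [hDx, Ne, germ_eq_one_iff hW α β hα hβ x hxW fx hfx] at hx
  have hgen : ∀ (z : X) (hz : z ∈ W), z ⤳ x → z ≠ x →
      (∃ s : Γ(X, W), IsUnit (X.presheaf.germ W z hz s) ∧ β ∣ s * α) ∧
      (∃ s : Γ(X, W), IsUnit (X.presheaf.germ W z hz s) ∧ α ∣ s * β) := by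
    intro z hz hzx hne
    obtain ⟨fz, hDz, hfz⟩ := hdesc z hz
    have h1 : D.1 z = 1 := by
      by_contra h
      exact hne (hmax z h hzx)
    rw [hDz] at h1
    exact (germ_eq_one_iff hW α β hα hβ z hz fz hfz).mp h1
  by_cases hP : ∃ s : Γ(X, W), IsUnit (X.presheaf.germ W x hxW s) ∧ β ∣ s * α
  · have hQ : ¬ ∃ s : Γ(X, W), IsUnit (X.presheaf.germ W x hxW s) ∧ α ∣ s * β :=
      fun hQ => hx ⟨hP, hQ⟩
    exact depth_eq_one_of_colon hW β α hα x hxW hQ (fun z hz hzx hne => (hgen z hz hzx hne).2)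
  · exact depth_eq_one_of_colon hW α β hβ x hxW hP (fun z hz hzx hne => (hgen z hz hzx hne).1)

end Groth.Agent.Lib.helper11.MeroDepth2
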