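import Mathlib
import Groth.Prelude.Def_CAlg
import Groth.Prelude.Def_MeroDiv
import Groth.Agent.Lib.helper11.MeroDepth2

set_option autoImplicit false
universe u
open CategoryTheory AlgebraicGeometry TopologicalSpace Opposite
open scoped Pointwise

namespace Groth.Agent.Lib.helper11.MeroDepth3

open Mero Groth.Agent.Lib.helper11.MeroBasic Groth.Agent.Lib.helper11.MeroPseudo
  Groth.Agent.Lib.helper11.MeroFrac Groth.Agent.Lib.helper11.MeroDepth
  Groth.Agent.Lib.helper11.MeroDepth2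

variable {X : Scheme.{u}}

/-- On a locally Noetherian scheme every nonzerodivisor of a local ring is the germ of a regular
section. -/
theorem mem_regStalk_of_mem_nonZeroDivisors [IsLocallyNoetherian X] (x : X)
    (r : X.presheaf.stalk x) (hr : r ∈ nonZeroDivisors (X.presheaf.stalk x)) :
    r ∈ regStalk X x := by
  classical
  obtain ⟨W, hW, hxW, -⟩ := Opens.isBasis_iff_nbhd.mp X.isBasis_affineOpens (Opens.mem_top x)
  haveI : IsNoetherianRing Γ(X, W) := IsLocallyNoetherian.component_noetherian ⟨W, hW⟩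
  letI := X.presheaf.algebra_section_stalk ⟨x, hxW⟩
  haveI := hW.isLocalization_stalk ⟨x, hxW⟩
  set p : Ideal Γ(X, W) := (hW.primeIdealOf ⟨x, hxW⟩).asIdeal with hp
  obtain ⟨a0, t, rfl⟩ := IsLocalization.exists_mk'_eq p.primeCompl r
  have hspec : IsLocalization.mk' (X.presheaf.stalk x) a0 t *
      algebraMap Γ(X, W) (X.presheaf.stalk x) t = algebraMap Γ(X, W) (X.presheaf.stalk x) a0 :=
    IsLocalization.mk'_spec _ a0 t
  let K : Ideal Γ(X, W) := (⊥ : Submodule Γ(X, W) Γ(X, W)).colon {a0}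
  have hK : ∀ k, k ∈ K ↔ k * a0 = 0 := by
    intro k
    change k ∈ (⊥ : Submodule Γ(X, W) Γ(X, W)).colon {a0} ↔ _
    rw [Submodule.mem_colon_singleton, smul_eq_mul, Submodule.mem_bot]
  have hkill : ∀ k ∈ K, ∃ s : p.primeCompl, (s : Γ(X, W)) * k = 0 := by
    intro k hk
    have h2 : algebraMap Γ(X, W) (X.presheaf.stalk x) k *
        algebraMap Γ(X, W) (X.presheaf.stalk x) a0 = 0 := by
      rw [← map_mul, (hK k).mp hk, map_zero]
    rw [← hspec, ← mul_assoc] at h2
    have hu : IsUnit (algebraMap Γ(X, W) (X.presheaf.stalk x) t) :=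
      IsLocalization.map_units _ t
    have h1 := hu.mul_left_eq_zero.mp h2
    have h3 : algebraMap Γ(X, W) (X.presheaf.stalk x) k = 0 :=
      (mul_right_mem_nonZeroDivisors_eq_zero_iff hr).mp h1
    exact (IsLocalization.map_eq_zero_iff p.primeCompl _ k).mp h3
  obtain ⟨S, hS⟩ := (isNoetherianRing_iff_ideal_fg Γ(X, W)).mp inferInstance K
  choose! sk hsk using hkill
  let t' : Γ(X, W) := ∏ k ∈ S, (sk k : Γ(X, W))
  have ht'p : t' ∈ p.primeCompl := Submonoid.prod_mem _ (fun k _ => (sk k).2)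
  have ht'K : ∀ k ∈ K, t' * k = 0 := by
    intro k hk
    rw [← hS] at hk
    refine Submodule.span_induction ?_ ?_ ?_ ?_ hk
    · intro k hkS
      have hkK : k ∈ K := hS ▸ Submodule.subset_span hkS
      show (∏ j ∈ S, (sk j : Γ(X, W))) * k = 0
      rw [← Finset.mul_prod_erase S _ hkS, mul_comm (sk k : Γ(X, W)), mul_assoc, hsk k hkK,
        mul_zero]
    · simp
    · intro a b _ _ ha hb
      rw [mul_add, ha, hb, add_zero]
    · intro c a _ ha
      rw [smul_eq_mul, mul_left_comm, ha, mul_zero]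
  -- the neighbourhood
  have hxW' : x ∈ X.basicOpen (t' * (t : Γ(X, W))) := by
    rw [X.mem_basicOpen _ x hxW]
    exact IsLocalization.map_units (X.presheaf.stalk x)
      (⟨t' * (t : Γ(X, W)), p.primeCompl.mul_mem ht'p t.2⟩ : p.primeCompl)
  have hW'W : X.basicOpen (t' * (t : Γ(X, W))) ≤ W := X.basicOpen_le _
  have hu0 : IsUnit (X.presheaf.map (homOfLE hW'W).op (t' * (t : Γ(X, W)))) :=
    X.toRingedSpace.isUnit_res_basicOpen _
  rw [map_mul] at hu0
  obtain ⟨ut, hut⟩ := isUnit_of_mul_isUnit_right hu0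
  -- germs of a0 are nonzerodivisors on the neighbourhood
  have ha0 : ∀ (y : X) (hy : y ∈ X.basicOpen (t' * (t : Γ(X, W)))),
      X.presheaf.germ W y (hW'W hy) a0 ∈ nonZeroDivisors (X.presheaf.stalk y) := by
    intro y hy
    have hyW : y ∈ W := hW'W hy
    letI := X.presheaf.algebra_section_stalk ⟨y, hyW⟩
    haveI := hW.isLocalization_stalk ⟨y, hyW⟩
    have ht'y : t' ∈ (hW.primeIdealOf ⟨y, hyW⟩).asIdeal.primeCompl := by
      rw [← IsLocalization.AtPrime.isUnit_to_map_iff (X.presheaf.stalk y)]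
      have h1 : IsUnit (X.presheaf.germ W y hyW (t' * (t : Γ(X, W)))) :=
        (X.mem_basicOpen _ y hyW).mp hy
      rw [map_mul] at h1
      exact isUnit_of_mul_isUnit_left h1
    rw [mem_nonZeroDivisors_iff_right]
    intro w hw
    obtain ⟨c, s, rfl⟩ := IsLocalization.exists_mk'_eq
      (hW.primeIdealOf ⟨y, hyW⟩).asIdeal.primeCompl w
    have h1 : IsLocalization.mk' (X.presheaf.stalk y) (c * a0) s = 0 := by
      rw [← hw, mul_comm c a0, ← IsLocalization.mul_mk'_eq_mk'_of_mul, mul_comm]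
      rfl
    rw [IsLocalization.mk'_eq_zero_iff] at h1
    obtain ⟨m, hm⟩ := h1
    have h2 : (m : Γ(X, W)) * c ∈ K := (hK _).mpr (by rw [mul_assoc]; exact hm)
    have h3 := ht'K _ h2
    rw [IsLocalization.mk'_eq_zero_iff]
    exact ⟨⟨t', ht'y⟩ * m, by
      change t' * (m : Γ(X, W)) * c = 0
      rw [mul_assoc]; exact h3⟩
  refine ⟨X.basicOpen (t' * (t : Γ(X, W))), hxW',
    X.presheaf.map (homOfLE hW'W).op a0 * ((ut⁻¹ : (Γ(X, X.basicOpen (t' * (t : Γ(X, W)))))ˣ) :
      Γ(X, X.basicOpen (t' * (t : Γ(X, W))))), ?_, ?_⟩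
  · intro y
    have h0 := ha0 y.1 y.2
    rw [mem_nonZeroDivisors_iff_right] at h0 ⊢
    intro w hw
    apply h0
    have h1 : X.presheaf.germ W y.1 (hW'W y.2) a0 =
        X.presheaf.germ _ y.1 y.2 (X.presheaf.map (homOfLE hW'W).op a0 *
          ((ut⁻¹ : (Γ(X, X.basicOpen (t' * (t : Γ(X, W)))))ˣ) :
            Γ(X, X.basicOpen (t' * (t : Γ(X, W)))))) * X.presheaf.germ _ y.1 y.2 (ut :
              Γ(X, X.basicOpen (t' * (t : Γ(X, W))))) := by
      rw [← map_mul, mul_assoc, Units.inv_mul, mul_one, TopCat.Presheaf.germ_res_apply]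
    rw [h1, mul_comm (X.presheaf.germ _ y.1 y.2 _), ← mul_assoc, mul_comm w, mul_assoc, hw,
      mul_zero]
  · rw [IsLocalization.eq_mk'_iff_mul_eq]
    change _ * X.presheaf.germ W x hxW (t : Γ(X, W)) = X.presheaf.germ W x hxW a0
    rw [← TopCat.Presheaf.germ_res_apply X.presheaf (homOfLE hW'W) x hxW' (t : Γ(X, W)), ← hut,
      ← map_mul, mul_assoc, Units.inv_mul, mul_one, TopCat.Presheaf.germ_res_apply]


theorem exists_unit_dvd_iff {W : X.Opens} (hW : IsAffineOpen W) (a b : Γ(X, W)) (z : X)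
    (hz : z ∈ W) :
    (∃ s : Γ(X, W), IsUnit (X.presheaf.germ W z hz s) ∧ b ∣ s * a) ↔
      ∃ r : X.presheaf.stalk z, X.presheaf.germ W z hz a = X.presheaf.germ W z hz b * r := by
  letI := X.presheaf.algebra_section_stalk ⟨z, hz⟩
  haveI := hW.isLocalization_stalk ⟨z, hz⟩
  have hunit : ∀ s : Γ(X, W), IsUnit (X.presheaf.germ W z hz s) ↔
      s ∉ (hW.primeIdealOf ⟨z, hz⟩).asIdeal := fun s =>
    IsLocalization.AtPrime.isUnit_to_map_iff (X.presheaf.stalk z)
      (hW.primeIdealOf ⟨z, hz⟩).asIdeal s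
  rw [show (∃ r : X.presheaf.stalk z, X.presheaf.germ W z hz a = X.presheaf.germ W z hz b * r) ↔
    (∃ r : X.presheaf.stalk z, algebraMap Γ(X, W) (X.presheaf.stalk z) a =
      algebraMap Γ(X, W) (X.presheaf.stalk z) b * r) from Iff.rfl,
    exists_mul_iff_of_atPrime (hW.primeIdealOf ⟨z, hz⟩).asIdeal (X.presheaf.stalk z) a b]
  simp only [hunit]

theorem depth_eq_one_of_minimalPrimes {W : X.Opens} (hW : IsAffineOpen W)
    [IsNoetherianRing Γ(X, W)] (a b : Γ(X, W)) (hb : b ∈ nonZeroDivisors Γ(X, W))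
    (y : PrimeSpectrum Γ(X, W)) (hzW : hW.fromSpec y ∈ W)
    (hy : y.asIdeal ∈ ((Ideal.span {b} : Submodule Γ(X, W) Γ(X, W)).colon {a}).minimalPrimes) :
    LocCoh.depth (X.presheaf.stalk (hW.fromSpec y)) (X.presheaf.stalk (hW.fromSpec y)) = 1 := by
  obtain ⟨c, hc⟩ := Submodule.exists_eq_colon_of_mem_minimalPrimes hy
  have hcolon : ∀ s : Γ(X, W), b ∣ s * c ↔ s ∈ y.asIdeal := by
    intro s
    rw [hc, Submodule.mem_colon_singleton, smul_eq_mul]
    exact Ideal.mem_span_singleton.symm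
  have hbp : b ∈ y.asIdeal := by
    apply hy.1.2
    rw [Submodule.mem_colon_singleton, smul_eq_mul]
    exact Ideal.mem_span_singleton.mpr ⟨a, rfl⟩
  exact @depth_localization_eq_one Γ(X, W) _ y.asIdeal y.isPrime
    (X.presheaf.stalk (hW.fromSpec y)) _ _
    (X.presheaf.algebra_section_stalk ⟨hW.fromSpec y, hzW⟩) (hW.isLocalization_stalk' y hzW)
    b c hbp hb hcolon

/-- If `b ∤ s a` for all `s` invertible at `x`, then the same happens at a point of depth one. -/
theorem exists_depth_one_of_not_dvd {W : X.Opens} (hW : IsAffineOpen W)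
    [IsNoetherianRing Γ(X, W)] (a b : Γ(X, W)) (hb : b ∈ nonZeroDivisors Γ(X, W))
    (x : X) (hxW : x ∈ W)
    (hx : ¬ ∃ s : Γ(X, W), IsUnit (X.presheaf.germ W x hxW s) ∧ b ∣ s * a) :
    ∃ (z : X) (hz : z ∈ W), LocCoh.depth (X.presheaf.stalk z) (X.presheaf.stalk z) = 1 ∧
      ¬ ∃ s : Γ(X, W), IsUnit (X.presheaf.germ W z hz s) ∧ b ∣ s * a := by
  letI := X.presheaf.algebra_section_stalk ⟨x, hxW⟩
  haveI := hW.isLocalization_stalk ⟨x, hxW⟩
  have hunit : ∀ s : Γ(X, W), IsUnit (X.presheaf.germ W x hxW s) ↔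
      s ∉ (hW.primeIdealOf ⟨x, hxW⟩).asIdeal := fun s =>
    IsLocalization.AtPrime.isUnit_to_map_iff (X.presheaf.stalk x)
      (hW.primeIdealOf ⟨x, hxW⟩).asIdeal s
  have hI : ∀ s : Γ(X, W),
      s ∈ (Ideal.span {b} : Submodule Γ(X, W) Γ(X, W)).colon {a} ↔ b ∣ s * a := by
    intro s
    rw [Submodule.mem_colon_singleton, smul_eq_mul]
    exact Ideal.mem_span_singleton
  have hIp : (Ideal.span {b} : Submodule Γ(X, W) Γ(X, W)).colon {a} ≤
      (hW.primeIdealOf ⟨x, hxW⟩).asIdeal := by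
    intro s hs
    by_contra hsp
    exact hx ⟨s, (hunit s).mpr hsp, (hI s).mp hs⟩
  obtain ⟨q, hq, -⟩ := Ideal.exists_minimalPrimes_le hIp
  let y : PrimeSpectrum Γ(X, W) := ⟨q, hq.1.1⟩
  have hzW : hW.fromSpec y ∈ W := by
    have : hW.fromSpec y ∈ Set.range hW.fromSpec := Set.mem_range_self y
    rw [hW.range_fromSpec] at this
    exact this
  refine ⟨hW.fromSpec y, hzW, depth_eq_one_of_minimalPrimes hW a b hb y hzW hq, ?_⟩
  rintro ⟨s, hs, hdiv⟩
  have hsq : s ∈ q := hq.1.2 ((hI s).mpr hdiv)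
  have := (@IsLocalization.AtPrime.isUnit_to_map_iff Γ(X, W) _ (X.presheaf.stalk (hW.fromSpec y)) _
    (X.presheaf.algebra_section_stalk ⟨hW.fromSpec y, hzW⟩) y.asIdeal y.isPrime
    (hW.isLocalization_stalk' y hzW) s).mp hs
  exact this hsq

/-- effectivity from divisibility. -/
theorem isEffectiveAt_of_dvd [IsLocallyNoetherian X] (D : Divisor X) {W : X.Opens}
    (hW : IsAffineOpen W) (α β : Γ(X, W))
    (hα : α ∈ nonZeroDivisors Γ(X, W)) (hβ : β ∈ nonZeroDivisors Γ(X, W))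
    (z : X) (hz : z ∈ W) (fz : (KStalk X z)ˣ) (hD : D.1 z = QuotientGroup.mk fz)
    (hfz : (fz : KStalk X z) * algebraMap _ _ (X.presheaf.germ W z hz β) =
      algebraMap _ _ (X.presheaf.germ W z hz α))
    (h : ∃ s : Γ(X, W), IsUnit (X.presheaf.germ W z hz s) ∧ β ∣ s * α) :
    IsEffectiveAt D z := by
  rw [exists_unit_dvd_iff hW α β z hz] at h
  obtain ⟨r, hr⟩ := h
  have hgα := germ_mem_nonZeroDivisors hW α hα z hz
  have hβreg : X.presheaf.germ W z hz β ∈ regStalk X z :=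
    germ_mem_regStalk ⟨z, hz⟩ (mem_regSub_of_mem_nonZeroDivisors hW β hβ)
  have hβunit : IsUnit (algebraMap (X.presheaf.stalk z) (KStalk X z) (X.presheaf.germ W z hz β)) :=
    IsLocalization.map_units (KStalk X z) (⟨_, hβreg⟩ : regStalk X z)
  have hrnzd : r ∈ nonZeroDivisors (X.presheaf.stalk z) := by
    rw [mem_nonZeroDivisors_iff_right]
    intro w hw
    apply (mem_nonZeroDivisors_iff_right.mp hgα)
    rw [hr, mul_comm (X.presheaf.germ W z hz β), ← mul_assoc, hw, zero_mul]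
  have hrreg : r ∈ regStalk X z := mem_regStalk_of_mem_nonZeroDivisors z r hrnzd
  have h3 : (fz : KStalk X z) = algebraMap (X.presheaf.stalk z) (KStalk X z) r := by
    apply hβunit.mul_right_cancel
    rw [hfz, hr, map_mul, mul_comm]
  refine ⟨⟨r, hrreg⟩, ?_⟩
  rw [hD]
  congr 1
  apply Units.ext
  rw [h3]
  rfl

/-- divisibility from effectivity. -/
theorem dvd_of_isEffectiveAt (D : Divisor X) {W : X.Opens}
    (hW : IsAffineOpen W) (α β : Γ(X, W))
    (z : X) (hz : z ∈ W) (fz : (KStalk X z)ˣ) (hD : D.1 z = QuotientGroup.mk fz)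
    (hfz : (fz : KStalk X z) * algebraMap _ _ (X.presheaf.germ W z hz β) =
      algebraMap _ _ (X.presheaf.germ W z hz α))
    (h : IsEffectiveAt D z) :
    ∃ s : Γ(X, W), IsUnit (X.presheaf.germ W z hz s) ∧ β ∣ s * α := by
  rw [exists_unit_dvd_iff hW α β z hz]
  obtain ⟨a, ha⟩ := h
  rw [hD, QuotientGroup.eq] at ha
  obtain ⟨u, hu⟩ := ha
  have hu' : algebraMap (X.presheaf.stalk z) (KStalk X z) (u : X.presheaf.stalk z) =
      ((fz⁻¹ : (KStalk X z)ˣ) : KStalk X z) * algebraMap (X.presheaf.stalk z) (KStalk X z) a := by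
    have := congrArg (fun t : (KStalk X z)ˣ => (t : KStalk X z)) hu
    exact this
  have h1 : algebraMap (X.presheaf.stalk z) (KStalk X z)
      (X.presheaf.germ W z hz α * (u : X.presheaf.stalk z)) =
      algebraMap (X.presheaf.stalk z) (KStalk X z) (X.presheaf.germ W z hz β * a) := by
    rw [map_mul, map_mul, hu', ← hfz]
    have : (fz : KStalk X z) * ((fz⁻¹ : (KStalk X z)ˣ) : KStalk X z) = 1 := Units.mul_inv fz
    calc (fz : KStalk X z) * algebraMap _ _ (X.presheaf.germ W z hz β) *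
          (((fz⁻¹ : (KStalk X z)ˣ) : KStalk X z) * algebraMap _ _ (a : X.presheaf.stalk z))
        = ((fz : KStalk X z) * ((fz⁻¹ : (KStalk X z)ˣ) : KStalk X z)) *
          (algebraMap _ _ (X.presheaf.germ W z hz β) * algebraMap _ _ (a : X.presheaf.stalk z)) := by
          ring
      _ = algebraMap _ _ (X.presheaf.germ W z hz β) * algebraMap _ _ (a : X.presheaf.stalk z) := by
          rw [this, one_mul]
  have h2 := algebraMap_KStalk_injective z h1
  refine ⟨(a : X.presheaf.stalk z) * ((u⁻¹ : (X.presheaf.stalk z)ˣ) : X.presheaf.stalk z), ?_⟩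
  rw [← mul_assoc, ← h2, mul_assoc, Units.mul_inv, mul_one]

/-- The main theorem: effectivity and triviality of divisors can be tested at depth one points. -/
theorem main [IsLocallyNoetherian X] (D : Divisor X) :
    ((∀ x : X, LocCoh.depth (X.presheaf.stalk x) (X.presheaf.stalk x) = 1 → IsEffectiveAt D x) →
        IsEffective D) ∧
      ((∀ x : X, LocCoh.depth (X.presheaf.stalk x) (X.presheaf.stalk x) = 1 → D.1 x = 1) →
        D = 1) := by
  constructor
  · intro h x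
    by_contra hne
    obtain ⟨W, hW, hxW, α, β, hα, hβ, hdesc⟩ := exists_local_description D x
    haveI : IsNoetherianRing Γ(X, W) := IsLocallyNoetherian.component_noetherian ⟨W, hW⟩
    obtain ⟨fx, hDx, hfx⟩ := hdesc x hxW
    have hP : ¬ ∃ s : Γ(X, W), IsUnit (X.presheaf.germ W x hxW s) ∧ β ∣ s * α := fun hP =>
      hne (isEffectiveAt_of_dvd D hW α β hα hβ x hxW fx hDx hfx hP)
    obtain ⟨z, hz, hdepth, hPz⟩ := exists_depth_one_of_not_dvd hW α β hβ x hxW hP
    obtain ⟨fz, hDz, hfz⟩ := hdesc z hz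
    exact hPz (dvd_of_isEffectiveAt D hW α β z hz fz hDz hfz (h z hdepth))
  · intro h
    apply Subtype.ext
    funext x
    show D.1 x = 1
    by_contra hne
    obtain ⟨W, hW, hxW, α, β, hα, hβ, hdesc⟩ := exists_local_description D x
    haveI : IsNoetherianRing Γ(X, W) := IsLocallyNoetherian.component_noetherian ⟨W, hW⟩
    obtain ⟨fx, hDx, hfx⟩ := hdesc x hxW
    rw [hDx, germ_eq_one_iff hW α β hα hβ x hxW fx hfx] at hne
    by_cases hP : ∃ s : Γ(X, W), IsUnit (X.presheaf.germ W x hxW s) ∧ β ∣ s * α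
    · have hQ : ¬ ∃ s : Γ(X, W), IsUnit (X.presheaf.germ W x hxW s) ∧ α ∣ s * β :=
        fun hQ => hne ⟨hP, hQ⟩
      obtain ⟨z, hz, hdepth, hQz⟩ := exists_depth_one_of_not_dvd hW β α hα x hxW hQ
      obtain ⟨fz, hDz, hfz⟩ := hdesc z hz
      have h1 := h z hdepth
      rw [hDz, germ_eq_one_iff hW α β hα hβ z hz fz hfz] at h1
      exact hQz h1.2
    · obtain ⟨z, hz, hdepth, hPz⟩ := exists_depth_one_of_not_dvd hW α β hβ x hxW hP
      obtain ⟨fz, hDz, hfz⟩ := hdesc z hz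
      have h1 := h z hdepth
      rw [hDz, germ_eq_one_iff hW α β hα hβ z hz fz hfz] at h1
      exact hPz h1.1

end Groth.Agent.Lib.helper11.MeroDepth3
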