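import Mathlib
import Groth.Prelude.Def_MeroDiv
import Groth.Agent.Lib.helper11.MeroCharts4
import Groth.Agent.Lib.helper17.NoEmb

set_option autoImplicit false
universe u
open CategoryTheory AlgebraicGeometry TopologicalSpace Opposite

namespace Groth.Agent.Lib.helper11.MeroNoeth

open Mero Groth.Agent.Lib.helper11.MeroBasic Groth.Agent.Lib.helper11.MeroPseudo
  Groth.Agent.Lib.helper11.MeroFrac Groth.Agent.Lib.helper11.MeroDepth
  Groth.Agent.Lib.helper11.MeroGeneric Groth.Agent.Lib.helper11.MeroGeneric2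
  Groth.Agent.Lib.helper11.MeroRegSec Groth.Agent.Lib.helper11.MeroCharts

variable {X : Scheme.{u}}

/-- L1 (ring level). -/
theorem maximalIdeal_eq_colon {W : X.Opens} (hW : IsAffineOpen W) (y : X) (hy : y ∈ W)
    (a : Γ(X, W))
    (ha : (hW.primeIdealOf ⟨y, hy⟩).asIdeal = (⊥ : Submodule Γ(X, W) Γ(X, W)).colon {a}) :
    IsLocalRing.maximalIdeal (X.presheaf.stalk y) =
      (⊥ : Submodule (X.presheaf.stalk y) (X.presheaf.stalk y)).colon
        {X.presheaf.germ W y hy a} := by
  letI := X.presheaf.algebra_section_stalk ⟨y, hy⟩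
  haveI := hW.isLocalization_stalk ⟨y, hy⟩
  ext ρ
  obtain ⟨s, t, rfl⟩ := IsLocalization.exists_mk'_eq (hW.primeIdealOf ⟨y, hy⟩).asIdeal.primeCompl ρ
  rw [IsLocalization.AtPrime.mk'_mem_maximal_iff (X.presheaf.stalk y)
    (hW.primeIdealOf ⟨y, hy⟩).asIdeal, Submodule.mem_colon_singleton, Submodule.mem_bot]
  have h1 : IsLocalization.mk' (X.presheaf.stalk y) s t • X.presheaf.germ W y hy a =
      IsLocalization.mk' (X.presheaf.stalk y) (a * s) t := by
    rw [smul_eq_mul, mul_comm]
    exact IsLocalization.mul_mk'_eq_mk'_of_mul a s t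
  rw [h1, IsLocalization.mk'_eq_zero_iff]
  constructor
  · intro hs
    exact ⟨1, by
      have : s ∈ (⊥ : Submodule Γ(X, W) Γ(X, W)).colon {a} := (SetLike.ext_iff.mp ha _).mp hs
      rw [Submodule.mem_colon_singleton, Submodule.mem_bot, smul_eq_mul] at this
      rw [Submonoid.coe_one, one_mul, mul_comm, this]⟩
  · rintro ⟨t', ht'⟩
    have h2' : (t' : Γ(X, W)) * s ∈ (⊥ : Submodule Γ(X, W) Γ(X, W)).colon {a} := by
      rw [Submodule.mem_colon_singleton, Submodule.mem_bot, smul_eq_mul, ← ht']; ring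
    have h2 : (t' : Γ(X, W)) * s ∈ (hW.primeIdealOf ⟨y, hy⟩).asIdeal :=
      (SetLike.ext_iff.mp ha _).mpr h2'
    exact ((hW.primeIdealOf ⟨y, hy⟩).isPrime.mem_or_mem h2).resolve_left t'.2

open Groth.Agent.Lib.helper17 in
theorem isAssPoint_of_colon [IsLocallyNoetherian X] {W : X.Opens} (hW : IsAffineOpen W) (y : X)
    (hy : y ∈ W) (a : Γ(X, W))
    (ha : (hW.primeIdealOf ⟨y, hy⟩).asIdeal = (⊥ : Submodule Γ(X, W) Γ(X, W)).colon {a}) :
    Curv2.IsAssPoint (Coh.structureModule X) y := by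
  have h1 := maximalIdeal_eq_colon hW y hy a ha
  refine (isAssociatedPrime_iff).mpr ⟨inferInstance,
    TopCat.Presheaf.germ (Coh.structureModule X).presheaf W y hy (NoEmb.toF X W a), ?_⟩
  rw [NoEmb.colon_eq]
  exact h1

theorem primeIdealOf_fromSpec {W : X.Opens} (hW : IsAffineOpen W) (p : PrimeSpectrum Γ(X, W))
    (h : hW.fromSpec p ∈ W) : hW.primeIdealOf ⟨hW.fromSpec p, h⟩ = p := by
  apply hW.fromSpec.isOpenEmbedding.injective
  exact hW.fromSpec_primeIdealOf ⟨hW.fromSpec p, h⟩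

theorem fromSpec_mem {W : X.Opens} (hW : IsAffineOpen W) (p : PrimeSpectrum Γ(X, W)) :
    hW.fromSpec p ∈ W := by
  have : hW.fromSpec p ∈ Set.range hW.fromSpec := Set.mem_range_self p
  rw [hW.range_fromSpec] at this
  exact this

/-- L2 -/
theorem exists_assPoint_germ_ne_zero [IsLocallyNoetherian X] {W : X.Opens} (c : Γ(X, W))
    (hc : c ≠ 0) :
    ∃ (y : X) (hy : y ∈ W), Curv2.IsAssPoint (Coh.structureModule X) y ∧
      X.presheaf.germ W y hy c ≠ 0 := by
  obtain ⟨x, hx, hgx⟩ : ∃ x, ∃ hx : x ∈ W, X.presheaf.germ W x hx c ≠ 0 := by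
    by_contra hcon
    push_neg at hcon
    refine hc (TopCat.Presheaf.section_ext X.sheaf W c 0 (fun x hx => ?_))
    change X.presheaf.germ W x hx c = X.presheaf.germ W x hx 0
    rw [hcon x hx, map_zero]
  obtain ⟨W', hW', hxW', hW'W⟩ := Opens.isBasis_iff_nbhd.mp X.isBasis_affineOpens hx
  haveI : IsNoetherianRing Γ(X, W') := IsLocallyNoetherian.component_noetherian ⟨W', hW'⟩
  have hc' : X.presheaf.map (homOfLE hW'W).op c ≠ 0 := by
    intro h0
    apply hgx
    rw [← TopCat.Presheaf.germ_res_apply X.presheaf (homOfLE hW'W) x hxW' c, h0, map_zero]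
  obtain ⟨P, hP, hle⟩ := exists_le_isAssociatedPrime_of_isNoetherianRing (R := Γ(X, W'))
    (M := Γ(X, W')) _ hc'
  obtain ⟨hPprime, a, hPa⟩ := isAssociatedPrime_iff.mp hP
  let yP : PrimeSpectrum Γ(X, W') := ⟨P, hPprime⟩
  have hyW' : hW'.fromSpec yP ∈ W' := fromSpec_mem hW' yP
  have hpr := primeIdealOf_fromSpec hW' yP hyW'
  have ha : (hW'.primeIdealOf ⟨hW'.fromSpec yP, hyW'⟩).asIdeal =
      (⊥ : Submodule Γ(X, W') Γ(X, W')).colon {a} := by
    rw [hpr]; exact hPa
  refine ⟨hW'.fromSpec yP, hW'W hyW', isAssPoint_of_colon hW' _ hyW' a ha, ?_⟩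
  intro h0
  rw [← TopCat.Presheaf.germ_res_apply X.presheaf (homOfLE hW'W) _ hyW' c] at h0
  letI := X.presheaf.algebra_section_stalk ⟨hW'.fromSpec yP, hyW'⟩
  haveI := hW'.isLocalization_stalk ⟨hW'.fromSpec yP, hyW'⟩
  obtain ⟨m, hm⟩ := (IsLocalization.map_eq_zero_iff
    (hW'.primeIdealOf ⟨hW'.fromSpec yP, hyW'⟩).asIdeal.primeCompl
    (X.presheaf.stalk (hW'.fromSpec yP)) _).mp h0
  have hmP : (m : Γ(X, W')) ∈ P := by
    apply hle
    rw [Submodule.mem_colon_singleton, Submodule.mem_bot, smul_eq_mul]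
    exact hm
  have e : (hW'.primeIdealOf ⟨hW'.fromSpec yP, hyW'⟩).asIdeal = P :=
    congrArg PrimeSpectrum.asIdeal hpr
  exact m.2 ((SetLike.ext_iff.mp e _).mpr hmP)

/-- L3' : generic points are associated points. -/
theorem isAssPoint_of_generic [IsLocallyNoetherian X] (η : X)
    (hη : closure ({η} : Set X) ∈ irreducibleComponents X) :
    Curv2.IsAssPoint (Coh.structureModule X) η := by
  obtain ⟨W, hW, hηW, -⟩ := Opens.isBasis_iff_nbhd.mp X.isBasis_affineOpens (Opens.mem_top η)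
  haveI : IsNoetherianRing Γ(X, W) := IsLocallyNoetherian.component_noetherian ⟨W, hW⟩
  set p := hW.primeIdealOf ⟨η, hηW⟩ with hp
  have hpη : hW.fromSpec p = η := hW.fromSpec_primeIdealOf ⟨η, hηW⟩
  have hmin : p.asIdeal ∈ (⊥ : Ideal Γ(X, W)).minimalPrimes := by
    refine ⟨⟨p.isPrime, bot_le⟩, fun q hq hqp => ?_⟩
    let q' : PrimeSpectrum Γ(X, W) := ⟨q, hq.1⟩
    have h1 : q' ⤳ p := (PrimeSpectrum.le_iff_specializes q' p).mp hqp
    have h2 : hW.fromSpec q' ⤳ η := hpη ▸ h1.map hW.fromSpec.continuous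
    have h3 : closure ({η} : Set X) ⊆ closure ({hW.fromSpec q'} : Set X) :=
      closure_minimal (Set.singleton_subset_iff.mpr (specializes_iff_mem_closure.mp h2))
        isClosed_closure
    have h4 : closure ({hW.fromSpec q'} : Set X) ⊆ closure ({η} : Set X) :=
      hη.2 isIrreducible_singleton.closure h3
    have h5 : η ⤳ hW.fromSpec q' :=
      specializes_iff_mem_closure.mpr (h4 (subset_closure rfl))
    have h6 : hW.fromSpec q' = η := (h2.antisymm h5).eq
    have h7 : q' = p := hW.fromSpec.isOpenEmbedding.injective (h6.trans hpη.symm)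
    exact (congrArg PrimeSpectrum.asIdeal h7).ge
  have hann : Module.annihilator Γ(X, W) Γ(X, W) = ⊥ := by
    ext r
    rw [Module.mem_annihilator, Ideal.mem_bot]
    constructor
    · intro h
      have := h 1
      rwa [smul_eq_mul, mul_one] at this
    · rintro rfl m
      rw [zero_smul]
  have hass : p.asIdeal ∈ associatedPrimes Γ(X, W) Γ(X, W) :=
    Module.associatedPrimes.minimalPrimes_annihilator_subset_associatedPrimes Γ(X, W) Γ(X, W)
      (hann ▸ hmin)
  obtain ⟨-, a, ha⟩ := isAssociatedPrime_iff.mp hass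
  exact isAssPoint_of_colon hW η hηW a ha

/-- L3 : with no embedded points, associated points are generic. -/
theorem generic_of_isAssPoint [IsLocallyNoetherian X]
    (hne : ∀ x : ↥X, Curv2.IsAssPoint (Coh.structureModule X) x →
      ∀ y : ↥X, Curv2.IsAssPoint (Coh.structureModule X) y → y ⤳ x → y = x)
    (y : X) (hy : Curv2.IsAssPoint (Coh.structureModule X) y) :
    closure ({y} : Set X) ∈ irreducibleComponents X := by
  obtain ⟨η, hη⟩ := QuasiSober.sober (isIrreducible_irreducibleComponent (x := y))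
    isClosed_irreducibleComponent
  have hη' : closure ({η} : Set X) = irreducibleComponent y := hη
  have hgen : closure ({η} : Set X) ∈ irreducibleComponents X := by
    rw [hη']; exact irreducibleComponent_mem_irreducibleComponents y
  have hspec : η ⤳ y := by
    rw [specializes_iff_mem_closure, hη']
    exact mem_irreducibleComponent
  have := hne y hy η (isAssPoint_of_generic η hgen) hspec
  rw [← this]; exact hgen

/-- (i') -/
theorem eq_zero_of_forall_generic [IsLocallyNoetherian X]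
    (hne : ∀ x : ↥X, Curv2.IsAssPoint (Coh.structureModule X) x →
      ∀ y : ↥X, Curv2.IsAssPoint (Coh.structureModule X) y → y ⤳ x → y = x)
    {W : X.Opens} (c : Γ(X, W))
    (h : ∀ (η : X) (hη : η ∈ W), closure ({η} : Set X) ∈ irreducibleComponents X →
      X.presheaf.germ W η hη c = 0) : c = 0 := by
  by_contra hc
  obtain ⟨y, hy, hass, hgerm⟩ := exists_assPoint_germ_ne_zero c hc
  exact hgerm (h y hy (generic_of_isAssPoint hne y hass))

end Groth.Agent.Lib.helper11.MeroNoeth
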