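import Mathlib
import Groth.Prelude.Def_MeroDiv
import Groth.Agent.Lib.helper11.MeroNoeth

set_option autoImplicit false
universe u
open CategoryTheory AlgebraicGeometry TopologicalSpace Opposite

namespace Groth.Agent.Lib.helper11.MeroNoeth

open Mero Groth.Agent.Lib.helper11.MeroBasic Groth.Agent.Lib.helper11.MeroPseudo
  Groth.Agent.Lib.helper11.MeroFrac Groth.Agent.Lib.helper11.MeroDepth
  Groth.Agent.Lib.helper11.MeroGeneric2
  Groth.Agent.Lib.helper11.MeroRegSec Groth.Agent.Lib.helper11.MeroCharts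

variable {X : Scheme.{u}}

open Groth.Agent.Lib.helper17 in
theorem algebraMap_bijective_of_generic [IsLocallyNoetherian X] (η : X)
    (hη : closure ({η} : Set X) ∈ irreducibleComponents X) :
    Function.Bijective (algebraMap (X.presheaf.stalk η) (KStalk X η)) := by
  have hass := NoEmb.isAssociatedPrime_stalk X η (isAssPoint_of_generic η hη)
  obtain ⟨-, a₀, ha₀⟩ := isAssociatedPrime_iff.mp hass
  have ha₀ne : a₀ ≠ 0 := by
    rintro rfl
    have h1 : (1 : X.presheaf.stalk η) ∈ IsLocalRing.maximalIdeal (X.presheaf.stalk η) := by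
      rw [ha₀, Submodule.mem_colon_singleton, smul_zero]
      exact Submodule.zero_mem _
    exact (IsLocalRing.maximalIdeal.isMaximal _).ne_top ((Ideal.eq_top_iff_one _).mpr h1)
  have hunits : ∀ r ∈ regStalk X η, IsUnit r := by
    intro r hr
    by_contra hnu
    have hmem : r ∈ IsLocalRing.maximalIdeal (X.presheaf.stalk η) :=
      (IsLocalRing.mem_maximalIdeal r).mpr hnu
    rw [ha₀, Submodule.mem_colon_singleton, Submodule.mem_bot, smul_eq_mul] at hmem
    exact ha₀ne ((mul_left_mem_nonZeroDivisors_eq_zero_iff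
      (regStalk_le_nonZeroDivisors η hr)).mp hmem)
  refine ⟨algebraMap_KStalk_injective η, ?_⟩
  intro z
  obtain ⟨a, s, rfl⟩ := IsLocalization.exists_mk'_eq (regStalk X η) z
  obtain ⟨u, hu⟩ := hunits s.1 s.2
  refine ⟨a * ((u⁻¹ : (X.presheaf.stalk η)ˣ) : X.presheaf.stalk η), ?_⟩
  rw [IsLocalization.eq_mk'_iff_mul_eq, ← map_mul, ← hu, mul_assoc, Units.inv_mul, mul_one]

theorem evalK_injective [IsLocallyNoetherian X]
    (hne : ∀ x : ↥X, Curv2.IsAssPoint (Coh.structureModule X) x →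
      ∀ y : ↥X, Curv2.IsAssPoint (Coh.structureModule X) y → y ⤳ x → y = x)
    (U : X.Opens) (s s' : Γ(kmod X, U))
    (h : ∀ (η : X) (hη : η ∈ U), closure ({η} : Set X) ∈ irreducibleComponents X →
      s.1 ⟨η, hη⟩ = s'.1 ⟨η, hη⟩) : s = s' := by
  apply Subtype.ext
  funext y
  obtain ⟨V1, hyV1, hV1U, a1, b1, hab1⟩ := exists_local_frac s y.1 y.2
  obtain ⟨V2, hyV2, hV2U, a2, b2, hab2⟩ := exists_local_frac s' y.1 y.2
  obtain ⟨W, hW, hyW, hWle⟩ := Opens.isBasis_iff_nbhd.mp X.isBasis_affineOpens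
    (show y.1 ∈ V1 ⊓ V2 from ⟨hyV1, hyV2⟩)
  have hW1 : W ≤ V1 := hWle.trans inf_le_left
  have hW2 : W ≤ V2 := hWle.trans inf_le_right
  have hWU : W ≤ U := hW1.trans hV1U
  have hd : X.presheaf.map (homOfLE hW1).op a1 * X.presheaf.map (homOfLE hW2).op b2.1 -
      X.presheaf.map (homOfLE hW2).op a2 * X.presheaf.map (homOfLE hW1).op b1.1 = 0 := by
    apply eq_zero_of_forall_generic hne
    intro η hηW hη
    have h1 := h η (hWU hηW) hη
    rw [hab1 η (hW1 hηW) _, hab2 η (hW2 hηW) _,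
      mk_eq_mk_iff (regStalk_le_nonZeroDivisors η)] at h1
    rw [map_sub, map_mul, map_mul,
      TopCat.Presheaf.germ_res_apply, TopCat.Presheaf.germ_res_apply,
      TopCat.Presheaf.germ_res_apply, TopCat.Presheaf.germ_res_apply]
    exact sub_eq_zero.mpr h1
  have h4 := congrArg (X.presheaf.germ W y.1 hyW) hd
  rw [map_zero, map_sub, map_mul, map_mul,
      TopCat.Presheaf.germ_res_apply, TopCat.Presheaf.germ_res_apply,
      TopCat.Presheaf.germ_res_apply, TopCat.Presheaf.germ_res_apply] at h4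
  rw [hab1 y.1 hyV1 y.2, hab2 y.1 hyV2 y.2, mk_eq_mk_iff (regStalk_le_nonZeroDivisors y.1)]
  exact sub_eq_zero.mp h4


theorem evalK_surjective' [IsLocallyNoetherian X]
    (hne : ∀ x : ↥X, Curv2.IsAssPoint (Coh.structureModule X) x →
      ∀ y : ↥X, Curv2.IsAssPoint (Coh.structureModule X) y → y ⤳ x → y = x)
    (U : X.Opens)
    (hfin : {Z : Set X | Z ∈ irreducibleComponents X ∧ (Z ∩ (U : Set X)).Nonempty}.Finite)
    (t : ∀ x : {x : U // closure ({x.1} : Set X) ∈ irreducibleComponents X}, KStalk X x.1.1) :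
    ∃ s : Γ(kmod X, U), ∀ x, s.1 x.1 = t x := by
  classical
  have hr : ∀ x : {x : U // closure ({x.1} : Set X) ∈ irreducibleComponents X},
      ∃ r : X.presheaf.stalk x.1.1, algebraMap _ (KStalk X x.1.1) r = t x :=
    fun x => (algebraMap_bijective_of_generic x.1.1 x.2).2 (t x)
  choose r hr using hr
  have hρ : ∀ x : {x : U // closure ({x.1} : Set X) ∈ irreducibleComponents X},
      ∃ (V' : X.Opens) (hx : x.1.1 ∈ V') (ρ : Γ(X, V')), X.presheaf.germ V' x.1.1 hx ρ = r x :=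
    fun x => X.presheaf.exists_germ_eq (r x)
  choose V' hxV' ρ hρ using hρ
  let C : {x : U // closure ({x.1} : Set X) ∈ irreducibleComponents X} → Set X := fun x =>
    ⋃ Z ∈ {Z : Set X | (Z ∈ irreducibleComponents X ∧ (Z ∩ (U : Set X)).Nonempty) ∧
      Z ≠ closure ({x.1.1} : Set X)}, Z
  have hC : ∀ x, IsClosed (C x) := fun x =>
    (hfin.subset (fun Z hZ => hZ.1)).isClosed_biUnion
      (fun Z hZ => isClosed_of_mem_irreducibleComponents Z hZ.1.1)
  let Vx : {x : U // closure ({x.1} : Set X) ∈ irreducibleComponents X} → X.Opens := fun x =>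
    V' x ⊓ U ⊓ ⟨(C x)ᶜ, (hC x).isOpen_compl⟩
  have hxV : ∀ x, x.1.1 ∈ Vx x := by
    intro x
    refine ⟨⟨hxV' x, x.1.2⟩, ?_⟩
    change x.1.1 ∉ C x
    intro hmem
    simp only [C, Set.mem_iUnion, Set.mem_setOf_eq, exists_prop] at hmem
    obtain ⟨Z, ⟨hZ, hZne⟩, hxZ⟩ := hmem
    apply hZne
    have hsub : closure ({x.1.1} : Set X) ⊆ Z :=
      (isClosed_of_mem_irreducibleComponents Z hZ.1).closure_subset_iff.mpr
        (Set.singleton_subset_iff.mpr hxZ)
    exact (le_antisymm (x.2.2 hZ.1.1 hsub) hsub)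
  have hdisj : ∀ x x' (z : X), z ∈ Vx x → z ∈ Vx x' → x = x' := by
    intro x x' z hz hz'
    have key : ∀ x'' : {x : U // closure ({x.1} : Set X) ∈ irreducibleComponents X},
        z ∈ Vx x'' → irreducibleComponent z = closure ({x''.1.1} : Set X) := by
      intro x'' hz''
      by_contra hne
      have : z ∈ C x'' := by
        simp only [C, Set.mem_iUnion, Set.mem_setOf_eq, exists_prop]
        exact ⟨irreducibleComponent z,
          ⟨⟨irreducibleComponent_mem_irreducibleComponents z,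
            ⟨z, mem_irreducibleComponent, hz''.1.2⟩⟩, hne⟩, mem_irreducibleComponent⟩
      exact hz''.2 this
    have h1 : closure ({x.1.1} : Set X) = closure ({x'.1.1} : Set X) :=
      (key x hz).symm.trans (key x' hz')
    have h2 : x.1.1 = x'.1.1 := (inseparable_iff_closure_eq.mpr h1).eq
    exact Subtype.ext (Subtype.ext h2)
  have hVU : iSup Vx ≤ U := iSup_le (fun x => inf_le_left.trans inf_le_right)
  let sf : ∀ x, Γ(X, Vx x) := fun x =>
    X.presheaf.map (homOfLE (inf_le_left.trans inf_le_left : Vx x ≤ V' x)).op (ρ x)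
  have hcompat : TopCat.Presheaf.IsCompatible X.presheaf Vx sf := by
    intro x x'
    refine TopCat.Presheaf.section_ext X.sheaf _ _ _ (fun z hz => ?_)
    obtain rfl := hdisj x x' z hz.1 hz.2
    change X.presheaf.germ _ z hz _ = X.presheaf.germ _ z hz _
    rw [TopCat.Presheaf.germ_res_apply, TopCat.Presheaf.germ_res_apply,
      TopCat.Presheaf.germ_res_apply, TopCat.Presheaf.germ_res_apply]
  obtain ⟨g, hg, -⟩ := X.sheaf.existsUnique_gluing Vx sf hcompat
  have hgx : ∀ x, X.presheaf.germ (iSup Vx) x.1.1 (Opens.mem_iSup.mpr ⟨x, hxV x⟩) g = r x := by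
    intro x
    have h1 := congrArg (X.presheaf.germ (Vx x) x.1.1 (hxV x)) (hg x)
    have h2 : X.presheaf.germ (Vx x) x.1.1 (hxV x) (X.presheaf.map (Opens.leSupr Vx x).op g) =
        X.presheaf.germ (iSup Vx) x.1.1 (Opens.mem_iSup.mpr ⟨x, hxV x⟩) g :=
      TopCat.Presheaf.germ_res_apply X.presheaf (Opens.leSupr Vx x) x.1.1 (hxV x) g
    rw [← h2]
    refine h1.trans ?_
    rw [← hρ x]
    exact TopCat.Presheaf.germ_res_apply X.presheaf
      (homOfLE (inf_le_left.trans inf_le_left : Vx x ≤ V' x)) x.1.1 (hxV x) (ρ x)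
  have hV : ∀ W : X.Opens, W ≤ U → Function.Injective
      (X.presheaf.map (homOfLE (inf_le_left : W ⊓ iSup Vx ≤ W)).op) := by
    intro W hWU
    rw [injective_iff_map_eq_zero]
    intro c hc
    apply eq_zero_of_forall_generic hne
    intro η hηW hη
    have hηV : η ∈ iSup Vx :=
      Opens.mem_iSup.mpr ⟨⟨⟨η, hWU hηW⟩, hη⟩, hxV ⟨⟨η, hWU hηW⟩, hη⟩⟩
    have h1 := congrArg (X.presheaf.germ (W ⊓ iSup Vx) η ⟨hηW, hηV⟩) hc
    rw [map_zero, TopCat.Presheaf.germ_res_apply] at h1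
    exact h1
  obtain ⟨s, hs⟩ := Groth.Agent.S5086.result X
    (Or.inl inferInstance)
    U (iSup Vx) hVU hV g
  refine ⟨s, fun x => ?_⟩
  have hxVV : x.1.1 ∈ iSup Vx := Opens.mem_iSup.mpr ⟨x, hxV x⟩
  have h1 := congrArg (fun w : Γ(kmod X, iSup Vx) => w.1 ⟨x.1.1, hxVV⟩) hs
  change s.1 ⟨x.1.1, hVU hxVV⟩ = (toK X (iSup Vx) g).1 ⟨x.1.1, hxVV⟩ at h1
  rw [toK_eval_eq_algebraMap] at h1
  rw [← hr x, ← hgx x]
  exact h1



theorem exists_charts (X : Scheme.{u}) [IsLocallyNoetherian X]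
    (hne : ∀ x : ↥X, Curv2.IsAssPoint (Coh.structureModule X) x →
      ∀ y : ↥X, Curv2.IsAssPoint (Coh.structureModule X) y → y ⤳ x → y = x)
    (L : X.Modules) (hL : PicF.IsInvertible L) : Nonempty (Charts L) := by
  classical
  have hdata : ∀ x : X, ∃ (W : X.Opens) (e : Γ(L, W)),
      IsGen L W e ∧ x ∈ W ∧
      {Z : Set ↥X | Z ∈ irreducibleComponents ↥X ∧ (Z ∩ (W : Set ↥X)).Nonempty}.Finite := by
    intro x
    obtain ⟨U, hxU, ⟨iso⟩⟩ := hL x
    obtain ⟨e, he⟩ := Groth.Agent.Lib.helper1.MR4.gen_conv L U iso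
    have hxU' : x ∈ U.ι ''ᵁ ⊤ := by simpa using hxU
    obtain ⟨W₀, hW₀, hxW₀, hW₀le⟩ := Opens.isBasis_iff_nbhd.mp X.isBasis_affineOpens hxU'
    haveI : IsNoetherianRing Γ(X, W₀) := IsLocallyNoetherian.component_noetherian ⟨W₀, hW₀⟩
    haveI : NoetherianSpace ↥(W₀ : Set X) := noetherianSpace_of_isAffineOpen W₀ hW₀
    exact ⟨W₀, L.presheaf.map (homOfLE hW₀le).op e, IsGen.res he hW₀le, hxW₀,
      finite_components_meeting W₀.2 NoetherianSpace.finite_irreducibleComponents⟩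
  choose W e he hxW hfinW using hdata
  have hc : ∀ (x : X) (η : {z : W x // closure ({z.1} : Set X) ∈ irreducibleComponents X}),
      ∃ q : KStalk X η.1.1,
        (LocalizedModule.mk (L.presheaf.germ (W η.1.1) η.1.1 (hxW _) (e η.1.1)) 1 :
          MStalk L η.1.1) =
        q • LocalizedModule.mk (L.presheaf.germ (W x) η.1.1 η.1.2 (e x)) 1 :=
    fun x η => exists_smul_mk (he x) η.1.1 η.1.2 _
  choose c hc using hc
  have hc' : ∀ (x : X) (η : {z : W x // closure ({z.1} : Set X) ∈ irreducibleComponents X}),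
      ∃ q : KStalk X η.1.1,
        (LocalizedModule.mk (L.presheaf.germ (W x) η.1.1 η.1.2 (e x)) 1 :
          MStalk L η.1.1) =
        q • LocalizedModule.mk (L.presheaf.germ (W η.1.1) η.1.1 (hxW _) (e η.1.1)) 1 :=
    fun x η => exists_smul_mk (he η.1.1) η.1.1 (hxW _) _
  choose c' hc' using hc'
  have hf : ∀ x, ∃ f : Γ(kmod X, W x), ∀ η, f.1 η.1 = c x η :=
    fun x => evalK_surjective' hne (W x) (hfinW x) (c x)
  choose f hf using hf
  have hg : ∀ x, ∃ g : Γ(kmod X, W x), ∀ η, g.1 η.1 = c' x η :=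
    fun x => evalK_surjective' hne (W x) (hfinW x) (c' x)
  choose g hg using hg
  have hfg : ∀ x, f x * g x = 1 := by
    intro x
    apply evalK_injective hne (W x)
    intro η hη hgen
    change (f x).1 ⟨η, hη⟩ * (g x).1 ⟨η, hη⟩ = 1
    have e1 := hf x ⟨⟨η, hη⟩, hgen⟩
    have e2 := hg x ⟨⟨η, hη⟩, hgen⟩
    dsimp only at e1 e2
    rw [e1, e2, mul_comm]
    apply eq_of_smul_mk_eq (he x) η hη
    rw [mul_smul, one_smul, ← hc x ⟨⟨η, hη⟩, hgen⟩, ← hc' x ⟨⟨η, hη⟩, hgen⟩]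
  refine ⟨⟨W, e, he, hxW, f, g, hfg, ?_⟩⟩
  intro x x' u hu
  have hgerm : ∀ (y : X) (hy : y ∈ W x ⊓ W x'),
      (LocalizedModule.mk (L.presheaf.germ (W x) y hy.1 (e x)) 1 : MStalk L y) =
      (Localization.mk (X.presheaf.germ (W x ⊓ W x') y hy u) 1 : KStalk X y) •
        (LocalizedModule.mk (L.presheaf.germ (W x') y hy.2 (e x')) 1 : MStalk L y) := by
    intro y hy
    have h1 := congrArg (L.presheaf.germ (W x ⊓ W x') y hy) hu
    rw [germ_smul, TopCat.Presheaf.germ_res_apply, TopCat.Presheaf.germ_res_apply] at h1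
    rw [LocalizedModule.mk_smul_mk, mul_one, h1]
  apply evalK_injective hne (W x ⊓ W x')
  intro η hη hgen
  change (f x).1 ⟨η, hη.1⟩ * (Localization.mk (X.presheaf.germ (W x ⊓ W x') η hη u) 1 :
    KStalk X η) = (f x').1 ⟨η, hη.2⟩
  apply eq_of_smul_mk_eq (he x') η hη.2
  have e1 := hf x ⟨⟨η, hη.1⟩, hgen⟩
  have e2 := hf x' ⟨⟨η, hη.2⟩, hgen⟩
  dsimp only at e1 e2
  rw [mul_smul, ← hgerm η hη, e1, e2, ← hc x ⟨⟨η, hη.1⟩, hgen⟩, ← hc x' ⟨⟨η, hη.2⟩, hgen⟩]


end Groth.Agent.Lib.helper11.MeroNoeth
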