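import Groth.Agent.Lib.helper11.NumType
import Groth.Agent.S2173
import Groth.Agent.S7316
import Groth.Agent.S7317

/-!
Numerical types: minimal types of genus one consist of (-2)-indices.
-/

set_option autoImplicit false

namespace Groth.Agent.Lib.helper11.NumType

open Models Finset

variable {n : ℕ} (T : NumericalType n)

theorem genus_eq_one_iff : T.genus = 1 ↔
    ∑ i, T.m i * (2 * T.w i * (T.g i - 1) - T.a i i) = 0 := by
  unfold NumericalType.genus
  obtain ⟨k, hk⟩ := Groth.Agent.S2173.result T
  have h1 : ∑ i, T.m i * (2 * T.w i * (T.g i - 1) - T.a i i) =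
      2 * (∑ i, T.m i * T.w i * (T.g i - 1)) - ∑ i, T.m i * T.a i i := by
    rw [Finset.mul_sum, ← Finset.sum_sub_distrib]
    refine Finset.sum_congr rfl fun i _ => ?_
    ring
  rw [h1, hk, Int.mul_ediv_cancel_left _ (by norm_num : (2 : ℤ) ≠ 0)]
  constructor <;> intro h <;> linarith

/-- in a minimal numerical type of genus one on more than one index, all indices are (-2)-indices -/
theorem all_minusTwo (hn : 1 < n) (hmin : T.IsMinimal) (hg : T.genus = 1) :
    ∀ i, T.IsMinusTwo i := by
  have h0 := (genus_eq_one_iff T).mp hg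
  have hnn : ∀ i ∈ (univ : Finset (Fin n)), 0 ≤ T.m i * (2 * T.w i * (T.g i - 1) - T.a i i) := by
    intro i _
    by_contra hcon
    push Not at hcon
    exact hmin i (Groth.Agent.S7316.result T hn i hcon)
  intro i
  have := (Finset.sum_eq_zero_iff_of_nonneg hnn).mp h0 i (Finset.mem_univ i)
  exact Groth.Agent.S7317.result T hn i this

end Groth.Agent.Lib.helper11.NumType
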