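import Groth.Prelude.Def_Models
import Groth.Agent.S2171

/-!
Numerical types: negative semi-definiteness and the "Cartan integer" calculus for
proper sub-configurations of (-2)-indices.
-/

set_option autoImplicit false

namespace Groth.Agent.Lib.helper11.NumType

open Models Finset

variable {n : ℕ} (T : NumericalType n)

/-- the quadratic form attached to the intersection matrix -/
def Q (x : Fin n → ℤ) : ℤ := ∑ i, x i * ∑ j, T.a i j * x j

theorem Q_cast (x : Fin n → ℤ) :
    ((Q T x : ℤ) : ℝ) =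
      dotProduct (fun i => (x i : ℝ)) ((T.a.map (Int.cast : ℤ → ℝ)).mulVec (fun i => (x i : ℝ))) := by
  simp only [Q, dotProduct, Matrix.mulVec, Matrix.map_apply]
  push_cast
  rfl

theorem real_hyps :
    (T.a.map (Int.cast : ℤ → ℝ)).IsSymm ∧
    (∀ i j, i ≠ j → (0 : ℝ) ≤ (T.a.map (Int.cast : ℤ → ℝ)) i j) ∧
    (∀ i, (0 : ℝ) < (T.m i : ℝ)) ∧
    ((T.a.map (Int.cast : ℤ → ℝ)).mulVec (fun i => (T.m i : ℝ)) = 0) ∧
    (∀ I : Finset (Fin n), I.Nonempty → I ≠ univ →
      ∃ i ∈ I, ∃ j ∉ I, (T.a.map (Int.cast : ℤ → ℝ)) i j ≠ 0) := by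
  refine ⟨?_, ?_, ?_, ?_, ?_⟩
  · ext i j
    simp only [Matrix.transpose_apply, Matrix.map_apply]
    rw [T.symm.apply i j]
  · intro i j hij
    simp only [Matrix.map_apply]
    exact_mod_cast T.offDiag_nonneg i j hij
  · intro i
    exact_mod_cast T.m_pos i
  · ext i
    have := congrFun T.mulVec_m i
    simp only [Matrix.mulVec, dotProduct, Pi.zero_apply] at this ⊢
    simp only [Matrix.map_apply]
    exact_mod_cast this
  · intro I h1 h2
    obtain ⟨i, hi, j, hj, hij⟩ := T.connected I h1 h2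
    refine ⟨i, hi, j, hj, ?_⟩
    simp only [Matrix.map_apply]
    exact_mod_cast hij

theorem Q_nonpos (x : Fin n → ℤ) : Q T x ≤ 0 := by
  obtain ⟨h1, h2, h3, h4, h5⟩ := real_hyps T
  have := (Groth.Agent.S2171.result _ _ h1 h2 h3 h4 h5 (fun i => (x i : ℝ))).1
  rw [← Q_cast] at this
  exact_mod_cast this

theorem eq_zero_of_Q_nonneg (x : Fin n → ℤ) (h : 0 ≤ Q T x) (i₀ : Fin n) (h0 : x i₀ = 0) :
    ∀ i, x i = 0 := by
  obtain ⟨h1, h2, h3, h4, h5⟩ := real_hyps T
  have hQ : Q T x = 0 := le_antisymm (Q_nonpos T x) h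
  have := (Groth.Agent.S2171.result _ _ h1 h2 h3 h4 h5 (fun i => (x i : ℝ))).2
  rw [← Q_cast, hQ] at this
  obtain ⟨q, hq⟩ := this.mp (by simp)
  have hq0 : q = 0 := by
    have := congrFun hq i₀
    simp only [Pi.smul_apply, smul_eq_mul, h0, Int.cast_zero] at this
    have hm : (T.m i₀ : ℝ) ≠ 0 := ne_of_gt (h3 i₀)
    rcases mul_eq_zero.mp this.symm with h | h
    · exact h
    · exact absurd h hm
  intro i
  have := congrFun hq i
  simp only [Pi.smul_apply, smul_eq_mul, hq0, zero_mul] at this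
  exact_mod_cast this

theorem row_sum (i : Fin n) : ∑ j, T.a i j * T.m j = 0 := by
  have := congrFun T.mulVec_m i
  simpa [Matrix.mulVec, dotProduct] using this

section embedded

variable {k : ℕ} (v : Fin k ↪ Fin n)

/-- extension by zero of a vector on the embedded indices -/
noncomputable def ext0 (c : Fin k → ℤ) : Fin n → ℤ := Function.extend v c 0

theorem ext0_apply (c : Fin k → ℤ) (p : Fin k) : ext0 v c (v p) = c p :=
  v.injective.extend_apply c 0 p

theorem ext0_of_not_mem (c : Fin k → ℤ) (i : Fin n) (hi : ∀ p, v p ≠ i) : ext0 v c i = 0 := by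
  unfold ext0
  rw [Function.extend_apply']
  · rfl
  · rintro ⟨p, hp⟩
    exact hi p hp

theorem sum_ext0 (c : Fin k → ℤ) (f : Fin n → ℤ) :
    ∑ i, f i * ext0 v c i = ∑ p, f (v p) * c p := by
  rw [← Finset.sum_subset (Finset.subset_univ (univ.map v))]
  · rw [Finset.sum_map]
    refine Finset.sum_congr rfl fun p _ => ?_
    rw [ext0_apply]
  · intro i _ hi
    rw [ext0_of_not_mem, mul_zero]
    intro p hp
    exact hi (Finset.mem_map.mpr ⟨p, Finset.mem_univ _, hp⟩)

/-- the quadratic form on the embedded indices -/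
def Qv (c : Fin k → ℤ) : ℤ := ∑ p, c p * ∑ q, T.a (v p) (v q) * c q

theorem Q_ext0 (c : Fin k → ℤ) : Q T (ext0 v c) = Qv T v c := by
  unfold Q Qv
  have h1 : ∀ i, ∑ j, T.a i j * ext0 v c j = ∑ q, T.a i (v q) * c q := fun i =>
    sum_ext0 v c (fun j => T.a i j)
  simp only [h1]
  have h2 := sum_ext0 v c (fun i => ∑ q, T.a i (v q) * c q)
  simp only [mul_comm (ext0 v c _)]
  rw [h2]
  refine Finset.sum_congr rfl fun p _ => mul_comm _ _

theorem exists_not_mem (hk : k < n) : ∃ i₀ : Fin n, ∀ p, v p ≠ i₀ := by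
  by_contra hcon
  push Not at hcon
  have hsurj : Function.Surjective v := fun i => hcon i
  have := Fintype.card_le_of_surjective v hsurj
  simp at this
  omega

theorem Qv_nonpos (c : Fin k → ℤ) : Qv T v c ≤ 0 := by
  rw [← Q_ext0]; exact Q_nonpos T _

theorem eq_zero_of_Qv_nonneg (hk : k < n) (c : Fin k → ℤ) (h : 0 ≤ Qv T v c) : ∀ p, c p = 0 := by
  obtain ⟨i₀, hi₀⟩ := exists_not_mem v hk
  rw [← Q_ext0] at h
  have := eq_zero_of_Q_nonneg T _ h i₀ (ext0_of_not_mem v c i₀ hi₀)
  intro p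
  rw [← ext0_apply v c p]
  exact this (v p)

/-- sub-row-sum inequality: the sum over the embedded indices of `a_{pq} m_q` is `≤ 0`. -/
theorem sub_row_sum_le (p : Fin k) : ∑ q, T.a (v p) (v q) * T.m (v q) ≤ 0 := by
  have h := row_sum T (v p)
  rw [← Finset.sum_add_sum_compl (univ.map v)] at h
  rw [Finset.sum_map] at h
  have h2 : 0 ≤ ∑ j ∈ (univ.map v)ᶜ, T.a (v p) j * T.m j := by
    refine Finset.sum_nonneg fun j hj => ?_
    have hne : v p ≠ j := by
      intro hpj
      rw [Finset.mem_compl] at hj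
      exact hj (Finset.mem_map.mpr ⟨p, Finset.mem_univ _, hpj⟩)
    exact mul_nonneg (T.offDiag_nonneg _ _ hne) (T.m_pos j).le
  linarith

end embedded

/-! ### Cartan integers -/

section cartan

variable {k : ℕ} (v : Fin k ↪ Fin n)

/-- the Cartan integers `a_{pq} / w_p` -/
def N (p q : Fin k) : ℤ := T.a (v p) (v q) / T.w (v p)

theorem a_eq (p q : Fin k) : T.a (v p) (v q) = T.w (v p) * N T v p q := by
  unfold N
  rw [Int.mul_ediv_cancel' (T.w_dvd (v p) (v q))]

theorem N_diag (hv : ∀ p, T.IsMinusTwo (v p)) (p : Fin k) : N T v p p = -2 := by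
  unfold N
  rw [(hv p).2]
  have hw := T.w_pos (v p)
  rw [Int.mul_ediv_cancel _ hw.ne']

theorem N_nonneg (p q : Fin k) (h : p ≠ q) : 0 ≤ N T v p q := by
  unfold N
  exact Int.ediv_nonneg (T.offDiag_nonneg _ _ (fun h' => h (v.injective h'))) (T.w_pos _).le

theorem N_pos (p q : Fin k) (h : p ≠ q) (ha : T.a (v p) (v q) ≠ 0) : 1 ≤ N T v p q := by
  have h0 := N_nonneg T v p q h
  have h1 : N T v p q ≠ 0 := by
    intro h1
    apply ha
    rw [a_eq, h1, mul_zero]
  omega

theorem w_N (p q : Fin k) : T.w (v p) * N T v p q = T.w (v q) * N T v q p := by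
  rw [← a_eq, ← a_eq, T.symm.apply]

theorem N_pos_symm (p q : Fin k) (h : 1 ≤ N T v p q) : 1 ≤ N T v q p := by
  have h1 := w_N T v p q
  have hwp := T.w_pos (v p)
  have hwq := T.w_pos (v q)
  by_contra hcon
  push Not at hcon
  have : T.w (v q) * N T v q p ≤ 0 := by
    have : N T v q p ≤ 0 := by omega
    exact mul_nonpos_of_nonneg_of_nonpos hwq.le this
  have : 0 < T.w (v p) * N T v p q := mul_pos hwp (by omega)
  omega

theorem N_eq_zero_symm (p q : Fin k) (hpq : p ≠ q) (h : N T v p q = 0) : N T v q p = 0 := by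
  have h0 := N_nonneg T v q p (Ne.symm hpq)
  by_contra hcon
  have h1 : 1 ≤ N T v q p := by omega
  have := N_pos_symm T v q p h1
  omega

theorem a_eq_zero_of_N (p q : Fin k) (h : N T v p q = 0) : T.a (v p) (v q) = 0 := by
  rw [a_eq, h, mul_zero]

/-- `B` is a matrix of lower bounds for the Cartan integers. -/
def LB (B : Fin k → Fin k → ℤ) : Prop := ∀ p q, p ≠ q → B p q ≤ N T v p q

/-- update one entry of a matrix -/
def upd (B : Fin k → Fin k → ℤ) (p₀ q₀ : Fin k) (b : ℤ) : Fin k → Fin k → ℤ :=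
  fun p q => if p = p₀ ∧ q = q₀ then b else B p q

variable {T v} in
theorem LB.upd {B : Fin k → Fin k → ℤ} (hB : LB T v B) (p₀ q₀ : Fin k) (b : ℤ)
    (h : b ≤ N T v p₀ q₀) : LB T v (upd B p₀ q₀ b) := by
  intro p q hpq
  unfold NumType.upd
  split_ifs with h1
  · rw [h1.1, h1.2]; exact h
  · exact hB p q hpq

theorem LB_zero : LB T v (fun _ _ => 0) := fun p q h => N_nonneg T v p q h

/-- The certificate lemma: no nonzero nonnegative vector `c` on a proper set of (-2)-indices
can satisfy `2 c_p ≤ ∑_{q ≠ p} B_{pq} c_q` for lower bounds `B` of the Cartan integers. -/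
theorem cert (hk : k < n) (hv : ∀ p, T.IsMinusTwo (v p)) {B : Fin k → Fin k → ℤ} (hB : LB T v B)
    (c : Fin k → ℤ) (hc : ∀ p, 0 ≤ c p)
    (chk : ∀ p, 2 * c p ≤ ∑ q, if q = p then 0 else B p q * c q) : ∀ p, c p = 0 := by
  apply eq_zero_of_Qv_nonneg T v hk c
  unfold Qv
  refine Finset.sum_nonneg fun p _ => mul_nonneg (hc p) ?_
  have h1 : ∑ q, T.a (v p) (v q) * c q = T.w (v p) * ∑ q, N T v p q * c q := by
    rw [Finset.mul_sum]
    refine Finset.sum_congr rfl fun q _ => ?_
    rw [a_eq, mul_assoc]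
  rw [h1]
  refine mul_nonneg (T.w_pos _).le ?_
  have h2 : ∑ q, N T v p q * c q = -2 * c p + ∑ q, if q = p then 0 else N T v p q * c q := by
    rw [← Finset.add_sum_erase _ _ (Finset.mem_univ p), N_diag T v hv]
    congr 1
    rw [← Finset.add_sum_erase (a := p) _ _ (Finset.mem_univ p)]
    simp only [if_true, zero_add]
    refine Finset.sum_congr rfl fun q hq => ?_
    rw [if_neg (Finset.ne_of_mem_erase hq)]
  rw [h2]
  have h3 : ∑ q, (if q = p then 0 else B p q * c q) ≤ ∑ q, if q = p then 0 else N T v p q * c q := by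
    refine Finset.sum_le_sum fun q _ => ?_
    split_ifs with h
    · exact le_rfl
    · exact mul_le_mul_of_nonneg_right (hB p q (Ne.symm h)) (hc q)
  have := chk p
  linarith

theorem cert_false (hk : k < n) (hv : ∀ p, T.IsMinusTwo (v p)) {B : Fin k → Fin k → ℤ}
    (hB : LB T v B) (c : Fin k → ℤ) (hc : ∀ p, 0 ≤ c p)
    (chk : ∀ p, 2 * c p ≤ ∑ q, if q = p then 0 else B p q * c q) (p₀ : Fin k) (h0 : c p₀ ≠ 0) :
    False :=
  h0 (cert T v hk hv hB c hc chk p₀)

/-- the inequality on multiplicities at an embedded (-2)-index -/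
theorem m_ineq (hv : ∀ p, T.IsMinusTwo (v p)) (p : Fin k) :
    ∑ q, (if q = p then 0 else N T v p q * T.m (v q)) ≤ 2 * T.m (v p) := by
  have h := sub_row_sum_le T v p
  have h1 : ∑ q, T.a (v p) (v q) * T.m (v q) = T.w (v p) * ∑ q, N T v p q * T.m (v q) := by
    rw [Finset.mul_sum]
    refine Finset.sum_congr rfl fun q _ => ?_
    rw [a_eq, mul_assoc]
  rw [h1] at h
  have h2 : ∑ q, N T v p q * T.m (v q) =
      -2 * T.m (v p) + ∑ q, if q = p then 0 else N T v p q * T.m (v q) := by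
    rw [← Finset.add_sum_erase _ _ (Finset.mem_univ p), N_diag T v hv]
    congr 1
    rw [← Finset.add_sum_erase (a := p) _ _ (Finset.mem_univ p)]
    simp only [if_true, zero_add]
    refine Finset.sum_congr rfl fun q hq => ?_
    rw [if_neg (Finset.ne_of_mem_erase hq)]
  rw [h2] at h
  have hw := T.w_pos (v p)
  by_contra hcon
  push Not at hcon
  have : 0 < T.w (v p) * (-2 * T.m (v p) + ∑ q, if q = p then 0 else N T v p q * T.m (v q)) :=
    mul_pos hw (by linarith)
  linarith

end cartan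

end Groth.Agent.Lib.helper11.NumType
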