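import Groth.Agent.Lib.helper11.NumType

/-!
Numerical types: certificates in general position (for configurations depending on a parameter).
-/

set_option autoImplicit false

namespace Groth.Agent.Lib.helper11.NumType

open Models Finset

variable {n : ℕ} (T : NumericalType n) {k : ℕ} (v : Fin k ↪ Fin n)

/-- certificate lemma with an explicit finite set of neighbours at each vertex -/
theorem cert' (hk : k < n) (hv : ∀ p, T.IsMinusTwo (v p)) (c : Fin k → ℤ) (hc : ∀ p, 0 ≤ c p)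
    (chk : ∀ p, c p = 0 ∨ ∃ S : Finset (Fin k), p ∉ S ∧ 2 * c p ≤ ∑ q ∈ S, N T v p q * c q) :
    ∀ p, c p = 0 := by
  apply eq_zero_of_Qv_nonneg T v hk c
  unfold Qv
  refine Finset.sum_nonneg fun p _ => ?_
  rcases chk p with h0 | ⟨S, hpS, hS⟩
  · rw [h0, zero_mul]
  refine mul_nonneg (hc p) ?_
  have h1 : ∑ q, T.a (v p) (v q) * c q = T.w (v p) * ∑ q, N T v p q * c q := by
    rw [Finset.mul_sum]
    refine Finset.sum_congr rfl fun q _ => ?_
    rw [a_eq, mul_assoc]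
  rw [h1]
  refine mul_nonneg (T.w_pos _).le ?_
  have hS' : insert p S ⊆ univ := Finset.subset_univ _
  rw [← Finset.sum_sdiff hS', Finset.sum_insert hpS, N_diag T v hv]
  have h3 : 0 ≤ ∑ q ∈ univ \ insert p S, N T v p q * c q := by
    refine Finset.sum_nonneg fun q hq => ?_
    have hqp : p ≠ q := by
      rintro rfl
      simp at hq
    exact mul_nonneg (N_nonneg T v p q hqp) (hc q)
  linarith

/-- friendly form: at most three neighbours -/
theorem cert3 (hk : k < n) (hv : ∀ p, T.IsMinusTwo (v p)) (c : Fin k → ℤ) (hc : ∀ p, 0 ≤ c p)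
    (chk : ∀ p, c p = 0 ∨ (∃ q, q ≠ p ∧ 2 * c p ≤ N T v p q * c q) ∨
      (∃ q r, q ≠ p ∧ r ≠ p ∧ q ≠ r ∧ 2 * c p ≤ N T v p q * c q + N T v p r * c r) ∨
      (∃ q r s, q ≠ p ∧ r ≠ p ∧ s ≠ p ∧ q ≠ r ∧ q ≠ s ∧ r ≠ s ∧
        2 * c p ≤ N T v p q * c q + N T v p r * c r + N T v p s * c s)) :
    ∀ p, c p = 0 := by
  apply cert' T v hk hv c hc
  intro p
  rcases chk p with h | ⟨q, hq, h⟩ | ⟨q, r, hq, hr, hqr, h⟩ | ⟨q, r, s, hq, hr, hs, hqr, hqs, hrs, h⟩
  · exact Or.inl h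
  · refine Or.inr ⟨{q}, ?_, ?_⟩
    · simp only [Finset.mem_singleton]; exact fun h' => hq h'.symm
    · rw [Finset.sum_singleton]; exact h
  · refine Or.inr ⟨{q, r}, ?_, ?_⟩
    · simp only [Finset.mem_insert, Finset.mem_singleton, not_or]
      exact ⟨fun h' => hq h'.symm, fun h' => hr h'.symm⟩
    · rw [Finset.sum_pair hqr]; exact h
  · refine Or.inr ⟨{q, r, s}, ?_, ?_⟩
    · simp only [Finset.mem_insert, Finset.mem_singleton, not_or]
      exact ⟨fun h' => hq h'.symm, fun h' => hr h'.symm, fun h' => hs h'.symm⟩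
    · rw [Finset.sum_insert, Finset.sum_pair hrs]
      · linarith
      · simp only [Finset.mem_insert, Finset.mem_singleton, not_or]
        exact ⟨hqr, hqs⟩

theorem cert3_false (hk : k < n) (hv : ∀ p, T.IsMinusTwo (v p)) (c : Fin k → ℤ) (hc : ∀ p, 0 ≤ c p)
    (chk : ∀ p, c p = 0 ∨ (∃ q, q ≠ p ∧ 2 * c p ≤ N T v p q * c q) ∨
      (∃ q r, q ≠ p ∧ r ≠ p ∧ q ≠ r ∧ 2 * c p ≤ N T v p q * c q + N T v p r * c r) ∨
      (∃ q r s, q ≠ p ∧ r ≠ p ∧ s ≠ p ∧ q ≠ r ∧ q ≠ s ∧ r ≠ s ∧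
        2 * c p ≤ N T v p q * c q + N T v p r * c r + N T v p s * c s))
    (p₀ : Fin k) (h0 : c p₀ ≠ 0) : False :=
  h0 (cert3 T v hk hv c hc chk p₀)

/-- Cartan integers of a sub-configuration -/
theorem N_trans {r : ℕ} (ι : Fin r ↪ Fin k) (a b : Fin r) :
    N T (ι.trans v) a b = N T v (ι a) (ι b) := rfl

end Groth.Agent.Lib.helper11.NumType
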