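import Groth.Agent.Lib.helper11.NumType2

/-!
Numerical types: fixed-size window lemmas (generated).
-/

set_option autoImplicit false

namespace Groth.Agent.Lib.helper11.NumType

open Models Finset

variable {n : ℕ} (T : NumericalType n)

/-- in a D4 window (vertex 0 joined to 1, 2, 3) all bonds are simple -/
theorem d4_simple (hn : 4 < n) (v : Fin 4 ↪ Fin n) (hv : ∀ p, T.IsMinusTwo (v p))
    (l_0_1 : 1 ≤ N T v 0 1) (l_0_2 : 1 ≤ N T v 0 2) (l_0_3 : 1 ≤ N T v 0 3) :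
    N T v 0 1 = 1 ∧ N T v 1 0 = 1 ∧ N T v 0 2 = 1 ∧ N T v 2 0 = 1 ∧ N T v 0 3 = 1 ∧ N T v 3 0 = 1 := by
  have l_1_0 := N_pos_symm T v _ _ l_0_1
  have l_2_0 := N_pos_symm T v _ _ l_0_2
  have l_3_0 := N_pos_symm T v _ _ l_0_3
  have hB := LB_zero T v
  replace hB := (hB.upd 0 1 1 l_0_1).upd 1 0 1 l_1_0
  replace hB := (hB.upd 0 2 1 l_0_2).upd 2 0 1 l_2_0
  replace hB := (hB.upd 0 3 1 l_0_3).upd 3 0 1 l_3_0
  have u_0_1 : N T v 0 1 = 1 := by
    by_contra hcon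
    have h2 : 2 ≤ N T v 0 1 := by omega
    exact cert_false T v hn hv (hB.upd 0 1 2 h2) ![2,1,1,1] (by decide) (by decide) 0 (by decide)
  have u_1_0 : N T v 1 0 = 1 := by
    by_contra hcon
    have h2 : 2 ≤ N T v 1 0 := by omega
    exact cert_false T v hn hv (hB.upd 1 0 2 h2) ![2,2,1,1] (by decide) (by decide) 0 (by decide)
  have u_0_2 : N T v 0 2 = 1 := by
    by_contra hcon
    have h2 : 2 ≤ N T v 0 2 := by omega
    exact cert_false T v hn hv (hB.upd 0 2 2 h2) ![2,1,1,1] (by decide) (by decide) 0 (by decide)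
  have u_2_0 : N T v 2 0 = 1 := by
    by_contra hcon
    have h2 : 2 ≤ N T v 2 0 := by omega
    exact cert_false T v hn hv (hB.upd 2 0 2 h2) ![2,1,2,1] (by decide) (by decide) 0 (by decide)
  have u_0_3 : N T v 0 3 = 1 := by
    by_contra hcon
    have h2 : 2 ≤ N T v 0 3 := by omega
    exact cert_false T v hn hv (hB.upd 0 3 2 h2) ![2,1,1,1] (by decide) (by decide) 0 (by decide)
  have u_3_0 : N T v 3 0 = 1 := by
    by_contra hcon
    have h2 : 2 ≤ N T v 3 0 := by omega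
    exact cert_false T v hn hv (hB.upd 3 0 2 h2) ![2,1,1,2] (by decide) (by decide) 0 (by decide)
  exact ⟨u_0_1, u_1_0, u_0_2, u_2_0, u_0_3, u_3_0⟩

/-- in a chain of five, the two middle bonds are simple -/
theorem five_mid (hn : 5 < n) (v : Fin 5 ↪ Fin n) (hv : ∀ p, T.IsMinusTwo (v p))
    (l_0_1 : 1 ≤ N T v 0 1) (l_1_2 : 1 ≤ N T v 1 2) (l_2_3 : 1 ≤ N T v 2 3) (l_3_4 : 1 ≤ N T v 3 4) :
    N T v 1 2 = 1 ∧ N T v 2 1 = 1 ∧ N T v 2 3 = 1 ∧ N T v 3 2 = 1 := by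
  have l_1_0 := N_pos_symm T v _ _ l_0_1
  have l_2_1 := N_pos_symm T v _ _ l_1_2
  have l_3_2 := N_pos_symm T v _ _ l_2_3
  have l_4_3 := N_pos_symm T v _ _ l_3_4
  have hB := LB_zero T v
  replace hB := (hB.upd 0 1 1 l_0_1).upd 1 0 1 l_1_0
  replace hB := (hB.upd 1 2 1 l_1_2).upd 2 1 1 l_2_1
  replace hB := (hB.upd 2 3 1 l_2_3).upd 3 2 1 l_3_2
  replace hB := (hB.upd 3 4 1 l_3_4).upd 4 3 1 l_4_3
  have u_1_2 : N T v 1 2 = 1 := by
    by_contra hcon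
    have h2 : 2 ≤ N T v 1 2 := by omega
    exact cert_false T v hn hv (hB.upd 1 2 2 h2) ![2,4,3,2,1] (by decide) (by decide) 0 (by decide)
  have u_2_1 : N T v 2 1 = 1 := by
    by_contra hcon
    have h2 : 2 ≤ N T v 2 1 := by omega
    exact cert_false T v hn hv (hB.upd 2 1 2 h2) ![1,2,3,2,1] (by decide) (by decide) 0 (by decide)
  have u_2_3 : N T v 2 3 = 1 := by
    by_contra hcon
    have h2 : 2 ≤ N T v 2 3 := by omega
    exact cert_false T v hn hv (hB.upd 2 3 2 h2) ![1,2,3,2,1] (by decide) (by decide) 0 (by decide)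
  have u_3_2 : N T v 3 2 = 1 := by
    by_contra hcon
    have h2 : 2 ≤ N T v 3 2 := by omega
    exact cert_false T v hn hv (hB.upd 3 2 2 h2) ![1,2,3,4,2] (by decide) (by decide) 0 (by decide)
  exact ⟨u_1_2, u_2_1, u_2_3, u_3_2⟩

/-- in a chain of three, all Cartan integers are at most 2 and at most one of them equals 2 -/
theorem three_chain (hn : 3 < n) (v : Fin 3 ↪ Fin n) (hv : ∀ p, T.IsMinusTwo (v p))
    (l_0_1 : 1 ≤ N T v 0 1) (l_1_2 : 1 ≤ N T v 1 2) :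
    N T v 0 1 ≤ 2 ∧
    N T v 1 0 ≤ 2 ∧
    N T v 1 2 ≤ 2 ∧
    N T v 2 1 ≤ 2 ∧
    N T v 0 1 + N T v 1 0 ≤ 3 ∧
    N T v 0 1 + N T v 1 2 ≤ 3 ∧
    N T v 0 1 + N T v 2 1 ≤ 3 ∧
    N T v 1 0 + N T v 1 2 ≤ 3 ∧
    N T v 1 0 + N T v 2 1 ≤ 3 ∧
    N T v 1 2 + N T v 2 1 ≤ 3 := by
  have l_1_0 := N_pos_symm T v _ _ l_0_1
  have l_2_1 := N_pos_symm T v _ _ l_1_2
  have hB := LB_zero T v
  replace hB := (hB.upd 0 1 1 l_0_1).upd 1 0 1 l_1_0
  replace hB := (hB.upd 1 2 1 l_1_2).upd 2 1 1 l_2_1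
  have t_0_1 : N T v 0 1 ≤ 2 := by
    by_contra hcon
    have h3 : 3 ≤ N T v 0 1 := by omega
    exact cert_false T v hn hv (hB.upd 0 1 3 h3) ![3,2,1] (by decide) (by decide) 0 (by decide)
  have t_1_0 : N T v 1 0 ≤ 2 := by
    by_contra hcon
    have h3 : 3 ≤ N T v 1 0 := by omega
    exact cert_false T v hn hv (hB.upd 1 0 3 h3) ![1,2,1] (by decide) (by decide) 0 (by decide)
  have t_1_2 : N T v 1 2 ≤ 2 := by
    by_contra hcon
    have h3 : 3 ≤ N T v 1 2 := by omega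
    exact cert_false T v hn hv (hB.upd 1 2 3 h3) ![1,2,1] (by decide) (by decide) 0 (by decide)
  have t_2_1 : N T v 2 1 ≤ 2 := by
    by_contra hcon
    have h3 : 3 ≤ N T v 2 1 := by omega
    exact cert_false T v hn hv (hB.upd 2 1 3 h3) ![1,2,3] (by decide) (by decide) 0 (by decide)
  have pd_0_1_1_0 : N T v 0 1 + N T v 1 0 ≤ 3 := by
    by_contra hcon
    have h2a : 2 ≤ N T v 0 1 := by omega
    have h2b : 2 ≤ N T v 1 0 := by omega
    exact cert_false T v hn hv ((hB.upd 0 1 2 h2a).upd 1 0 2 h2b) ![1,1,0] (by decide) (by decide) 0 (by decide)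
  have pd_0_1_1_2 : N T v 0 1 + N T v 1 2 ≤ 3 := by
    by_contra hcon
    have h2a : 2 ≤ N T v 0 1 := by omega
    have h2b : 2 ≤ N T v 1 2 := by omega
    exact cert_false T v hn hv ((hB.upd 0 1 2 h2a).upd 1 2 2 h2b) ![2,2,1] (by decide) (by decide) 0 (by decide)
  have pd_0_1_2_1 : N T v 0 1 + N T v 2 1 ≤ 3 := by
    by_contra hcon
    have h2a : 2 ≤ N T v 0 1 := by omega
    have h2b : 2 ≤ N T v 2 1 := by omega
    exact cert_false T v hn hv ((hB.upd 0 1 2 h2a).upd 2 1 2 h2b) ![1,1,1] (by decide) (by decide) 0 (by decide)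
  have pd_1_0_1_2 : N T v 1 0 + N T v 1 2 ≤ 3 := by
    by_contra hcon
    have h2a : 2 ≤ N T v 1 0 := by omega
    have h2b : 2 ≤ N T v 1 2 := by omega
    exact cert_false T v hn hv ((hB.upd 1 0 2 h2a).upd 1 2 2 h2b) ![1,2,1] (by decide) (by decide) 0 (by decide)
  have pd_1_0_2_1 : N T v 1 0 + N T v 2 1 ≤ 3 := by
    by_contra hcon
    have h2a : 2 ≤ N T v 1 0 := by omega
    have h2b : 2 ≤ N T v 2 1 := by omega
    exact cert_false T v hn hv ((hB.upd 1 0 2 h2a).upd 2 1 2 h2b) ![1,2,2] (by decide) (by decide) 0 (by decide)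
  have pd_1_2_2_1 : N T v 1 2 + N T v 2 1 ≤ 3 := by
    by_contra hcon
    have h2a : 2 ≤ N T v 1 2 := by omega
    have h2b : 2 ≤ N T v 2 1 := by omega
    exact cert_false T v hn hv ((hB.upd 1 2 2 h2a).upd 2 1 2 h2b) ![0,1,1] (by decide) (by decide) 1 (by decide)
  exact ⟨t_0_1, t_1_0, t_1_2, t_2_1, pd_0_1_1_0, pd_0_1_1_2, pd_0_1_2_1, pd_1_0_1_2, pd_1_0_2_1, pd_1_2_2_1⟩

/-- no triangles -/
theorem no_triangle (hn : 3 < n) (v : Fin 3 ↪ Fin n) (hv : ∀ p, T.IsMinusTwo (v p))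
    (l_0_1 : 1 ≤ N T v 0 1) (l_1_2 : 1 ≤ N T v 1 2) (l_0_2 : 1 ≤ N T v 0 2) : False := by
  have l_1_0 := N_pos_symm T v _ _ l_0_1
  have l_2_1 := N_pos_symm T v _ _ l_1_2
  have l_2_0 := N_pos_symm T v _ _ l_0_2
  have hB := LB_zero T v
  replace hB := (hB.upd 0 1 1 l_0_1).upd 1 0 1 l_1_0
  replace hB := (hB.upd 1 2 1 l_1_2).upd 2 1 1 l_2_1
  replace hB := (hB.upd 0 2 1 l_0_2).upd 2 0 1 l_2_0
  exact cert_false T v hn hv hB ![1,1,1] (by decide) (by decide) 0 (by decide)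

end Groth.Agent.Lib.helper11.NumType
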