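import Groth.Agent.Lib.helper11.NumType3

/-!
Numerical types: cycle lemma and window embeddings.
-/

set_option autoImplicit false

namespace Groth.Agent.Lib.helper11.NumType

open Models Finset

variable {n : ℕ} (T : NumericalType n) {k : ℕ} (v : Fin k ↪ Fin n)

/-- cycle lemma: a nonempty set of embedded (-2)-indices in which every member has two distinct
neighbours inside the set cannot exist (when `k < n`). -/
theorem no_cycle (hk : k < n) (hv : ∀ p, T.IsMinusTwo (v p)) (P : Fin k → Prop)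
    (h : ∀ p, P p → ∃ q r, P q ∧ P r ∧ q ≠ p ∧ r ≠ p ∧ q ≠ r ∧ 1 ≤ N T v p q ∧ 1 ≤ N T v p r)
    (p₀ : Fin k) (hp₀ : P p₀) : False := by
  classical
  let c : Fin k → ℤ := fun p => if P p then 1 else 0
  have hc1 : ∀ p, P p → c p = 1 := fun p hp => if_pos hp
  have hc0 : ∀ p, ¬ P p → c p = 0 := fun p hp => if_neg hp
  have hc : ∀ p, 0 ≤ c p := by
    intro p
    by_cases hp : P p
    · rw [hc1 p hp]; norm_num
    · rw [hc0 p hp]
  refine cert3_false T v hk hv c hc ?_ p₀ (by rw [hc1 p₀ hp₀]; norm_num)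
  intro p
  by_cases hp : P p
  · obtain ⟨q, r, hq, hr, hqp, hrp, hqr, h1, h2⟩ := h p hp
    refine Or.inr (Or.inr (Or.inl ⟨q, r, hqp, hrp, hqr, ?_⟩))
    rw [hc1 p hp, hc1 q hq, hc1 r hr]
    linarith
  · exact Or.inl (hc0 p hp)

/-- a window of `r` consecutive indices starting at `a` -/
def window (r a : ℕ) (h : a + r ≤ k) : Fin r ↪ Fin k :=
  ⟨fun j => ⟨a + j.val, by have := j.isLt; omega⟩, by
    intro i j hij
    have := congrArg Fin.val hij
    simp only at this
    exact Fin.ext (by omega)⟩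

@[simp] theorem window_val (r a : ℕ) (h : a + r ≤ k) (j : Fin r) :
    ((window r a h j : Fin k) : ℕ) = a + j.val := rfl

end Groth.Agent.Lib.helper11.NumType
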