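import Groth.Agent.Lib.helper11.NumType4

/-!
Numerical types: chains of (-2)-indices of arbitrary length.
-/

set_option autoImplicit false

namespace Groth.Agent.Lib.helper11.NumType

open Models Finset

local macro "fo" : tactic =>
  `(tactic| first | omega | (simp only [Fin.val_mk] <;> omega) | (simp <;> omega))

variable {n : ℕ} (T : NumericalType n) {t : ℕ} (u : Fin t ↪ Fin n)

/-- chain adjacency -/
def IsChain : Prop := ∀ p q : Fin t, q.val = p.val + 1 → 1 ≤ N T u p q ∧ 1 ≤ N T u q p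

theorem isChain_of_ne (h : ∀ j j' : Fin t, j'.val = j.val + 1 → T.a (u j) (u j') ≠ 0) :
    IsChain T u := by
  intro p q hpq
  have hne : p ≠ q := Fin.ne_of_val_ne (by omega)
  have := N_pos T u p q hne (h p q hpq)
  exact ⟨this, N_pos_symm T u p q this⟩

variable {T u}

theorem chain_nonadj (ht : t < n) (hu : ∀ p, T.IsMinusTwo (u p)) (E : IsChain T u) :
    ∀ j k : Fin t, j.val + 1 < k.val → N T u j k = 0 := by
  intro j k hjk
  by_contra hcon
  have hne : j ≠ k := Fin.ne_of_val_ne (by omega)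
  have l1 : 1 ≤ N T u j k := by have := N_nonneg T u j k hne; omega
  have l2 := N_pos_symm T u j k l1
  have hk := k.isLt
  refine no_cycle T u ht hu (fun p => j.val ≤ p.val ∧ p.val ≤ k.val) ?_ j ⟨le_rfl, by omega⟩
  rintro p ⟨hp1, hp2⟩
  by_cases hpj : p.val = j.val
  · have hpj' : p = j := Fin.ext hpj
    subst hpj'
    exact ⟨⟨p.val + 1, by omega⟩, k, ⟨by fo, by fo⟩, ⟨by fo, le_rfl⟩,
      Fin.ne_of_val_ne (by fo), Fin.ne_of_val_ne (by fo), Fin.ne_of_val_ne (by fo),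
      (E p ⟨p.val + 1, by omega⟩ rfl).1, l1⟩
  · by_cases hpk : p.val = k.val
    · have hpk' : p = k := Fin.ext hpk
      subst hpk'
      exact ⟨⟨p.val - 1, by omega⟩, j, ⟨by fo, by fo⟩, ⟨le_rfl, by fo⟩,
        Fin.ne_of_val_ne (by fo), Fin.ne_of_val_ne (by fo), Fin.ne_of_val_ne (by fo),
        (E ⟨p.val - 1, by omega⟩ p (by fo)).2, l2⟩
    · exact ⟨⟨p.val - 1, by omega⟩, ⟨p.val + 1, by omega⟩, ⟨by fo, by fo⟩, ⟨by fo, by fo⟩,
        Fin.ne_of_val_ne (by fo), Fin.ne_of_val_ne (by fo), Fin.ne_of_val_ne (by fo),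
        (E ⟨p.val - 1, by omega⟩ p (by fo)).2,
        (E p ⟨p.val + 1, by omega⟩ rfl).1⟩

theorem chain_mid (ht6 : 5 < t) (ht : t < n) (hu : ∀ p, T.IsMinusTwo (u p)) (E : IsChain T u) :
    ∀ p q : Fin t, q.val = p.val + 1 → 1 ≤ p.val → q.val + 1 < t →
      N T u p q = 1 ∧ N T u q p = 1 := by
  intro p q hpq hp hq
  by_cases h : p.val + 3 < t
  · have ha : (p.val - 1) + 5 ≤ t := by omega
    have key := five_mid T (by omega) ((window 5 (p.val - 1) ha).trans u) (fun _ => hu _)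
      (E _ _ (by simp [window])).1 (E _ _ (by simp [window])).1
      (E _ _ (by simp [window])).1 (E _ _ (by simp [window])).1
    have e1 : window 5 (p.val - 1) ha 1 = p := Fin.ext (by simp [window]; omega)
    have e2 : window 5 (p.val - 1) ha 2 = q := Fin.ext (by simp [window]; omega)
    have k1 : N T u (window 5 (p.val - 1) ha 1) (window 5 (p.val - 1) ha 2) = 1 := key.1
    have k2 : N T u (window 5 (p.val - 1) ha 2) (window 5 (p.val - 1) ha 1) = 1 := key.2.1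
    rw [e1, e2] at k1 k2
    exact ⟨k1, k2⟩
  · have ha : (p.val - 2) + 5 ≤ t := by omega
    have key := five_mid T (by omega) ((window 5 (p.val - 2) ha).trans u) (fun _ => hu _)
      (E _ _ (by simp [window])).1 (E _ _ (by simp [window])).1
      (E _ _ (by simp [window])).1 (E _ _ (by simp [window])).1
    have e1 : window 5 (p.val - 2) ha 2 = p := Fin.ext (by simp [window]; omega)
    have e2 : window 5 (p.val - 2) ha 3 = q := Fin.ext (by simp [window]; omega)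
    have k1 : N T u (window 5 (p.val - 2) ha 2) (window 5 (p.val - 2) ha 3) = 1 := key.2.2.1
    have k2 : N T u (window 5 (p.val - 2) ha 3) (window 5 (p.val - 2) ha 2) = 1 := key.2.2.2
    rw [e1, e2] at k1 k2
    exact ⟨k1, k2⟩

/-- the last bond of a chain: both Cartan integers are at most 2 and their sum at most 3 -/
theorem chain_last (ht3 : 2 < t) (ht : t < n) (hu : ∀ p, T.IsMinusTwo (u p)) (E : IsChain T u)
    (p q : Fin t) (hpq : q.val = p.val + 1) (hq : q.val + 1 = t) :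
    N T u p q ≤ 2 ∧ N T u q p ≤ 2 ∧ N T u p q + N T u q p ≤ 3 := by
  have ha : (t - 3) + 3 ≤ t := by omega
  have key := three_chain T (by omega) ((window 3 (t - 3) ha).trans u) (fun _ => hu _)
    (E _ _ (by simp [window])).1 (E _ _ (by simp [window])).1
  have e1 : window 3 (t - 3) ha 1 = p := Fin.ext (by simp [window]; omega)
  have e2 : window 3 (t - 3) ha 2 = q := Fin.ext (by simp [window]; omega)
  obtain ⟨-, -, k1, k2, -, -, -, -, -, k3⟩ := key
  change N T u (window 3 (t - 3) ha 1) (window 3 (t - 3) ha 2) ≤ 2 at k1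
  change N T u (window 3 (t - 3) ha 2) (window 3 (t - 3) ha 1) ≤ 2 at k2
  change N T u (window 3 (t - 3) ha 1) (window 3 (t - 3) ha 2) +
    N T u (window 3 (t - 3) ha 2) (window 3 (t - 3) ha 1) ≤ 3 at k3
  rw [e1, e2] at k1 k2 k3
  exact ⟨k1, k2, k3⟩


/-- certificate spanning a whole chain, with prescribed values at the two ends -/
theorem chain_ends (ht4 : 3 < t) (ht : t < n) (hu : ∀ p, T.IsMinusTwo (u p)) (E : IsChain T u)
    (α β γ : ℤ) (hα : 0 ≤ α) (hβ : 0 ≤ β) (hγ : 0 < γ)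
    (r0 : 2 * α ≤ N T u ⟨0, by omega⟩ ⟨1, by omega⟩ * γ)
    (r1 : 2 * γ ≤ N T u ⟨1, by omega⟩ ⟨0, by omega⟩ * α + γ)
    (r2 : 2 * γ ≤ γ + N T u ⟨t - 2, by omega⟩ ⟨t - 1, by omega⟩ * β)
    (r3 : 2 * β ≤ N T u ⟨t - 1, by omega⟩ ⟨t - 2, by omega⟩ * γ) : False := by
  have lt0 : 0 < t := by omega
  have lt1 : 1 < t := by omega
  have ltm1 : t - 1 < t := by omega
  have ltm2 : t - 2 < t := by omega
  let c : Fin t → ℤ := fun i => if i.val = 0 then α else if i.val + 1 = t then β else γ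
  have hcα : ∀ i : Fin t, i.val = 0 → c i = α := fun i h => if_pos h
  have hcβ : ∀ i : Fin t, i.val + 1 = t → c i = β := fun i h => by
    simp only [c]; rw [if_neg (by omega), if_pos h]
  have hcγ : ∀ i : Fin t, 0 < i.val → i.val + 1 < t → c i = γ := fun i h1 h2 => by
    simp only [c]; rw [if_neg (by omega), if_neg (by omega)]
  have hc : ∀ i, 0 ≤ c i := by
    intro i
    simp only [c]
    split_ifs <;> omega
  refine cert3_false T u ht hu c hc ?_ ⟨1, by omega⟩ (by rw [hcγ _ (by fo) (by fo)]; omega)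
  intro i
  have hil := i.isLt
  obtain h | h | h | h | h : i.val = 0 ∨ i.val = 1 ∨ (2 ≤ i.val ∧ i.val + 3 ≤ t) ∨ i.val + 2 = t ∨
      i.val + 1 = t := by omega
  · have hi : i = ⟨0, lt0⟩ := Fin.ext h
    subst hi
    refine Or.inr (Or.inl ⟨⟨1, by omega⟩, Fin.ne_of_val_ne (by fo), ?_⟩)
    rw [hcα _ rfl, hcγ _ (by fo) (by fo)]
    exact r0
  · have hi : i = ⟨1, lt1⟩ := Fin.ext h
    subst hi
    refine Or.inr (Or.inr (Or.inl ⟨⟨0, by omega⟩, ⟨2, by omega⟩, Fin.ne_of_val_ne (by fo),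
      Fin.ne_of_val_ne (by fo), Fin.ne_of_val_ne (by fo), ?_⟩))
    rw [hcγ _ (by fo) (by fo), hcα _ rfl, hcγ ⟨2, by omega⟩ (by fo) (by fo)]
    have h1 := (E ⟨1, by omega⟩ ⟨2, by omega⟩ rfl).1
    nlinarith
  · refine Or.inr (Or.inr (Or.inl ⟨⟨i.val - 1, by omega⟩, ⟨i.val + 1, by omega⟩,
      Fin.ne_of_val_ne (by fo), Fin.ne_of_val_ne (by fo), Fin.ne_of_val_ne (by fo), ?_⟩))
    rw [hcγ i (by omega) (by omega), hcγ ⟨i.val - 1, by omega⟩ (by fo) (by fo),
      hcγ ⟨i.val + 1, by omega⟩ (by fo) (by fo)]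
    have h1 := (E ⟨i.val - 1, by omega⟩ i (by fo)).2
    have h2 := (E i ⟨i.val + 1, by omega⟩ rfl).1
    nlinarith
  · have hi : i = ⟨t - 2, ltm2⟩ := Fin.ext (by fo)
    subst hi
    refine Or.inr (Or.inr (Or.inl ⟨⟨t - 3, by omega⟩, ⟨t - 1, by omega⟩, Fin.ne_of_val_ne (by fo),
      Fin.ne_of_val_ne (by fo), Fin.ne_of_val_ne (by fo), ?_⟩))
    rw [hcγ _ (by fo) (by fo), hcγ ⟨t - 3, by omega⟩ (by fo) (by fo), hcβ ⟨t - 1, by omega⟩ (by fo)]
    have h1 := (E ⟨t - 3, by omega⟩ ⟨t - 2, by omega⟩ (by fo)).2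
    nlinarith
  · have hi : i = ⟨t - 1, ltm1⟩ := Fin.ext (by fo)
    subst hi
    refine Or.inr (Or.inl ⟨⟨t - 2, by omega⟩, Fin.ne_of_val_ne (by fo), ?_⟩)
    rw [hcβ _ (by fo), hcγ ⟨t - 2, by omega⟩ (by fo) (by fo)]
    exact r3


/-- classification of a long chain whose first bond is simple -/
theorem chain_oriented (ht6 : 5 < t) (ht : t < n) (hu : ∀ p, T.IsMinusTwo (u p)) (E : IsChain T u)
    (h01 : N T u ⟨0, by omega⟩ ⟨1, by omega⟩ = 1) (h10 : N T u ⟨1, by omega⟩ ⟨0, by omega⟩ = 1) :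
    ∃ w : ℤ,
      ((∀ j : Fin t, T.w (u j) = w) ∧ (∀ j j' : Fin t, j'.val = j.val + 1 → T.a (u j) (u j') = w) ∨
        ((∀ j : Fin t, j.val + 1 < t → T.w (u j) = w) ∧ (∀ j : Fin t, j.val + 1 = t → T.w (u j) = 2 * w) ∧
          (∀ j j' : Fin t, j'.val = j.val + 1 → j'.val + 1 < t → T.a (u j) (u j') = w) ∧
          (∀ j j' : Fin t, j'.val = j.val + 1 → j'.val + 1 = t → T.a (u j) (u j') = 2 * w)) ∨
        ((∀ j : Fin t, j.val + 1 < t → T.w (u j) = 2 * w) ∧ (∀ j : Fin t, j.val + 1 = t → T.w (u j) = w) ∧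
          (∀ j j' : Fin t, j'.val = j.val + 1 → T.a (u j) (u j') = 2 * w))) := by
  have lt0 : 0 < t := by omega
  have lt1 : 1 < t := by omega
  have ltm1 : t - 1 < t := by omega
  have ltm2 : t - 2 < t := by omega
  have simple : ∀ p q : Fin t, q.val = p.val + 1 → q.val + 1 < t →
      N T u p q = 1 ∧ N T u q p = 1 := by
    intro p q hpq hq
    by_cases hp : p.val = 0
    · have hp' : p = ⟨0, lt0⟩ := Fin.ext hp
      have hq' : q = ⟨1, lt1⟩ := Fin.ext (by fo)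
      subst hp'
      subst hq'
      exact ⟨h01, h10⟩
    · exact chain_mid ht6 ht hu E p q hpq (by omega) hq
  have Wstep : ∀ p q : Fin t, q.val = p.val + 1 → q.val + 1 < t → T.w (u q) = T.w (u p) := by
    intro p q hpq hq
    have := w_N T u p q
    rw [(simple p q hpq hq).1, (simple p q hpq hq).2, mul_one, mul_one] at this
    exact this.symm
  have Wc : ∀ (m : ℕ) (hm : m + 1 < t), T.w (u ⟨m, by omega⟩) = T.w (u ⟨0, lt0⟩) := by
    intro m
    induction m with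
    | zero => intro _; rfl
    | succ m ih =>
      intro hm
      rw [Wstep ⟨m, by omega⟩ ⟨m + 1, by omega⟩ rfl (by fo)]
      exact ih (by omega)
  have Wc' : ∀ j : Fin t, j.val + 1 < t → T.w (u j) = T.w (u ⟨0, lt0⟩) := fun j hj => Wc j.val hj
  obtain ⟨x1, y1⟩ := E ⟨t - 2, ltm2⟩ ⟨t - 1, ltm1⟩ (by fo)
  obtain ⟨x2, y2, xy⟩ := chain_last (by omega) ht hu E ⟨t - 2, ltm2⟩ ⟨t - 1, ltm1⟩ (by fo) (by fo)
  have hW := w_N T u ⟨t - 2, ltm2⟩ ⟨t - 1, ltm1⟩
  have hWm2 : T.w (u ⟨t - 2, ltm2⟩) = T.w (u ⟨0, lt0⟩) := Wc' _ (by fo)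
  have hlast : ∀ j j' : Fin t, j'.val = j.val + 1 → j'.val + 1 = t →
      j = ⟨t - 2, ltm2⟩ ∧ j' = ⟨t - 1, ltm1⟩ := by
    intro j j' h1 h2
    exact ⟨Fin.ext (by fo), Fin.ext (by fo)⟩
  have hlastj : ∀ j : Fin t, j.val + 1 = t → j = ⟨t - 1, ltm1⟩ := fun j h => Fin.ext (by fo)
  obtain ⟨hx, hy⟩ | ⟨hx, hy⟩ | ⟨hx, hy⟩ :
      (N T u ⟨t - 2, ltm2⟩ ⟨t - 1, ltm1⟩ = 1 ∧ N T u ⟨t - 1, ltm1⟩ ⟨t - 2, ltm2⟩ = 1) ∨
      (N T u ⟨t - 2, ltm2⟩ ⟨t - 1, ltm1⟩ = 2 ∧ N T u ⟨t - 1, ltm1⟩ ⟨t - 2, ltm2⟩ = 1) ∨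
      (N T u ⟨t - 2, ltm2⟩ ⟨t - 1, ltm1⟩ = 1 ∧ N T u ⟨t - 1, ltm1⟩ ⟨t - 2, ltm2⟩ = 2) := by omega
  · -- type A
    rw [hx, hy, mul_one, mul_one] at hW
    refine ⟨T.w (u ⟨0, lt0⟩), Or.inl ⟨?_, ?_⟩⟩
    · intro j
      by_cases hj : j.val + 1 < t
      · exact Wc' j hj
      · have := hlastj j (by have := j.isLt; omega)
        subst this
        rw [← hW]; exact hWm2
    · intro j j' hjj'
      by_cases hj : j'.val + 1 < t
      · rw [a_eq T u j j', (simple j j' hjj' hj).1, mul_one]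
        exact Wc' j (by omega)
      · obtain ⟨e1, e2⟩ := hlast j j' hjj' (by have := j'.isLt; omega)
        subst e1
        subst e2
        rw [a_eq T u _ _, hx, mul_one]
        exact hWm2
  · -- type C
    rw [hx, hy, mul_one] at hW
    refine ⟨T.w (u ⟨0, lt0⟩), Or.inr (Or.inl ⟨Wc', ?_, ?_, ?_⟩)⟩
    · intro j hj
      have := hlastj j hj
      subst this
      rw [← hW, hWm2]; ring
    · intro j j' hjj' hj
      rw [a_eq T u j j', (simple j j' hjj' hj).1, mul_one]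
      exact Wc' j (by omega)
    · intro j j' hjj' hj
      obtain ⟨e1, e2⟩ := hlast j j' hjj' hj
      subst e1
      subst e2
      rw [a_eq T u _ _, hx, hWm2]; ring
  · -- type B
    rw [hx, hy, mul_one] at hW
    refine ⟨T.w (u ⟨t - 1, ltm1⟩), Or.inr (Or.inr ⟨?_, ?_, ?_⟩)⟩
    · intro j hj
      rw [Wc' j hj, ← hWm2, hW]; ring
    · intro j hj
      have := hlastj j hj
      subst this
      rfl
    · intro j j' hjj'
      by_cases hj : j'.val + 1 < t
      · rw [a_eq T u j j', (simple j j' hjj' hj).1, mul_one, Wc' j (by omega), ← hWm2, hW]; ring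
      · obtain ⟨e1, e2⟩ := hlast j j' hjj' (by have := j'.isLt; omega)
        subst e1
        subst e2
        rw [a_eq T u _ _, hx, mul_one, hW]; ring

end Groth.Agent.Lib.helper11.NumType
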