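import Mathlib
import Groth.Agent.Lib.helper7.Lim8h

/-!
# Cofiltered limits along open immersions (EGA IV 8.2.13 (?)) — helper11 library
-/

set_option autoImplicit false
universe u
open CategoryTheory CategoryTheory.Limits AlgebraicGeometry Topology TopologicalSpace

namespace Groth.Agent.Lib.helper11.OpenImmLim

variable {I : Type u} [SmallCategory I] [IsCofiltered I] (D : I ⥤ Scheme.{u}) (c : Cone D)
  (hc : IsLimit c) [∀ {i j : I} (f : i ⟶ j), IsAffineHom (D.map f)]
  (hoi : ∀ (i j : I) (φ : i ⟶ j), IsOpenImmersion (D.map φ))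

include hc hoi in
theorem π_injective (i : I) : Function.Injective (c.π.app i) := by
  intro s s' h
  refine Groth.Agent.Lib.helper7.Lim8.eq_of_forall_π_app_eq D c hc (fun k => ?_)
  let j := IsCofiltered.min i k
  let a : j ⟶ i := IsCofiltered.minToLeft i k
  let b : j ⟶ k := IsCofiltered.minToRight i k
  haveI := hoi j i a
  have h1 : D.map a (c.π.app j s) = D.map a (c.π.app j s') := by
    rw [Groth.Agent.Lib.helper7.Lim8.π_app_apply, Groth.Agent.Lib.helper7.Lim8.π_app_apply]
    exact h
  have h2 := (D.map a).isOpenEmbedding.injective h1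
  rw [← Groth.Agent.Lib.helper7.Lim8.π_app_apply b s,
    ← Groth.Agent.Lib.helper7.Lim8.π_app_apply b s', h2]

include hc hoi in
theorem π_isEmbedding (i : I) : IsEmbedding (c.π.app i) := by
  let p : c.pt ⟶ D.obj i := c.π.app i
  show IsEmbedding p
  rw [Topology.isEmbedding_iff, Topology.isInducing_iff]
  constructor
  swap
  · exact π_injective D c hc hoi i
  refine le_antisymm (continuous_iff_le_induced.mp p.continuous) ?_
  refine TopologicalSpace.le_def.mpr fun u hu => ?_
  refine (@isOpen_iff_forall_mem_open _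
    (induced p (D.obj i).instTopologicalSpaceCarrierCarrier) u).mpr fun s hs => ?_
  obtain ⟨k, φ, V, hsV, hVu⟩ :=
    Groth.Agent.Lib.helper7.Lim8.exists_basic_open_over D c hc i hu hs
  haveI := hoi k i φ
  let V' : Set (D.obj i) := D.map φ '' (V : Set (D.obj k))
  have hV' : IsOpen V' := (D.map φ).isOpenEmbedding.isOpenMap _ V.2
  have heq : (c.π.app i) ⁻¹' V' = (c.π.app k) ⁻¹' (V : Set (D.obj k)) := by
    ext t
    constructor
    · rintro ⟨z, hz, hzt⟩
      have : D.map φ z = D.map φ (c.π.app k t) := by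
        rw [Groth.Agent.Lib.helper7.Lim8.π_app_apply]; exact hzt
      have := (D.map φ).isOpenEmbedding.injective this
      show c.π.app k t ∈ V
      rw [← this]; exact hz
    · intro ht
      exact ⟨c.π.app k t, ht, Groth.Agent.Lib.helper7.Lim8.π_app_apply φ t⟩
  refine ⟨(c.π.app i) ⁻¹' V', ?_, ?_, ?_⟩
  · rw [heq]; exact hVu
  · exact isOpen_induced_iff.mpr ⟨V', hV', rfl⟩
  · rw [heq]; exact hsV

include hc hoi in
theorem π_mono (i : I) : Mono (c.π.app i) := by
  refine ⟨fun {Z} a b h => hc.hom_ext (fun k => ?_)⟩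
  let j := IsCofiltered.min i k
  let fa : j ⟶ i := IsCofiltered.minToLeft i k
  let fb : j ⟶ k := IsCofiltered.minToRight i k
  haveI := hoi j i fa
  have h1 : (a ≫ c.π.app j) ≫ D.map fa = (b ≫ c.π.app j) ≫ D.map fa := by
    rw [Category.assoc, Category.assoc, c.w, h]
  have h2 := (cancel_mono (D.map fa)).mp h1
  rw [← c.w fb, reassoc_of% h2]

include hc hoi in
theorem isIso_stalkMap (i : I) (s : c.pt) : IsIso ((c.π.app i).stalkMap s) := by
  set si := c.π.app i s with hsi
  let A := (D.obj i).presheaf.stalk si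
  let B := c.pt.presheaf.stalk s
  let r : Spec A ⟶ D.obj i := (D.obj i).fromSpecStalk si
  let D' : Over i ⥤ Scheme.{u} := Over.forget i ⋙ D
  let c' : Cone D' := c.whisker (Over.forget i)
  have hc' : IsLimit c' := (Functor.Initial.isLimitWhiskerEquiv (Over.forget i) c).symm hc
  have hrange : ∀ j : Over i, Set.range r ⊆ Set.range (D.map j.hom) := by
    intro j
    haveI := hoi j.left i j.hom
    rw [Scheme.range_fromSpecStalk]
    intro y (hy : y ⤳ si)
    have hmem : si ∈ Set.range (D.map j.hom) :=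
      ⟨c.π.app j.left s, Groth.Agent.Lib.helper7.Lim8.π_app_apply j.hom s⟩
    exact hy.mem_open (D.map j.hom).isOpenEmbedding.isOpen_range hmem
  let leg : ∀ j : Over i, Spec A ⟶ D.obj j.left := fun j =>
    haveI := hoi j.left i j.hom
    IsOpenImmersion.lift (D.map j.hom) r (hrange j)
  have hleg : ∀ j : Over i, leg j ≫ D.map j.hom = r := fun j =>
    haveI := hoi j.left i j.hom
    IsOpenImmersion.lift_fac _ _ _
  let cT : Cone D' :=
    { pt := Spec A
      π :=
        { app := leg
          naturality := by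
            intro j k ψ
            haveI := hoi k.left i k.hom
            show 𝟙 _ ≫ leg k = leg j ≫ D.map ψ.left
            rw [Category.id_comp]
            apply (cancel_mono (D.map k.hom)).mp
            have e1 : D.map ψ.left ≫ D.map k.hom = D.map j.hom := by
              rw [← D.map_comp]; exact congrArg D.map (Over.w ψ)
            have e2 : (leg j ≫ D.map ψ.left) ≫ D.map k.hom = leg j ≫ D.map j.hom :=
              (Category.assoc _ _ _).trans (congrArg (fun m => leg j ≫ m) e1)
            exact (hleg k).trans ((hleg j).symm.trans e2.symm) } }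
  let ℓ : Spec A ⟶ c.pt := hc'.lift cT
  have hℓ : ℓ ≫ c.π.app i = r := by
    have h1 : ℓ ≫ c'.π.app (Over.mk (𝟙 i)) = leg (Over.mk (𝟙 i)) := hc'.fac cT _
    have h2 : leg (Over.mk (𝟙 i)) = r :=
      (Category.comp_id _).symm.trans
        ((congrArg (fun m => leg (Over.mk (𝟙 i)) ≫ m) (D.map_id i).symm).trans
          (hleg (Over.mk (𝟙 i))))
    rw [← h2, ← h1]
    rfl
  haveI := π_mono D c hc hoi i
  let ψ : A ⟶ B := (c.π.app i).stalkMap s
  let ρ : Spec B ⟶ c.pt := c.pt.fromSpecStalk s
  have hψ : Spec.map ψ ≫ r = ρ ≫ c.π.app i := Scheme.SpecMap_stalkMap_fromSpecStalk (c.π.app i)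
  have hρ : Spec.map ψ ≫ ℓ = ρ := by
    rw [← cancel_mono (c.π.app i), Category.assoc, hℓ, hψ]
  -- the closed point goes to `s`
  let s' : c.pt := ℓ (IsLocalRing.closedPoint A)
  have hs' : s' = s := by
    apply π_injective D c hc hoi i
    show (ℓ ≫ c.π.app i) (IsLocalRing.closedPoint A) = si
    rw [hℓ]
    exact Scheme.fromSpecStalk_closedPoint
  let χ' : c.pt.presheaf.stalk s' ⟶ A := Scheme.stalkClosedPointTo ℓ
  have hχ' : Spec.map χ' ≫ c.pt.fromSpecStalk s' = ℓ := Scheme.Spec_stalkClosedPointTo_fromSpecStalk ℓ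
  have hsp : s' ⤳ s := specializes_of_eq hs'
  let χ : B ⟶ A := c.pt.presheaf.stalkSpecializes hsp ≫ χ'
  have hχ : Spec.map χ ≫ ρ = ℓ := by
    show Spec.map (c.pt.presheaf.stalkSpecializes hsp ≫ χ') ≫ c.pt.fromSpecStalk s = ℓ
    rw [Spec.map_comp, Category.assoc, Scheme.SpecMap_stalkSpecializes_fromSpecStalk, hχ']
  haveI : Mono ℓ := mono_of_mono_fac hℓ
  refine ⟨χ, ?_, ?_⟩
  · -- ψ ≫ χ = 𝟙 A
    apply Spec.map_injective
    rw [← cancel_mono ℓ, Spec.map_comp, Category.assoc, hρ, hχ, Spec.map_id, Category.id_comp]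
  · apply Spec.map_injective
    rw [← cancel_mono ρ, Spec.map_comp, Category.assoc, hχ, hρ, Spec.map_id, Category.id_comp]

end Groth.Agent.Lib.helper11.OpenImmLim
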