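import Mathlib

/-!
# The reduced locus of a scheme whose nilradical is of finite type is open — helper11 library
-/

set_option autoImplicit false
universe u
open CategoryTheory AlgebraicGeometry TopologicalSpace Opposite

namespace Groth.Agent.Lib.helper11.ReducedLocus

theorem isReduced_of_isLocalization {A S : Type*} [CommRing A] [CommRing S] [Algebra A S]
    (M : Submonoid A) [IsLocalization M S] (F : Set A) (hF : Ideal.span F = nilradical A)
    (h0 : ∀ f ∈ F, algebraMap A S f = 0) : IsReduced S := by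
  have hker : nilradical A ≤ RingHom.ker (algebraMap A S) := by
    rw [← hF]; exact Ideal.span_le.mpr (fun f hf => h0 f hf)
  refine ⟨fun x hx => ?_⟩
  obtain ⟨a, s, rfl⟩ := IsLocalization.exists_mk'_eq M x
  obtain ⟨n, hn⟩ := hx
  rw [← IsLocalization.mk'_pow, IsLocalization.mk'_eq_zero_iff] at hn
  obtain ⟨t, ht⟩ := hn
  have hnil : IsNilpotent ((t : A) * a) := ⟨n + 1, by
    calc ((t : A) * a) ^ (n + 1) = (t : A) ^ n * a * ((t : A) * a ^ n) := by ring
      _ = 0 := by rw [ht, mul_zero]⟩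
  have h1 : algebraMap A S ((t : A) * a) = 0 := hker (mem_nilradical.mpr hnil)
  obtain ⟨m, hm⟩ := (IsLocalization.map_eq_zero_iff M S _).mp h1
  exact (IsLocalization.mk'_eq_zero_iff a s).mpr ⟨m * t, by
    rw [Submonoid.coe_mul, mul_assoc]; exact hm⟩

theorem isOpen_setOf_germ_eq_zero (X : Scheme.{u}) (U : X.Opens) (f : Γ(X, U)) :
    IsOpen {x : X | ∃ hx : x ∈ U, X.presheaf.germ U x hx f = 0} := by
  rw [isOpen_iff_forall_mem_open]
  rintro x ⟨hx, h0⟩
  have h0' : X.presheaf.germ U x hx f = X.presheaf.germ U x hx 0 := by rw [h0, map_zero]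
  obtain ⟨W, hxW, iU, iV, e⟩ := X.presheaf.germ_eq x hx hx f 0 h0'
  refine ⟨W, ?_, W.2, hxW⟩
  intro y hyW
  refine ⟨iU.le hyW, ?_⟩
  have h2 : X.presheaf.germ U y (iU.le hyW) f
      = X.presheaf.germ W y hyW (X.presheaf.map iU.op f) := by
    rw [TopCat.Presheaf.germ_res_apply]
  rw [h2, e, map_zero, map_zero]

theorem isReduced_stalk_iff (X : Scheme.{u}) (U : X.affineOpens) (F : Finset Γ(X, U))
    (hF : Ideal.span (F : Set Γ(X, U)) = nilradical Γ(X, U)) (x : X) (hx : x ∈ U.1) :
    _root_.IsReduced (X.presheaf.stalk x) ↔ ∀ f ∈ F, X.presheaf.germ U.1 x hx f = 0 := by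
  constructor
  · intro hred f hf
    have hnil : IsNilpotent f := by
      rw [← mem_nilradical, ← hF]; exact Ideal.subset_span hf
    exact (hnil.map (X.presheaf.germ U.1 x hx).hom).eq_zero
  · intro h0
    letI := X.presheaf.algebra_section_stalk (⟨x, hx⟩ : U.1)
    haveI : IsLocalization.AtPrime (X.presheaf.stalk x) (U.2.primeIdealOf ⟨x, hx⟩).asIdeal :=
      U.2.isLocalization_stalk ⟨x, hx⟩
    exact isReduced_of_isLocalization (U.2.primeIdealOf ⟨x, hx⟩).asIdeal.primeCompl
      (F : Set Γ(X, U)) hF (fun f hf => h0 f hf)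

theorem isOpen_reduced_inter (X : Scheme.{u}) (U : X.affineOpens)
    (hfg : (nilradical Γ(X, U)).FG) :
    IsOpen {x : X | x ∈ U.1 ∧ _root_.IsReduced (X.presheaf.stalk x)} := by
  obtain ⟨F, hF⟩ := hfg
  have heq : {x : X | x ∈ U.1 ∧ _root_.IsReduced (X.presheaf.stalk x)}
      = (U.1 : Set X) ∩ ⋂ f ∈ F, {x : X | ∃ hx : x ∈ U.1, X.presheaf.germ U.1 x hx f = 0} := by
    ext x
    simp only [Set.mem_setOf_eq, Set.mem_inter_iff, Set.mem_iInter, SetLike.mem_coe]
    constructor
    · rintro ⟨hx, hred⟩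
      exact ⟨hx, fun f hf => ⟨hx, (isReduced_stalk_iff X U F hF x hx).mp hred f hf⟩⟩
    · rintro ⟨hx, h⟩
      exact ⟨hx, (isReduced_stalk_iff X U F hF x hx).mpr (fun f hf => (h f hf).2)⟩
  rw [heq]
  exact U.1.2.inter (isOpen_biInter_finset fun f _ => isOpen_setOf_germ_eq_zero X U.1 f)

/-- If the nilradical is of finite type on every affine open, the reduced locus is open. -/
theorem isOpen_reducedLocus (X : Scheme.{u})
    (hN : ∀ U : X.affineOpens, (nilradical Γ(X, U)).FG) :
    IsOpen {x : X | _root_.IsReduced (X.presheaf.stalk x)} := by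
  have heq : {x : X | _root_.IsReduced (X.presheaf.stalk x)}
      = ⋃ U : X.affineOpens, {x : X | x ∈ U.1 ∧ _root_.IsReduced (X.presheaf.stalk x)} := by
    ext x
    simp only [Set.mem_setOf_eq, Set.mem_iUnion]
    constructor
    · intro h
      obtain ⟨_, ⟨U, hU, rfl⟩, hxU, -⟩ :=
        X.isBasis_affineOpens.exists_subset_of_mem_open (Set.mem_univ x) isOpen_univ
      exact ⟨⟨U, hU⟩, hxU, h⟩
    · rintro ⟨U, -, h⟩
      exact h
  rw [heq]
  exact isOpen_iUnion fun U => isOpen_reduced_inter X U (hN U)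

end Groth.Agent.Lib.helper11.ReducedLocus
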