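import Mathlib
import Groth.Agent.Lib.helper11.OpenImmLim
import Groth.Agent.Lib.helper11.ReducedLocus

/-!
# Reducedness of limits along open immersions — helper11 library
-/

set_option autoImplicit false
universe u
open CategoryTheory CategoryTheory.Limits AlgebraicGeometry Topology TopologicalSpace

namespace Groth.Agent.Lib.helper11.OpenImmReduced

theorem isReduced_of_isIso {A B : CommRingCat.{u}} (ψ : A ⟶ B) [IsIso ψ]
    [_root_.IsReduced A] : _root_.IsReduced B := by
  have hinj : Function.Injective (inv ψ).hom := by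
    intro a b hab
    have h := congrArg ψ.hom hab
    simpa [← CommRingCat.comp_apply] using h
  exact isReduced_of_injective (inv ψ).hom hinj

theorem isReduced_of_isIso' {A B : CommRingCat.{u}} (ψ : A ⟶ B) [IsIso ψ]
    [_root_.IsReduced B] : _root_.IsReduced A := by
  have hinj : Function.Injective ψ.hom := by
    intro a b hab
    have h := congrArg (inv ψ).hom hab
    simpa [← CommRingCat.comp_apply] using h
  exact isReduced_of_injective ψ.hom hinj

variable {I : Type u} [SmallCategory I] [IsCofiltered I] (D : I ⥤ Scheme.{u}) (c : Cone D)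
  (hc : IsLimit c) [∀ {i j : I} (f : i ⟶ j), IsAffineHom (D.map f)]
  (hoi : ∀ (i j : I) (φ : i ⟶ j), IsOpenImmersion (D.map φ))

include hc hoi in
theorem isReduced_iff_eventually (i₀ : I) [CompactSpace (D.obj i₀)]
    (hN : ∀ U : (D.obj i₀).affineOpens, (nilradical Γ(D.obj i₀, U)).FG) :
    IsReduced c.pt ↔ ∃ (i : I) (_ : i ⟶ i₀), ∀ (j : I) (_ : j ⟶ i), IsReduced (D.obj j) := by
  constructor
  · intro hred
    by_contra H
    push_neg at H
    let R : Set (D.obj i₀) := {x | _root_.IsReduced ((D.obj i₀).presheaf.stalk x)}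
    have hR : IsOpen R := Groth.Agent.Lib.helper11.ReducedLocus.isOpen_reducedLocus _ hN
    let Z : ∀ (j : I), (j ⟶ i₀) → Set (D.obj j) := fun j f => (D.map f) ⁻¹' Rᶜ
    have hZc : ∀ j f, IsClosed (Z j f) := fun j f =>
      hR.isClosed_compl.preimage (D.map f).continuous
    have hZne : ∀ j f, (Z j f).Nonempty := by
      intro j f
      obtain ⟨k, g, hk⟩ := H j f
      have hex : ∃ x : D.obj k, ¬ _root_.IsReduced ((D.obj k).presheaf.stalk x) := by
        by_contra hcon
        push_neg at hcon
        haveI : ∀ x : D.obj k, _root_.IsReduced ((D.obj k).presheaf.stalk x) := hcon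
        exact hk (isReduced_of_isReduced_stalk _)
      obtain ⟨x, hx⟩ := hex
      refine ⟨D.map g x, ?_⟩
      show D.map f (D.map g x) ∈ Rᶜ
      intro hmem
      apply hx
      haveI := hoi k i₀ (g ≫ f)
      have hmem' : _root_.IsReduced ((D.obj i₀).presheaf.stalk (D.map (g ≫ f) x)) := by
        have : D.map (g ≫ f) x = D.map f (D.map g x) := by
          rw [D.map_comp]; rfl
        rw [this]; exact hmem
      exact isReduced_of_isIso ((D.map (g ≫ f)).stalkMap x)
    have hZcpt : ∀ j f, IsCompact (Z j f) := by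
      intro j f
      haveI : CompactSpace (D.obj j) := QuasiCompact.compactSpace_of_compactSpace (D.map f)
      exact (hZc j f).isCompact
    obtain ⟨s, hs⟩ := exists_mem_of_isClosed_of_nonempty' D c hc Z hZc hZne hZcpt
      (fun j k g f x hx => by
        show D.map f (D.map g x) ∈ Rᶜ
        have : D.map (g ≫ f) x = D.map f (D.map g x) := by
          rw [D.map_comp]; rfl
        rw [← this]; exact hx)
    have h1 : D.map (𝟙 i₀) (c.π.app i₀ s) ∈ Rᶜ := hs i₀ (𝟙 i₀)
    apply h1
    have h2 : D.map (𝟙 i₀) (c.π.app i₀ s) = c.π.app i₀ s := by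
      rw [D.map_id]; rfl
    rw [h2]
    haveI := Groth.Agent.Lib.helper11.OpenImmLim.isIso_stalkMap D c hc hoi i₀ s
    haveI : _root_.IsReduced (c.pt.presheaf.stalk s) := inferInstance
    exact @isReduced_of_isIso' _ (c.pt.presheaf.stalk s) ((c.π.app i₀).stalkMap s) _ this
  · rintro ⟨i, f, h⟩
    haveI := h i (𝟙 i)
    haveI : ∀ s : c.pt, _root_.IsReduced (c.pt.presheaf.stalk s) := by
      intro s
      haveI := Groth.Agent.Lib.helper11.OpenImmLim.isIso_stalkMap D c hc hoi i s
      exact isReduced_of_isIso ((c.π.app i).stalkMap s)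
    exact isReduced_of_isReduced_stalk _

end Groth.Agent.Lib.helper11.OpenImmReduced
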