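import Mathlib
import Groth.Agent.Lib.helper7.Lim8
import Groth.Agent.Lib.helper11.OpenImmReduced

/-!
# Integrality of limits along open immersions — helper11 library
-/

set_option autoImplicit false
universe u
open CategoryTheory CategoryTheory.Limits AlgebraicGeometry Topology TopologicalSpace

namespace Groth.Agent.Lib.helper11.OpenImmIntegral

variable {I : Type u} [SmallCategory I] [IsCofiltered I] (D : I ⥤ Scheme.{u}) (c : Cone D)
  (hc : IsLimit c) [∀ {i j : I} (f : i ⟶ j), IsAffineHom (D.map f)]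
  (hoi : ∀ (i j : I) (φ : i ⟶ j), IsOpenImmersion (D.map φ))

omit [IsCofiltered I] [∀ {i j : I} (f : i ⟶ j), IsAffineHom (D.map f)] in
include hoi in
theorem exists_dominant_stage (i₀ : I) [NoetherianSpace (D.obj i₀)] :
    ∃ (i₁ : I) (_ : i₁ ⟶ i₀), ∀ (j k : I) (_ : j ⟶ i₁) (ψ : k ⟶ j), IsDominant (D.map ψ) := by
  let 𝒞 : Set (Closeds (D.obj i₀)) :=
    {C | ∃ (j : I) (f : j ⟶ i₀), C = ⟨closure (Set.range (D.map f)), isClosed_closure⟩}
  have hne : 𝒞.Nonempty := ⟨_, i₀, 𝟙 i₀, rfl⟩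
  have hiff : NoetherianSpace (D.obj i₀) ↔ WellFoundedLT (Closeds (D.obj i₀)) :=
    (noetherianSpace_TFAE (D.obj i₀ : Type u)).out 0 1
  have hwf : WellFoundedLT (Closeds (D.obj i₀)) := hiff.mp inferInstance
  obtain ⟨C, ⟨i₁, f₁, rfl⟩, hmin⟩ := hwf.wf.has_min 𝒞 hne
  have key : ∀ (j : I) (f : j ⟶ i₁),
      closure (Set.range (D.map (f ≫ f₁))) = closure (Set.range (D.map f₁)) := by
    intro j f
    have hle : closure (Set.range (D.map (f ≫ f₁))) ⊆ closure (Set.range (D.map f₁)) := by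
      apply closure_mono
      rintro _ ⟨x, rfl⟩
      refine ⟨D.map f x, ?_⟩
      rw [D.map_comp]; rfl
    have hnlt := hmin ⟨closure (Set.range (D.map (f ≫ f₁))), isClosed_closure⟩ ⟨j, f ≫ f₁, rfl⟩
    have hle' : (⟨closure (Set.range (D.map (f ≫ f₁))), isClosed_closure⟩ : Closeds (D.obj i₀))
        ≤ ⟨closure (Set.range (D.map f₁)), isClosed_closure⟩ := hle
    have := eq_of_le_of_not_lt hle' hnlt
    exact congrArg (fun C : Closeds (D.obj i₀) => (C : Set (D.obj i₀))) this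
  refine ⟨i₁, f₁, fun j k fj ψ => ⟨?_⟩⟩
  haveI := hoi j i₀ (fj ≫ f₁)
  let g := D.map (fj ≫ f₁)
  have hg : IsInducing g := g.isOpenEmbedding.isInducing
  rw [DenseRange, dense_iff_closure_eq, hg.closure_eq_preimage_closure_image]
  have h1 : g '' Set.range (D.map ψ) = Set.range (D.map ((ψ ≫ fj) ≫ f₁)) := by
    ext y
    constructor
    · rintro ⟨_, ⟨x, rfl⟩, rfl⟩
      refine ⟨x, ?_⟩
      rw [Category.assoc, D.map_comp]; rfl
    · rintro ⟨x, rfl⟩
      refine ⟨_, ⟨x, rfl⟩, ?_⟩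
      rw [Category.assoc, D.map_comp]; rfl
  rw [h1, key k (ψ ≫ fj), ← key j fj]
  rw [Set.eq_univ_iff_forall]
  intro x
  exact subset_closure ⟨x, rfl⟩

include hc hoi in
theorem isIntegral_iff_eventually (i₀ : I) [IsNoetherian (D.obj i₀)] :
    IsIntegral c.pt ↔ ∃ (i : I) (_ : i ⟶ i₀), ∀ (j : I) (_ : j ⟶ i), IsIntegral (D.obj j) := by
  have hN : ∀ U : (D.obj i₀).affineOpens, (nilradical Γ(D.obj i₀, U)).FG := by
    intro U
    haveI : IsNoetherianRing Γ(D.obj i₀, U) := IsLocallyNoetherian.component_noetherian U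
    exact IsNoetherian.noetherian _
  -- the `Over i` systems
  have hover : ∀ (i : I) (_ : i ⟶ i₀)
      (_ : ∀ (j k : I) (_ : j ⟶ i) (ψ : k ⟶ j), IsDominant (D.map ψ)),
      IrreducibleSpace c.pt ↔ ∃ (i' : I) (_ : i' ⟶ i), ∀ (j : I) (_ : j ⟶ i'),
        IrreducibleSpace (D.obj j) := by
    intro i f hdom
    let D' : Over i ⥤ Scheme.{u} := Over.forget i ⋙ D
    let c' : Cone D' := c.whisker (Over.forget i)
    have hc' : IsLimit c' := (Functor.Initial.isLimitWhiskerEquiv (Over.forget i) c).symm hc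
    haveI : ∀ {a b : Over i} (φ : a ⟶ b), IsAffineHom (D'.map φ) := fun φ => by
      dsimp [D']; infer_instance
    haveI : CompactSpace (D'.obj (Over.mk (𝟙 i))) := by
      show CompactSpace (D.obj i)
      exact QuasiCompact.compactSpace_of_compactSpace (D.map f)
    have hd' : ∀ (a b : Over i) (φ : a ⟶ b), IsDominant (D'.map φ) := fun a b φ =>
      hdom b.left a.left b.hom φ.left
    have h := Groth.Agent.Lib.helper7.Lim8.irreducibleSpace_iff_eventually D' c' hc'
      (Over.mk (𝟙 i)) hd'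
    constructor
    · intro hirr
      obtain ⟨i₃, _, h3⟩ := h.mp hirr
      exact ⟨i₃.left, i₃.hom, fun j g => h3 (Over.mk (g ≫ i₃.hom)) (Over.homMk g rfl)⟩
    · rintro ⟨i', g, h3⟩
      refine h.mpr ⟨Over.mk g, Over.homMk g (by simp), fun j φ => ?_⟩
      exact h3 j.left φ.left
  constructor
  · intro hint
    haveI : IsReduced c.pt := inferInstance
    haveI : IrreducibleSpace c.pt := inferInstance
    obtain ⟨i₂, f₂, hred⟩ :=
      (Groth.Agent.Lib.helper11.OpenImmReduced.isReduced_iff_eventually D c hc hoi i₀ hN).mp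
        inferInstance
    obtain ⟨i₁, f₁, hdom⟩ := exists_dominant_stage D hoi i₀
    obtain ⟨i₃, f₃, hirr⟩ := (hover i₁ f₁ hdom).mp inferInstance
    let i₄ := IsCofiltered.min i₂ i₃
    let a : i₄ ⟶ i₂ := IsCofiltered.minToLeft i₂ i₃
    let b : i₄ ⟶ i₃ := IsCofiltered.minToRight i₂ i₃
    refine ⟨i₄, a ≫ f₂, fun j g => ?_⟩
    haveI := hred j (g ≫ a)
    haveI := hirr j (g ≫ b)
    exact (isIntegral_iff_irreducibleSpace_and_isReduced _).mpr ⟨inferInstance, inferInstance⟩
  · rintro ⟨i, f, hint⟩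
    have hred : IsReduced c.pt :=
      (Groth.Agent.Lib.helper11.OpenImmReduced.isReduced_iff_eventually D c hc hoi i₀ hN).mpr
        ⟨i, f, fun j g => by haveI := hint j g; infer_instance⟩
    have hdom : ∀ (j k : I) (_ : j ⟶ i) (ψ : k ⟶ j), IsDominant (D.map ψ) := by
      intro j k fj ψ
      haveI := hint j fj
      haveI := hint k (ψ ≫ fj)
      haveI := hoi k j ψ
      refine ⟨?_⟩
      have hopen : IsOpen (Set.range (D.map ψ)) := (D.map ψ).isOpenEmbedding.isOpen_range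
      exact hopen.dense (Set.range_nonempty _)
    have hirr : IrreducibleSpace c.pt :=
      (hover i f hdom).mpr ⟨i, 𝟙 i, fun j g => by haveI := hint j g; infer_instance⟩
    exact (isIntegral_iff_irreducibleSpace_and_isReduced _).mpr ⟨hirr, hred⟩

end Groth.Agent.Lib.helper11.OpenImmIntegral
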