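import Groth.Agent.Lib.helper11.UHRing
import Groth.Agent.S7399
import Mathlib.NumberTheory.Basic
import Mathlib.Algebra.CharP.Lemmas
import Mathlib.Algebra.CharP.Reduced

/-! The `p`-power criterion for universal homeomorphisms which are isomorphisms after inverting
`p`. -/

set_option autoImplicit false
universe u
open CategoryTheory CategoryTheory.Limits AlgebraicGeometry MorphismProperty Polynomial

namespace Groth.Agent.Lib.helper11.PCrit

open Groth.Agent.Lib.helper11.UnivHomeo Groth.Agent.Lib.helper11.UHRing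

variable {A B : Type u} [CommRing A] [CommRing B] (φ : A →+* B) (p : ℕ)

/-- `b` has a `p`-power multiple and a `p`-power power in the image. -/
def Good (b : B) : Prop := ∃ n : ℕ, (p ^ n : B) * b ∈ φ.range ∧ b ^ (p ^ n) ∈ φ.range

variable {φ p}

theorem natCast_mem (k : ℕ) : (k : B) ∈ φ.range := ⟨k, map_natCast φ k⟩

theorem good_mono {b : B} {n m : ℕ} (hnm : n ≤ m) (h1 : (p ^ n : B) * b ∈ φ.range)
    (h2 : b ^ (p ^ n) ∈ φ.range) : (p ^ m : B) * b ∈ φ.range ∧ b ^ (p ^ m) ∈ φ.range := by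
  obtain ⟨d, rfl⟩ := Nat.exists_eq_add_of_le hnm
  constructor
  · have : (p ^ (n + d) : B) * b = (p ^ d : B) * ((p ^ n : B) * b) := by ring
    rw [this]
    exact φ.range.mul_mem (φ.range.pow_mem (natCast_mem p) d) h1
  · rw [pow_add, pow_mul]
    exact φ.range.pow_mem h2 _

theorem good_map (a : A) : Good φ p (φ a) := ⟨0, by simpa using ⟨a, rfl⟩, by simpa using ⟨a, rfl⟩⟩

theorem good_mul {b b' : B} (hb : Good φ p b) (hb' : Good φ p b') : Good φ p (b * b') := by
  obtain ⟨n₁, h1, h2⟩ := hb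
  obtain ⟨n₂, h3, h4⟩ := hb'
  obtain ⟨h1, h2⟩ := good_mono (le_max_left n₁ n₂) h1 h2
  obtain ⟨h3, h4⟩ := good_mono (le_max_right n₁ n₂) h3 h4
  generalize max n₁ n₂ = n at h1 h2 h3 h4
  refine ⟨n + n, ?_, ?_⟩
  · have : (p ^ (n + n) : B) * (b * b') = ((p ^ n : B) * b) * ((p ^ n : B) * b') := by ring
    rw [this]
    exact φ.range.mul_mem h1 h3
  · rw [mul_pow]
    exact φ.range.mul_mem (good_mono (Nat.le_add_right n n) h1 h2).2
      (good_mono (Nat.le_add_right n n) h3 h4).2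

theorem bound_single (hp : p.Prime) {b : B} {n : ℕ} (h1 : (p ^ n : B) * b ∈ φ.range)
    (h2 : b ^ (p ^ n) ∈ φ.range) (i : ℕ) : (p ^ (n * p ^ n) : B) * b ^ i ∈ φ.range := by
  have hq : 0 < p ^ n := pos_of_ne_zero (pow_ne_zero _ hp.ne_zero)
  have hlt : i % p ^ n < p ^ n := Nat.mod_lt _ hq
  obtain ⟨d, hd⟩ := Nat.exists_eq_add_of_le hlt.le
  have hi : i = p ^ n * (i / p ^ n) + i % p ^ n := (Nat.div_add_mod i (p ^ n)).symm
  generalize i / p ^ n = i₁ at hi
  generalize i % p ^ n = i₀ at hi hd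
  have e1 : (p ^ (n * p ^ n) : B) = (p : B) ^ (n * i₀) * (p : B) ^ (n * d) := by
    rw [hd, mul_add, pow_add]
  have e : (p ^ (n * p ^ n) : B) * b ^ i =
      (b ^ (p ^ n)) ^ i₁ * ((p ^ n : B) * b) ^ i₀ * (p ^ (n * d) : B) := by
    rw [e1, hi, pow_add, pow_mul b, mul_pow, ← pow_mul]
    ring
  rw [e]
  exact φ.range.mul_mem (φ.range.mul_mem (φ.range.pow_mem h2 _) (φ.range.pow_mem h1 _))
    (φ.range.pow_mem (natCast_mem p) _)

theorem bound_adjoin (hp : p.Prime) {b b' : B} {n : ℕ} (h1 : (p ^ n : B) * b ∈ φ.range)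
    (h2 : b ^ (p ^ n) ∈ φ.range) (h3 : (p ^ n : B) * b' ∈ φ.range)
    (h4 : b' ^ (p ^ n) ∈ φ.range) :
    letI := φ.toAlgebra
    ∀ m ∈ Algebra.adjoin A ({b, b'} : Set B),
      (p ^ (n * p ^ n + n * p ^ n) : B) * m ∈ φ.range := by
  letI := φ.toAlgebra
  intro m hm
  have hm' : m ∈ (Algebra.adjoin A ({b, b'} : Set B)).toSubmodule := hm
  rw [Algebra.adjoin_eq_span] at hm'
  clear hm
  induction hm' using Submodule.span_induction with
  | mem x hx =>
    obtain ⟨i, j, rfl⟩ := (Submonoid.mem_closure_pair b b' x).mp hx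
    have : (p ^ (n * p ^ n + n * p ^ n) : B) * (b ^ i * b' ^ j) =
        ((p ^ (n * p ^ n) : B) * b ^ i) * ((p ^ (n * p ^ n) : B) * b' ^ j) := by
      rw [pow_add]; ring
    rw [this]
    exact φ.range.mul_mem (bound_single hp h1 h2 i) (bound_single hp h3 h4 j)
  | zero => rw [mul_zero]; exact φ.range.zero_mem
  | add x y _ _ hx hy => rw [mul_add]; exact φ.range.add_mem hx hy
  | smul a x _ hx =>
    have : (p ^ (n * p ^ n + n * p ^ n) : B) * (a • x) =
        φ a * ((p ^ (n * p ^ n + n * p ^ n) : B) * x) := by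
      rw [Algebra.smul_def]
      show _ * (φ a * x) = _
      ring
    rw [this]
    exact φ.range.mul_mem ⟨a, rfl⟩ hx

theorem good_add (hp : p.Prime) {b b' : B} (hb : Good φ p b) (hb' : Good φ p b') :
    Good φ p (b + b') := by
  obtain ⟨n₁, h1, h2⟩ := hb
  obtain ⟨n₂, h3, h4⟩ := hb'
  obtain ⟨h1, h2⟩ := good_mono (le_max_left n₁ n₂) h1 h2
  obtain ⟨h3, h4⟩ := good_mono (le_max_right n₁ n₂) h3 h4
  generalize max n₁ n₂ = n at h1 h2 h3 h4
  letI := φ.toAlgebra
  have hbound := bound_adjoin hp h1 h2 h3 h4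
  generalize n * p ^ n + n * p ^ n = K at hbound
  let S := Algebra.adjoin A ({b, b'} : Set B)
  have hbS : b ∈ S := Algebra.subset_adjoin (by simp)
  have hb'S : b' ∈ S := Algebra.subset_adjoin (by simp)
  let x : S := ⟨b, hbS⟩
  let y : S := ⟨b', hb'S⟩
  obtain ⟨r, hr⟩ := exists_add_pow_prime_pow_eq hp x y n
  have hdvd : (p : S) ∣ (x + y) ^ (p ^ n) - (x ^ (p ^ n) + y ^ (p ^ n)) :=
    ⟨x * y * r, by rw [hr]; ring⟩
  obtain ⟨w, hw⟩ := dvd_sub_pow_of_dvd_sub hdvd K
  have hw' : ((b + b') ^ (p ^ n)) ^ (p ^ K) - (b ^ (p ^ n) + b' ^ (p ^ n)) ^ (p ^ K) =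
      (p : B) ^ (K + 1) * (w : B) := by
    have := congrArg (Subtype.val) hw
    simpa [x, y] using this
  refine ⟨n + K, ?_, ?_⟩
  · have : (p ^ (n + K) : B) * (b + b') = (p ^ K : B) * ((p ^ n : B) * b + (p ^ n : B) * b') := by
      rw [pow_add]; ring
    rw [this]
    exact φ.range.mul_mem (φ.range.pow_mem (natCast_mem p) _) (φ.range.add_mem h1 h3)
  · rw [pow_add, pow_mul]
    have : ((b + b') ^ (p ^ n)) ^ (p ^ K) =
        (b ^ (p ^ n) + b' ^ (p ^ n)) ^ (p ^ K) + (p : B) * ((p ^ K : B) * (w : B)) := by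
      rw [← sub_eq_iff_eq_add', hw', pow_succ]; ring
    rw [this]
    exact φ.range.add_mem (φ.range.pow_mem (φ.range.add_mem h2 h4) _)
      (φ.range.mul_mem (natCast_mem p) (hbound _ w.2))

/-- the criterion implies universal homeomorphism. -/
theorem uh_of_crit (hp : p.Prime) (hker : ∀ a, φ a = 0 → IsNilpotent a)
    (hpow : ∀ b : B, Good φ p b) : UH φ := by
  rw [uh_iff]
  refine ⟨?_, ?_, hker⟩
  · intro b
    obtain ⟨n, -, a, ha⟩ := hpow b
    refine ⟨X ^ p ^ n - C a, monic_X_pow_sub_C a (pow_ne_zero _ hp.ne_zero), ?_⟩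
    rw [eval₂_sub, eval₂_pow, eval₂_X, eval₂_C, ha, sub_self]
  · intro K _ σ τ hστ
    ext b
    obtain ⟨n, ⟨a₁, ha₁⟩, ⟨a₂, ha₂⟩⟩ := hpow b
    have hc : ∀ a, σ (φ a) = τ (φ a) := fun a => congrArg (fun f : A →+* K => f a) hστ
    have e1 : (p ^ n : K) * σ b = (p ^ n : K) * τ b := by
      have := hc a₁
      rw [ha₁, map_mul, map_mul, map_pow, map_pow, map_natCast, map_natCast] at this
      exact this
    have e2 : σ b ^ p ^ n = τ b ^ p ^ n := by
      have := hc a₂
      rw [ha₂, map_pow, map_pow] at this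
      exact this
    by_cases h0 : (p : K) = 0
    · haveI : CharP K p := (CharP.charP_iff_prime_eq_zero hp).mpr h0
      haveI : Fact p.Prime := ⟨hp⟩
      have : (σ b - τ b) ^ p ^ n = 0 := by rw [sub_pow_char_pow, e2, sub_self]
      exact sub_eq_zero.mp (pow_eq_zero_iff (pow_ne_zero _ hp.ne_zero) |>.mp this)
    · exact mul_left_cancel₀ (pow_ne_zero n h0) e1

/-- after inverting `p` the map is surjective, so every element has a `p`-power multiple in the
image. -/
theorem exists_mul_mem (hs : Function.Surjective (Localization.awayMap φ (p : A))) (b : B) :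
    ∃ m : ℕ, (p ^ m : B) * b ∈ φ.range := by
  obtain ⟨x, hx⟩ := hs (algebraMap B (Localization.Away (φ (p : A))) b)
  obtain ⟨k, a, ha⟩ := IsLocalization.Away.surj (p : A) x
  have h1 : algebraMap B (Localization.Away (φ (p : A))) (b * φ (p : A) ^ k) =
      algebraMap B _ (φ a) := by
    have hmap : ∀ a' : A, Localization.awayMap φ (p : A) (algebraMap A _ a') =
        algebraMap B _ (φ a') := fun a' => by
      simp [Localization.awayMap, IsLocalization.Away.map, IsLocalization.map_eq]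
    have := congrArg (Localization.awayMap φ (p : A)) ha
    rw [map_mul, map_pow, hx, hmap, hmap] at this
    rw [map_mul, map_pow]
    exact this
  obtain ⟨j, hj⟩ := IsLocalization.Away.exists_of_eq (S := Localization.Away (φ (p : A)))
    (φ (p : A)) h1
  refine ⟨j + k, p ^ j * a, ?_⟩
  rw [map_mul, map_pow, map_natCast]
  rw [map_natCast] at hj
  rw [← hj, pow_add]
  ring

variable (φ p) in
/-- the subring of good elements. -/
def goodSub (hp : p.Prime) : Subring B where
  carrier := {b | Good φ p b}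
  mul_mem' := good_mul
  add_mem' := good_add hp
  one_mem' := by simpa using good_map (φ := φ) (p := p) 1
  zero_mem' := by simpa using good_map (φ := φ) (p := p) 0
  neg_mem' := fun {b} hb => by
    have := good_mul (good_map (φ := φ) (p := p) (-1)) hb
    simpa using this

theorem good_pow_of_sq_cube {c : B} (h2 : Good φ p (c ^ 2)) (h3 : Good φ p (c ^ 3)) :
    ∀ t : ℕ, Good φ p (c ^ (2 + t)) ∧ Good φ p (c ^ (3 + t)) := by
  intro t
  induction t with
  | zero => exact ⟨h2, h3⟩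
  | succ t ih =>
    refine ⟨?_, ?_⟩
    · have : c ^ (2 + (t + 1)) = c ^ (3 + t) := by ring
      rw [this]; exact ih.2
    · have : c ^ (3 + (t + 1)) = c ^ (2 + t) * c ^ 2 := by ring
      rw [this]; exact good_mul ih.1 h2

theorem good_of_pow_good {c : B} {M : ℕ} (hM : (p ^ M : B) * c ∈ φ.range)
    (hg : Good φ p (c ^ (p ^ M))) : Good φ p c := by
  obtain ⟨n', -, h⟩ := hg
  refine ⟨M + n', ?_, ?_⟩
  · have : (p ^ (M + n') : B) * c = (p ^ n' : B) * ((p ^ M : B) * c) := by rw [pow_add]; ring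
    rw [this]
    exact φ.range.mul_mem (φ.range.pow_mem (natCast_mem p) _) hM
  · rw [pow_add, pow_mul]
    exact h

theorem good_of_uh (hp : p.Prime) (hs : Function.Surjective (Localization.awayMap φ (p : A)))
    (hU : UH φ) : ∀ b, Good φ p b := by
  let B' : Subring B := goodSub φ p hp
  let α : A →+* B' := φ.codRestrict B' (fun a => good_map a)
  let ι : B' →+* B := B'.subtype
  have hια : ι.comp α = φ := rfl
  have hα : UH α := by
    refine uh_of_crit (p := p) hp (fun a ha => ?_) (fun b' => ?_)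
    · exact ((uh_iff φ).mp hU).2.2 a (congrArg Subtype.val ha)
    · obtain ⟨n, ⟨a₁, ha₁⟩, ⟨a₂, ha₂⟩⟩ := b'.2
      refine ⟨n, ⟨a₁, Subtype.ext ?_⟩, ⟨a₂, Subtype.ext ?_⟩⟩
      · refine (show ((α a₁ : B'): B) = φ a₁ from rfl).trans (ha₁.trans ?_)
        simp
      · refine (show ((α a₂ : B'): B) = φ a₂ from rfl).trans (ha₂.trans ?_)
        simp
  have hι : UH ι := uh_cancel α ι hα (by rw [hια]; exact hU)
  by_contra hcon
  push Not at hcon
  obtain ⟨b₀, hb₀⟩ := hcon
  have hns : ¬ Function.Surjective ι := fun h => by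
    obtain ⟨⟨b, hb⟩, rfl⟩ := h b₀
    exact hb₀ hb
  have hmem : ∀ c : B, c ∈ ι.range → Good φ p c := by
    rintro _ ⟨x, rfl⟩
    exact x.2
  have hnot : ∀ c : B, c ∉ ι.range → ¬ Good φ p c := fun c hc hg => hc ⟨⟨c, hg⟩, rfl⟩
  rcases Groth.Agent.S7399.result ι Subtype.val_injective hns hι with
    ⟨c, hc, hx, hy⟩ | ⟨ℓ, c, hℓ, hc, hy, hx⟩
  · refine hnot c hc ?_
    obtain ⟨m, hm⟩ := exists_mul_mem hs c
    have hm1 : (p ^ (m + 1) : B) * c ∈ φ.range := by
      have : (p ^ (m + 1) : B) * c = (p : B) * ((p ^ m : B) * c) := by rw [pow_succ]; ring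
      rw [this]
      exact φ.range.mul_mem (natCast_mem p) hm
    refine good_of_pow_good hm1 ?_
    have h2le : 2 ≤ p ^ (m + 1) := by
      calc 2 ≤ p := hp.two_le
        _ = p ^ 1 := (pow_one p).symm
        _ ≤ p ^ (m + 1) := Nat.pow_le_pow_right hp.pos (by omega)
    obtain ⟨t, ht⟩ := Nat.exists_eq_add_of_le h2le
    rw [ht]
    exact (good_pow_of_sq_cube (hmem _ hx) (hmem _ hy) t).1
  · refine hnot c hc ?_
    obtain ⟨m, hm⟩ := exists_mul_mem hs c
    by_cases hℓp : ℓ = p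
    · subst hℓp
      have hm1 : (ℓ ^ (m + 1) : B) * c ∈ φ.range := by
        have : (ℓ ^ (m + 1) : B) * c = (ℓ : B) * ((ℓ ^ m : B) * c) := by rw [pow_succ]; ring
        rw [this]
        exact φ.range.mul_mem (natCast_mem ℓ) hm
      obtain ⟨n', -, h⟩ := hmem _ hx
      refine ⟨m + 1 + n', ?_, ?_⟩
      · have : (ℓ ^ (m + 1 + n') : B) * c = (ℓ ^ n' : B) * ((ℓ ^ (m + 1) : B) * c) := by
          rw [pow_add]; ring
        rw [this]
        exact φ.range.mul_mem (φ.range.pow_mem (natCast_mem ℓ) _) hm1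
      · have : c ^ ℓ ^ (m + 1 + n') = ((c ^ ℓ) ^ ℓ ^ n') ^ ℓ ^ m := by
          rw [← pow_mul, ← pow_mul]
          congr 1
          ring
        rw [this]
        exact φ.range.pow_mem h _
    · have hcop : Nat.Coprime ℓ (p ^ m) :=
        Nat.Coprime.pow_right m ((Nat.coprime_primes hℓ hp).mpr hℓp)
      obtain ⟨u, v, huv⟩ := Nat.isCoprime_iff_coprime.mpr hcop
      have huv' : (u : B) * (ℓ : B) + (v : B) * (p : B) ^ m = 1 := by
        have := congrArg (Int.cast : ℤ → B) huv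
        push_cast at this
        exact this
      have hc_eq : c = (u : B) * ((ℓ : B) * c) + (v : B) * ((p ^ m : B) * c) := by
        calc c = ((u : B) * (ℓ : B) + (v : B) * (p : B) ^ m) * c := by rw [huv', one_mul]
          _ = _ := by ring
      rw [hc_eq]
      have hz : ∀ z : ℤ, Good φ p ((z : B)) := fun z => by
        have := good_map (φ := φ) (p := p) (z : A)
        rwa [map_intCast] at this
      obtain ⟨a, ha⟩ := hm
      exact good_add hp (good_mul (hz u) (hmem _ hy))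
        (good_mul (hz v) (ha ▸ good_map a))

end Groth.Agent.Lib.helper11.PCrit
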