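import Groth.Prelude.Def_HTop
import Mathlib.AlgebraicGeometry.Sites.SheafQuasiCompact

/-! Sheaf condition for ph coverings from Zariski + proper surjective. -/

set_option autoImplicit false
universe v w w' u
open CategoryTheory CategoryTheory.Limits AlgebraicGeometry Opposite HTop

namespace Groth.Agent.Lib.helper11.PhSheaf

variable {T : Scheme.{u}}

/-- a family obtained from a proper surjective morphism and an open covering of its source
(no affineness or finiteness). -/
def IsGenPh (E : PreZeroHypercover.{w} T) : Prop :=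
  ∃ (U : Scheme.{u}) (f : U ⟶ T) (ι : ∀ j, E.X j ⟶ U),
    IsProper f ∧ Surjective f ∧ (∀ j, IsOpenImmersion (ι j)) ∧ (∀ j, ι j ≫ f = E.f j) ∧
      ∀ x : U, ∃ j, x ∈ Set.range (ι j)

theorem IsGenPh.pullback₂ {E : PreZeroHypercover.{w} T} (h : IsGenPh E) {T' : Scheme.{u}}
    (g : T' ⟶ T) : IsGenPh (E.pullback₂ g) := by
  obtain ⟨U, f, ι, hprop, hsurj, hopen, hcomp, hcov⟩ := h
  have e₁ : ∀ j, E.f j ≫ 𝟙 T = ι j ≫ f := fun j => by rw [Category.comp_id, hcomp j]
  refine ⟨pullback f g, pullback.snd f g,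
    fun j => pullback.map (E.f j) g f g (ι j) (𝟙 _) (𝟙 _) (e₁ j) (by simp),
    inferInstance, inferInstance, fun j => ?_, fun j => ?_, fun x => ?_⟩
  · haveI := hopen j
    change IsOpenImmersion (pullback.map (E.f j) g f g (ι j) (𝟙 _) (𝟙 _) (e₁ j) (by simp))
    infer_instance
  · change pullback.map (E.f j) g f g (ι j) (𝟙 _) (𝟙 _) (e₁ j) (by simp) ≫ pullback.snd f g =
      pullback.snd (E.f j) g
    rw [pullback.map, pullback.lift_snd, Category.comp_id]
  · obtain ⟨j, hj⟩ := hcov (pullback.fst f g x)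
    refine ⟨j, ?_⟩
    change x ∈ Set.range (pullback.map (E.f j) g f g (ι j) (𝟙 _) (𝟙 _) (e₁ j) (by simp))
    rw [Scheme.Pullback.range_map]
    exact ⟨hj, ⟨_, rfl⟩⟩

section Sheaf

variable (F : Scheme.{u}ᵒᵖ ⥤ Type v)
  (h₁ : Presieve.IsSheaf Scheme.zariskiTopology F)
  (h₂ : ∀ (U V : Scheme.{u}) (f : V ⟶ U), IsProper f → Surjective f →
    Presieve.IsSheafFor F (Presieve.singleton f))

include h₁ h₂ in
theorem IsGenPh.isSheafFor {E : PreZeroHypercover.{w} T} (h : IsGenPh E) :
    Presieve.IsSheafFor F E.presieve₀ := by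
  obtain ⟨U, f, ι, hprop, hsurj, hopen, hcomp, hcov⟩ := h
  have hcover : Sieve.generate (Presieve.ofArrows E.X ι) ∈ Scheme.zariskiTopology U :=
    Precoverage.generate_mem_toGrothendieck
      ((Scheme.ofArrows_mem_precoverage_iff _).mpr ⟨hcov, hopen⟩)
  rw [Presieve.isSheafFor_iff_generate]
  refine Presieve.isSheafFor_trans F (Sieve.generate (Presieve.singleton f))
    (Sieve.generate E.presieve₀) ?_ ?_ ?_
  · rw [← Presieve.isSheafFor_iff_generate]
    exact h₂ _ _ f hprop hsurj
  · intro Y k hk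
    have : (Sieve.generate (Presieve.singleton f)).pullback k = ⊤ := by
      rw [← Sieve.mem_iff_pullback_eq_top]
      obtain ⟨Z, a, b, ⟨j⟩, rfl⟩ := hk
      exact ⟨U, a ≫ ι j, f, ⟨⟩, by rw [Category.assoc, hcomp]⟩
    rw [this]
    exact Presieve.isSeparatedFor_top F
  · intro Y k hk
    obtain ⟨Z, a, b, ⟨⟩, rfl⟩ := hk
    apply h₁.isSheafFor
    rw [Sieve.generate_sieve]
    refine GrothendieckTopology.superset_covering _ ?_
      (Scheme.zariskiTopology.pullback_stable a hcover)
    rintro W m ⟨Z', c, d, ⟨j⟩, hcd⟩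
    change (Sieve.generate E.presieve₀).arrows (m ≫ a ≫ f)
    exact ⟨_, c, E.f j, ⟨j⟩, by rw [← hcomp j, ← Category.assoc, hcd, Category.assoc]⟩

include h₁ h₂ in
theorem key (E : PreZeroHypercover.{w} T) (hE : IsPhCover E) {W : Scheme.{u}} [IsAffine W]
    (g : W ⟶ T) [IsOpenImmersion g] :
    Presieve.IsSheafFor F ((Sieve.generate E.presieve₀).pullback g).arrows := by
  obtain ⟨F₀, hF₀, href⟩ := hE.2 ⟨g.opensRange, isAffineOpen_opensRange g⟩
  obtain ⟨U₀, f₀, ι, hprop, hsurj, hopen, hcomp, hcov⟩ := hF₀.exists_proper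
  let F' : PreZeroHypercover.{0} W := ⟨F₀.I₀, F₀.X, fun j => F₀.f j ≫ g.isoOpensRange.inv⟩
  have hgen : IsGenPh F' := by
    refine ⟨U₀, f₀ ≫ g.isoOpensRange.inv, ι, inferInstance, inferInstance, hopen, fun j => ?_,
      hcov⟩
    change ι j ≫ f₀ ≫ g.isoOpensRange.inv = F₀.f j ≫ g.isoOpensRange.inv
    rw [← Category.assoc, hcomp j]
  refine Presieve.isSheafFor_subsieve_aux F (S := Sieve.generate F'.presieve₀) ?_ ?_ ?_
  · change Sieve.generate F'.presieve₀ ≤ (Sieve.generate E.presieve₀).pullback g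
    rw [Sieve.generate_le_iff]
    rintro _ _ ⟨j⟩
    change (Sieve.generate E.presieve₀).arrows ((F₀.f j ≫ g.isoOpensRange.inv) ≫ g)
    obtain ⟨i, h, hh⟩ := href j
    refine ⟨_, h, E.f i, ⟨i⟩, ?_⟩
    rw [hh, Category.assoc, Scheme.Hom.isoOpensRange_inv_comp]
  · rw [← Presieve.isSheafFor_iff_generate]
    exact hgen.isSheafFor F h₁ h₂
  · intro Y k _
    rw [← Sieve.pullbackArrows_comm, ← Presieve.isSeparatedFor_iff_generate,
      ← PreZeroHypercover.presieve₀_pullback₁]
    exact ((hgen.pullback₂ k).isSheafFor F h₁ h₂).isSeparatedFor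

theorem aff0 (V : Scheme.{u}) (i : V.affineOneHypercover.I₀) :
    IsAffine (V.affineOneHypercover.X i) := by
  change IsAffine (V.affineCover.X i)
  infer_instance

theorem aff1 (V : Scheme.{u}) (i j : V.affineOneHypercover.I₀)
    (k : V.affineOneHypercover.I₁ i j) : IsAffine (V.affineOneHypercover.Y k) := by
  change IsAffine ((pullback (V.affineCover.f i) (V.affineCover.f j)).affineCover.X k)
  infer_instance

theorem open0 (V : Scheme.{u}) (i : V.affineOneHypercover.I₀) :
    IsOpenImmersion (V.affineOneHypercover.f i) := by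
  change IsOpenImmersion (V.affineCover.f i)
  infer_instance

theorem open1 (V : Scheme.{u}) (i j : V.affineOneHypercover.I₀)
    (k : V.affineOneHypercover.I₁ i j) :
    IsOpenImmersion (V.affineOneHypercover.p₁ k ≫ V.affineOneHypercover.f i) := by
  change IsOpenImmersion (((pullback (V.affineCover.f i) (V.affineCover.f j)).affineCover.f k ≫
    pullback.fst _ _) ≫ V.affineCover.f i)
  infer_instance

include h₁ h₂ in
theorem isPhSheaf_of : IsPhSheaf F := by
  intro X R hR
  rw [phPrecoverage, PreZeroHypercoverFamily.mem_precoverage_iff] at hR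
  obtain ⟨E, hE, rfl⟩ := hR
  refine X.affineOneHypercover.isSheafFor_of_pullback h₁ (fun i => ?_) (fun i j k => ?_)
  · haveI := aff0 X i
    haveI := open0 X i
    exact key F h₁ h₂ E hE _
  · haveI := aff1 X i j k
    haveI := open1 X i j k
    exact (key F h₁ h₂ E hE _).isSeparatedFor

end Sheaf

end Groth.Agent.Lib.helper11.PhSheaf
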