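import Groth.Prelude.Def_Wider
import Groth.Prelude.Def_DRing3
import Mathlib.RingTheory.Finiteness.Ideal
import Mathlib.RingTheory.Support
import Mathlib.Tactic

/-! Power torsion helper lemmas. -/

namespace Groth.Agent.Lib.helper11.PowTors

universe u v

variable {R : Type u} [CommRing R] (I : Ideal R) {M : Type v} [AddCommGroup M] [Module R M]

/-- If `I` is f.g. and every element of `I` has a power killing `m`, then a power of `I` kills `m`. -/
theorem exists_pow_of_forall_pow (hI : I.FG) (m : M)
    (h : ∀ a ∈ I, ∃ n : ℕ, a ^ n • m = 0) : ∃ N : ℕ, ∀ b ∈ I ^ N, b • m = 0 := by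
  have hrad : I ≤ ((Submodule.span R {m}).annihilator).radical := by
    intro a ha
    obtain ⟨n, hn⟩ := h a ha
    refine ⟨n, ?_⟩
    rw [Submodule.mem_annihilator_span_singleton]
    exact hn
  obtain ⟨N, hN⟩ := Ideal.exists_pow_le_of_le_radical_of_fg hrad hI
  refine ⟨N, fun b hb => ?_⟩
  have := hN hb
  rwa [Submodule.mem_annihilator_span_singleton] at this

end Groth.Agent.Lib.helper11.PowTors
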