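import Mathlib
import Groth.Agent.Lib.helper11.LimLqf
import Groth.Agent.Lib.helper11.FibreConstr

set_option autoImplicit false
universe u
open CategoryTheory CategoryTheory.Limits AlgebraicGeometry Topology TensorProduct TopologicalSpace

namespace Groth.Agent.Lib.helper11.QfConstr

open Groth.Agent.Lib.helper11.LimLqf Groth.Agent.Lib.helper11.FibreConstr

/-- Quasi-finiteness at a point is compatible with arbitrary base change. -/
lemma quasiFiniteAt_iff_of_isPullback {P X Y Z : Scheme.{u}} {fst : P ⟶ X} {snd : P ⟶ Y}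
    {f : X ⟶ Z} {g : Y ⟶ Z} (h : IsPullback fst snd f g) [LocallyOfFiniteType f] (x' : P) :
    snd.QuasiFiniteAt x' ↔ f.QuasiFiniteAt (fst x') := by
  have : LocallyOfFiniteType snd :=
    MorphismProperty.of_isPullback (P := @LocallyOfFiniteType) h inferInstance
  constructor
  · intro hx
    rw [quasiFiniteAt_iff_isolated] at hx ⊢
    exact isolated_of_isPullback h x' hx
  · exact quasiFiniteAt_of_isPullback h x'

/-- A finitely presented algebra descends to a Noetherian base. -/
theorem exists_noetherian_model (A B : Type u) [CommRing A] [CommRing B] [Algebra A B]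
    [Algebra.FinitePresentation A B] :
    ∃ (A₀ B₀ : Type u) (_ : CommRing A₀) (_ : CommRing B₀) (_ : IsNoetherianRing B₀)
      (a : A₀ →+* A) (b : B₀ →+* B) (φ₀ : A₀ →+* B₀), φ₀.FiniteType ∧
      IsPushout (CommRingCat.ofHom a) (CommRingCat.ofHom φ₀)
        (CommRingCat.ofHom (algebraMap A B)) (CommRingCat.ofHom b) := by
  classical
  let P := Algebra.Presentation.ofFinitePresentation A B
  let A₀ := P.Core
  let B₀ := P.ModelOfHasCoeffs A₀
  let e : A ⊗[A₀] B₀ ≃ₐ[A] B := P.tensorModelOfHasCoeffsEquiv A₀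
  have hA₀ : Algebra.FiniteType ℤ A₀ := inferInstance
  have hB₀ : Algebra.FiniteType A₀ B₀ := inferInstance
  have hB₀' : Algebra.FiniteType ℤ B₀ := Algebra.FiniteType.trans hA₀ hB₀
  have hN : IsNoetherianRing B₀ := Algebra.FiniteType.isNoetherianRing ℤ B₀
  refine ⟨A₀, B₀, inferInstance, inferInstance, hN, algebraMap A₀ A,
    (e : A ⊗[A₀] B₀ →+* B).comp Algebra.TensorProduct.includeRight.toRingHom,
    algebraMap A₀ B₀, ?_, ?_⟩
  · rw [RingHom.finiteType_algebraMap]; exact hB₀
  · refine (CommRingCat.isPushout_tensorProduct A₀ A B₀).of_iso (Iso.refl _) (Iso.refl _)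
      (Iso.refl _) e.toRingEquiv.toCommRingCatIso (by simp) (by simp) ?_ ?_
    · refine CommRingCat.hom_ext (RingHom.ext fun x => ?_)
      simpa [Algebra.TensorProduct.algebraMap_apply] using e.commutes x
    · refine CommRingCat.hom_ext (RingHom.ext fun x => ?_)
      simp

/-- In a Noetherian space every open set is constructible. -/
lemma isConstructible_of_isOpen_of_noetherianSpace {T : Type*} [TopologicalSpace T]
    [NoetherianSpace T] {U : Set T} (hU : IsOpen U) : IsConstructible U := by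
  refine IsRetrocompact.isConstructible hU ?_
  intro V _ _
  exact NoetherianSpace.isCompact _

theorem isConstructible_quasiFiniteLocus_Spec {A B : CommRingCat.{u}} (φ : A ⟶ B)
    (hφ : φ.hom.FinitePresentation) [LocallyOfFiniteType (Spec.map φ)] :
    IsConstructible ((Spec.map φ).quasiFiniteLocus : Set (Spec B)) := by
  algebraize [φ.hom]
  obtain ⟨A₀, B₀, _, _, hN, a, b, φ₀, hφ₀, hpo⟩ := exists_noetherian_model A B
  have hpb := (isPullback_SpecMap_of_isPushout _ _ _ _ hpo).flip
  have e1 : CommRingCat.ofHom (algebraMap A B) = φ := by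
    rw [RingHom.algebraMap_toAlgebra]; rfl
  rw [e1] at hpb
  have hft : LocallyOfFiniteType (Spec.map (CommRingCat.ofHom φ₀)) := by
    rw [HasRingHomProperty.Spec_iff (P := @LocallyOfFiniteType)]
    exact hφ₀
  have hNS : NoetherianSpace (Spec (CommRingCat.of B₀)) :=
    inferInstanceAs (NoetherianSpace (PrimeSpectrum B₀))
  have hc : IsConstructible
      ((Spec.map (CommRingCat.ofHom φ₀)).quasiFiniteLocus : Set (Spec (CommRingCat.of B₀))) :=
    isConstructible_of_isOpen_of_noetherianSpace
      (Spec.map (CommRingCat.ofHom φ₀)).quasiFiniteLocus.isOpen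
  have := (Spec.map (CommRingCat.ofHom b)).isConstructible_preimage hc
  have heq : ((Spec.map φ).quasiFiniteLocus : Set (Spec B)) =
      (Spec.map (CommRingCat.ofHom b)) ⁻¹'
        ((Spec.map (CommRingCat.ofHom φ₀)).quasiFiniteLocus : Set (Spec (CommRingCat.of B₀))) := by
    apply Set.ext
    intro x'
    exact quasiFiniteAt_iff_of_isPullback hpb x'
  exact (congrArg IsConstructible heq).mpr this

lemma isConstructible_quasiFiniteLocus_affine {X Y : Scheme.{u}} (f : X ⟶ Y)
    [LocallyOfFinitePresentation f] (U : X.Opens) (hU : IsAffineOpen U) (V : Y.Opens)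
    (hV : IsAffineOpen V) (hUV' : U ≤ f ⁻¹ᵁ V) :
    IsConstructible (Subtype.val ⁻¹' (f.quasiFiniteLocus : Set X) : Set ↥(U : Set X)) := by
  let φ := f.appLE V U hUV'
  have hφ : φ.hom.FinitePresentation :=
    HasRingHomProperty.appLE (P := @LocallyOfFinitePresentation) f inferInstance ⟨V, hV⟩ ⟨U, hU⟩ hUV'
  have hlft : LocallyOfFiniteType (Spec.map φ) := by
    rw [HasRingHomProperty.Spec_iff (P := @LocallyOfFiniteType)]
    exact RingHom.FiniteType.of_finitePresentation hφ
  have hQ := isConstructible_quasiFiniteLocus_Spec φ hφ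
  have := (hU.isoSpec.hom).isConstructible_preimage hQ
  suffices heq : (U.ι ⁻¹' (f.quasiFiniteLocus : Set X) : Set ↥(U : Scheme)) =
      (hU.isoSpec.hom) ⁻¹' ((Spec.map φ).quasiFiniteLocus : Set (Spec Γ(X, U))) by
    have h' : IsConstructible (U.ι ⁻¹' (f.quasiFiniteLocus : Set X) : Set ↥(U : Scheme)) :=
      (congrArg IsConstructible heq).mpr this
    exact h'
  apply Set.ext
  intro u
  have hcomp : U.ι ≫ f = hU.isoSpec.hom ≫ Spec.map φ ≫ hV.fromSpec := by
    have e1 : Spec.map φ ≫ hV.fromSpec = hU.fromSpec ≫ f :=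
      IsAffineOpen.SpecMap_appLE_fromSpec f hV hU hUV'
    have e2 : hU.isoSpec.hom ≫ hU.fromSpec = U.ι := hU.isoSpec_hom_fromSpec
    rw [e1, ← Category.assoc, e2]
  have h1 : f.QuasiFiniteAt (U.ι u) ↔ (U.ι ≫ f).QuasiFiniteAt u :=
    Scheme.Hom.quasiFiniteAt_comp_iff_of_isOpenImmersion.symm
  have h2 : (hU.isoSpec.hom ≫ Spec.map φ ≫ hV.fromSpec).QuasiFiniteAt u ↔
      (Spec.map φ ≫ hV.fromSpec).QuasiFiniteAt (hU.isoSpec.hom u) :=
    Scheme.Hom.quasiFiniteAt_comp_iff_of_isOpenImmersion
  have h3 : (Spec.map φ ≫ hV.fromSpec).QuasiFiniteAt (hU.isoSpec.hom u) ↔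
      (Spec.map φ).QuasiFiniteAt (hU.isoSpec.hom u) :=
    Scheme.Hom.quasiFiniteAt_comp_iff
  change f.QuasiFiniteAt (U.ι u) ↔ (Spec.map φ).QuasiFiniteAt (hU.isoSpec.hom u)
  rw [h1, hcomp, h2, h3]

/-- The quasi-finite locus of a morphism locally of finite presentation is locally constructible. -/
theorem isLocallyConstructible_quasiFiniteLocus {X Y : Scheme.{u}} (f : X ⟶ Y)
    [LocallyOfFinitePresentation f] :
    IsLocallyConstructible (f.quasiFiniteLocus : Set X) := by
  intro x
  obtain ⟨_, ⟨V, hV, rfl⟩, hxV, -⟩ := Y.isBasis_affineOpens.exists_subset_of_mem_open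
    (Set.mem_univ (f x)) isOpen_univ
  obtain ⟨_, ⟨U, hU, rfl⟩, hxU, hUV⟩ := X.isBasis_affineOpens.exists_subset_of_mem_open
    (show x ∈ ((f ⁻¹ᵁ V : X.Opens) : Set X) from hxV) (f ⁻¹ᵁ V).isOpen
  exact ⟨U, U.isOpen.mem_nhds hxU, U.isOpen,
    isConstructible_quasiFiniteLocus_affine f U hU V hV hUV⟩

lemma lqf_fibreMap_iff {X Y S : Scheme.{u}} (f : X ⟶ Y) (g : Y ⟶ S) [LocallyOfFiniteType f]
    (s : S) :
    LocallyQuasiFinite (fibreMap f g s) ↔
      s ∉ (f ≫ g) '' ((f.quasiFiniteLocus : Set X))ᶜ := by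
  have hpb := isPullback_fibreMap f g s
  have hlft : LocallyOfFiniteType (fibreMap f g s) :=
    MorphismProperty.of_isPullback (P := @LocallyOfFiniteType) hpb inferInstance
  rw [← Scheme.Hom.quasiFiniteLocus_eq_top_iff]
  constructor
  · rintro h ⟨x, hx, rfl⟩
    apply hx
    -- lift `x` to the fibre
    have hr : x ∈ Set.range (pullback.fst (f ≫ g) (S.fromSpecResidueField ((f ≫ g) x))) := by
      rw [show Set.range (pullback.fst (f ≫ g) (S.fromSpecResidueField ((f ≫ g) x))) =
        (f ≫ g) ⁻¹' {(f ≫ g) x} from Scheme.Hom.range_fiberι (f ≫ g) _]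
      rfl
    obtain ⟨x', hxx'⟩ := hr
    have hx' : x' ∈ (fibreMap f g ((f ≫ g) x)).quasiFiniteLocus := by
      rw [h]; trivial
    have := (quasiFiniteAt_iff_of_isPullback hpb x').mp hx'
    rw [hxx'] at this
    exact this
  · intro h
    rw [eq_top_iff]
    intro x' _
    refine (quasiFiniteAt_iff_of_isPullback hpb x').mpr ?_
    by_contra hcon
    apply h
    refine ⟨pullback.fst (f ≫ g) (S.fromSpecResidueField s) x', hcon, ?_⟩
    have hr : pullback.fst (f ≫ g) (S.fromSpecResidueField s) x' ∈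
        Set.range (pullback.fst (f ≫ g) (S.fromSpecResidueField s)) := ⟨x', rfl⟩
    rw [show Set.range (pullback.fst (f ≫ g) (S.fromSpecResidueField s)) =
        (f ≫ g) ⁻¹' {s} from Scheme.Hom.range_fiberι (f ≫ g) _] at hr
    exact hr

/-- The locus over which the fibre map is locally quasi-finite is locally constructible. -/
theorem isLocallyConstructible_setOf_locallyQuasiFinite {X Y S : Scheme.{u}} (f : X ⟶ Y)
    (g : Y ⟶ S) [LocallyOfFinitePresentation g]
    [LocallyOfFinitePresentation (f ≫ g)] [QuasiCompact (f ≫ g)] :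
    IsLocallyConstructible {s : S | LocallyQuasiFinite (fibreMap f g s)} := by
  have hf1 : LocallyOfFinitePresentation f :=
    Groth.Agent.Lib.helper11.LfpOfComp.lfp_of_comp f g inferInstance inferInstance
  have h1 := isLocallyConstructible_quasiFiniteLocus f
  have h2 := isLocallyConstructible_compl h1
  have h3 := (f ≫ g).isLocallyConstructible_image h2
  have h4 := isLocallyConstructible_compl h3
  convert h4 using 1
  ext s
  exact lqf_fibreMap_iff f g s

end Groth.Agent.Lib.helper11.QfConstr
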