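import Groth.Agent.Lib.helper11.AWNLoc
import Mathlib.RingTheory.LocalProperties.Reduced

/-! A ring all of whose localizations at maximal ideals are seminormal is seminormal. -/

set_option autoImplicit false
universe u
open CategoryTheory CategoryTheory.Limits AlgebraicGeometry MorphismProperty TensorProduct

namespace Groth.Agent.Lib.helper11.SNLoc

open Groth.Agent.Lib.helper11.UHRing Groth.Agent.Lib.helper11.AWNRing Groth.Agent.Lib.helper11.AWNLoc

variable {R : Type u} [CommRing R]

theorem existsUnique_of_local [IsReduced R] (s : Set R) (hs : Ideal.span s = ⊤) (x y : R)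
    (hex : ∀ f : s, ∃ a : Localization.Away f.1, algebraMap R _ x = a ^ 2 ∧
      algebraMap R _ y = a ^ 3) : ∃! a : R, x = a ^ 2 ∧ y = a ^ 3 := by
  haveI : ∀ f : s, IsReduced (Localization.Away f.1) := fun f => isReduced_away f.1
  have hinj := Localization.algebraMap_injective_of_span_eq_top s hs
  choose t ht2 ht3 using hex
  have key : ∀ f : s, ∃ (k : ℕ) (c : R),
      algebraMap R (∀ a : s, Localization.Away a.1) (f.1 ^ k) * t = algebraMap R _ c := by
    intro f
    obtain ⟨K₀, hK⟩ := exists_rep (S := Localization.Away f.1) f.1 (t f)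
    obtain ⟨c, hc⟩ := hK K₀ le_rfl
    have e2 : algebraMap R (Localization.Away f.1) (c ^ 2) = algebraMap R _ (x * f.1 ^ (2 * K₀)) := by
      rw [map_pow, ← hc, mul_pow, ← ht2, map_mul, map_pow, ← pow_mul, mul_comm K₀]
    have e3 : algebraMap R (Localization.Away f.1) (c ^ 3) = algebraMap R _ (y * f.1 ^ (3 * K₀)) := by
      rw [map_pow, ← hc, mul_pow, ← ht3, map_mul, map_pow, ← pow_mul, mul_comm K₀]
    obtain ⟨N₁, hN₁⟩ := exists_eq (S := Localization.Away f.1) f.1 _ _ e2
    obtain ⟨N₂, hN₂⟩ := exists_eq (S := Localization.Away f.1) f.1 _ _ e3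
    have h2 := hN₁ (2 * (N₁ + N₂)) (by omega)
    have h3 := hN₂ (3 * (N₁ + N₂)) (by omega)
    generalize N₁ + N₂ = N at h2 h3
    refine ⟨K₀ + N, c * f.1 ^ N, ?_⟩
    refine eq_of_sq_cube _ _ ?_ ?_
    · have : t ^ 2 = algebraMap R (∀ a : s, Localization.Away a.1) x := by
        funext a; exact (ht2 a).symm
      rw [mul_pow, this, ← map_pow, ← map_pow, ← map_mul]
      congr 1
      calc (f.1 ^ (K₀ + N)) ^ 2 * x = f.1 ^ (2 * N) * (x * f.1 ^ (2 * K₀)) := by ring
        _ = f.1 ^ (2 * N) * c ^ 2 := (h2).symm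
        _ = _ := by ring
    · have : t ^ 3 = algebraMap R (∀ a : s, Localization.Away a.1) y := by
        funext a; exact (ht3 a).symm
      rw [mul_pow, this, ← map_pow, ← map_pow, ← map_mul]
      congr 1
      calc (f.1 ^ (K₀ + N)) ^ 3 * y = f.1 ^ (3 * N) * (y * f.1 ^ (3 * K₀)) := by ring
        _ = f.1 ^ (3 * N) * c ^ 3 := (h3).symm
        _ = _ := by ring
  obtain ⟨a, ha⟩ := exists_of_local s hs t key
  have hx : x = a ^ 2 := by
    apply hinj
    rw [map_pow, ha]
    funext b; exact ht2 b
  have hy : y = a ^ 3 := by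
    apply hinj
    rw [map_pow, ha]
    funext b; exact ht3 b
  refine ⟨a, ⟨hx, hy⟩, ?_⟩
  rintro a' ⟨h1, h2⟩
  exact eq_of_sq_cube _ _ (by rw [← h1, ← hx]) (by rw [← h2, ← hy])

theorem seminormal_of_localization_maximal
    (h : ∀ (m : Ideal R) [m.IsMaximal], HTop.IsSeminormalRing (Localization.AtPrime m)) :
    HTop.IsSeminormalRing R := by
  haveI : IsReduced R := isReduced_ofLocalizationMaximal R
    (fun m hm => isReduced_of_seminormal (h m))
  intro x y hxy
  let s : Set R := {f | ∃ a : Localization.Away f, algebraMap R _ x = a ^ 2 ∧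
    algebraMap R _ y = a ^ 3}
  have hs : Ideal.span s = ⊤ := by
    by_contra hne
    obtain ⟨m, hm, hle⟩ := Ideal.exists_le_maximal _ hne
    haveI := hm
    obtain ⟨a, ⟨ha2, ha3⟩, -⟩ := h m (algebraMap R _ x) (algebraMap R _ y)
      (by rw [← map_pow, ← map_pow, hxy])
    obtain ⟨⟨c, r⟩, hcr⟩ := IsLocalization.surj m.primeCompl a
    simp only at hcr
    have e2 : algebraMap R (Localization.AtPrime m) (x * r ^ 2) = algebraMap R _ (c ^ 2) := by
      rw [map_mul, map_pow, map_pow, ha2, ← mul_pow, hcr]
    have e3 : algebraMap R (Localization.AtPrime m) (y * r ^ 3) = algebraMap R _ (c ^ 3) := by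
      rw [map_mul, map_pow, map_pow, ha3, ← mul_pow, hcr]
    obtain ⟨u, hu⟩ := (IsLocalization.eq_iff_exists m.primeCompl _).mp e2
    obtain ⟨u', hu'⟩ := (IsLocalization.eq_iff_exists m.primeCompl _).mp e3
    have hf : ((r : R) * u * u' : R) ∈ s := by
      have hunit : IsUnit (algebraMap R (Localization.Away ((r : R) * u * u')) ((r : R) * u * u')) :=
        IsLocalization.Away.algebraMap_isUnit _
      rw [map_mul, map_mul] at hunit
      have hur : IsUnit (algebraMap R (Localization.Away ((r : R) * u * u')) r) :=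
        isUnit_of_mul_isUnit_left (isUnit_of_mul_isUnit_left hunit)
      have huu : IsUnit (algebraMap R (Localization.Away ((r : R) * u * u')) u) :=
        isUnit_of_mul_isUnit_right (isUnit_of_mul_isUnit_left hunit)
      have huu' : IsUnit (algebraMap R (Localization.Away ((r : R) * u * u')) u') :=
        isUnit_of_mul_isUnit_right hunit
      obtain ⟨ρ, hρ⟩ := hur.exists_right_inv
      have h2 := congrArg (algebraMap R (Localization.Away ((r : R) * u * u'))) hu
      have h3 := congrArg (algebraMap R (Localization.Away ((r : R) * u * u'))) hu'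
      simp only [map_mul, map_pow] at h2 h3
      have h2' := huu.mul_left_cancel h2
      have h3' := huu'.mul_left_cancel h3
      refine ⟨algebraMap R _ c * ρ, ?_, ?_⟩
      · rw [mul_pow, ← h2']
        calc algebraMap R _ x = algebraMap R _ x * (algebraMap R _ (r : R) * ρ) ^ 2 := by
              rw [hρ, one_pow, mul_one]
          _ = _ := by ring
      · rw [mul_pow, ← h3']
        calc algebraMap R _ y = algebraMap R _ y * (algebraMap R _ (r : R) * ρ) ^ 3 := by
              rw [hρ, one_pow, mul_one]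
          _ = _ := by ring
    have hmem : ((r : R) * u * u' : R) ∈ m := hle (Ideal.subset_span hf)
    exact (m.primeCompl.mul_mem (m.primeCompl.mul_mem r.2 u.2) u'.2) hmem
  exact existsUnique_of_local s hs x y (fun f => f.2)

end Groth.Agent.Lib.helper11.SNLoc
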