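import Groth.Agent.Lib.helper11.AWNSch2
import Groth.Agent.S7398
import Mathlib.AlgebraicGeometry.IdealSheaf.Subscheme

/-! Universal homeomorphisms inducing isomorphisms on residue fields; seminormal schemes. -/

set_option autoImplicit false
universe u
open CategoryTheory CategoryTheory.Limits AlgebraicGeometry MorphismProperty Opposite

namespace Groth.Agent.Lib.helper11.SNSch

open Groth.Agent.Lib.helper11.UHRing Groth.Agent.Lib.helper11.AWNRing
open Groth.Agent.Lib.helper11.AWNLoc Groth.Agent.Lib.helper11.AWNFun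
open Groth.Agent.Lib.helper11.UnivHomeo Groth.Agent.Lib.helper11.AWNSch
open AlgebraicGeometry.Scheme AlgebraicGeometry.Scheme.AffineZariskiSite

/-- universal homeomorphism inducing isomorphisms on all residue fields. -/
def SN {Y X : Scheme.{u}} (π : Y ⟶ X) : Prop :=
  FlatMor.IsUnivHomeo π ∧ HTop.ResidueFieldsIso π

section ring
variable {B W : Type u} [CommRing B] [CommRing W]

theorem bijective_of_sn (χ : B →+* W) (hχ : UH χ)
    (hres : ∀ x : Spec (CommRingCat.of W),
      Function.Surjective ((Spec.map (CommRingCat.ofHom χ)).residueFieldMap x))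
    (hB : HTop.IsSeminormalRing B) [_root_.IsReduced W] : Function.Bijective χ := by
  haveI := isReduced_of_seminormal hB
  have hinj : Function.Injective χ := by
    rw [injective_iff_map_eq_zero]
    intro b hb
    exact IsReduced.eq_zero _ (((uh_iff χ).mp hχ).2.2 b hb)
  refine ⟨hinj, ?_⟩
  by_contra hns
  obtain ⟨c, hc, ⟨x, hx⟩, ⟨y, hy⟩⟩ := Groth.Agent.S7398.result χ hinj hns hχ hres
  have hxy : x ^ 3 = y ^ 2 := by
    apply hinj
    rw [map_pow, map_pow, hx, hy]
    ring
  obtain ⟨a, ⟨ha1, ha2⟩, -⟩ := hB x y hxy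
  apply hc
  refine ⟨a, ?_⟩
  refine eq_of_sq_cube _ _ ?_ ?_
  · rw [← map_pow, ← ha1, hx]
  · rw [← map_pow, ← ha2, hy]

end ring

section scheme

theorem isUnivHomeo_of_isIso {Y X : Scheme.{u}} (π : Y ⟶ X) [IsIso π] : FlatMor.IsUnivHomeo π := by
  rw [isUnivHomeo_iff]
  exact ⟨inferInstance, inferInstance, inferInstance⟩

theorem isUnivHomeo_comp {Z Y X : Scheme.{u}} (h : Z ⟶ Y) (π : Y ⟶ X) (hh : FlatMor.IsUnivHomeo h)
    (hπ : FlatMor.IsUnivHomeo π) : FlatMor.IsUnivHomeo (h ≫ π) := by
  rw [isUnivHomeo_iff] at hh hπ ⊢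
  obtain ⟨a1, a2, a3⟩ := hh
  obtain ⟨b1, b2, b3⟩ := hπ
  exact ⟨inferInstance, MorphismProperty.comp_mem _ h π a2 b2, inferInstance⟩

theorem sn_of_isIso {Y X : Scheme.{u}} (π : Y ⟶ X) [IsIso π] : SN π :=
  ⟨isUnivHomeo_of_isIso π, fun y => inferInstance⟩

theorem sn_comp {Z Y X : Scheme.{u}} (h : Z ⟶ Y) (π : Y ⟶ X) (hh : SN h) (hπ : SN π) :
    SN (h ≫ π) := by
  refine ⟨isUnivHomeo_comp h π hh.1 hπ.1, fun z => ?_⟩
  rw [Scheme.residueFieldMap_comp]
  exact @IsIso.comp_isIso _ _ _ _ _ _ _ (hπ.2 _) (hh.2 _)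

theorem exists_lift_of_sn {Y X : Scheme.{u}} (π : Y ⟶ X) (hπ : SN π) (K : Type u) [Field K]
    (a : Spec (CommRingCat.of K) ⟶ X) : ∃ b : Spec (CommRingCat.of K) ⟶ Y, b ≫ π = a := by
  obtain ⟨x, ψ, rfl⟩ : ∃ (x : X) (ψ : X.residueField x ⟶ CommRingCat.of K),
      Spec.map ψ ≫ X.fromSpecResidueField x = a :=
    ⟨_, _, (Scheme.SpecToEquivOfField K X).symm_apply_apply a⟩
  have hsurj := ((isUnivHomeo_iff π).mp hπ.1).2.2
  obtain ⟨y, rfl⟩ := hsurj.surj x
  haveI := hπ.2 y
  refine ⟨Spec.map (inv (π.residueFieldMap y) ≫ ψ) ≫ Y.fromSpecResidueField y, ?_⟩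
  rw [Category.assoc, ← Scheme.Hom.SpecMap_residueFieldMap_fromSpecResidueField,
    ← Spec.map_comp_assoc, IsIso.hom_inv_id_assoc]

theorem isIso_residueFieldMap_of_lift {Y X : Scheme.{u}} (π : Y ⟶ X)
    (hinj : Function.Injective π) (y : Y) (c : Spec (X.residueField (π y)) ⟶ Y)
    (hc : c ≫ π = X.fromSpecResidueField (π y)) : IsIso (π.residueFieldMap y) := by
  obtain ⟨y', β, hβ⟩ : ∃ (y' : Y) (β : Y.residueField y' ⟶ X.residueField (π y)),
      Spec.map β ≫ Y.fromSpecResidueField y' = c :=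
    ⟨_, _, (Scheme.SpecToEquivOfField (X.residueField (π y)) Y).symm_apply_apply c⟩
  have hy' : y' = y := by
    apply hinj
    have h1 := congrArg (fun g : Spec (X.residueField (π y)) ⟶ X =>
      g (IsLocalRing.closedPoint (X.residueField (π y)))) hc
    simp only [← hβ, Scheme.Hom.comp_apply, Scheme.fromSpecResidueField_apply] at h1
    exact h1
  subst hβ
  revert β
  subst hy'
  intro β hc
  rw [Category.assoc, ← Scheme.Hom.SpecMap_residueFieldMap_fromSpecResidueField,
    ← Spec.map_comp_assoc] at hc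
  have hmono : Mono (X.fromSpecResidueField (π y')) := inferInstance
  have h2 : Spec.map (π.residueFieldMap y' ≫ β) = 𝟙 _ := by
    rw [← cancel_mono (X.fromSpecResidueField (π y')), hc, Category.id_comp]
  have h3 : π.residueFieldMap y' ≫ β = 𝟙 _ := by
    apply Spec.map_injective
    rw [h2, Spec.map_id]
  have hβinj : Function.Injective β.hom := RingHom.injective _
  have hβsurj : Function.Surjective β.hom := fun z =>
    ⟨(π.residueFieldMap y').hom z, ConcreteCategory.congr_hom h3 z⟩
  haveI : IsIso β := (ConcreteCategory.isIso_iff_bijective β).mpr ⟨hβinj, hβsurj⟩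
  have : π.residueFieldMap y' = inv β := by
    rw [← cancel_mono β, h3, IsIso.inv_hom_id]
  rw [this]
  infer_instance

theorem sn_baseChange {X Y X' Y' : Scheme.{u}} {f : X ⟶ Y} {f' : X' ⟶ Y'} {i₁ : X' ⟶ X}
    {i₂ : Y' ⟶ Y} (H : IsPullback i₁ f' f i₂) (hf : SN f) : SN f' := by
  have huh := isUnivHomeo_baseChange H hf.1
  refine ⟨huh, fun z => ?_⟩
  have hinj : Function.Injective f' :=
    (huh _ _ _ IsPullback.of_id_snd : IsHomeomorph f').injective
  obtain ⟨b, hb⟩ := exists_lift_of_sn f hf (Y'.residueField (f' z))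
    (Y'.fromSpecResidueField (f' z) ≫ i₂)
  exact isIso_residueFieldMap_of_lift f' hinj z (H.lift b (Y'.fromSpecResidueField (f' z)) hb)
    (H.lift_snd _ _ _)

theorem isReduced_nilradical_subscheme (X : Scheme.{u}) :
    AlgebraicGeometry.IsReduced X.nilradical.subscheme := by
  have : ∀ i, AlgebraicGeometry.IsReduced (X.nilradical.subschemeCover.openCover.X i) := by
    intro (U : X.affineOpens)
    change AlgebraicGeometry.IsReduced (Spec (.of <| Γ(X, U.1) ⧸ X.nilradical.ideal U))
    have : _root_.IsReduced (Γ(X, U.1) ⧸ X.nilradical.ideal U) := by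
      rw [← Ideal.isRadical_iff_quotient_reduced]
      change ((⊥ : X.IdealSheafData).radical.ideal U).IsRadical
      rw [Scheme.IdealSheafData.radical_ideal]
      exact Ideal.radical_isRadical _
    infer_instance
  exact IsReduced.of_openCover _ X.nilradical.subschemeCover.openCover

theorem sn_of_isClosedImmersion_surjective {Z X : Scheme.{u}} (r : Z ⟶ X) [IsClosedImmersion r]
    [Surjective r] : SN r := by
  refine ⟨(isUnivHomeo_iff r).mpr ⟨inferInstance, inferInstance, inferInstance⟩, fun z => ?_⟩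
  rw [ConcreteCategory.isIso_iff_bijective]
  refine ⟨RingHom.injective _, ?_⟩
  intro w
  obtain ⟨w', rfl⟩ := IsLocalRing.residue_surjective (R := Z.presheaf.stalk z) w
  obtain ⟨v, rfl⟩ := r.stalkMap_surjective z w'
  exact ⟨X.residue (r z) v, ConcreteCategory.congr_hom (Scheme.residue_residueFieldMap r z) v⟩

theorem sn_reduction (X : Scheme.{u}) : SN X.nilradical.subschemeι := by
  haveI : Surjective X.nilradical.subschemeι := by
    refine ⟨?_⟩
    rw [← Set.range_eq_univ, Scheme.IdealSheafData.range_subschemeι]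
    rfl
  exact sn_of_isClosedImmersion_surjective _

/-- a universal homeomorphism with trivial residue field extensions from a reduced scheme to a
seminormal scheme is an isomorphism. -/
theorem isIso_of_sn {X Y : Scheme.{u}} (π : Y ⟶ X) (hπ : SN π) [AlgebraicGeometry.IsReduced Y]
    (hX : HTop.IsSeminormal X) : IsIso π := by
  refine isIso_of_forall_app_bijective π hπ.1 (fun U => ?_)
  have hU : HTop.IsSeminormalRing Γ(X, U.1) := (Groth.Agent.S7420.result X).1.mp hX ⟨U.1, U.2⟩
  have hV := isAffineOpen_preimage π hπ.1 U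
  have hpb := IsOpenImmersion.isPullback (Spec.map (π.app U.1)) hV.fromSpec U.2.fromSpec π
    (fromSpec_π π hπ.1 U) (by rw [U.2.opensRange_fromSpec, hV.opensRange_fromSpec])
  have hsn : SN (Spec.map (π.app U.1)) := sn_baseChange hpb.flip hπ
  refine bijective_of_sn (π.app U.1).hom hsn.1 (fun x => ?_) hU
  haveI := hsn.2 x
  exact (ConcreteCategory.bijective_of_isIso
    ((Spec.map (π.app U.1)).residueFieldMap x)).surjective

/-- a section of an `SN` morphism to a seminormal scheme. -/
theorem exists_section_of_sn {X Y : Scheme.{u}} (π : Y ⟶ X) (hπ : SN π)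
    (hX : HTop.IsSeminormal X) : ∃ σ : X ⟶ Y, σ ≫ π = 𝟙 X := by
  haveI := isReduced_nilradical_subscheme Y
  have h := sn_comp _ π (sn_reduction Y) hπ
  haveI := isIso_of_sn _ h hX
  exact ⟨inv (Y.nilradical.subschemeι ≫ π) ≫ Y.nilradical.subschemeι, by
    rw [Category.assoc, IsIso.inv_hom_id]⟩

end scheme

end Groth.Agent.Lib.helper11.SNSch
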