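import Groth.Agent.Lib.helper11.SNSch
import Groth.Agent.Lib.helper11.SNLoc
import Groth.Agent.S15941
import Groth.Prelude.Def_Pi1

/-! Normal schemes are seminormal. -/

set_option autoImplicit false
universe u
open CategoryTheory CategoryTheory.Limits AlgebraicGeometry MorphismProperty Opposite

namespace Groth.Agent.Lib.helper11.SNSch

open Groth.Agent.Lib.helper11.AWNLoc Groth.Agent.Lib.helper11.SNLoc

theorem isSeminormalRing_of_isNormalScheme {T : Scheme.{u}} (hT : Pi1.IsNormalScheme T)
    (U : T.Opens) (hU : IsAffineOpen U) : HTop.IsSeminormalRing Γ(T, U) := by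
  have key : ∀ (p : Ideal Γ(T, U)) [p.IsPrime] (z : U), (hU.primeIdealOf z).asIdeal = p →
      HTop.IsSeminormalRing (Localization.AtPrime p) := by
    intro p _ z h
    subst h
    obtain ⟨hdom, hic⟩ := hT z.1
    letI := TopCat.Presheaf.algebra_section_stalk T.presheaf z
    haveI hloc := hU.isLocalization_stalk z
    have hsn : HTop.IsSeminormalRing (T.presheaf.stalk z.1) := Groth.Agent.S15941.result _
    exact IsSeminormalRing.of_equiv
      (IsLocalization.algEquiv (hU.primeIdealOf z).asIdeal.primeCompl
        (Localization.AtPrime (hU.primeIdealOf z).asIdeal) (T.presheaf.stalk z.1)).toRingEquiv hsn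
  refine seminormal_of_localization_maximal (fun m hm => ?_)
  refine key m (hU.isoSpec.inv ⟨m, inferInstance⟩) ?_
  simp [IsAffineOpen.primeIdealOf]

theorem isSeminormal_of_isNormalScheme {T : Scheme.{u}} (hT : Pi1.IsNormalScheme T) :
    HTop.IsSeminormal T := by
  intro x
  obtain ⟨_, ⟨U, hU, rfl⟩, hxU, -⟩ := T.isBasis_affineOpens.exists_subset_of_mem_open
    (Set.mem_univ x) isOpen_univ
  exact ⟨⟨U, hU⟩, hxU, isSeminormalRing_of_isNormalScheme hT U hU⟩

end Groth.Agent.Lib.helper11.SNSch
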