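import Groth.Agent.Lib.helper11.SNSch
import Mathlib.AlgebraicGeometry.Morphisms.Separated

/-! Seminormal schemes: lifting through `SN` morphisms; seminormalizations. -/

set_option autoImplicit false
universe u
open CategoryTheory CategoryTheory.Limits AlgebraicGeometry MorphismProperty Opposite

namespace Groth.Agent.Lib.helper11.SNSch

open Groth.Agent.Lib.helper11.AWNLoc Groth.Agent.Lib.helper11.UnivHomeo Groth.Agent.Lib.helper11.AWNSch

theorem isSeminormal_of_isOpenImmersion {T' T : Scheme.{u}} (j : T' ⟶ T) [IsOpenImmersion j]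
    (hT : HTop.IsSeminormal T) : HTop.IsSeminormal T' := by
  intro x
  obtain ⟨_, ⟨W, hW, rfl⟩, hxW, -⟩ := T'.isBasis_affineOpens.exists_subset_of_mem_open
    (Set.mem_univ x) isOpen_univ
  refine ⟨⟨W, hW⟩, hxW, ?_⟩
  have hjW : IsAffineOpen (j ''ᵁ W) := hW.image_of_isOpenImmersion j
  have h := (Groth.Agent.S7420.result T).1.mp hT ⟨j ''ᵁ W, hjW⟩
  exact IsSeminormalRing.of_equiv (j.appIso W).symm.commRingCatIsoToRingEquiv h

theorem existsUnique_lift_of_sn {W Y U : Scheme.{u}} (μ : W ⟶ U) (π : Y ⟶ U) (hπ : SN π)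
    (hW : HTop.IsSeminormal W) : ∃! h : W ⟶ Y, h ≫ π = μ := by
  have hsn : SN (pullback.fst μ π) := sn_baseChange (IsPullback.of_hasPullback μ π).flip hπ
  obtain ⟨σ, hσ⟩ := exists_section_of_sn _ hsn hW
  refine ⟨σ ≫ pullback.snd μ π, ?_, ?_⟩
  · change (σ ≫ pullback.snd μ π) ≫ π = μ
    rw [Category.assoc, ← pullback.condition, ← Category.assoc, hσ, Category.id_comp]
  · intro h₂ (hh₂ : h₂ ≫ π = μ)
    set h₁ := σ ≫ pullback.snd μ π with hh₁def
    have hh₁ : h₁ ≫ π = μ := by
      rw [hh₁def, Category.assoc, ← pullback.condition, ← Category.assoc, hσ, Category.id_comp]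
    haveI : IsAffineHom π := isAffineHom_of_uh π hπ.1
    haveI : UniversallyInjective π := ((isUnivHomeo_iff π).mp hπ.1).2.1
    haveI : Surjective (pullback.diagonal π) :=
      ((tfae_universallyInjective π).out 0 3).mp ‹UniversallyInjective π›
    let pair : W ⟶ pullback π π := pullback.lift h₂ h₁ (by rw [hh₂, hh₁])
    have he : SN (pullback.fst pair (pullback.diagonal π)) :=
      sn_of_isClosedImmersion_surjective _
    obtain ⟨τ, hτ⟩ := exists_section_of_sn _ he hW
    have key : pullback.fst pair (pullback.diagonal π) ≫ h₂ =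
        pullback.fst pair (pullback.diagonal π) ≫ h₁ := by
      have c := pullback.condition (f := pair) (g := pullback.diagonal π)
      have c1 := congrArg (· ≫ pullback.fst π π) c
      have c2 := congrArg (· ≫ pullback.snd π π) c
      simp only [Category.assoc, pair, pullback.lift_fst, pullback.lift_snd,
        pullback.diagonal_fst, pullback.diagonal_snd, Category.comp_id] at c1 c2
      rw [c1, c2]
    calc h₂ = (τ ≫ pullback.fst pair (pullback.diagonal π)) ≫ h₂ := by
          rw [hτ, Category.id_comp]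
      _ = (τ ≫ pullback.fst pair (pullback.diagonal π)) ≫ h₁ := by
          rw [Category.assoc, key, ← Category.assoc]
      _ = h₁ := by rw [hτ, Category.id_comp]

theorem isSeminormalization_of_sn {W U : Scheme.{u}} (μ : W ⟶ U) (hμ : SN μ)
    (hW : HTop.IsSeminormal W) : HTop.IsSeminormalization μ :=
  ⟨hμ, fun Y π h1 h2 => existsUnique_lift_of_sn μ π ⟨h1, h2⟩ hW⟩

end Groth.Agent.Lib.helper11.SNSch
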