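import Mathlib
import Groth.Prelude.Def_CInt

/-!
# Schematically dense opens of an affine scheme — helper11 library
-/

set_option autoImplicit false
universe u
open CategoryTheory AlgebraicGeometry TopologicalSpace Opposite

namespace Groth.Agent.Lib.helper11.SchDenseAffine

theorem isSchematicallyDense_of_basicOpen_le {X : Scheme.{u}} [IsAffine X] (U : X.Opens)
    (t : Γ(X, ⊤)) (ht : t ∈ nonZeroDivisors Γ(X, ⊤)) (htU : X.basicOpen t ≤ U) :
    CInt.IsSchematicallyDense U := by
  intro V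
  rw [injective_iff_map_eq_zero]
  intro s hs
  -- cover `V` by basic opens
  let ι := {h : Γ(X, ⊤) // X.basicOpen h ≤ V}
  have hcover : V ≤ ⨆ i : ι, X.basicOpen i.1 := by
    intro x hx
    obtain ⟨_, ⟨_, ⟨h, rfl⟩, rfl⟩, hxh, hhV⟩ := (isBasis_basicOpen X).exists_subset_of_mem_open hx V.2
    exact Opens.mem_iSup.mpr ⟨⟨h, hhV⟩, hxh⟩
  refine TopCat.Sheaf.eq_of_locally_eq' X.sheaf (fun i : ι => X.basicOpen i.1) V
    (fun i => homOfLE i.2) hcover s 0 (fun i => ?_)
  rw [map_zero]
  obtain ⟨h, hhV⟩ := i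
  let W : X.Opens := X.basicOpen h
  have hW : IsAffineOpen W := (isAffineOpen_top X).basicOpen h
  let sW : Γ(X, W) := X.presheaf.map (homOfLE hhV).op s
  let tW : Γ(X, W) := X.presheaf.map (homOfLE (le_top : W ≤ ⊤)).op t
  show sW = 0
  -- `tW` is a non-zero-divisor
  have htW : tW ∈ nonZeroDivisors Γ(X, W) := by
    letI : Algebra Γ(X, ⊤) Γ(X, W) := (X.presheaf.map (homOfLE (le_top : W ≤ ⊤)).op).hom.toAlgebra
    haveI : IsLocalization.Away h Γ(X, W) :=
      (isAffineOpen_top X).isLocalization_of_eq_basicOpen h (homOfLE le_top) rfl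
    exact IsLocalization.map_nonZeroDivisors_le (Submonoid.powers h) Γ(X, W)
      (Submonoid.mem_map_of_mem _ ht)
  -- `sW` vanishes on `D(tW)`
  have hle : X.basicOpen tW ≤ V ⊓ U := by
    rw [Scheme.basicOpen_res]
    exact le_inf (inf_le_left.trans hhV) (inf_le_right.trans htU)
  have H : X.presheaf.map (homOfLE (X.basicOpen_le tW)).op sW = 0 := by
    have e1 : X.presheaf.map (homOfLE (X.basicOpen_le tW)).op sW
        = X.presheaf.map (homOfLE hle).op
          (X.presheaf.map (homOfLE (inf_le_left : V ⊓ U ≤ V)).op s) := by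
      simp only [sW, ← CommRingCat.comp_apply, ← Functor.map_comp]
      rfl
    rw [e1, hs, map_zero]
  obtain ⟨n, hn⟩ := exists_pow_mul_eq_zero_of_res_basicOpen_eq_zero_of_isAffineOpen X hW sW tW H
  exact (mul_left_mem_nonZeroDivisors_eq_zero_iff (pow_mem htW n)).mp hn

/-- The ideal of functions whose basic open lies in `U`. -/
def basicIdeal (X : Scheme.{u}) (U : X.Opens) : Ideal Γ(X, ⊤) where
  carrier := {f | X.basicOpen f ≤ U}
  add_mem' := fun {a b} ha hb => (X.basicOpen_add_le a b).trans (sup_le ha hb)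
  zero_mem' := by
    show X.basicOpen (0 : Γ(X, ⊤)) ≤ U
    rw [Scheme.basicOpen_zero]; exact bot_le
  smul_mem' := fun c f hf => by
    show X.basicOpen (c • f) ≤ U
    rw [smul_eq_mul, Scheme.basicOpen_mul]
    exact inf_le_right.trans hf

lemma mem_basicIdeal {X : Scheme.{u}} {U : X.Opens} {f : Γ(X, ⊤)} :
    f ∈ basicIdeal X U ↔ X.basicOpen f ≤ U := Iff.rfl

/-- Claim A: an element annihilating `basicIdeal X U` vanishes if `U` is schematically dense. -/
theorem eq_zero_of_forall_mul_eq_zero {X : Scheme.{u}} [IsAffine X] (U : X.Opens)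
    (hU : CInt.IsSchematicallyDense U) (a : Γ(X, ⊤))
    (ha : ∀ f ∈ basicIdeal X U, f * a = 0) : a = 0 := by
  have hinj := hU ⊤
  rw [injective_iff_map_eq_zero] at hinj
  apply hinj
  let a' := X.presheaf.map (homOfLE (inf_le_left : (⊤ : X.Opens) ⊓ U ≤ ⊤)).op a
  show a' = 0
  let ι := {h : Γ(X, ⊤) // X.basicOpen h ≤ U}
  have hcover : (⊤ : X.Opens) ⊓ U ≤ ⨆ i : ι, X.basicOpen i.1 := by
    intro x hx
    obtain ⟨_, ⟨_, ⟨h, rfl⟩, rfl⟩, hxh, hhV⟩ :=
      (isBasis_basicOpen X).exists_subset_of_mem_open hx.2 U.2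
    exact Opens.mem_iSup.mpr ⟨⟨h, hhV⟩, hxh⟩
  refine TopCat.Sheaf.eq_of_locally_eq' X.sheaf (fun i : ι => X.basicOpen i.1) (⊤ ⊓ U)
    (fun i => homOfLE (le_inf le_top i.2)) hcover a' 0 (fun i => ?_)
  rw [map_zero]
  obtain ⟨h, hhU⟩ := i
  have e1 : X.presheaf.map (homOfLE (le_inf le_top hhU : X.basicOpen h ≤ ⊤ ⊓ U)).op a'
      = X.presheaf.map (homOfLE (le_top : X.basicOpen h ≤ ⊤)).op a := by
    simp only [a', ← CommRingCat.comp_apply, ← Functor.map_comp]
    rfl
  show X.presheaf.map (homOfLE (le_inf le_top hhU : X.basicOpen h ≤ ⊤ ⊓ U)).op a' = 0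
  rw [e1]
  have hunit : IsUnit (X.presheaf.map (homOfLE (le_top : X.basicOpen h ≤ ⊤)).op h) :=
    X.toRingedSpace.isUnit_res_basicOpen h
  have h0 : X.presheaf.map (homOfLE (le_top : X.basicOpen h ≤ ⊤)).op h *
      X.presheaf.map (homOfLE (le_top : X.basicOpen h ≤ ⊤)).op a = 0 := by
    rw [← map_mul, ha h hhU, map_zero]
  exact (hunit.mul_right_eq_zero).mp h0

/-- Claim B' : in a reduced ring with finitely many minimal primes, an ideal consisting of zero
divisors is annihilated by a nonzero element. -/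
theorem exists_ne_zero_annihilating {A : Type*} [CommRing A] [IsReduced A]
    (hfin : (minimalPrimes A).Finite) (I : Ideal A)
    (h : Disjoint (I : Set A) (nonZeroDivisors A)) : ∃ a : A, a ≠ 0 ∧ ∀ f ∈ I, f * a = 0 := by
  have hsInf : sInf (minimalPrimes A) = (⊥ : Ideal A) := by
    have := Ideal.sInf_minimalPrimes (I := (⊥ : Ideal A))
    rw [this]
    exact nilradical_eq_zero A
  -- zero divisors lie in a minimal prime
  have hsub : (I : Set A) ⊆ ⋃ p ∈ minimalPrimes A, (p : Set A) := by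
    intro x hx
    have hx' : x ∉ nonZeroDivisors A := fun hmem => Set.disjoint_left.mp h hx hmem
    rw [mem_nonZeroDivisors_iff_right] at hx'
    push_neg at hx'
    obtain ⟨y, hyx, hy⟩ := hx'
    have hy' : y ∉ sInf (minimalPrimes A) := by
      rw [hsInf]; exact hy
    rw [Submodule.mem_sInf] at hy'
    push_neg at hy'
    obtain ⟨p, hp, hyp⟩ := hy'
    have hpp : Ideal.IsPrime p := hp.1.1
    have : y * x ∈ p := by rw [hyx]; exact p.zero_mem
    exact Set.mem_iUnion₂.mpr ⟨p, hp, (hpp.mem_or_mem this).resolve_left hyp⟩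
  obtain ⟨p, hp, hIp⟩ := (Ideal.subset_union_prime_finite hfin (f := id) 0 0
    (fun q hq _ _ => hq.1.1)).mp hsub
  have hpp : p.IsPrime := hp.1.1
  -- an element in all other minimal primes but not in `p`
  let Q : Finset (Ideal A) := hfin.toFinset.erase p
  have hnot : ¬ (Q.inf id ≤ p) := by
    intro hle
    obtain ⟨q, hq, hqp⟩ := (Ideal.IsPrime.inf_le' hpp).mp hle
    have hq' : q ∈ minimalPrimes A := hfin.mem_toFinset.mp (Finset.mem_of_mem_erase hq)
    have hne : q ≠ p := Finset.ne_of_mem_erase hq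
    have hpq : p ≤ q := hp.2 ⟨hq'.1.1, bot_le⟩ hqp
    exact hne (le_antisymm hqp hpq)
  obtain ⟨a, haQ, hap⟩ := SetLike.not_le_iff_exists.mp hnot
  refine ⟨a, fun h0 => hap (h0 ▸ p.zero_mem), fun f hf => ?_⟩
  have hmem : f * a ∈ sInf (minimalPrimes A) := by
    rw [Submodule.mem_sInf]
    intro q hq
    by_cases hqp : q = p
    · rw [hqp]; exact Ideal.mul_mem_right a p (hIp hf)
    · have hqQ : q ∈ Q := Finset.mem_erase.mpr ⟨hqp, hfin.mem_toFinset.mpr hq⟩
      have : Q.inf id ≤ q := Finset.inf_le hqQ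
      exact Ideal.mul_mem_left q f (this haQ)
  rw [hsInf] at hmem
  exact hmem

theorem minimalPrimes_finite_of_irreducibleComponents_finite (X : Scheme.{u}) [IsAffine X]
    (h : (irreducibleComponents ↥X).Finite) : (minimalPrimes Γ(X, ⊤)).Finite := by
  let e : X ⟶ Spec Γ(X, ⊤) := X.isoSpec.hom
  have hemb : Topology.IsOpenEmbedding e := e.isOpenEmbedding
  have hsurj : Function.Surjective e := by
    intro y
    exact ⟨X.isoSpec.inv y, Scheme.inv_hom_apply X.isoSpec y⟩
  have hfinSpec' : (irreducibleComponents ↥(Spec Γ(X, ⊤))).Finite := by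
    refine Set.Finite.of_injOn (f := fun t : Set ↥(Spec Γ(X, ⊤)) => e ⁻¹' t)
      (fun t ht => ?_) ?_ h
    · refine preimage_mem_irreducibleComponents ht hemb ?_
      rw [hsurj.range_eq, Set.inter_univ]
      exact ht.1.1
    · intro t _ t' _ htt'
      exact hsurj.preimage_injective htt'
  have hfinSpec : (irreducibleComponents (PrimeSpectrum Γ(X, ⊤))).Finite := hfinSpec'
  haveI : Finite (irreducibleComponents (PrimeSpectrum Γ(X, ⊤))) := hfinSpec.to_subtype
  haveI : Finite (minimalPrimes Γ(X, ⊤)) :=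
    Finite.of_equiv _ (minimalPrimes.equivIrreducibleComponents Γ(X, ⊤)).toEquiv.symm
  exact Set.toFinite _

/-- EGA IV 20.2.? : schematically dense opens of an affine scheme which is Noetherian, or reduced
with finitely many irreducible components. -/
theorem isSchematicallyDense_iff (X : Scheme.{u}) [IsAffine X]
    (hX : IsNoetherian X ∨ (IsReduced X ∧ (irreducibleComponents ↥X).Finite)) (U : X.Opens) :
    CInt.IsSchematicallyDense U ↔
      ∃ t : Γ(X, ⊤), t ∈ nonZeroDivisors Γ(X, ⊤) ∧ X.basicOpen t ≤ U := by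
  constructor
  · intro hU
    by_contra hcon
    push_neg at hcon
    have hdisj : Disjoint ((basicIdeal X U : Ideal Γ(X, ⊤)) : Set Γ(X, ⊤))
        (nonZeroDivisors Γ(X, ⊤)) := by
      rw [Set.disjoint_left]
      intro t ht htnz
      exact hcon t htnz ht
    have hex : ∃ a : Γ(X, ⊤), a ≠ 0 ∧ ∀ f ∈ basicIdeal X U, f * a = 0 := by
      rcases hX with hN | ⟨hred, hfin⟩
      · haveI : IsNoetherianRing Γ(X, ⊤) :=
          IsLocallyNoetherian.component_noetherian ⟨⊤, isAffineOpen_top X⟩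
        have hlt := Ideal.bot_lt_annihilator_of_disjoint_nonZeroDivisors hdisj
        obtain ⟨a, ha, ha0⟩ := SetLike.exists_of_lt hlt
        refine ⟨a, fun h0 => ha0 (by rw [h0]; exact Submodule.zero_mem _), fun f hf => ?_⟩
        have h1 := Module.mem_annihilator.mp ha ⟨f, hf⟩
        have h2 : a * f = 0 := congrArg Subtype.val h1
        rw [mul_comm]; exact h2
      · haveI : _root_.IsReduced Γ(X, ⊤) := inferInstance
        exact exists_ne_zero_annihilating
          (minimalPrimes_finite_of_irreducibleComponents_finite X hfin) _ hdisj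
    obtain ⟨a, ha0, ha⟩ := hex
    exact ha0 (eq_zero_of_forall_mul_eq_zero U hU a ha)
  · rintro ⟨t, ht, htU⟩
    exact isSchematicallyDense_of_basicOpen_le U t ht htU

end Groth.Agent.Lib.helper11.SchDenseAffine
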