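import Mathlib
import Groth.Prelude.Def_CInt
import Groth.Agent.Lib.helper11.SchDenseAffine

/-!
# Schematic density, flat pullback and limits — helper11 library
-/

set_option autoImplicit false
universe u
open CategoryTheory CategoryTheory.Limits AlgebraicGeometry TopologicalSpace Opposite

namespace Groth.Agent.Lib.helper11.SchDenseLim

open Groth.Agent.Lib.helper11.SchDenseAffine
open scoped TensorProduct

/-- A flat ring map killing the annihilator of `t` sends `t` to a non-zero-divisor. -/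
theorem map_mem_nonZeroDivisors_of_flat {A B : Type*} [CommRing A] [CommRing B] (φ : A →+* B)
    (hφ : φ.Flat) (t : A) (h : ∀ k : A, t * k = 0 → φ k = 0) : φ t ∈ nonZeroDivisors B := by
  letI := φ.toAlgebra
  haveI : Module.Flat A B := hφ
  rw [mem_nonZeroDivisors_iff_right]
  intro b hb
  let g : A →ₗ[A] A := LinearMap.mulLeft A t
  have hex : Function.Exact (LinearMap.ker g).subtype g := LinearMap.exact_subtype_ker_map g
  have hex' := Module.Flat.lTensor_exact B hex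
  have hsmul : ∀ (a : A) (b' : B), a • b' = φ a * b' := fun a b' => by
    rw [Algebra.smul_def]; rfl
  have h1 : (g.lTensor B) (b ⊗ₜ[A] (1 : A)) = 0 := by
    rw [LinearMap.lTensor_tmul]
    have : g 1 = t • (1 : A) := by simp [g]
    rw [this, ← TensorProduct.smul_tmul, hsmul, mul_comm, hb, TensorProduct.zero_tmul]
  obtain ⟨y, hy⟩ := (hex' _).mp h1
  have h2 : ∀ y : B ⊗[A] (LinearMap.ker g), ((LinearMap.ker g).subtype.lTensor B) y = 0 := by
    intro y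
    induction y using TensorProduct.induction_on with
    | zero => simp
    | tmul b' k =>
      rw [LinearMap.lTensor_tmul]
      have hk : t * (k : A) = 0 := by
        have hk2 : g (k : A) = 0 := LinearMap.mem_ker.mp k.2
        exact hk2
      have : ((LinearMap.ker g).subtype k : A) = (k : A) • (1 : A) := by simp
      rw [this, ← TensorProduct.smul_tmul, hsmul, h _ hk, zero_mul, TensorProduct.zero_tmul]
    | add x y hx hy => rw [map_add, hx, hy, add_zero]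
  rw [h2] at hy
  have h3 := congrArg (TensorProduct.rid A B) hy
  rw [map_zero, TensorProduct.rid_tmul, one_smul] at h3
  exact h3.symm

lemma res_res {X : Scheme.{u}} {A C B : X.Opens} (f : A ⟶ C) (g : C ⟶ B) (h : A ⟶ B)
    (s : Γ(X, B)) :
    X.presheaf.map f.op (X.presheaf.map g.op s) = X.presheaf.map h.op s := by
  rw [← CommRingCat.comp_apply, ← Functor.map_comp, ← op_comp,
    show f ≫ g = h from Subsingleton.elim _ _]

lemma res_eq_zero_of_le {X : Scheme.{u}} {A A' B : X.Opens} (f : A ⟶ A') (g : A' ⟶ B)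
    (h : A ⟶ B) (s : Γ(X, B)) (hs : X.presheaf.map g.op s = 0) :
    X.presheaf.map h.op s = 0 := by
  rw [← res_res f g h s, hs, map_zero]

/-- Schematic density restricts to open subschemes. -/
theorem isSchematicallyDense_restrict {X : Scheme.{u}} (U : X.Opens)
    (hU : CInt.IsSchematicallyDense U) (W : X.Opens) :
    CInt.IsSchematicallyDense (W.ι ⁻¹ᵁ U) := by
  intro V
  rw [injective_iff_map_eq_zero]
  intro s hs
  have hinj := hU (W.ι ''ᵁ V)
  rw [injective_iff_map_eq_zero] at hinj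
  have hle : W.ι ''ᵁ V ⊓ U ≤ W.ι ''ᵁ (V ⊓ W.ι ⁻¹ᵁ U) := by
    rintro x ⟨⟨y, hyV, rfl⟩, hxU⟩
    exact ⟨y, ⟨hyV, hxU⟩, rfl⟩
  let s' : Γ(X, W.ι ''ᵁ V) := s
  refine hinj s' ?_
  exact res_eq_zero_of_le (homOfLE hle)
    (W.ι.opensFunctor.map (homOfLE (inf_le_left : V ⊓ W.ι ⁻¹ᵁ U ≤ V))) _ s' hs

/-- Schematic density is local on an open cover. -/
theorem isSchematicallyDense_of_cover {X : Scheme.{u}} (U : X.Opens) {ι : Type*}
    (W : ι → X.Opens) (hW : ∀ x : X, ∃ a, x ∈ W a)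
    (h : ∀ a, CInt.IsSchematicallyDense ((W a).ι ⁻¹ᵁ U)) : CInt.IsSchematicallyDense U := by
  intro V
  rw [injective_iff_map_eq_zero]
  intro s hs
  have hcover : V ≤ ⨆ a, (W a).ι ''ᵁ ((W a).ι ⁻¹ᵁ V) := by
    intro x hx
    obtain ⟨a, ha⟩ := hW x
    exact Opens.mem_iSup.mpr ⟨a, ⟨⟨x, ha⟩, hx, rfl⟩⟩
  have hle : ∀ a, (W a).ι ''ᵁ ((W a).ι ⁻¹ᵁ V) ≤ V := by
    rintro a x ⟨y, hy, rfl⟩; exact hy
  refine TopCat.Sheaf.eq_of_locally_eq' X.sheaf (fun a => (W a).ι ''ᵁ ((W a).ι ⁻¹ᵁ V)) V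
    (fun a => homOfLE (hle a)) hcover s 0 (fun a => ?_)
  rw [map_zero]
  have hinj := h a ((W a).ι ⁻¹ᵁ V)
  rw [injective_iff_map_eq_zero] at hinj
  let sa : Γ(X, (W a).ι ''ᵁ ((W a).ι ⁻¹ᵁ V)) := X.presheaf.map (homOfLE (hle a)).op s
  show sa = 0
  refine hinj sa ?_
  have hle2 : (W a).ι ''ᵁ ((W a).ι ⁻¹ᵁ V ⊓ (W a).ι ⁻¹ᵁ U) ≤ V ⊓ U := by
    rintro x ⟨y, ⟨hyV, hyU⟩, rfl⟩; exact ⟨hyV, hyU⟩
  show X.presheaf.map ((W a).ι.opensFunctor.map
    (homOfLE (inf_le_left : (W a).ι ⁻¹ᵁ V ⊓ (W a).ι ⁻¹ᵁ U ≤ (W a).ι ⁻¹ᵁ V))).op sa = 0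
  rw [res_res _ _ (homOfLE (hle2.trans inf_le_left))]
  exact res_eq_zero_of_le (homOfLE hle2) (homOfLE inf_le_left) _ s hs

/-- Flat pullback preserves schematically dense opens of locally Noetherian schemes. -/
theorem isSchematicallyDense_preimage_of_flat {P Q : Scheme.{u}} (f : P ⟶ Q) [Flat f]
    [IsLocallyNoetherian Q] (W : Q.Opens) (hW : CInt.IsSchematicallyDense W) :
    CInt.IsSchematicallyDense (f ⁻¹ᵁ W) := by
  let ι := {p : Q.affineOpens × P.affineOpens // p.2.1 ≤ f ⁻¹ᵁ p.1.1}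
  refine isSchematicallyDense_of_cover (f ⁻¹ᵁ W) (fun a : ι => a.1.2.1) ?_ ?_
  · intro x
    obtain ⟨_, ⟨Qa, hQa : IsAffineOpen Qa, rfl⟩, hxQa, -⟩ :=
      Q.isBasis_affineOpens.exists_subset_of_mem_open (Set.mem_univ (f x)) isOpen_univ
    obtain ⟨_, ⟨Pb, hPb : IsAffineOpen Pb, rfl⟩, hxPb, hPbQa⟩ :=
      P.isBasis_affineOpens.exists_subset_of_mem_open (show x ∈ f ⁻¹ᵁ Qa from hxQa) (f ⁻¹ᵁ Qa).2
    exact ⟨⟨(⟨Qa, hQa⟩, ⟨Pb, hPb⟩), hPbQa⟩, hxPb⟩
  · rintro ⟨⟨⟨Qa, hQa⟩, ⟨Pb, hPb⟩⟩, hab⟩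
    dsimp only
    haveI : IsAffine ↑Qa := hQa
    haveI : IsAffine ↑Pb := hPb
    haveI : IsNoetherian ↑Qa := { }
    have h1 := isSchematicallyDense_restrict W hW Qa
    obtain ⟨t, ht, htW⟩ := (isSchematicallyDense_iff ↑Qa (Or.inl inferInstance) _).mp h1
    let fab : (↑Pb : Scheme) ⟶ ↑Qa := f.resLE Qa Pb hab
    have hflat : fab.appTop.hom.Flat := Scheme.Hom.flat_appTop fab
    refine isSchematicallyDense_of_basicOpen_le _ (fab.appTop t) ?_ ?_
    · refine map_mem_nonZeroDivisors_of_flat _ hflat t (fun k hk => ?_)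
      rw [(mul_left_mem_nonZeroDivisors_eq_zero_iff ht).mp hk]
      exact map_zero _
    · rw [← Scheme.preimage_basicOpen_top]
      refine (Scheme.Hom.preimage_mono fab htW).trans ?_
      rw [← Scheme.Hom.comp_preimage, ← Scheme.Hom.comp_preimage, Scheme.Hom.resLE_comp_ι]

section AffineLimit

variable {J : Type u} [SmallCategory J] [IsCofiltered J] (D : J ⥤ Scheme.{u}) (c : Cone D)
  (hc : IsLimit c)

include hc in
/-- A common stage at which finitely many eventually vanishing global sections vanish. -/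
lemma exists_common_stage [∀ j, IsAffine (D.obj j)] (j : J) (S : Finset Γ(D.obj j, ⊤))
    (hS : ∀ k ∈ S, (c.π.app j).appTop k = 0) :
    ∃ (l : J) (g : l ⟶ j), ∀ k ∈ S, (D.map g).appTop k = 0 := by
  classical
  have hcomp : ∀ {a b d : J} (x : a ⟶ b) (y : b ⟶ d) (k : Γ(D.obj d, ⊤)),
      (D.map (x ≫ y)).appTop k = (D.map x).appTop ((D.map y).appTop k) := by
    intro a b d x y k
    rw [D.map_comp, Scheme.Hom.comp_appTop]; rfl
  induction S using Finset.induction_on with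
  | empty => exact ⟨j, 𝟙 j, by simp⟩
  | insert k₀ S hk₀ ih =>
    obtain ⟨l, g, hg⟩ := ih (fun k hk => hS k (Finset.mem_insert_of_mem hk))
    obtain ⟨l₀, g₀, hg₀⟩ := exists_appTop_map_eq_zero_of_isAffine_of_isLimit D c hc j k₀
      (hS k₀ (Finset.mem_insert_self _ _))
    let a : IsCofiltered.min l l₀ ⟶ l := IsCofiltered.minToLeft l l₀
    let b : IsCofiltered.min l l₀ ⟶ l₀ := IsCofiltered.minToRight l l₀
    let e := IsCofiltered.eqHom (a ≫ g) (b ≫ g₀)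
    have he : e ≫ a ≫ g = e ≫ b ≫ g₀ := IsCofiltered.eq_condition _ _
    refine ⟨IsCofiltered.eq (a ≫ g) (b ≫ g₀), e ≫ a ≫ g, ?_⟩
    intro k hk
    rcases Finset.mem_insert.mp hk with rfl | hk
    · rw [he, hcomp, hcomp, hg₀, map_zero, map_zero]
    · rw [hcomp, hcomp, hg k hk, map_zero, map_zero]

include hc in
/-- Affine case of EGA IV 8.?: schematic density of the preimage in the limit descends to a finite
stage. -/
theorem exists_stage_of_isAffine [∀ j, IsAffine (D.obj j)]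
    [∀ {i j : J} (g : i ⟶ j), Flat (D.map g)]
    [∀ j, IsNoetherian (D.obj j)] [IsNoetherian c.pt] (j₀ : J) (U₀ : (D.obj j₀).Opens)
    (h : CInt.IsSchematicallyDense (c.π.app j₀ ⁻¹ᵁ U₀)) :
    ∃ (j : J) (g : j ⟶ j₀), CInt.IsSchematicallyDense (D.map g ⁻¹ᵁ U₀) := by
  haveI : ∀ {i j : J} (f : i ⟶ j), IsAffineHom (D.map f) := fun f => inferInstance
  haveI : IsAffineHom (c.π.app j₀) := isAffineHom_π_app D c hc j₀
  haveI : IsAffine c.pt := isAffine_of_isAffineHom (c.π.app j₀)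
  obtain ⟨t, ht, htU⟩ := (isSchematicallyDense_iff c.pt (Or.inl inferInstance) _).mp h
  obtain ⟨i₁, t₁, ht₁⟩ := exists_appTop_π_eq_of_isAffine_of_isLimit D c hc t
  have hπ : ∀ {a b : J} (x : a ⟶ b) (k : Γ(D.obj b, ⊤)),
      (c.π.app a).appTop ((D.map x).appTop k) = (c.π.app b).appTop k := by
    intro a b x k
    rw [← c.w x, Scheme.Hom.comp_appTop]; rfl
  let a : IsCofiltered.min i₁ j₀ ⟶ i₁ := IsCofiltered.minToLeft _ _
  let b : IsCofiltered.min i₁ j₀ ⟶ j₀ := IsCofiltered.minToRight _ _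
  let ti : Γ(D.obj (IsCofiltered.min i₁ j₀), ⊤) := (D.map a).appTop t₁
  have hti : (c.π.app _).appTop ti = t := by rw [hπ, ht₁]
  have hcpt : IsCompact ((D.obj _).basicOpen ti : Set (D.obj (IsCofiltered.min i₁ j₀))) :=
    ((isAffineOpen_top _).basicOpen ti).isCompact
  have H : c.π.app _ ⁻¹ᵁ ((D.obj _).basicOpen ti) ≤ c.π.app _ ⁻¹ᵁ (D.map b ⁻¹ᵁ U₀) := by
    rw [Scheme.preimage_basicOpen_top, hti, ← Scheme.Hom.comp_preimage, c.w]; exact htU
  obtain ⟨j, fji, hj⟩ := exists_map_preimage_le_map_preimage D c hc hcpt H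
  let tj : Γ(D.obj j, ⊤) := (D.map fji).appTop ti
  have htj : (c.π.app j).appTop tj = t := by rw [hπ, hti]
  have hDj : (D.obj j).basicOpen tj ≤ D.map (fji ≫ b) ⁻¹ᵁ U₀ := by
    rw [← Scheme.preimage_basicOpen_top, D.map_comp, Scheme.Hom.comp_preimage]; exact hj
  haveI : IsNoetherianRing Γ(D.obj j, ⊤) :=
    IsLocallyNoetherian.component_noetherian ⟨⊤, isAffineOpen_top _⟩
  let K : Ideal Γ(D.obj j, ⊤) := LinearMap.ker (LinearMap.mulLeft Γ(D.obj j, ⊤) tj)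
  obtain ⟨S, hS⟩ : K.FG := IsNoetherian.noetherian K
  have hSzero : ∀ k ∈ S, (c.π.app j).appTop k = 0 := by
    intro k hk
    have hkK : k ∈ K := hS ▸ Ideal.subset_span hk
    have h1 : tj * k = 0 := hkK
    let ck : Γ(c.pt, ⊤) := (c.π.app j).appTop k
    have h2 : t * ck = 0 := by
      have h3 : (c.π.app j).appTop (tj * k) = 0 := by rw [h1, map_zero]
      rw [map_mul, htj] at h3
      exact h3
    exact (mul_left_mem_nonZeroDivisors_eq_zero_iff ht).mp h2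
  obtain ⟨l, g, hg⟩ := exists_common_stage D c hc j S hSzero
  have hK : ∀ k, tj * k = 0 → (D.map g).appTop k = 0 := by
    intro k hk
    have hkK : k ∈ Ideal.span (S : Set Γ(D.obj j, ⊤)) := by rw [hS]; exact hk
    refine Submodule.span_induction (p := fun k _ => (D.map g).appTop k = 0) ?_ ?_ ?_ ?_ hkK
    · intro x hx; exact hg x hx
    · exact map_zero _
    · intro x y _ _ hx hy; rw [map_add, hx, hy, add_zero]
    · intro r x _ hx; rw [smul_eq_mul, map_mul, hx, mul_zero]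
  have htl : (D.map g).appTop tj ∈ nonZeroDivisors Γ(D.obj l, ⊤) :=
    map_mem_nonZeroDivisors_of_flat _ (Scheme.Hom.flat_appTop (D.map g)) tj hK
  refine ⟨l, g ≫ fji ≫ b, ?_⟩
  refine isSchematicallyDense_of_basicOpen_le _ _ htl ?_
  rw [← Scheme.preimage_basicOpen_top, D.map_comp, Scheme.Hom.comp_preimage]
  exact Scheme.Hom.preimage_mono _ hDj

end AffineLimit

section General

variable {I : Type u} [SmallCategory I] [IsCofiltered I] (D : I ⥤ Scheme.{u}) (c : Cone D)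
  (hc : IsLimit c)

include hc in
lemma exists_stage_affineOpen [∀ {i j : I} (f : i ⟶ j), IsAffineHom (D.map f)]
    [∀ {i j : I} (f : i ⟶ j), Flat (D.map f)]
    [∀ i, IsNoetherian (D.obj i)] [IsNoetherian c.pt] (i₀ : I) (U₀ : (D.obj i₀).Opens)
    (h : CInt.IsSchematicallyDense (c.π.app i₀ ⁻¹ᵁ U₀)) (W : (D.obj i₀).Opens)
    (hW : IsAffineOpen W) :
    ∃ (j : Over i₀), CInt.IsSchematicallyDense
      ((D.map j.hom ⁻¹ᵁ W).ι ⁻¹ᵁ (D.map j.hom ⁻¹ᵁ U₀)) := by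
  haveI : ∀ j : Over i₀, IsAffine ((opensDiagram D i₀ W).obj j) :=
    fun j => hW.preimage (D.map j.hom)
  haveI : ∀ {j k : Over i₀} (g : j ⟶ k), Flat ((opensDiagram D i₀ W).map g) := fun g => by
    show Flat ((D.map g.left).resLE _ _ _); infer_instance
  haveI : ∀ j : Over i₀, IsNoetherian ((opensDiagram D i₀ W).obj j) := fun j => by
    show IsNoetherian ↑(D.map j.hom ⁻¹ᵁ W)
    haveI : IsAffine ↑(D.map j.hom ⁻¹ᵁ W) := hW.preimage (D.map j.hom)
    exact { }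
  haveI : IsAffineHom (c.π.app i₀) := isAffineHom_π_app D c hc i₀
  haveI : IsNoetherian (opensCone D c i₀ W).pt := by
    show IsNoetherian ↑(c.π.app i₀ ⁻¹ᵁ W)
    haveI : IsAffine ↑(c.π.app i₀ ⁻¹ᵁ W) := hW.preimage (c.π.app i₀)
    haveI : IsLocallyNoetherian ↑(c.π.app i₀ ⁻¹ᵁ W) :=
      isLocallyNoetherian_of_isOpenImmersion (Y := c.pt) (c.π.app i₀ ⁻¹ᵁ W).ι
    exact { }
  let j₀ : Over i₀ := Over.mk (𝟙 i₀)
  let U₀' : ((opensDiagram D i₀ W).obj j₀).Opens := (D.map (𝟙 i₀) ⁻¹ᵁ W).ι ⁻¹ᵁ U₀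
  have h1 := isSchematicallyDense_restrict _ h (c.π.app i₀ ⁻¹ᵁ W)
  have h2 : CInt.IsSchematicallyDense ((opensCone D c i₀ W).π.app j₀ ⁻¹ᵁ U₀') := by
    have e : (opensCone D c i₀ W).π.app j₀ ⁻¹ᵁ U₀'
        = (c.π.app i₀ ⁻¹ᵁ W).ι ⁻¹ᵁ (c.π.app i₀ ⁻¹ᵁ U₀) := by
      show ((c.π.app i₀).resLE _ _ _) ⁻¹ᵁ ((D.map (𝟙 i₀) ⁻¹ᵁ W).ι ⁻¹ᵁ U₀) = _
      rw [← Scheme.Hom.comp_preimage, Scheme.Hom.resLE_comp_ι, Scheme.Hom.comp_preimage]
    rw [e]; exact h1
  obtain ⟨j, g, hj⟩ := exists_stage_of_isAffine (opensDiagram D i₀ W) (opensCone D c i₀ W)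
    (isLimitOpensCone D c hc i₀ W) j₀ U₀' h2
  refine ⟨j, ?_⟩
  have e : (opensDiagram D i₀ W).map g ⁻¹ᵁ U₀'
      = (D.map j.hom ⁻¹ᵁ W).ι ⁻¹ᵁ (D.map j.hom ⁻¹ᵁ U₀) := by
    have hg : g.left = j.hom := by
      have h := Over.w g
      simp only [j₀, Over.mk_hom] at h
      exact (Category.comp_id _).symm.trans h
    show ((D.map g.left).resLE _ _ _) ⁻¹ᵁ ((D.map (𝟙 i₀) ⁻¹ᵁ W).ι ⁻¹ᵁ U₀) = _
    rw [← Scheme.Hom.comp_preimage, Scheme.Hom.resLE_comp_ι, Scheme.Hom.comp_preimage, hg]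
  rw [← e]; exact hj

include hc in
/-- EGA IV 8: schematic density of the preimage in the limit descends to a finite stage. -/
theorem exists_stage [∀ {i j : I} (f : i ⟶ j), IsAffineHom (D.map f)]
    [∀ {i j : I} (f : i ⟶ j), Flat (D.map f)]
    [∀ i, IsNoetherian (D.obj i)] [IsNoetherian c.pt] (i₀ : I) (U₀ : (D.obj i₀).Opens)
    (h : CInt.IsSchematicallyDense (c.π.app i₀ ⁻¹ᵁ U₀)) :
    ∃ (i : I) (g : i ⟶ i₀), CInt.IsSchematicallyDense (D.map g ⁻¹ᵁ U₀) := by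
  classical
  choose jW hjW using fun W : (D.obj i₀).affineOpens =>
    exists_stage_affineOpen D c hc i₀ U₀ h W.1 W.2
  have hex : ∀ x : D.obj i₀, ∃ W : (D.obj i₀).affineOpens, x ∈ W.1 := by
    intro x
    obtain ⟨_, ⟨W, hW, rfl⟩, hxW, -⟩ :=
      (D.obj i₀).isBasis_affineOpens.exists_subset_of_mem_open (Set.mem_univ x) isOpen_univ
    exact ⟨⟨W, hW⟩, hxW⟩
  choose Wx hWx using hex
  obtain ⟨t, ht⟩ := CompactSpace.elim_nhds_subcover (fun x => ((Wx x).1 : Set (D.obj i₀)))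
    (fun x => (Wx x).1.2.mem_nhds (hWx x))
  obtain ⟨k, hk⟩ := IsCofiltered.inf_objs_exists (t.image (fun x => jW (Wx x)))
  refine ⟨k.left, k.hom, ?_⟩
  refine isSchematicallyDense_of_cover _ (fun x : t => D.map k.hom ⁻¹ᵁ (Wx x.1).1) ?_ ?_
  · intro y
    have hy : (D.map k.hom) y ∈ (⊤ : Set (D.obj i₀)) := trivial
    rw [← ht] at hy
    obtain ⟨x, hx, hxy⟩ := Set.mem_iUnion₂.mp hy
    exact ⟨⟨x, hx⟩, hxy⟩
  · rintro ⟨x, hx⟩
    obtain ⟨φ⟩ := hk (Finset.mem_image_of_mem _ hx)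
    have hle : D.map k.hom ⁻¹ᵁ (Wx x).1
        ≤ D.map φ.left ⁻¹ᵁ (D.map (jW (Wx x)).hom ⁻¹ᵁ (Wx x).1) := by
      rw [← Scheme.Hom.comp_preimage, ← D.map_comp, Over.w φ]
    have key := isSchematicallyDense_preimage_of_flat ((D.map φ.left).resLE _ _ hle) _
      (hjW (Wx x))
    rw [← Scheme.Hom.comp_preimage, Scheme.Hom.resLE_comp_ι, Scheme.Hom.comp_preimage,
      ← Scheme.Hom.comp_preimage (D.map φ.left), ← D.map_comp, Over.w φ] at key
    exact key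

end General

end Groth.Agent.Lib.helper11.SchDenseLim
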