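import Groth.Prelude.Def_W4stktopologysheavesBas
import Mathlib.Topology.Sets.Opens
import Mathlib.Tactic

/-!
# Sheaves on a basis: elementary lemmas (helper11)

Lemmas about `ShB.Pre`, `ShB.Cover`, `ShB.IsSheaf`, `ShB.Stalk`.
-/

set_option autoImplicit false

namespace Groth.Agent.Lib.helper11.ShBasis

open TopologicalSpace Opposite CategoryTheory ShB

universe u

variable {X : Type u} [TopologicalSpace X] {B : Set (Opens X)}

/-- basis neighbourhoods -/
theorem exists_basis (hB : Opens.IsBasis B) {U : Opens X} {x : X} (hx : x ∈ U) :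
    ∃ W : B, x ∈ (W : Opens X) ∧ (W : Opens X) ≤ U := by
  obtain ⟨W, hW, hxW, hWU⟩ := Opens.isBasis_iff_nbhd.1 hB hx
  exact ⟨⟨W, hW⟩, hxW, hWU⟩

/-- Build covering data from a covering family, using all basis members inside `V i ⊓ V j`. -/
def coverOf (hB : Opens.IsBasis B) (U : B) {ι : Type u} (V : ι → B)
    (hle : ∀ i, (V i : Opens X) ≤ (U : Opens X))
    (hcov : (U : Opens X) ≤ ⨆ i, (V i : Opens X)) : Cover B where
  U := U
  ι := ι
  V := V
  V_le := hle
  V_cover := hcov
  κ i j := {W : B // (W : Opens X) ≤ (V i : Opens X) ⊓ (V j : Opens X)}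
  W i j k := k.1
  W_le_left i j k := k.2.trans inf_le_left
  W_le_right i j k := k.2.trans inf_le_right
  W_cover i j := by
    intro x hx
    obtain ⟨W, hxW, hW⟩ := exists_basis hB (U := (V i : Opens X) ⊓ (V j : Opens X)) hx
    exact Opens.mem_iSup.2 ⟨⟨W, hW⟩, hxW⟩

/-- Separatedness of a presheaf on a basis. -/
def IsSep (F : Pre B) : Prop :=
  ∀ (U : B) (ι : Type u) (V : ι → B) (hle : ∀ i, (V i : Opens X) ≤ (U : Opens X))
    (_ : (U : Opens X) ≤ ⨆ i, (V i : Opens X)) (t t' : F.obj U),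
    (∀ i, F.res (hle i) t = F.res (hle i) t') → t = t'

/-- The strong gluing property: families agreeing on all basis members of the intersections glue
uniquely. -/
def Glues (F : Pre B) : Prop :=
  ∀ (U : B) (ι : Type u) (V : ι → B) (hle : ∀ i, (V i : Opens X) ≤ (U : Opens X))
    (_ : (U : Opens X) ≤ ⨆ i, (V i : Opens X)) (s : ∀ i, F.obj (V i)),
    (∀ i j (W : B) (h1 : (W : Opens X) ≤ (V i : Opens X)) (h2 : (W : Opens X) ≤ (V j : Opens X)),
      F.res h1 (s i) = F.res h2 (s j)) →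
    ∃! t : F.obj U, ∀ i, F.res (hle i) t = s i

theorem glues_of_isSheaf (hB : Opens.IsBasis B) {F : Pre B} (hF : IsSheaf F) : Glues F := by
  intro U ι V hle hcov s hs
  exact hF (coverOf hB U V hle hcov) s (fun i j k => hs i j k.1 _ _)

theorem Glues.isSep {F : Pre B} (hF : Glues F) : IsSep F := by
  intro U ι V hle hcov t t' h
  have := hF U ι V hle hcov (fun i => F.res (hle i) t) (by
    intro i j W h1 h2
    rw [F.res_comp, F.res_comp])
  exact this.unique (fun i => rfl) (fun i => (h i).symm)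

/-- In a separated presheaf, a family compatible on the chosen coverings of the intersections
is compatible on all basis members of the intersections. -/
theorem IsSep.agree (hB : Opens.IsBasis B) {F : Pre B} (hF : IsSep F) (c : Cover B)
    (s : ∀ i, F.obj (c.V i))
    (hs : ∀ i j k, F.res (c.W_le_left i j k) (s i) = F.res (c.W_le_right i j k) (s j))
    (i j : c.ι) (W : B) (h1 : (W : Opens X) ≤ (c.V i : Opens X))
    (h2 : (W : Opens X) ≤ (c.V j : Opens X)) :
    F.res h1 (s i) = F.res h2 (s j) := by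
  refine hF W (Σ k : c.κ i j, {W' : B // (W' : Opens X) ≤ (W : Opens X) ⊓ (c.W i j k : Opens X)})
    (fun p => p.2.1) (fun p => p.2.2.trans inf_le_left) ?_ _ _ ?_
  · intro x hx
    have hx2 : x ∈ (c.V i : Opens X) ⊓ (c.V j : Opens X) := ⟨h1 hx, h2 hx⟩
    obtain ⟨k, hk⟩ := Opens.mem_iSup.1 (c.W_cover i j hx2)
    obtain ⟨W', hxW', hW'⟩ := exists_basis hB (U := (W : Opens X) ⊓ (c.W i j k : Opens X)) ⟨hx, hk⟩
    exact Opens.mem_iSup.2 ⟨⟨k, ⟨W', hW'⟩⟩, hxW'⟩
  · rintro ⟨k, ⟨W', hW'⟩⟩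
    have e1 : F.res (hW'.trans inf_le_left) (F.res h1 (s i)) =
        F.res (hW'.trans inf_le_right) (F.res (c.W_le_left i j k) (s i)) := by
      rw [F.res_comp, F.res_comp]
    have e2 : F.res (hW'.trans inf_le_left) (F.res h2 (s j)) =
        F.res (hW'.trans inf_le_right) (F.res (c.W_le_right i j k) (s j)) := by
      rw [F.res_comp, F.res_comp]
    simp only
    rw [e1, e2, hs]

theorem isSep_of_isSheaf (hB : Opens.IsBasis B) {F : Pre B} (hF : IsSheaf F) : IsSep F :=
  Glues.isSep (glues_of_isSheaf hB hF)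

theorem Glues.isSheaf (hB : Opens.IsBasis B) {F : Pre B} (hF : Glues F) : IsSheaf F := by
  intro c s hs
  exact hF c.U c.ι c.V c.V_le c.V_cover s
    (fun i j W h1 h2 => IsSep.agree hB (Glues.isSep hF) c s hs i j W h1 h2)

/-- Sheaf criterion through a cofinal system of coverings. -/
theorem glues_of_cofinal (hB : Opens.IsBasis B) (F : Pre B)
    (C : ∀ U : B, Set (Cover B)) (hCU : ∀ U, ∀ c ∈ C U, c.U = U)
    (hC : ∀ (U : B) (ι : Type u) (V : ι → B), (∀ i, (V i : Opens X) ≤ (U : Opens X)) →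
      (U : Opens X) ≤ ⨆ i, (V i : Opens X) →
      ∃ c ∈ C U, ∀ i' : c.ι, ∃ i, (c.V i' : Opens X) ≤ (V i : Opens X))
    (H : ∀ U, ∀ c ∈ C U, GluesUniquely F c) : Glues F := by
  -- Step 1: separatedness
  have hsep : IsSep F := by
    intro U ι V hle hcov t t' h
    obtain ⟨c, hc, href⟩ := hC U ι V hle hcov
    have hU := hCU U c hc
    subst hU
    have := H c.U c hc (fun i' => F.res (c.V_le i') t) (by
      intro i j k
      rw [F.res_comp, F.res_comp])
    refine this.unique (fun i => rfl) (fun i' => ?_)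
    obtain ⟨i, hi⟩ := href i'
    have e1 : F.res (c.V_le i') t = F.res hi (F.res (hle i) t) := by rw [F.res_comp]
    have e2 : F.res (c.V_le i') t' = F.res hi (F.res (hle i) t') := by rw [F.res_comp]
    rw [e1, e2, h]
  intro U ι V hle hcov s hs
  have hex : ∃ t : F.obj U, ∀ i, F.res (hle i) t = s i := by
    obtain ⟨c, hc, href⟩ := hC U ι V hle hcov
    have hU := hCU U c hc
    subst hU
    choose α hα using href
    obtain ⟨t, ht, -⟩ := H c.U c hc (fun i' => F.res (hα i') (s (α i'))) (by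
      intro i j k
      rw [F.res_comp, F.res_comp]
      exact hs _ _ _ _ _)
    refine ⟨t, fun i => ?_⟩
    refine hsep (V i) (Σ i' : c.ι, {W : B // (W : Opens X) ≤ (V i : Opens X) ⊓ (c.V i' : Opens X)})
      (fun p => p.2.1) (fun p => p.2.2.trans inf_le_left) ?_ _ _ ?_
    · intro x hx
      obtain ⟨i', hi'⟩ := Opens.mem_iSup.1 (c.V_cover (hle i hx))
      obtain ⟨W, hxW, hW⟩ := exists_basis hB (U := (V i : Opens X) ⊓ (c.V i' : Opens X)) ⟨hx, hi'⟩
      exact Opens.mem_iSup.2 ⟨⟨i', ⟨W, hW⟩⟩, hxW⟩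
    · rintro ⟨i', ⟨W, hW⟩⟩
      have e1 : F.res (hW.trans inf_le_left) (F.res (hle i) t) =
          F.res (hW.trans inf_le_right) (F.res (c.V_le i') t) := by
        rw [F.res_comp, F.res_comp]
      simp only
      rw [e1, ht i', F.res_comp]
      exact hs _ _ _ _ _
  obtain ⟨t, ht⟩ := hex
  refine ⟨t, ht, fun t' ht' => ?_⟩
  exact hsep U ι V hle hcov t' t (fun i => by rw [ht, ht'])

/-! ### Stalks -/

theorem stalkRel_equivalence (hB : Opens.IsBasis B) (F : Pre B) (x : X) :
    Equivalence (StalkRel F x) where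
  refl a := ⟨a.1.1, a.1.2, le_rfl, le_rfl, rfl⟩
  symm := by
    rintro a b ⟨W, hx, ha, hb, h⟩
    exact ⟨W, hx, hb, ha, h.symm⟩
  trans := by
    rintro a b c ⟨W₁, hx₁, ha, hb, h⟩ ⟨W₂, hx₂, hb', hc, h'⟩
    obtain ⟨W, hxW, hW⟩ := exists_basis hB (U := (W₁ : Opens X) ⊓ (W₂ : Opens X)) ⟨hx₁, hx₂⟩
    refine ⟨W, hxW, (hW.trans inf_le_left).trans ha, (hW.trans inf_le_right).trans hc, ?_⟩
    have e1 : F.res ((hW.trans inf_le_left).trans ha) a.2 =
        F.res (hW.trans inf_le_left) (F.res ha a.2) := by rw [F.res_comp]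
    have e2 : F.res ((hW.trans inf_le_right).trans hc) c.2 =
        F.res (hW.trans inf_le_right) (F.res hc c.2) := by rw [F.res_comp]
    rw [e1, e2, h, ← h', F.res_comp, F.res_comp]

theorem germ_eq_iff (hB : Opens.IsBasis B) (F : Pre B) {U U' : B} (x : X)
    (hx : x ∈ (U : Opens X)) (hx' : x ∈ (U' : Opens X)) (s : F.obj U) (s' : F.obj U') :
    germ F x hx s = germ F x hx' s' ↔
      ∃ (W : B) (_ : x ∈ (W : Opens X)) (h1 : (W : Opens X) ≤ (U : Opens X))
        (h2 : (W : Opens X) ≤ (U' : Opens X)), F.res h1 s = F.res h2 s' := by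
  constructor
  · intro h
    exact ((stalkRel_equivalence hB F x).eqvGen_iff).1 (Quot.eqvGen_exact h)
  · intro h
    exact Quot.sound h

theorem germ_res (F : Pre B) {U V : B} (x : X) (hx : x ∈ (V : Opens X))
    (h : (V : Opens X) ≤ (U : Opens X)) (s : F.obj U) :
    germ F x hx (F.res h s) = germ F x (h hx) s := by
  apply Quot.sound
  exact ⟨V, hx, le_rfl, h, by rw [F.res_id]⟩

theorem germ_surjective (F : Pre B) (x : X) (g : Stalk F x) :
    ∃ (U : B) (hx : x ∈ (U : Opens X)) (s : F.obj U), germ F x hx s = g := by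
  induction g using Quot.inductionOn with
  | h a => exact ⟨a.1.1, a.1.2, a.2, rfl⟩

/-- Sections of a sheaf on a basis are determined by their germs. -/
theorem germ_injective (hB : Opens.IsBasis B) {F : Pre B} (hF : IsSep F) (U : B)
    (s s' : F.obj U) (h : ∀ (x : X) (hx : x ∈ (U : Opens X)), germ F x hx s = germ F x hx s') :
    s = s' := by
  have h' : ∀ x : (U : Opens X), ∃ (W : B) (_ : x.1 ∈ (W : Opens X))
      (h1 : (W : Opens X) ≤ (U : Opens X)), F.res h1 s = F.res h1 s' := by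
    intro x
    obtain ⟨W, hxW, h1, h2, e⟩ := (germ_eq_iff hB F x.1 x.2 x.2 s s').1 (h x.1 x.2)
    exact ⟨W, hxW, h1, e⟩
  choose W hxW hle e using h'
  refine hF U (U : Opens X) W hle ?_ s s' e
  intro x hx
  exact Opens.mem_iSup.2 ⟨⟨x, hx⟩, hxW ⟨x, hx⟩⟩

/-- Germ families that locally come from sections glue. -/
theorem exists_of_locally_germ (hB : Opens.IsBasis B) {F : Pre B} (hF : Glues F) (U : B)
    (f : ∀ x : (U : Opens X), Stalk F x.1)
    (hf : ∀ x : (U : Opens X), ∃ (V : B) (_ : x.1 ∈ (V : Opens X))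
        (hVU : (V : Opens X) ≤ (U : Opens X)) (σ : F.obj V),
        ∀ (y : X) (hy : y ∈ (V : Opens X)), germ F y hy σ = f ⟨y, hVU hy⟩) :
    ∃ s : F.obj U, ∀ x, germ F x.1 x.2 s = f x := by
  choose V hxV hVU σ hσ using hf
  obtain ⟨t, ht, -⟩ := hF U (U : Opens X) V hVU (by
    intro x hx
    exact Opens.mem_iSup.2 ⟨⟨x, hx⟩, hxV ⟨x, hx⟩⟩) σ (by
    intro i j W h1 h2
    apply germ_injective hB (Glues.isSep hF)
    intro y hy
    rw [germ_res, germ_res, hσ, hσ])
  refine ⟨t, fun x => ?_⟩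
  rw [← hσ x x.1 (hxV x), ← ht x, germ_res]

end Groth.Agent.Lib.helper11.ShBasis
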