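import Groth.Agent.Lib.helper11.ShBasis
import Mathlib.Topology.Sheaves.LocalPredicate
import Mathlib.Topology.Sheaves.SheafCondition.Sites
import Mathlib.Tactic

/-!
# Sheaves on a basis: extension to a sheaf on the space (helper11)
-/

set_option autoImplicit false

namespace Groth.Agent.Lib.helper11.ShBasis

open TopologicalSpace Opposite CategoryTheory ShB

universe u

variable {X : Type u} [TopologicalSpace X] {B : Set (Opens X)}

/-- The local predicate: a family of germs locally comes from a section over a basis member. -/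
def extPred (hB : Opens.IsBasis B) (F : Pre B) :
    TopCat.LocalPredicate (X := TopCat.of X) (fun x => Stalk F x) where
  pred {U} f := ∀ x : U, ∃ (V : B) (_ : x.1 ∈ (V : Opens X)) (hVU : (V : Opens X) ≤ U)
    (σ : F.obj V), ∀ (y : X) (hy : y ∈ (V : Opens X)), germ F y hy σ = f ⟨y, hVU hy⟩
  res {U' U} i f hf := by
    intro x
    obtain ⟨V, hxV, hVU, σ, hσ⟩ := hf ⟨x.1, i.le x.2⟩
    obtain ⟨W, hxW, hW⟩ := exists_basis hB (U := (V : Opens X) ⊓ U') ⟨hxV, x.2⟩
    refine ⟨W, hxW, hW.trans inf_le_right, F.res (hW.trans inf_le_left) σ, ?_⟩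
    intro y hy
    rw [germ_res, hσ]
    rfl
  locality {U} f hf := by
    intro x
    obtain ⟨V', hxV', i, h⟩ := hf x
    obtain ⟨V, hxV, hVV', σ, hσ⟩ := h ⟨x.1, hxV'⟩
    exact ⟨V, hxV, hVV'.trans i.le, σ, fun y hy => hσ y hy⟩

/-- The extension of a presheaf on a basis to a sheaf on the space. -/
noncomputable def ext (hB : Opens.IsBasis B) (F : Pre B) : TopCat.Sheaf (Type u) (TopCat.of X) :=
  TopCat.subsheafToTypes (extPred hB F)

/-- The canonical map from `F` to the restriction of its extension. -/
noncomputable def toExt (hB : Opens.IsBasis B) (F : Pre B) :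
    Hom F (restrict B (ext hB F).presheaf) where
  app U s := ⟨fun x => germ F x.1 x.2 s, fun x => ⟨U, x.2, le_rfl, s, fun y hy => rfl⟩⟩
  natural {U V} h s := by
    apply Subtype.ext
    funext x
    exact (germ_res F x.1 x.2 h s).symm

theorem toExt_bijective (hB : Opens.IsBasis B) {F : Pre B} (hF : IsSheaf F) (U : B) :
    Function.Bijective ((toExt hB F).app U) := by
  have hG := glues_of_isSheaf hB hF
  constructor
  · intro s s' h
    apply germ_injective hB (Glues.isSep hG)
    intro x hx
    exact congrFun (congrArg Subtype.val h) ⟨x, hx⟩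
  · intro f
    obtain ⟨s, hs⟩ := exists_of_locally_germ hB hG U f.1 f.2
    exact ⟨s, Subtype.ext (funext hs)⟩

/-- A morphism of presheaves on a basis that is bijective on sections is an isomorphism. -/
noncomputable def isoOfBijective {F G : Pre B} (α : Hom F G)
    (h : ∀ U, Function.Bijective (α.app U)) : Iso F G where
  hom := α
  inv :=
    { app := fun U t => Classical.choose ((h U).2 t)
      natural := by
        intro U V hVU t
        apply (h V).1
        rw [Classical.choose_spec ((h V).2 _), ← α.natural, Classical.choose_spec ((h U).2 _)] }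
  hom_inv U s := (h U).1 (Classical.choose_spec ((h U).2 _))
  inv_hom U t := Classical.choose_spec ((h U).2 t)

/-- inverse isomorphism -/
def Iso.symm' {F G : Pre B} (e : Iso F G) : Iso G F where
  hom := e.inv
  inv := e.hom
  hom_inv := e.inv_hom
  inv_hom := e.hom_inv

theorem exists_ext (hB : Opens.IsBasis B) (F : Pre B) (hF : IsSheaf F) :
    ∃ G : TopCat.Sheaf (Type u) (TopCat.of X), Nonempty (Iso (restrict B G.presheaf) F) :=
  ⟨ext hB F, ⟨Iso.symm' (isoOfBijective (toExt hB F) (toExt_bijective hB hF))⟩⟩

/-! ### Uniqueness -/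

section Unique

/-- The indexing family of a basis. -/
abbrev bIdx (B : Set (Opens X)) : B → Opens (TopCat.of X) := Subtype.val

theorem range_bIdx (B : Set (Opens X)) : Set.range (bIdx B) = B := Subtype.range_coe

/-- composition of morphisms of presheaves on a basis -/
def homComp {F G H : Pre B} (α : Hom F G) (β : Hom G H) : Hom F H where
  app U s := β.app U (α.app U s)
  natural h s := by rw [β.natural, α.natural]

variable (G G' : TopCat.Sheaf (Type u) (TopCat.of X))

/-- The natural transformation on the basis induced by a morphism of restricted presheaves. -/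
def basisNat (α : Hom (restrict B G.presheaf) (restrict B G'.presheaf)) :
    (inducedFunctor (bIdx B)).op ⋙ G.presheaf ⟶ (inducedFunctor (bIdx B)).op ⋙ G'.presheaf where
  app i := ↾(fun s => α.app i.unop s)
  naturality i j f := by
    apply ConcreteCategory.hom_ext
    intro s
    exact (α.natural (f.unop.hom.le) s).symm

/-- The morphism of sheaves extending a morphism of the restrictions to a basis. -/
noncomputable def extendHom (hB : Opens.IsBasis B)
    (α : Hom (restrict B G.presheaf) (restrict B G'.presheaf)) : G ⟶ G' :=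
  ⟨TopCat.Sheaf.restrictHomEquivHom G.presheaf G' (by rw [range_bIdx]; exact hB)
    (basisNat G G' α)⟩

theorem extendHom_app (hB : Opens.IsBasis B)
    (α : Hom (restrict B G.presheaf) (restrict B G'.presheaf)) (U : B)
    (s : G.presheaf.obj (op (U : Opens X))) :
    (extendHom G G' hB α).1.app (op (U : Opens X)) s = α.app U s :=
  ConcreteCategory.congr_hom (TopCat.Sheaf.extend_hom_app G.presheaf G'
    (by rw [range_bIdx]; exact hB) (basisNat G G' α) U) s

theorem sheafHom_ext (hB : Opens.IsBasis B) {φ ψ : G ⟶ G'}
    (h : ∀ (U : B) (s : G.presheaf.obj (op (U : Opens X))),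
      φ.1.app (op (U : Opens X)) s = ψ.1.app (op (U : Opens X)) s) : φ = ψ := by
  apply Sheaf.hom_ext
  apply TopCat.Sheaf.hom_ext G.presheaf G' (B := bIdx B) (by rw [range_bIdx]; exact hB)
  intro i
  apply ConcreteCategory.hom_ext
  intro s
  exact h i s

theorem existsUnique_iso (hB : Opens.IsBasis B) {F : Pre B}
    (e : Iso (restrict B G.presheaf) F) (e' : Iso (restrict B G'.presheaf) F) :
    ∃! φ : G ⟶ G', IsIso φ ∧ ∀ (U : B) (s : G.presheaf.obj (op (U : Opens X))),
      e'.hom.app U (φ.1.app (op (U : Opens X)) s) = e.hom.app U s := by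
  refine ⟨extendHom G G' hB (homComp e.hom e'.inv), ⟨?_, ?_⟩, ?_⟩
  · refine ⟨extendHom G' G hB (homComp e'.hom e.inv), ?_, ?_⟩
    · apply sheafHom_ext G G hB
      intro U s
      change (extendHom G' G hB (homComp e'.hom e.inv)).1.app (op (U : Opens X))
        ((extendHom G G' hB (homComp e.hom e'.inv)).1.app (op (U : Opens X)) s) = s
      rw [extendHom_app, extendHom_app]
      change e.inv.app U (e'.hom.app U (e'.inv.app U (e.hom.app U s))) = s
      rw [e'.inv_hom, e.hom_inv]
    · apply sheafHom_ext G' G' hB
      intro U s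
      change (extendHom G G' hB (homComp e.hom e'.inv)).1.app (op (U : Opens X))
        ((extendHom G' G hB (homComp e'.hom e.inv)).1.app (op (U : Opens X)) s) = s
      rw [extendHom_app, extendHom_app]
      change e'.inv.app U (e.hom.app U (e.inv.app U (e'.hom.app U s))) = s
      rw [e.inv_hom, e'.hom_inv]
  · intro U s
    rw [extendHom_app]
    change e'.hom.app U (e'.inv.app U (e.hom.app U s)) = _
    rw [e'.inv_hom]
  · rintro φ' ⟨-, hφ'⟩
    apply sheafHom_ext G G' hB
    intro U s
    rw [extendHom_app]
    change _ = e'.inv.app U (e.hom.app U s)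
    rw [← hφ', e'.hom_inv]

end Unique

end Groth.Agent.Lib.helper11.ShBasis
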