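import Mathlib.Topology.Sheaves.Sheaf
import Mathlib.Topology.Sheaves.Limits
import Mathlib.Topology.Sheaves.Stalks
import Mathlib.Topology.Sheaves.Skyscraper
import Mathlib.Topology.Sheaves.SheafCondition.UniqueGluing
import Mathlib.CategoryTheory.Limits.Types.Colimits
import Mathlib.CategoryTheory.Limits.Types.Filtered
import Mathlib.CategoryTheory.Filtered.Basic
import Mathlib.Order.Directed
import Mathlib.Tactic

/-!
# Directed colimits of sheaves of sets and sections over quasi-compact opens (helper11)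
-/

set_option autoImplicit false

universe u

open CategoryTheory CategoryTheory.Limits TopologicalSpace Opposite TopCat

namespace Groth.Agent.Lib.helper11.SheafColim

variable {X : TopCat.{u}} {J : Type u} [Preorder J] [Nonempty J] [IsDirected J (· ≤ ·)]
  (F : J ⥤ X.Sheaf (Type u)) (c : Cocone F) (hc : IsColimit c)

/-- the stalk functor on sheaves -/
noncomputable abbrev St (x : X) : X.Sheaf (Type u) ⥤ Type u :=
  Sheaf.forget (Type u) X ⋙ Presheaf.stalkFunctor (Type u) x

include hc in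
/-- local equality -/
theorem local_eq {i : J} {V : Opens X} (s t : (F.obj i).1.obj (op V))
    (h : (c.ι.app i).1.app (op V) s = (c.ι.app i).1.app (op V) t) (x : X) (hx : x ∈ V) :
    ∃ (k : J) (f : i ⟶ k) (W : Opens X) (_ : x ∈ W) (hWV : W ≤ V),
      (F.obj k).1.map (homOfLE hWV).op ((F.map f).1.app (op V) s) =
      (F.obj k).1.map (homOfLE hWV).op ((F.map f).1.app (op V) t) := by
  have hcx : IsColimit ((St x).mapCocone c) := isColimitOfPreserves (St x) hc
  have e : ((St x).mapCocone c).ι.app i ((F.obj i).presheaf.germ V x hx s) =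
      ((St x).mapCocone c).ι.app i ((F.obj i).presheaf.germ V x hx t) := by
    change (Presheaf.stalkFunctor (Type u) x).map (c.ι.app i).1 ((F.obj i).presheaf.germ V x hx s) =
      (Presheaf.stalkFunctor (Type u) x).map (c.ι.app i).1 ((F.obj i).presheaf.germ V x hx t)
    rw [Presheaf.stalkFunctor_map_germ_apply, Presheaf.stalkFunctor_map_germ_apply, h]
  obtain ⟨k, f, hk⟩ := (Types.FilteredColimit.isColimit_eq_iff' hcx _ _).1 e
  change (Presheaf.stalkFunctor (Type u) x).map (F.map f).1 ((F.obj i).presheaf.germ V x hx s) =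
      (Presheaf.stalkFunctor (Type u) x).map (F.map f).1 ((F.obj i).presheaf.germ V x hx t) at hk
  rw [Presheaf.stalkFunctor_map_germ_apply, Presheaf.stalkFunctor_map_germ_apply] at hk
  obtain ⟨W, hxW, iU, iV, hW⟩ := Presheaf.germ_eq _ x hx hx _ _ hk
  exact ⟨k, f, W, hxW, iU.le, hW⟩

include hc in
/-- local lifting -/
theorem local_lift {V : Opens X} (s : c.pt.1.obj (op V)) (x : X) (hx : x ∈ V) :
    ∃ (k : J) (W : Opens X) (_ : x ∈ W) (hWV : W ≤ V) (t : (F.obj k).1.obj (op W)),
      (c.ι.app k).1.app (op W) t = c.pt.1.map (homOfLE hWV).op s := by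
  have hcx : IsColimit ((St x).mapCocone c) := isColimitOfPreserves (St x) hc
  obtain ⟨k, y, hy⟩ := Types.jointly_surjective_of_isColimit hcx (c.pt.presheaf.germ V x hx s)
  obtain ⟨U, hUV, hxU, t', rfl⟩ := Presheaf.exists_le_germ_eq (F.obj k).1 y hx
  change (Presheaf.stalkFunctor (Type u) x).map (c.ι.app k).1 ((F.obj k).presheaf.germ U x hxU t') =
      c.pt.presheaf.germ V x hx s at hy
  rw [Presheaf.stalkFunctor_map_germ_apply] at hy
  obtain ⟨W, hxW, iU, iV, hW⟩ := Presheaf.germ_eq _ x hxU hx _ _ hy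
  refine ⟨k, W, hxW, iV.le, (F.obj k).1.map iU.op t', ?_⟩
  have nat := ConcreteCategory.congr_hom ((c.ι.app k).1.naturality iU.op) t'
  exact nat.trans hW

theorem res_res (P : (Opens X)ᵒᵖ ⥤ Type u) {V W W' : Opens X} (h1 : W ≤ V) (h2 : W' ≤ W)
    (r : P.obj (op V)) :
    P.map (homOfLE h2).op (P.map (homOfLE h1).op r) = P.map (homOfLE (h2.trans h1)).op r := by
  rw [← ConcreteCategory.comp_apply, ← Functor.map_comp]
  rfl

/-- restriction commutes with transition maps -/
theorem map_res {i k : J} (f : i ⟶ k) {V W : Opens X} (h : W ≤ V) (s : (F.obj i).1.obj (op V)) :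
    (F.obj k).1.map (homOfLE h).op ((F.map f).1.app (op V) s) =
      (F.map f).1.app (op W) ((F.obj i).1.map (homOfLE h).op s) :=
  (ConcreteCategory.congr_hom ((F.map f).1.naturality (homOfLE h).op) s).symm

/-- restriction commutes with the cocone maps -/
theorem ι_res (i : J) {V W : Opens X} (h : W ≤ V) (s : (F.obj i).1.obj (op V)) :
    c.pt.1.map (homOfLE h).op ((c.ι.app i).1.app (op V) s) =
      (c.ι.app i).1.app (op W) ((F.obj i).1.map (homOfLE h).op s) :=
  (ConcreteCategory.congr_hom ((c.ι.app i).1.naturality (homOfLE h).op) s).symm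

theorem ι_map {i k : J} (f : i ⟶ k) (V : Opens X) (s : (F.obj i).1.obj (op V)) :
    (c.ι.app k).1.app (op V) ((F.map f).1.app (op V) s) = (c.ι.app i).1.app (op V) s :=
  ConcreteCategory.congr_hom
    (congrArg (fun φ : F.obj i ⟶ c.pt => φ.1.app (op V)) (c.w f)) s

theorem map_map {i k l : J} (f : i ⟶ k) (g : k ⟶ l) (V : Opens X) (s : (F.obj i).1.obj (op V)) :
    (F.map g).1.app (op V) ((F.map f).1.app (op V) s) = (F.map (f ≫ g)).1.app (op V) s :=
  (ConcreteCategory.congr_hom
    (congrArg (fun φ : F.obj i ⟶ F.obj l => φ.1.app (op V)) (F.map_comp f g)) s).symm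

include hc in
/-- with injective transition maps, the cocone maps are injective on sections -/
theorem ι_injective
    (hinj : ∀ (i j : J) (h : i ⟶ j) (V : Opens X), Function.Injective ((F.map h).1.app (op V)))
    (i : J) (V : Opens X) : Function.Injective ((c.ι.app i).1.app (op V)) := by
  intro s t h
  apply Presheaf.section_ext (F.obj i) V s t
  intro x hx
  obtain ⟨k, f, W, hxW, hWV, e⟩ := local_eq F c hc s t h x hx
  rw [map_res, map_res] at e
  have := hinj i k f W e
  exact Presheaf.germ_ext _ W hxW (homOfLE hWV) (homOfLE hWV) this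

/-- sections which agree at finite stages on the members of a finite cover agree at a finite
stage -/
theorem eq_of_finite_cover {i : J} {V : Opens X} {ι : Type u} [Finite ι] (W : ι → Opens X)
    (hWV : ∀ j, W j ≤ V) (hcov : V ≤ iSup W) (s t : (F.obj i).1.obj (op V))
    (k : ι → J) (f : ∀ j, i ⟶ k j)
    (e : ∀ j, (F.obj (k j)).1.map (homOfLE (hWV j)).op ((F.map (f j)).1.app (op V) s) =
      (F.obj (k j)).1.map (homOfLE (hWV j)).op ((F.map (f j)).1.app (op V) t)) :
    ∃ (k : J) (f : i ⟶ k), (F.map f).1.app (op V) s = (F.map f).1.app (op V) t := by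
  classical
  cases nonempty_fintype ι
  obtain ⟨M, hM⟩ := Finset.exists_le (insert i (Finset.univ.image k))
  have hiM : i ≤ M := hM i (Finset.mem_insert_self _ _)
  refine ⟨M, homOfLE hiM, ?_⟩
  apply (F.obj M).eq_of_locally_eq' W V (fun j => homOfLE (hWV j)) hcov
  intro j
  have hkM : k j ≤ M :=
    hM _ (Finset.mem_insert_of_mem (Finset.mem_image_of_mem _ (Finset.mem_univ j)))
  have hcomp : homOfLE hiM = f j ≫ homOfLE hkM := Subsingleton.elim _ _
  have key : ∀ r : (F.obj i).1.obj (op V),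
      (F.obj M).1.map (homOfLE (hWV j)).op ((F.map (homOfLE hiM)).1.app (op V) r) =
      (F.map (homOfLE hkM)).1.app (op (W j))
        ((F.obj (k j)).1.map (homOfLE (hWV j)).op ((F.map (f j)).1.app (op V) r)) := by
    intro r
    rw [hcomp, ← map_map, map_res]
  change (F.obj M).1.map (homOfLE (hWV j)).op ((F.map (homOfLE hiM)).1.app (op V) s) =
      (F.obj M).1.map (homOfLE (hWV j)).op ((F.map (homOfLE hiM)).1.app (op V) t)
  rw [key s, key t, e j]

include hc in
/-- over a quasi-compact open, sections identified in the colimit are identified at a finite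
stage -/
theorem eq_of_isCompact {i : J} {V : Opens X} (hV : IsCompact (V : Set X))
    (s t : (F.obj i).1.obj (op V))
    (h : (c.ι.app i).1.app (op V) s = (c.ι.app i).1.app (op V) t) :
    ∃ (k : J) (f : i ⟶ k), (F.map f).1.app (op V) s = (F.map f).1.app (op V) t := by
  have loc := fun (x : V) => local_eq F c hc s t h x.1 x.2
  choose k f W hxW hWV e using loc
  obtain ⟨T, hT⟩ := hV.elim_nhds_subcover' (fun x hx => (W ⟨x, hx⟩ : Set X))
    (fun x hx => (W ⟨x, hx⟩).isOpen.mem_nhds (hxW ⟨x, hx⟩))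
  refine eq_of_finite_cover F (fun x : {x // x ∈ T} => W x.1) (fun x => hWV x.1) ?_ s t
    (fun x => k x.1) (fun x => f x.1) (fun x => e x.1)
  intro y hy
  obtain ⟨x, hxT, hyx⟩ := Set.mem_iUnion₂.1 (hT hy)
  exact Opens.mem_iSup.2 ⟨⟨x, hxT⟩, hyx⟩

include hc in
/-- gluing local lifts along a finite cover -/
theorem exists_lift_of_cover {ι : Type u} [Finite ι] (W : ι → Opens X) {V : Opens X}
    (hWV : ∀ j, W j ≤ V) (hcov : V ≤ iSup W)
    (Hpair : ∀ (j j' : ι) (i : J) (a b : (F.obj i).1.obj (op (W j ⊓ W j'))),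
      (c.ι.app i).1.app _ a = (c.ι.app i).1.app _ b →
      ∃ (k : J) (f : i ⟶ k), (F.map f).1.app _ a = (F.map f).1.app _ b)
    (s : c.pt.1.obj (op V)) (k : ι → J) (t : ∀ j, (F.obj (k j)).1.obj (op (W j)))
    (ht : ∀ j, (c.ι.app (k j)).1.app (op (W j)) (t j) = c.pt.1.map (homOfLE (hWV j)).op s) :
    ∃ (M : J) (t' : (F.obj M).1.obj (op V)), (c.ι.app M).1.app (op V) t' = s := by
  classical
  cases nonempty_fintype ι
  obtain ⟨M₀, hM₀⟩ := Finset.exists_le (Finset.univ.image k)
  have hk0 : ∀ j, k j ≤ M₀ := fun j => hM₀ _ (Finset.mem_image_of_mem _ (Finset.mem_univ j))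
  -- sections at stage `M₀`
  obtain ⟨t0, ht0d⟩ : ∃ t0 : ∀ j, (F.obj M₀).1.obj (op (W j)),
      ∀ j, t0 j = (F.map (homOfLE (hk0 j))).1.app _ (t j) := ⟨_, fun j => rfl⟩
  have ht0 : ∀ j, (c.ι.app M₀).1.app (op (W j)) (t0 j) = c.pt.1.map (homOfLE (hWV j)).op s := by
    intro j
    rw [ht0d, ι_map]
    exact ht j
  have hpair : ∀ j j' : ι, ∃ (k' : J) (f : M₀ ⟶ k'),
      (F.map f).1.app _ ((F.obj M₀).1.map (homOfLE (inf_le_left : W j ⊓ W j' ≤ W j)).op (t0 j)) =
      (F.map f).1.app _ ((F.obj M₀).1.map (homOfLE (inf_le_right : W j ⊓ W j' ≤ W j')).op (t0 j')) := by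
    intro j j'
    apply Hpair j j' M₀
    rw [← ι_res, ← ι_res, ht0, ht0, ← ConcreteCategory.comp_apply, ← ConcreteCategory.comp_apply,
      ← Functor.map_comp, ← Functor.map_comp]
    rfl
  choose k2 f2 e2 using hpair
  obtain ⟨M, hM⟩ := Finset.exists_le (insert M₀ (Finset.univ.image (fun p : ι × ι => k2 p.1 p.2)))
  have h0M : M₀ ≤ M := hM _ (Finset.mem_insert_self _ _)
  have h2M : ∀ j j', k2 j j' ≤ M := fun j j' =>
    hM _ (Finset.mem_insert_of_mem (Finset.mem_image_of_mem (fun p : ι × ι => k2 p.1 p.2)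
      (Finset.mem_univ (j, j'))))
  obtain ⟨t1, ht1d⟩ : ∃ t1 : ∀ j, (F.obj M).1.obj (op (W j)),
      ∀ j, t1 j = (F.map (homOfLE h0M)).1.app _ (t0 j) := ⟨_, fun j => rfl⟩
  have hcompat : Presheaf.IsCompatible (F.obj M).1 W t1 := by
    intro j j'
    have hcomp : homOfLE h0M = f2 j j' ≫ homOfLE (h2M j j') := Subsingleton.elim _ _
    have key : ∀ r : (F.obj M₀).1.obj (op (W j ⊓ W j')),
        (F.map (homOfLE h0M)).1.app _ r =
          (F.map (homOfLE (h2M j j'))).1.app _ ((F.map (f2 j j')).1.app _ r) := by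
      intro r
      rw [hcomp, ← map_map]
    change (F.obj M).1.map (homOfLE (inf_le_left : W j ⊓ W j' ≤ W j)).op (t1 j) =
      (F.obj M).1.map (homOfLE (inf_le_right : W j ⊓ W j' ≤ W j')).op (t1 j')
    rw [ht1d, ht1d, map_res, map_res, key, key, e2 j j']
  obtain ⟨t', ht', -⟩ := (F.obj M).existsUnique_gluing' W V (fun j => homOfLE (hWV j)) hcov t1 hcompat
  refine ⟨M, t', ?_⟩
  apply c.pt.eq_of_locally_eq' W V (fun j => homOfLE (hWV j)) hcov
  intro j
  rw [ι_res, ht' j, ht1d, ι_map, ht0]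

section Psi

variable (U : Opens X)

/-- evaluation at `U` -/
noncomputable abbrev ev : X.Sheaf (Type u) ⥤ Type u :=
  TopCat.Sheaf.forget (Type u) X ⋙ (evaluation (Opens X)ᵒᵖ (Type u)).obj (op U)

/-- the comparison map -/
noncomputable abbrev Psi : colimit (F ⋙ ev U) ⟶ (ev U).obj c.pt :=
  colimit.desc (F ⋙ ev U) ((ev U).mapCocone c)

theorem Psi_ι (i : J) (s : (F.obj i).1.obj (op U)) :
    Psi F c U (colimit.ι (F ⋙ ev U) i s) = (c.ι.app i).1.app (op U) s :=
  ConcreteCategory.congr_hom (colimit.ι_desc ((ev U).mapCocone c) i) s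

theorem ι_eq (i k : J) (f : i ⟶ k) (s : (F.obj i).1.obj (op U)) :
    colimit.ι (F ⋙ ev U) k ((F.map f).1.app (op U) s) = colimit.ι (F ⋙ ev U) i s :=
  ConcreteCategory.congr_hom (colimit.w (F ⋙ ev U) f) s

theorem Psi_injective
    (H : ∀ (i : J) (s t : (F.obj i).1.obj (op U)),
      (c.ι.app i).1.app (op U) s = (c.ι.app i).1.app (op U) t →
      ∃ (k : J) (f : i ⟶ k), (F.map f).1.app (op U) s = (F.map f).1.app (op U) t) :
    Function.Injective (Psi F c U) := by
  intro a b hab
  obtain ⟨i, s, rfl⟩ := Types.jointly_surjective' a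
  obtain ⟨j, t, rfl⟩ := Types.jointly_surjective' b
  obtain ⟨k, hik, hjk⟩ := exists_ge_ge i j
  rw [← ι_eq F U i k (homOfLE hik) s, ← ι_eq F U j k (homOfLE hjk) t] at hab ⊢
  rw [Psi_ι, Psi_ι] at hab
  obtain ⟨l, f, hl⟩ := H k _ _ hab
  rw [← ι_eq F U k l f, ← ι_eq F U k l f, hl]

theorem Psi_surjective
    (H : ∀ s : c.pt.1.obj (op U), ∃ (k : J) (t : (F.obj k).1.obj (op U)),
      (c.ι.app k).1.app (op U) t = s) :
    Function.Surjective (Psi F c U) := by
  intro s
  obtain ⟨k, t, h⟩ := H s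
  exact ⟨colimit.ι (F ⋙ ev U) k t, by rw [Psi_ι, h]⟩

include hc

theorem part1
    (hinj : ∀ (i j : J) (h : i ⟶ j) (V : Opens X), Function.Injective ((F.map h).1.app (op V))) :
    Function.Injective (Psi F c U) := by
  apply Psi_injective
  intro i s t h
  exact ⟨i, 𝟙 i, by rw [ι_injective F c hc hinj i U h]⟩

theorem part2 (hU : IsCompact (U : Set X)) : Function.Injective (Psi F c U) := by
  apply Psi_injective
  intro i s t h
  exact eq_of_isCompact F c hc hU s t h

theorem part3 (hU : IsCompact (U : Set X))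
    (hinj : ∀ (i j : J) (h : i ⟶ j) (V : Opens X), Function.Injective ((F.map h).1.app (op V))) :
    Function.Bijective (Psi F c U) := by
  refine ⟨part2 F c hc U hU, ?_⟩
  apply Psi_surjective
  intro s
  have loc := fun (x : U) => local_lift F c hc s x.1 x.2
  choose k W hxW hWU t ht using loc
  obtain ⟨T, hT⟩ := hU.elim_nhds_subcover' (fun x hx => (W ⟨x, hx⟩ : Set X))
    (fun x hx => (W ⟨x, hx⟩).isOpen.mem_nhds (hxW ⟨x, hx⟩))
  refine exists_lift_of_cover F c hc (fun x : {x // x ∈ T} => W x.1) (fun x => hWU x.1) ?_ ?_ s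
    (fun x => k x.1) (fun x => t x.1) (fun x => ht x.1)
  · intro y hy
    obtain ⟨x, hxT, hyx⟩ := Set.mem_iUnion₂.1 (hT hy)
    exact Opens.mem_iSup.2 ⟨⟨x, hxT⟩, hyx⟩
  · intro j j' i a b hab
    exact ⟨i, 𝟙 i, by rw [ι_injective F c hc hinj i _ hab]⟩

theorem part4
    (hyp : ∀ 𝒱 : Set (Opens X), (⨆ V ∈ 𝒱, V) = U →
        ∃ (m : ℕ) (W : Fin m → Opens X), (∀ j, ∃ V ∈ 𝒱, W j ≤ V) ∧ (⨆ j, W j) = U ∧
          ∀ j j', IsCompact ((W j ⊓ W j' : Opens X) : Set X)) :
    Function.Bijective (Psi F c U) := by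
  constructor
  · apply Psi_injective
    intro i s t h
    have loc := fun (x : U) => local_eq F c hc s t h x.1 x.2
    choose k f W hxW hWU e using loc
    obtain ⟨m, W', href, hsup, -⟩ := hyp (Set.range W) (by
      apply le_antisymm
      · exact iSup₂_le (fun V hV => by obtain ⟨x, rfl⟩ := hV; exact hWU x)
      · intro y hy
        exact Opens.mem_iSup.2 ⟨W ⟨y, hy⟩, Opens.mem_iSup.2 ⟨⟨_, rfl⟩, hxW ⟨y, hy⟩⟩⟩)
    have href' : ∀ j, ∃ x : U, W' j ≤ W x := by
      intro j
      obtain ⟨V, ⟨x, rfl⟩, hx⟩ := href j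
      exact ⟨x, hx⟩
    choose x hx using href'
    have hW'U : ∀ j, W' j ≤ U := fun j => (hx j).trans (hWU (x j))
    refine eq_of_finite_cover F (fun j : ULift.{u} (Fin m) => W' j.down) (fun j => hW'U j.down) ?_
      s t (fun j => k (x j.down)) (fun j => f (x j.down)) ?_
    · rw [← hsup]
      exact iSup_le (fun j => le_iSup (fun j : ULift.{u} (Fin m) => W' j.down) ⟨j⟩)
    · intro j
      have := congrArg ((F.obj (k (x j.down))).1.map (homOfLE (hx j.down)).op) (e (x j.down))
      rw [res_res, res_res] at this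
      exact this
  · apply Psi_surjective
    intro s
    have loc := fun (x : U) => local_lift F c hc s x.1 x.2
    choose k W hxW hWU t ht using loc
    obtain ⟨m, W', href, hsup, hcpt⟩ := hyp (Set.range W) (by
      apply le_antisymm
      · exact iSup₂_le (fun V hV => by obtain ⟨x, rfl⟩ := hV; exact hWU x)
      · intro y hy
        exact Opens.mem_iSup.2 ⟨W ⟨y, hy⟩, Opens.mem_iSup.2 ⟨⟨_, rfl⟩, hxW ⟨y, hy⟩⟩⟩)
    have href' : ∀ j, ∃ x : U, W' j ≤ W x := by
      intro j
      obtain ⟨V, ⟨x, rfl⟩, hx⟩ := href j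
      exact ⟨x, hx⟩
    choose x hx using href'
    have hW'U : ∀ j, W' j ≤ U := fun j => (hx j).trans (hWU (x j))
    refine exists_lift_of_cover F c hc (fun j : ULift.{u} (Fin m) => W' j.down)
      (fun j => hW'U j.down) ?_ ?_ s (fun j => k (x j.down))
      (fun j => (F.obj (k (x j.down))).1.map (homOfLE (hx j.down)).op (t (x j.down))) ?_
    · rw [← hsup]
      exact iSup_le (fun j => le_iSup (fun j : ULift.{u} (Fin m) => W' j.down) ⟨j⟩)
    · intro j j' i a b hab
      exact eq_of_isCompact F c hc (hcpt j.down j'.down) a b hab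
    · intro j
      rw [← ι_res, ht (x j.down), res_res]

end Psi

end Groth.Agent.Lib.helper11.SheafColim
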