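import Mathlib.Topology.Spectral.Basic
import Mathlib.Topology.Sober
import Mathlib.Topology.QuasiSeparated
import Mathlib.Topology.Order
import Mathlib.Topology.Separation.Basic

/-!
Powers of the Sierpiński space are spectral.
-/

set_option autoImplicit false
universe u

namespace Groth.Agent.Lib.helper11.Sierp

open Topology Set TopologicalSpace

variable {I : Type u}

/-- basic open: all coordinates in `F` are true -/
def box (F : Finset I) : Set (I → Prop) := {u | ∀ i ∈ F, u i}

theorem box_union [DecidableEq I] (F G : Finset I) : box F ∩ box G = box (F ∪ G) := by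
  ext u
  simp only [box, mem_inter_iff, mem_ofPred_eq, Finset.mem_union]
  constructor
  · rintro ⟨h1, h2⟩ i (hi | hi)
    · exact h1 i hi
    · exact h2 i hi
  · intro h
    exact ⟨fun i hi => h i (Or.inl hi), fun i hi => h i (Or.inr hi)⟩

theorem isOpen_box (F : Finset I) : IsOpen (box F) := by
  have : box F = ⋂ i ∈ F, {u : I → Prop | u i} := by
    ext u; simp [box]
  rw [this]
  exact isOpen_biInter_finset fun i _ => continuous_Prop.mp (continuous_apply i)

theorem eq_univ_of_isOpen_of_false_mem {s : Set Prop} (hs : IsOpen s) (h : False ∈ s) :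
    s = univ := by
  have : s ∈ 𝓝 False := hs.mem_nhds h
  rw [nhds_false] at this
  exact Filter.mem_top.mp this

/-- every open neighbourhood of `f` contains the box at `f`'s true coordinates -/
theorem exists_box_subset {O : Set (I → Prop)} (hO : IsOpen O) {f : I → Prop} (hf : f ∈ O) :
    ∃ F : Finset I, (∀ i ∈ F, f i) ∧ box F ⊆ O := by
  classical
  obtain ⟨K, u, hu, hsub⟩ := isOpen_pi_iff.mp hO f hf
  refine ⟨K.filter fun a => f a, fun i hi => (Finset.mem_filter.mp hi).2, ?_⟩
  intro v hv
  apply hsub
  intro a ha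
  by_cases hfa : f a
  · have h1 : f a = True := eq_true hfa
    have h2 : v a = True := eq_true (hv a (Finset.mem_filter.mpr ⟨ha, hfa⟩))
    rw [h2, ← h1]
    exact (hu a ha).2
  · have h1 : f a = False := eq_false hfa
    have := (hu a ha).2
    rw [h1] at this
    rw [eq_univ_of_isOpen_of_false_mem (hu a ha).1 this]
    trivial

theorem isTopologicalBasis_box : IsTopologicalBasis (range (box : Finset I → Set (I → Prop))) := by
  refine isTopologicalBasis_of_isOpen_of_nhds ?_ ?_
  · rintro _ ⟨F, rfl⟩
    exact isOpen_box F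
  · intro f O hf hO
    obtain ⟨F, hF, hsub⟩ := exists_box_subset hO hf
    exact ⟨box F, ⟨F, rfl⟩, hF, hsub⟩

theorem isCompact_box (F : Finset I) : IsCompact (box F) := by
  classical
  rw [isCompact_iff_finite_subcover]
  intro ι U hU hcov
  have hχ : (fun i => i ∈ F) ∈ box F := fun i hi => hi
  obtain ⟨k, hk⟩ := mem_iUnion.mp (hcov hχ)
  obtain ⟨G, hG, hsub⟩ := exists_box_subset (hU k) hk
  refine ⟨{k}, ?_⟩
  intro v hv
  simp only [Finset.mem_singleton, iUnion_iUnion_eq_left]
  apply hsub
  intro i hi
  exact hv i (hG i hi)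

theorem prespectralSpace_pi : PrespectralSpace (I → Prop) :=
  PrespectralSpace.of_isTopologicalBasis' isTopologicalBasis_box isCompact_box

theorem quasiSeparatedSpace_pi : QuasiSeparatedSpace (I → Prop) := by
  classical
  refine QuasiSeparatedSpace.of_isTopologicalBasis isTopologicalBasis_box fun F G => ?_
  rw [box_union]
  exact isCompact_box _

theorem quasiSober_pi : QuasiSober (I → Prop) := by
  classical
  refine ⟨fun {S} hirr hcl => ?_⟩
  let ξ : I → Prop := fun i => ∃ s ∈ S, s i
  refine ⟨ξ, ?_⟩
  have hξS : ξ ∈ S := by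
    rw [← hcl.closure_eq, isTopologicalBasis_box.mem_closure_iff]
    rintro _ ⟨F, rfl⟩ hξF
    have := (isIrreducible_iff_sInter.mp hirr) (F.image fun i => {u : I → Prop | u i})
      (by
        intro u hu
        obtain ⟨i, -, rfl⟩ := Finset.mem_image.mp hu
        exact continuous_Prop.mp (continuous_apply i))
      (by
        intro u hu
        obtain ⟨i, hi, rfl⟩ := Finset.mem_image.mp hu
        obtain ⟨s, hs, hsi⟩ := hξF i hi
        exact ⟨s, hs, hsi⟩)
    obtain ⟨s, hsS, hs⟩ := this
    refine ⟨s, ?_, hsS⟩
    intro i hi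
    have := mem_sInter.mp hs {u : I → Prop | u i} (by
      simp only [Finset.coe_image, mem_image, Finset.mem_coe]
      exact ⟨i, hi, rfl⟩)
    exact this
  rw [isGenericPoint_def]
  apply Subset.antisymm
  · exact closure_minimal (singleton_subset_iff.mpr hξS) hcl
  · intro s hs
    rw [isTopologicalBasis_box.mem_closure_iff]
    rintro _ ⟨F, rfl⟩ hsF
    exact ⟨ξ, fun i hi => ⟨s, hs, hsF i hi⟩, rfl⟩

theorem t0Space_Prop : T0Space Prop := by
  rw [t0Space_iff_exists_isOpen_xor'_mem]
  intro p q hpq
  refine ⟨{True}, isOpen_singleton_true, ?_⟩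
  by_cases hp : p
  · have hq : ¬ q := fun hq => hpq (propext ⟨fun _ => hq, fun _ => hp⟩)
    left
    exact ⟨eq_true hp, fun h => hq (by rw [mem_singleton_iff] at h; rw [h]; trivial)⟩
  · have hq : q := by
      by_contra hq
      exact hpq (propext ⟨fun h => absurd h hp, fun h => absurd h hq⟩)
    right
    exact ⟨eq_true hq, fun h => hp (by rw [mem_singleton_iff] at h; rw [h]; trivial)⟩

theorem spectralSpace_pi : SpectralSpace (I → Prop) :=
  have := t0Space_Prop
  { toT0Space := inferInstance, toCompactSpace := inferInstance, toQuasiSober := quasiSober_pi,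
    toQuasiSeparatedSpace := quasiSeparatedSpace_pi, toPrespectralSpace := prespectralSpace_pi }

end Groth.Agent.Lib.helper11.Sierp
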