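import Mathlib.Topology.LocallyClosed
import Mathlib.Topology.Constructible
import Mathlib.Data.Fintype.Powerset
import Mathlib.Data.Fintype.Sum
import Mathlib.Data.Fintype.Sigma
import Mathlib.Order.OrderDual

/-!
The "signature" stratification attached to a finite family of closed sets.
-/

set_option autoImplicit false
universe u

namespace Groth.Agent.Lib.helper11

open Topology

variable {X : Type u} [TopologicalSpace X] {ι : Type} [Fintype ι]

/-- The stratum of points whose signature with respect to the family `C` is exactly `A`. -/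
def sigStratum (C : ι → Set X) (A : (Finset ι)ᵒᵈ) : Set X :=
  {x | ∀ a, a ∈ OrderDual.ofDual A ↔ x ∈ C a}

theorem sigStratum_eq (C : ι → Set X) (A : (Finset ι)ᵒᵈ) :
    sigStratum C A = (⋂ a ∈ OrderDual.ofDual A, C a) ∩
      (⋂ a : ι, {x | x ∈ C a → a ∈ OrderDual.ofDual A}) := by
  ext x
  simp only [sigStratum, Set.mem_ofPred_eq, Set.mem_inter_iff, Set.mem_iInter]
  constructor
  · intro h
    exact ⟨fun a ha => (h a).mp ha, fun a hx => (h a).mpr hx⟩
  · rintro ⟨h1, h2⟩ a
    exact ⟨h1 a, h2 a⟩

theorem sigStratum_isLocallyClosed (C : ι → Set X) (hC : ∀ a, IsClosed (C a)) (A : (Finset ι)ᵒᵈ) :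
    IsLocallyClosed (sigStratum C A) := by
  classical
  rw [sigStratum_eq]
  refine IsLocallyClosed.inter (IsClosed.isLocallyClosed ?_) (IsOpen.isLocallyClosed ?_)
  · exact isClosed_biInter fun a _ => hC a
  · refine isOpen_iInter_of_finite fun a => ?_
    by_cases ha : a ∈ OrderDual.ofDual A
    · simp [ha]
    · have : {x | x ∈ C a → a ∈ OrderDual.ofDual A} = (C a)ᶜ := by
        ext x; simp [ha]
      rw [this]
      exact (hC a).isOpen_compl

theorem sigStratum_cover (C : ι → Set X) : ⋃ A, sigStratum C A = Set.univ := by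
  classical
  rw [Set.eq_univ_iff_forall]
  intro x
  refine Set.mem_iUnion.mpr ⟨OrderDual.toDual (Finset.univ.filter fun a => x ∈ C a), ?_⟩
  intro a
  simp

theorem sigStratum_disjoint (C : ι → Set X) (A B : (Finset ι)ᵒᵈ) (h : A ≠ B) :
    Disjoint (sigStratum C A) (sigStratum C B) := by
  rw [Set.disjoint_left]
  intro x hxA hxB
  apply h
  apply OrderDual.ofDual.injective
  ext a
  rw [hxA a, hxB a]

theorem sigStratum_closure (C : ι → Set X) (hC : ∀ a, IsClosed (C a)) (B : (Finset ι)ᵒᵈ) :
    closure (sigStratum C B) ⊆ ⋃ A ∈ Set.Iic B, sigStratum C A := by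
  classical
  have h1 : closure (sigStratum C B) ⊆ ⋂ a ∈ OrderDual.ofDual B, C a := by
    refine closure_minimal ?_ (isClosed_biInter fun a _ => hC a)
    intro x hx
    simp only [Set.mem_iInter]
    exact fun a ha => (hx a).mp ha
  intro x hx
  have hx' := h1 hx
  simp only [Set.mem_iInter] at hx'
  refine Set.mem_biUnion (x := OrderDual.toDual (Finset.univ.filter fun a => x ∈ C a)) ?_ ?_
  · change OrderDual.ofDual B ≤ Finset.univ.filter fun a => x ∈ C a
    intro a ha
    simp [hx' a ha]
  · intro a
    simp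

/-- If membership in `T` only depends on the signature, then `T` is a union of strata. -/
theorem sigStratum_subset_of_nonempty (C : ι → Set X) (T : Set X)
    (hT : ∀ x y, (∀ a, x ∈ C a ↔ y ∈ C a) → (x ∈ T → y ∈ T)) (A : (Finset ι)ᵒᵈ)
    (hne : (sigStratum C A ∩ T).Nonempty) : sigStratum C A ⊆ T := by
  obtain ⟨x, hxA, hxT⟩ := hne
  intro y hy
  refine hT x y (fun a => ?_) hxT
  rw [← hxA a, ← hy a]

theorem sigStratum_isConstructible (C : ι → Set X) (hC : ∀ a, IsConstructible (C a))
    (A : (Finset ι)ᵒᵈ) : IsConstructible (sigStratum C A) := by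
  classical
  rw [sigStratum_eq]
  refine IsConstructible.inter ?_ ?_
  · exact IsConstructible.biInter (Finset.finite_toSet _) fun a _ => hC a
  · refine IsConstructible.iInter fun a => ?_
    by_cases ha : a ∈ OrderDual.ofDual A
    · simp [ha]
    · have : {x | x ∈ C a → a ∈ OrderDual.ofDual A} = (C a)ᶜ := by
        ext x; simp [ha]
      rw [this]
      exact (hC a).compl

/-- Membership in a constructible set is determined by the signature with respect to a finite
family of retrocompact opens. -/
theorem exists_family_of_isConstructible {T : Set X} (hT : IsConstructible T) :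
    ∃ (κ : Type) (_ : Fintype κ) (U : κ → Set X), (∀ a, IsOpen (U a) ∧ IsRetrocompact (U a)) ∧
      ∀ x y, (∀ a, x ∈ U a ↔ y ∈ U a) → (x ∈ T ↔ y ∈ T) := by
  induction hT using IsConstructible.empty_union_induction with
  | open_retrocompact U hUopen hUcomp =>
    exact ⟨Unit, inferInstance, fun _ => U, fun _ => ⟨hUopen, hUcomp⟩, fun x y h => h ()⟩
  | union s hs t ht hs' ht' =>
    obtain ⟨κ₁, _, U₁, hU₁, h₁⟩ := hs'
    obtain ⟨κ₂, _, U₂, hU₂, h₂⟩ := ht'
    refine ⟨κ₁ ⊕ κ₂, inferInstance, Sum.elim U₁ U₂, ?_, ?_⟩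
    · rintro (a | a)
      · exact hU₁ a
      · exact hU₂ a
    · intro x y h
      have e₁ := h₁ x y fun a => h (Sum.inl a)
      have e₂ := h₂ x y fun a => h (Sum.inr a)
      simp only [Set.mem_union, e₁, e₂]
  | compl s hs hs' =>
    obtain ⟨κ, _, U, hU, h⟩ := hs'
    refine ⟨κ, inferInstance, U, hU, fun x y hxy => ?_⟩
    simp only [Set.mem_compl_iff, h x y hxy]

end Groth.Agent.Lib.helper11
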