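import Groth.Prelude.Def_W4stktopologysheavesDim
import Mathlib.Topology.Sober

/-!
The soberification `PtTop.Sob X`.
-/

set_option autoImplicit false
universe u

namespace Groth.Agent.Lib.helper11.SobLib

open Topology Set TopologicalSpace PtTop

variable {X : Type u} [TopologicalSpace X]

/-- the underlying irreducible closed subset of a point of the soberification -/
def ic (Z : Sob X) : IrreducibleCloseds X := Z

/-- the underlying set of a point of the soberification -/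
def cs (Z : Sob X) : Set X := ((ic Z : IrreducibleCloseds X) : Set X)

theorem cs_injective : Function.Injective (cs : Sob X → Set X) := by
  intro Z Z' h
  exact (SetLike.coe_injective (A := IrreducibleCloseds X) h : ic Z = ic Z')

theorem cs_isClosed (Z : Sob X) : IsClosed (cs Z) := (ic Z).isClosed
theorem cs_isIrreducible (Z : Sob X) : IsIrreducible (cs Z) := (ic Z).isIrreducible

theorem cs_toSob (x : X) : cs (toSob X x) = closure {x} := rfl

/-- build a point of the soberification -/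
def mk (C : Set X) (h1 : IsIrreducible C) (h2 : IsClosed C) : Sob X :=
  (⟨C, h1, h2⟩ : IrreducibleCloseds X)

theorem cs_mk (C : Set X) (h1 : IsIrreducible C) (h2 : IsClosed C) : cs (mk C h1 h2) = C := rfl

/-- the basic open of the soberification attached to a subset `U` of `X` -/
def D (U : Set X) : Set (Sob X) := {Z : Sob X | (cs Z ∩ U).Nonempty}

theorem mem_D {U : Set X} {Z : Sob X} : Z ∈ D U ↔ (cs Z ∩ U).Nonempty := Iff.rfl

theorem D_univ : D (univ : Set X) = univ := by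
  ext Z
  simp only [mem_D, inter_univ, mem_univ, iff_true]
  exact (cs_isIrreducible Z).nonempty

theorem D_empty : D (∅ : Set X) = ∅ := by
  ext Z
  simp [mem_D]

theorem D_mono {U V : Set X} (h : U ⊆ V) : D U ⊆ D V := by
  rintro Z ⟨x, hxZ, hxU⟩
  exact ⟨x, hxZ, h hxU⟩

theorem D_inter (U V : Set X) (hU : IsOpen U) (hV : IsOpen V) : D U ∩ D V = D (U ∩ V) := by
  ext Z
  constructor
  · rintro ⟨h1, h2⟩
    exact (cs_isIrreducible Z).isPreirreducible U V hU hV h1 h2
  · rintro ⟨x, hxZ, hxU, hxV⟩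
    exact ⟨⟨x, hxZ, hxU⟩, ⟨x, hxZ, hxV⟩⟩

theorem D_sUnion (S : Set (Set X)) : D (⋃₀ S) = ⋃ U ∈ S, D U := by
  ext Z
  simp only [mem_D, mem_iUnion, exists_prop]
  constructor
  · rintro ⟨x, hxZ, U, hU, hxU⟩
    exact ⟨U, hU, x, hxZ, hxU⟩
  · rintro ⟨U, hU, x, hxZ, hxU⟩
    exact ⟨x, hxZ, U, hU, hxU⟩

theorem D_iUnion {ι : Type*} (U : ι → Set X) : D (⋃ i, U i) = ⋃ i, D (U i) := by
  ext Z
  simp only [mem_D, mem_iUnion]
  constructor
  · rintro ⟨x, hxZ, hx⟩
    obtain ⟨i, hi⟩ := mem_iUnion.mp hx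
    exact ⟨i, x, hxZ, hi⟩
  · rintro ⟨i, x, hxZ, hi⟩
    exact ⟨x, hxZ, mem_iUnion.mpr ⟨i, hi⟩⟩

theorem D_union (U V : Set X) : D (U ∪ V) = D U ∪ D V := by
  ext Z
  simp only [mem_D, mem_union]
  constructor
  · rintro ⟨x, hxZ, hx | hx⟩
    · exact Or.inl ⟨x, hxZ, hx⟩
    · exact Or.inr ⟨x, hxZ, hx⟩
  · rintro (⟨x, hxZ, hx⟩ | ⟨x, hxZ, hx⟩)
    · exact ⟨x, hxZ, Or.inl hx⟩
    · exact ⟨x, hxZ, Or.inr hx⟩

theorem isOpen_D {U : Set X} (hU : IsOpen U) : IsOpen (D U) :=
  TopologicalSpace.isOpen_generateFrom_of_mem ⟨⟨U, hU⟩, rfl⟩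

theorem isOpen_iff_exists_D {S : Set (Sob X)} : IsOpen S ↔ ∃ U : Set X, IsOpen U ∧ S = D U := by
  constructor
  · intro hS
    induction hS with
    | basic s hs =>
      obtain ⟨U, rfl⟩ := hs
      exact ⟨U, U.isOpen, rfl⟩
    | univ => exact ⟨univ, isOpen_univ, D_univ.symm⟩
    | inter s t _ _ ihs iht =>
      obtain ⟨U, hU, rfl⟩ := ihs
      obtain ⟨V, hV, rfl⟩ := iht
      exact ⟨U ∩ V, hU.inter hV, D_inter U V hU hV⟩
    | sUnion T _ ih =>
      choose! U hU hUT using ih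
      refine ⟨⋃₀ (U '' T), isOpen_sUnion (by rintro _ ⟨t, ht, rfl⟩; exact hU t ht), ?_⟩
      rw [D_sUnion]
      ext Z
      simp only [mem_sUnion, mem_image, iUnion_exists, biUnion_and', iUnion_iUnion_eq_right,
        mem_iUnion, exists_prop]
      constructor
      · rintro ⟨t, ht, hZt⟩
        exact ⟨t, ht, (hUT t ht) ▸ hZt⟩
      · rintro ⟨t, ht, hZt⟩
        exact ⟨t, ht, (hUT t ht).symm ▸ hZt⟩
  · rintro ⟨U, hU, rfl⟩
    exact isOpen_D hU

theorem toSob_preimage_D {U : Set X} (hU : IsOpen U) : toSob X ⁻¹' D U = U := by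
  ext x
  simp only [mem_preimage, mem_D, cs_toSob]
  constructor
  · rintro ⟨y, hy, hyU⟩
    obtain ⟨z, hzU, hz⟩ := mem_closure_iff.mp hy U hU hyU
    rw [mem_singleton_iff] at hz
    exact hz ▸ hzU
  · intro hx
    exact ⟨x, subset_closure rfl, hx⟩

theorem continuous_toSob : Continuous (toSob X) := by
  rw [continuous_def]
  intro S hS
  obtain ⟨U, hU, rfl⟩ := isOpen_iff_exists_D.mp hS
  rw [toSob_preimage_D hU]
  exact hU

theorem D_injective {U V : Set X} (hU : IsOpen U) (hV : IsOpen V) (h : D U = D V) : U = V := by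
  rw [← toSob_preimage_D hU, ← toSob_preimage_D hV, h]

theorem D_subset_iff {U V : Set X} (hU : IsOpen U) (hV : IsOpen V) : D U ⊆ D V ↔ U ⊆ V := by
  constructor
  · intro h
    rw [← toSob_preimage_D hU, ← toSob_preimage_D hV]
    exact preimage_mono h
  · exact D_mono

theorem t0Space_Sob : T0Space (Sob X) := by
  rw [t0Space_iff_exists_isOpen_xor'_mem]
  intro Z Z' hne
  have : ¬ (cs Z ⊆ cs Z' ∧ cs Z' ⊆ cs Z) := fun h =>
    hne (cs_injective (Subset.antisymm h.1 h.2))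
  rw [not_and_or] at this
  rcases this with h | h
  · obtain ⟨x, hxZ, hxZ'⟩ := Set.not_subset.mp h
    refine ⟨D (cs Z')ᶜ, isOpen_D (cs_isClosed Z').isOpen_compl, Or.inl
      ⟨⟨x, hxZ, hxZ'⟩, ?_⟩⟩
    rintro ⟨y, hy, hy'⟩
    exact hy' hy
  · obtain ⟨x, hxZ', hxZ⟩ := Set.not_subset.mp h
    refine ⟨D (cs Z)ᶜ, isOpen_D (cs_isClosed Z).isOpen_compl, Or.inr
      ⟨⟨x, hxZ', hxZ⟩, ?_⟩⟩
    rintro ⟨y, hy, hy'⟩
    exact hy' hy

theorem quasiSober_Sob : QuasiSober (Sob X) := by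
  refine ⟨fun {S} hirr hcl => ?_⟩
  obtain ⟨U, hU, hSU⟩ := isOpen_iff_exists_D.mp hcl.isOpen_compl
  have hS : ∀ Z : Sob X, Z ∈ S ↔ cs Z ⊆ Uᶜ := by
    intro Z
    have : Z ∈ S ↔ Z ∉ D U := by rw [← hSU]; simp
    rw [this]
    simp only [mem_D, Set.not_nonempty_iff_eq_empty, ← Set.disjoint_iff_inter_eq_empty,
      Set.subset_compl_iff_disjoint_right]
  have hCcl : IsClosed Uᶜ := hU.isClosed_compl
  have hmem : ∀ x ∈ Uᶜ, toSob X x ∈ S := fun x hx =>
    (hS _).mpr (closure_minimal (singleton_subset_iff.mpr hx) hCcl)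
  have hCirr : IsIrreducible Uᶜ := by
    obtain ⟨Z, hZ⟩ := hirr.nonempty
    obtain ⟨z, hz⟩ := (cs_isIrreducible Z).nonempty
    refine ⟨⟨z, (hS Z).mp hZ hz⟩, ?_⟩
    intro V W hV hW ⟨x, hxC, hxV⟩ ⟨y, hyC, hyW⟩
    obtain ⟨Z', hZ'S, hZ'V, hZ'W⟩ := hirr.isPreirreducible (D V) (D W) (isOpen_D hV) (isOpen_D hW)
      ⟨toSob X x, hmem x hxC, x, subset_closure rfl, hxV⟩
      ⟨toSob X y, hmem y hyC, y, subset_closure rfl, hyW⟩
    obtain ⟨w, hwZ', hwVW⟩ := (cs_isIrreducible Z').isPreirreducible V W hV hW hZ'V hZ'W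
    exact ⟨w, (hS Z').mp hZ'S hwZ', hwVW⟩
  let P : Sob X := mk Uᶜ hCirr hCcl
  refine ⟨P, ?_⟩
  rw [isGenericPoint_def]
  apply Subset.antisymm
  · exact closure_minimal (singleton_subset_iff.mpr ((hS P).mpr subset_rfl)) hcl
  · intro Z hZ
    rw [mem_closure_iff]
    intro O hO hZO
    obtain ⟨V, hV, rfl⟩ := isOpen_iff_exists_D.mp hO
    obtain ⟨x, hxZ, hxV⟩ := hZO
    exact ⟨P, ⟨x, (hS Z).mp hZ hxZ, hxV⟩, rfl⟩

theorem exists_factor {Y : Type u} [TopologicalSpace Y] [QuasiSober Y] [T0Space Y] (f : X → Y)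
    (hf : Continuous f) : ∃ g : Sob X → Y, Continuous g ∧ g ∘ toSob X = f := by
  have hirr : ∀ Z : Sob X, IsIrreducible (f '' cs Z) := fun Z =>
    (cs_isIrreducible Z).image f hf.continuousOn
  let g : Sob X → Y := fun Z => (hirr Z).genericPoint
  have hg : ∀ Z, IsGenericPoint (g Z) (closure (f '' cs Z)) :=
    fun Z => (hirr Z).isGenericPoint_genericPoint_closure
  refine ⟨g, ?_, ?_⟩
  · rw [continuous_def]
    intro W hW
    have : g ⁻¹' W = D (f ⁻¹' W) := by
      ext Z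
      simp only [mem_preimage, mem_D]
      rw [(hg Z).mem_open_set_iff hW]
      constructor
      · rintro ⟨y, hy, hyW⟩
        obtain ⟨_, hzW, ⟨x, hxZ, rfl⟩⟩ := mem_closure_iff.mp hy W hW hyW
        exact ⟨x, hxZ, hzW⟩
      · rintro ⟨x, hxZ, hxW⟩
        exact ⟨f x, subset_closure ⟨x, hxZ, rfl⟩, hxW⟩
    rw [this]
    exact isOpen_D (hW.preimage hf)
  · funext x
    have h1 := hg (toSob X x)
    have h2 : IsGenericPoint (f x) (closure (f '' closure ({x} : Set X))) := by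
      rw [isGenericPoint_def, closure_image_closure hf, image_singleton]
    exact h1.eq h2

/-- compactness of `D U` is equivalent to compactness of `U` (for open `U`). -/
theorem isCompact_D_iff {U : Set X} (hU : IsOpen U) : IsCompact (D U) ↔ IsCompact U := by
  constructor
  · intro h
    rw [isCompact_iff_finite_subcover]
    intro ι V hV hUV
    have hcov : D U ⊆ ⋃ i, D (V i) := by
      rw [← D_iUnion]
      exact D_mono hUV
    obtain ⟨t, ht⟩ := h.elim_finite_subcover (fun i => D (V i)) (fun i => isOpen_D (hV i)) hcov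
    refine ⟨t, ?_⟩
    have h2 : D U ⊆ D (⋃ i ∈ t, V i) := by
      refine ht.trans ?_
      intro Z hZ
      simp only [mem_iUnion] at hZ
      obtain ⟨i, hi, hZi⟩ := hZ
      exact D_mono (subset_biUnion_of_mem (u := fun i => V i) hi) hZi
    exact (D_subset_iff hU (isOpen_biUnion fun i _ => hV i)).mp h2
  · intro h
    rw [isCompact_iff_finite_subcover]
    intro ι W hW hUW
    have : ∀ i, ∃ V : Set X, IsOpen V ∧ W i = D V := fun i => isOpen_iff_exists_D.mp (hW i)
    choose V hV hWV using this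
    have hcov : U ⊆ ⋃ i, V i := by
      have : D U ⊆ D (⋃ i, V i) := by
        rw [D_iUnion]
        simpa only [← hWV] using hUW
      exact (D_subset_iff hU (isOpen_iUnion hV)).mp this
    obtain ⟨t, ht⟩ := h.elim_finite_subcover V hV hcov
    refine ⟨t, ?_⟩
    refine (D_mono ht).trans ?_
    rintro Z ⟨x, hxZ, hx⟩
    simp only [mem_iUnion] at hx ⊢
    obtain ⟨i, hi, hxi⟩ := hx
    exact ⟨i, hi, by rw [hWV]; exact ⟨x, hxZ, hxi⟩⟩

theorem compactSpace_Sob [CompactSpace X] : CompactSpace (Sob X) := by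
  refine ⟨?_⟩
  rw [← D_univ]
  exact (isCompact_D_iff isOpen_univ).mpr isCompact_univ

end Groth.Agent.Lib.helper11.SobLib
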