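import Groth.Agent.Lib.helper11.Sob
import Mathlib.Topology.Spectral.Basic
import Mathlib.Topology.Spectral.Prespectral
import Mathlib.Topology.QuasiSeparated
import Mathlib.Topology.NoetherianSpace

/-!
The soberification `PtTop.Sob X`: compactness, spectrality, noetherianity.
-/

set_option autoImplicit false
universe u

namespace Groth.Agent.Lib.helper11.SobLib

open Topology Set TopologicalSpace PtTop

variable {X : Type u} [TopologicalSpace X]

theorem quasiSeparatedSpace_Sob [QuasiSeparatedSpace X] : QuasiSeparatedSpace (Sob X) := by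
  refine ⟨fun S T hS hSc hT hTc => ?_⟩
  obtain ⟨U, hU, rfl⟩ := isOpen_iff_exists_D.mp hS
  obtain ⟨V, hV, rfl⟩ := isOpen_iff_exists_D.mp hT
  rw [D_inter U V hU hV]
  rw [isCompact_D_iff hU] at hSc
  rw [isCompact_D_iff hV] at hTc
  rw [isCompact_D_iff (hU.inter hV)]
  exact QuasiSeparatedSpace.inter_isCompact U V hU hSc hV hTc

theorem prespectralSpace_Sob [PrespectralSpace X] : PrespectralSpace (Sob X) := by
  refine PrespectralSpace.of_isTopologicalBasis (B := {S | ∃ U : Set X, IsOpen U ∧ IsCompact U ∧ S = D U}) ?_ ?_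
  · refine isTopologicalBasis_of_isOpen_of_nhds ?_ ?_
    · rintro _ ⟨U, hU, -, rfl⟩
      exact isOpen_D hU
    · intro Z O hZO hO
      obtain ⟨U, hU, rfl⟩ := isOpen_iff_exists_D.mp hO
      obtain ⟨x, hxZ, hxU⟩ := hZO
      obtain ⟨V, ⟨hVo, hVc⟩, hxV, hVU⟩ :=
        (PrespectralSpace.isTopologicalBasis (X := X)).exists_subset_of_mem_open hxU hU
      exact ⟨D V, ⟨V, hVo, hVc, rfl⟩, ⟨x, hxZ, hxV⟩, D_mono hVU⟩
  · rintro _ ⟨U, hU, hUc, rfl⟩
    exact (isCompact_D_iff hU).mpr hUc

theorem spectralSpace_Sob [CompactSpace X] [PrespectralSpace X] [QuasiSeparatedSpace X] :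
    SpectralSpace (Sob X) :=
  { t0Space_Sob, compactSpace_Sob, quasiSober_Sob, quasiSeparatedSpace_Sob,
    prespectralSpace_Sob with }

theorem noetherianSpace_Sob [NoetherianSpace X] : NoetherianSpace (Sob X) := by
  rw [noetherianSpace_iff_opens]
  intro S
  obtain ⟨U, hU, hSU⟩ := isOpen_iff_exists_D.mp S.isOpen
  rw [hSU, isCompact_D_iff hU]
  exact NoetherianSpace.isCompact U

end Groth.Agent.Lib.helper11.SobLib
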