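import Mathlib.Topology.Spectral.ConstructibleTopology
import Mathlib.Topology.Spectral.Basic
import Mathlib.Topology.Spectral.Hom
import Mathlib.Topology.Connected.TotallyDisconnected
import Mathlib.Topology.Separation.Hausdorff

/-!
Basic theory of spectral spaces via the constructible topology.
-/

set_option autoImplicit false
universe u

namespace Groth.Agent.Lib.helper11.Spec

open Topology Set

variable {X : Type u} [TopologicalSpace X]

/-- every open set is constructibly open -/
theorem isOpen_constr_of_isOpen [PrespectralSpace X] {s : Set X} (hs : IsOpen s) :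
    IsOpen[constructibleTopology X] s := by
  rw [PrespectralSpace.isTopologicalBasis.open_eq_sUnion' hs]
  refine @isOpen_sUnion X (constructibleTopology X) _ fun t ht => ?_
  exact ht.1.2.isOpen_constructibleTopology_of_isOpen ht.1.1

theorem isClosed_constr_of_isClosed [PrespectralSpace X] {s : Set X} (hs : IsClosed s) :
    IsClosed[constructibleTopology X] s := by
  rw [← @isOpen_compl_iff X s (constructibleTopology X)]
  exact isOpen_constr_of_isOpen hs.isOpen_compl

theorem constructibleTopology_le [PrespectralSpace X] :
    constructibleTopology X ≤ ‹TopologicalSpace X› :=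
  fun _ hs => isOpen_constr_of_isOpen hs

theorem isClosed_constr_of_isCompact_isOpen {s : Set X} (hc : IsCompact s) (ho : IsOpen s) :
    IsClosed[constructibleTopology X] s := by
  rw [← @isOpen_compl_iff X s (constructibleTopology X)]
  exact IsCompact.isOpen_constructibleTopology_of_isClosed (by rwa [compl_compl])
    ho.isClosed_compl

theorem isOpen_constr_of_isCompact_isOpen {s : Set X} (hc : IsCompact s) (ho : IsOpen s) :
    IsOpen[constructibleTopology X] s :=
  hc.isOpen_constructibleTopology_of_isOpen ho

theorem compactSpace_constr [CompactSpace X] [QuasiSober X]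
    [PrespectralSpace X] [QuasiSeparatedSpace X] : @CompactSpace X (constructibleTopology X) :=
  @Function.Surjective.compactSpace (WithConstructibleTopology X) X _ (constructibleTopology X)
    (WithTopology.ofTopology (t := constructibleTopology X))
    (WithTopology.continuous_ofTopology _) _ (WithTopology.ofTopology_surjective _)

theorem t2Space_constr [T0Space X] [PrespectralSpace X] : @T2Space X (constructibleTopology X) := by
  refine @T2Space.mk X (constructibleTopology X) fun x y hxy => ?_
  obtain ⟨U, hU, hxor⟩ := exists_isOpen_xor'_mem hxy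
  rcases hxor with ⟨hxU, hyU⟩ | ⟨hyU, hxU⟩
  · obtain ⟨V, ⟨hVo, hVc⟩, hxV, hVU⟩ :=
      PrespectralSpace.isTopologicalBasis.exists_subset_of_mem_open hxU hU
    refine ⟨V, Vᶜ, isOpen_constr_of_isCompact_isOpen hVc hVo, ?_, hxV, fun h => hyU (hVU h),
      disjoint_compl_right⟩
    exact (@isOpen_compl_iff X V (constructibleTopology X)).mpr
      (isClosed_constr_of_isCompact_isOpen hVc hVo)
  · obtain ⟨V, ⟨hVo, hVc⟩, hyV, hVU⟩ :=
      PrespectralSpace.isTopologicalBasis.exists_subset_of_mem_open hyU hU
    refine ⟨Vᶜ, V, ?_, isOpen_constr_of_isCompact_isOpen hVc hVo, fun h => hxU (hVU h), hyV,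
      disjoint_compl_left⟩
    exact (@isOpen_compl_iff X V (constructibleTopology X)).mpr
      (isClosed_constr_of_isCompact_isOpen hVc hVo)

/-- A constructibly closed subset of a spectral space is compact for the constructible topology. -/
theorem isCompact_constr_of_isClosed_constr [SpectralSpace X] {E : Set X}
    (hE : IsClosed[constructibleTopology X] E) : @IsCompact X (constructibleTopology X) E :=
  @IsClosed.isCompact X (constructibleTopology X) E compactSpace_constr hE

/-- A constructibly compact set is compact. -/
theorem isCompact_of_isCompact_constr [PrespectralSpace X] {E : Set X}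
    (hE : @IsCompact X (constructibleTopology X) E) : IsCompact E := by
  have hid : @Continuous X X (constructibleTopology X) _ id :=
    continuous_id_of_le constructibleTopology_le
  have := @IsCompact.image X X (constructibleTopology X) _ E id hE hid
  rwa [image_id] at this

theorem isCompact_of_isClosed_constr [SpectralSpace X] {E : Set X}
    (hE : IsClosed[constructibleTopology X] E) : IsCompact E :=
  isCompact_of_isCompact_constr (isCompact_constr_of_isClosed_constr hE)

/-- Cantor intersection for constructibly closed sets. -/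
theorem nonempty_sInter_of_directed [SpectralSpace X] (F : Set (Set X)) (hne : F.Nonempty)
    (hcl : ∀ A ∈ F, IsClosed[constructibleTopology X] A) (hnon : ∀ A ∈ F, A.Nonempty)
    (hdir : ∀ A ∈ F, ∀ B ∈ F, ∃ C ∈ F, C ⊆ A ∩ B) : (⋂₀ F).Nonempty := by
  have : Nonempty F := hne.to_subtype
  refine @IsCompact.nonempty_sInter_of_directed_nonempty_isCompact_isClosed X
    (constructibleTopology X) F _ ?_ hnon (fun A hA => isCompact_constr_of_isClosed_constr (hcl A hA))
    hcl
  intro A hA B hB
  obtain ⟨C, hC, hCAB⟩ := hdir A hA B hB
  exact ⟨C, hC, fun x hx => (hCAB hx).1, fun x hx => (hCAB hx).2⟩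

/-- If `E` is constructibly closed and every compact open neighbourhood of every point of the
finite-type "test" family meets `E` compatibly, we find a point of `E` in all of them. Directed
version: `N` is a family of compact opens, closed under pairwise intersection, each meeting `E`. -/
theorem exists_mem_inter_sInter [SpectralSpace X] {E : Set X}
    (hE : IsClosed[constructibleTopology X] E) (hEne : E.Nonempty) (N : Set (Set X))
    (hN : ∀ V ∈ N, IsOpen V ∧ IsCompact V) (hmeet : ∀ V ∈ N, (E ∩ V).Nonempty)
    (hdir : ∀ V ∈ N, ∀ W ∈ N, V ∩ W ∈ N) : (E ∩ ⋂₀ N).Nonempty := by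
  by_cases hNe : N.Nonempty
  swap
  · rw [Set.not_nonempty_iff_eq_empty] at hNe
    simpa [hNe] using hEne
  have key := nonempty_sInter_of_directed ((fun V => E ∩ V) '' N) (hNe.image _) ?_ ?_ ?_
  · obtain ⟨x, hx⟩ := key
    obtain ⟨V₀, hV₀⟩ := hNe
    refine ⟨x, (hx _ ⟨V₀, hV₀, rfl⟩).1, ?_⟩
    intro V hV
    exact (hx _ ⟨V, hV, rfl⟩).2
  · rintro _ ⟨V, hV, rfl⟩
    exact @IsClosed.inter X E V (constructibleTopology X) hE
      (isClosed_constr_of_isCompact_isOpen (hN V hV).2 (hN V hV).1)
  · rintro _ ⟨V, hV, rfl⟩
    exact hmeet V hV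
  · rintro _ ⟨V, hV, rfl⟩ _ ⟨W, hW, rfl⟩
    refine ⟨E ∩ (V ∩ W), ⟨V ∩ W, hdir V hV W hW, rfl⟩, ?_⟩
    intro x hx
    exact ⟨⟨hx.1, hx.2.1⟩, ⟨hx.1, hx.2.2⟩⟩

/-- In a spectral space, points of the closure of a constructibly closed set are specializations of
points of the set. -/
theorem exists_specializes_of_mem_closure [SpectralSpace X] {E : Set X}
    (hE : IsClosed[constructibleTopology X] E) {x : X} (hx : x ∈ closure E) :
    ∃ e ∈ E, e ⤳ x := by
  have hEne : E.Nonempty := by
    rw [← closure_nonempty_iff]; exact ⟨x, hx⟩
  obtain ⟨e, heE, he⟩ := exists_mem_inter_sInter hE hEne {V | IsOpen V ∧ IsCompact V ∧ x ∈ V}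
    (fun V hV => ⟨hV.1, hV.2.1⟩)
    (fun V hV => by
      obtain ⟨z, hzV, hzE⟩ := mem_closure_iff.mp hx V hV.1 hV.2.2
      exact ⟨z, hzE, hzV⟩)
    (fun V hV W hW => ⟨hV.1.inter hW.1,
      QuasiSeparatedSpace.inter_isCompact V W hV.1 hV.2.1 hW.1 hW.2.1, hV.2.2, hW.2.2⟩)
  refine ⟨e, heE, ?_⟩
  rw [specializes_iff_forall_open]
  intro U hU hxU
  obtain ⟨V, ⟨hVo, hVc⟩, hxV, hVU⟩ :=
    PrespectralSpace.isTopologicalBasis.exists_subset_of_mem_open hxU hU
  exact hVU (he V ⟨hVo, hVc, hxV⟩)

theorem isClosed_of_isClosed_constr_of_stableUnderSpecialization [SpectralSpace X] {E : Set X}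
    (hE : IsClosed[constructibleTopology X] E) (hs : StableUnderSpecialization E) : IsClosed E := by
  rw [← closure_subset_iff_isClosed]
  intro x hx
  obtain ⟨e, heE, he⟩ := exists_specializes_of_mem_closure hE hx
  exact hs he heE

theorem isOpen_of_isOpen_constr_of_stableUnderGeneralization [SpectralSpace X] {E : Set X}
    (hE : IsOpen[constructibleTopology X] E) (hs : StableUnderGeneralization E) : IsOpen E := by
  rw [← isClosed_compl_iff]
  refine isClosed_of_isClosed_constr_of_stableUnderSpecialization ?_ hs.compl
  exact (@isClosed_compl_iff X (constructibleTopology X) E).mpr hE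

section maps

variable {Y : Type u} [TopologicalSpace Y]

theorem continuous_constr_of_isSpectralMap {f : X → Y} (hf : IsSpectralMap f) :
    @Continuous X Y (constructibleTopology X) (constructibleTopology Y) f := by
  refine continuous_generateFrom_iff.mpr fun s hs => ?_
  rcases hs with ⟨hso, hsc⟩ | ⟨hscl, hsc⟩
  · exact (hf.isCompact_preimage_of_isOpen hso hsc).isOpen_constructibleTopology_of_isOpen
      (hso.preimage hf.continuous)
  · refine IsCompact.isOpen_constructibleTopology_of_isClosed ?_ (hscl.preimage hf.continuous)
    rw [← preimage_compl]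
    exact hf.isCompact_preimage_of_isOpen hscl.isOpen_compl hsc

theorem isCompact_fibre_of_isSpectralMap [SpectralSpace X] [T0Space Y] [PrespectralSpace Y]
    {f : X → Y} (hf : IsSpectralMap f) (y : Y) : IsCompact (f ⁻¹' {y}) := by
  apply isCompact_of_isClosed_constr
  have h1 : IsClosed[constructibleTopology Y] ({y} : Set Y) :=
    @isClosed_singleton Y (constructibleTopology Y)
      (@T2Space.t1Space Y (constructibleTopology Y) t2Space_constr) y
  exact @IsClosed.preimage X Y (constructibleTopology X) (constructibleTopology Y) f
    (continuous_constr_of_isSpectralMap hf) _ h1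

theorem isClosed_constr_image_of_isSpectralMap [SpectralSpace X] [T0Space Y] [PrespectralSpace Y]
    {f : X → Y} (hf : IsSpectralMap f) {E : Set X} (hE : IsClosed[constructibleTopology X] E) :
    IsClosed[constructibleTopology Y] (f '' E) := by
  have h1 := @IsCompact.image X Y (constructibleTopology X) (constructibleTopology Y) E f
    (isCompact_constr_of_isClosed_constr hE) (continuous_constr_of_isSpectralMap hf)
  exact @IsCompact.isClosed Y (constructibleTopology Y) t2Space_constr _ h1

theorem isClosed_constr_range_of_isSpectralMap [SpectralSpace X] [T0Space Y] [PrespectralSpace Y]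
    {f : X → Y} (hf : IsSpectralMap f) : IsClosed[constructibleTopology Y] (range f) := by
  rw [← image_univ]
  exact isClosed_constr_image_of_isSpectralMap hf (@isClosed_univ X (constructibleTopology X))

theorem isSpectralMap_of_continuous_constr [SpectralSpace X] {f : X → Y} (hf : Continuous f)
    (hfc : @Continuous X Y (constructibleTopology X) (constructibleTopology Y) f) :
    IsSpectralMap f := by
  refine ⟨hf, fun s hso hsc => ?_⟩
  apply isCompact_of_isClosed_constr
  exact @IsClosed.preimage X Y (constructibleTopology X) (constructibleTopology Y) f hfc _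
    (isClosed_constr_of_isCompact_isOpen hsc hso)

end maps

end Groth.Agent.Lib.helper11.Spec
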