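import Groth.Agent.Lib.helper11.TopLimit
import Groth.Agent.Lib.helper11.Spectral
import Mathlib.Topology.Category.TopCat.Limits.Konig
import Mathlib.Topology.Connected.Separation

/-!
Limits of spectral spaces with spectral transition maps: compactness and nonemptiness.
-/

set_option autoImplicit false
universe u

namespace Groth.Agent.Lib.helper11.SpecLim

open CategoryTheory CategoryTheory.Limits Topology Set
open Groth.Agent.Lib.helper11.Spec Groth.Agent.Lib.helper11.TopLim

section WithC

variable {A B : Type u} [TopologicalSpace A] [TopologicalSpace B]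

/-- `A → WithConstructibleTopology A` -/
abbrev toC (x : A) : WithConstructibleTopology A := WithTopology.toTopology _ x

/-- `WithConstructibleTopology A → A` -/
abbrev ofC (w : WithConstructibleTopology A) : A := WithTopology.ofTopology w

theorem continuous_ofC [PrespectralSpace A] :
    Continuous (ofC : WithConstructibleTopology A → A) := by
  rw [continuous_def]
  intro s hs
  rw [WithConstructibleTopology.isOpen_iff]
  exact isOpen_constr_of_isOpen hs

theorem isClosed_preimage_ofC {E : Set A} (hE : IsClosed[constructibleTopology A] E) :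
    IsClosed (ofC ⁻¹' E : Set (WithConstructibleTopology A)) := by
  rw [WithConstructibleTopology.isClosed_iff]
  exact hE

theorem t2Space_withC [T0Space A] [PrespectralSpace A] : T2Space (WithConstructibleTopology A) := by
  refine ⟨fun x y hxy => ?_⟩
  have hne : ofC x ≠ ofC y := fun h => hxy (WithTopology.ofTopology_injective _ h)
  obtain ⟨U, V, hU, hV, hxU, hyV, hUV⟩ := (t2Space_constr (X := A)).t2 hne
  refine ⟨ofC ⁻¹' U, ofC ⁻¹' V, ?_, ?_, hxU, hyV, hUV.preimage _⟩
  · rw [WithConstructibleTopology.isOpen_iff]; exact hU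
  · rw [WithConstructibleTopology.isOpen_iff]; exact hV

theorem continuous_mapC {g : A → B} (hg : IsSpectralMap g) :
    Continuous (fun w : WithConstructibleTopology A => toC (g (ofC w))) := by
  rw [continuous_def]
  intro s hs
  rw [WithConstructibleTopology.isOpen_iff] at hs ⊢
  exact @Continuous.isOpen_preimage A B (constructibleTopology A) (constructibleTopology B) g
    (continuous_constr_of_isSpectralMap hg) _ hs

end WithC

variable {J : Type u} [SmallCategory J] {F : J ⥤ TopCat.{u}}
    (hF : ∀ j, SpectralSpace (F.obj j))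
    (hFm : ∀ {i j : J} (a : i ⟶ j), IsSpectralMap (F.map a : F.obj i → F.obj j))
    {c : Cone F} (hc : IsLimit c)

include hF hFm hc in
theorem isCompact_lim (Z : ∀ j, Set (F.obj j))
    (hZ : ∀ j, IsClosed[constructibleTopology (F.obj j)] (Z j)) :
    IsCompact {x : c.pt | ∀ j, c.π.app j x ∈ Z j} := by
  have : ∀ j, T2Space (WithConstructibleTopology (F.obj j)) := fun j => t2Space_withC
  let P := ∀ j, WithConstructibleTopology (F.obj j)
  let L : Set P := {w | (∀ (i j : J) (a : i ⟶ j), toC (F.map a (ofC (w i))) = w j) ∧
    ∀ j, w j ∈ (ofC ⁻¹' Z j : Set (WithConstructibleTopology (F.obj j)))}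
  have hL : IsClosed L := by
    have : L = (⋂ (i : J) (j : J) (a : i ⟶ j), {w : P | toC (F.map a (ofC (w i))) = w j}) ∩
        ⋂ j, {w : P | w j ∈ (ofC ⁻¹' Z j : Set (WithConstructibleTopology (F.obj j)))} := by
      ext w
      simp only [L, mem_ofPred_eq, mem_inter_iff, mem_iInter]
    rw [this]
    refine IsClosed.inter ?_ ?_
    · refine isClosed_iInter fun i => isClosed_iInter fun j => isClosed_iInter fun a => ?_
      exact isClosed_eq ((continuous_mapC (hFm a)).comp (continuous_apply i)) (continuous_apply j)
    · refine isClosed_iInter fun j => ?_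
      exact (isClosed_preimage_ofC (hZ j)).preimage (continuous_apply j)
  have hLc : IsCompact L := hL.isCompact
  let ψ : P → (∀ j, F.obj j) := fun w j => ofC (w j)
  have hψ : Continuous ψ := continuous_pi fun j => continuous_ofC.comp (continuous_apply j)
  have hind := isInducing_pi hc
  rw [hind.isCompact_iff]
  have himg : (fun (x : c.pt) (j : J) => c.π.app j x) '' {x : c.pt | ∀ j, c.π.app j x ∈ Z j} =
      ψ '' L := by
    ext u
    constructor
    · rintro ⟨x, hx, rfl⟩
      refine ⟨fun j => toC (c.π.app j x), ⟨?_, ?_⟩, rfl⟩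
      · intro i j a
        change toC (F.map a (c.π.app i x)) = toC (c.π.app j x)
        rw [naturality]
      · intro j
        exact hx j
    · rintro ⟨w, ⟨hw1, hw2⟩, rfl⟩
      obtain ⟨x, hx⟩ := exists_of_compatible hc (ψ w) (by
        intro i j a
        have := hw1 i j a
        exact congrArg ofC this)
      refine ⟨x, ?_, funext hx⟩
      intro j
      rw [hx j]
      exact hw2 j
  rw [himg]
  exact hLc.image hψ

include hF hFm hc in
theorem compactSpace_lim : CompactSpace c.pt := by
  rw [← isCompact_univ_iff]
  have := isCompact_lim hF hFm hc (fun _ => univ)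
    (fun j => @isClosed_univ _ (constructibleTopology (F.obj j)))
  simpa using this

include hF hFm hc in
theorem nonempty_lim [IsCofiltered J] (Z : ∀ j, Set (F.obj j)) (hZne : ∀ j, (Z j).Nonempty)
    (hZ : ∀ j, IsClosed[constructibleTopology (F.obj j)] (Z j))
    (hmaps : ∀ {i j : J} (a : i ⟶ j), MapsTo (F.map a) (Z i) (Z j)) :
    ∃ x : c.pt, ∀ j, c.π.app j x ∈ Z j := by
  have hT2 : ∀ j, T2Space (WithConstructibleTopology (F.obj j)) := fun j => t2Space_withC
  let G : J ⥤ TopCat.{u} :=
    { obj := fun j => TopCat.of {w : WithConstructibleTopology (F.obj j) // ofC w ∈ Z j}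
      map := fun {i j} a => TopCat.ofHom
        ⟨fun w => ⟨toC (F.map a (ofC w.1)), hmaps a w.2⟩,
          ((continuous_mapC (hFm a)).comp continuous_subtype_val).subtype_mk _⟩
      map_id := by
        intro j
        ext w
        change (F.map (𝟙 j)) (ofC w.1) = ofC w.1
        rw [F.map_id]
        rfl
      map_comp := by
        intro i j k a b
        ext w
        change F.map (a ≫ b) (ofC w.1) = F.map b (F.map a (ofC w.1))
        rw [F.map_comp]
        rfl }
  have h1 : ∀ j, Nonempty (G.obj j) := fun j => by
    obtain ⟨z, hz⟩ := hZne j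
    exact ⟨⟨toC z, hz⟩⟩
  have h2 : ∀ j, CompactSpace (G.obj j) := fun j =>
    isCompact_iff_compactSpace.mp (isClosed_preimage_ofC (hZ j)).isCompact
  have h3 : ∀ j, T2Space (G.obj j) := fun j =>
    inferInstanceAs (T2Space {w : WithConstructibleTopology (F.obj j) // ofC w ∈ Z j})
  obtain ⟨⟨u, hu⟩⟩ := TopCat.nonempty_limitCone_of_compact_t2_cofiltered_system G
  obtain ⟨x, hx⟩ := exists_of_compatible hc (fun j => ofC (u j).1) (by
    intro i j a
    have := hu a
    exact congrArg (fun w : G.obj j => ofC w.1) this)
  refine ⟨x, fun j => ?_⟩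
  rw [hx j]
  exact (u j).2

end Groth.Agent.Lib.helper11.SpecLim
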