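import Groth.Agent.Lib.helper11.SpectralLimit
import Mathlib.CategoryTheory.Filtered.Final
import Mathlib.CategoryTheory.Limits.Final

/-!
Descending inclusions of constructible sets along cofiltered limits of spectral spaces.
-/

set_option autoImplicit false
universe u

namespace Groth.Agent.Lib.helper11.SpecLim

open CategoryTheory CategoryTheory.Limits Topology Set
open Groth.Agent.Lib.helper11.Spec Groth.Agent.Lib.helper11.TopLim

variable {J : Type u} [SmallCategory J] [IsCofiltered J] {F : J ⥤ TopCat.{u}}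
    (hF : ∀ j, SpectralSpace (F.obj j))
    (hFm : ∀ {i j : J} (a : i ⟶ j), IsSpectralMap (F.map a : F.obj i → F.obj j))
    {c : Cone F} (hc : IsLimit c)

include hF hFm hc in
theorem exists_hom_preimage_subset (i : J) (E F' : Set (F.obj i))
    (hE : IsClosed[constructibleTopology (F.obj i)] E)
    (hF' : IsOpen[constructibleTopology (F.obj i)] F')
    (h : c.π.app i ⁻¹' E ⊆ c.π.app i ⁻¹' F') :
    ∃ (j : J) (a : j ⟶ i), F.map a ⁻¹' E ⊆ F.map a ⁻¹' F' := by
  by_contra hcon
  push Not at hcon
  have hEF : IsClosed[constructibleTopology (F.obj i)] (E ∩ F'ᶜ) :=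
    @IsClosed.inter _ _ _ (constructibleTopology (F.obj i)) hE
      ((@isClosed_compl_iff _ (constructibleTopology (F.obj i)) _).mpr hF')
  let G : Over i ⥤ TopCat.{u} := Over.forget i ⋙ F
  let c' : Cone G := c.whisker (Over.forget i)
  have hc' : IsLimit c' := (Functor.Initial.isLimitWhiskerEquiv (Over.forget i) c).symm hc
  obtain ⟨x, hx⟩ := nonempty_lim (F := G) (fun X => hF X.left) (fun φ => hFm φ.left) hc'
    (fun X => F.map X.hom ⁻¹' (E ∩ F'ᶜ))
    (fun X => by
      obtain ⟨z, hzE, hzF⟩ := Set.not_subset.mp (hcon X.left X.hom)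
      exact ⟨z, hzE, hzF⟩)
    (fun X => @IsClosed.preimage _ _ (constructibleTopology (F.obj X.left))
      (constructibleTopology (F.obj i)) _ (continuous_constr_of_isSpectralMap (hFm X.hom)) _ hEF)
    (fun {X Y} φ z hz => by
      change F.map Y.hom (F.map φ.left z) ∈ E ∩ F'ᶜ
      have : F.map Y.hom (F.map φ.left z) = F.map X.hom z := by
        rw [← Over.w φ, F.map_comp]
        rfl
      rw [this]
      exact hz)
  have := hx (Over.mk (𝟙 i))
  change F.map (𝟙 i) (c.π.app i x) ∈ E ∩ F'ᶜ at this
  rw [F.map_id] at this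
  exact this.2 (h this.1)

end Groth.Agent.Lib.helper11.SpecLim
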