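import Groth.Agent.Lib.helper11.SpectralLimit2

/-!
Cofiltered limits of spectral spaces are spectral.
-/

set_option autoImplicit false
universe u

namespace Groth.Agent.Lib.helper11.SpecLim

open CategoryTheory CategoryTheory.Limits Topology Set TopologicalSpace
open Groth.Agent.Lib.helper11.Spec Groth.Agent.Lib.helper11.TopLim

variable {J : Type u} [SmallCategory J] {F : J ⥤ TopCat.{u}}
    (hF : ∀ j, SpectralSpace (F.obj j))
    (hFm : ∀ {i j : J} (a : i ⟶ j), IsSpectralMap (F.map a : F.obj i → F.obj j))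
    {c : Cone F} (hc : IsLimit c)

include hF hFm hc in
/-- Preimages of constructibly closed sets under the projections are compact. -/
theorem isCompact_preimage_proj (j : J) (V : Set (F.obj j))
    (hV : IsClosed[constructibleTopology (F.obj j)] V) : IsCompact (c.π.app j ⁻¹' V) := by
  have key := isCompact_lim hF hFm hc (fun k => ⋂ a : k ⟶ j, F.map a ⁻¹' V) (fun k =>
    @isClosed_iInter _ _ (constructibleTopology (F.obj k)) _ fun a =>
      @IsClosed.preimage _ _ (constructibleTopology (F.obj k)) (constructibleTopology (F.obj j)) _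
        (continuous_constr_of_isSpectralMap (hFm a)) _ hV)
  have heq : c.π.app j ⁻¹' V =
      {x : c.pt | ∀ k, c.π.app k x ∈ ⋂ a : k ⟶ j, F.map a ⁻¹' V} := by
    ext x
    simp only [mem_preimage, mem_ofPred_eq, mem_iInter]
    constructor
    · intro hx k a
      rw [naturality]
      exact hx
    · intro h
      have := h j (𝟙 j)
      rwa [naturality] at this
  rw [heq]
  exact key

include hF hFm hc in
theorem isSpectralMap_proj (j : J) : IsSpectralMap (c.π.app j : c.pt → F.obj j) :=
  ⟨continuous_proj j, fun V hVo hVc =>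
    isCompact_preimage_proj hF hFm hc j V (isClosed_constr_of_isCompact_isOpen hVc hVo)⟩

variable [IsCofiltered J]

include hF hFm hc in
theorem isTopologicalBasis_lim : IsTopologicalBasis
    {U : Set c.pt | ∃ (j : J) (V : Set (F.obj j)), (IsOpen V ∧ IsCompact V) ∧
      U = c.π.app j ⁻¹' V} :=
  TopCat.isTopologicalBasis_cofiltered_limit F c hc (fun j => {V | IsOpen V ∧ IsCompact V})
    (fun j => PrespectralSpace.isTopologicalBasis) (fun i => ⟨isOpen_univ, isCompact_univ⟩)
    (fun i U1 U2 h1 h2 => ⟨h1.1.inter h2.1,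
      QuasiSeparatedSpace.inter_isCompact U1 U2 h1.1 h1.2 h2.1 h2.2⟩)
    (fun i j f V hV => ⟨hV.1.preimage (continuous_map f),
      (hFm f).isCompact_preimage_of_isOpen hV.1 hV.2⟩)

include hF hFm hc in
/-- every compact open of the limit comes from a compact open at a finite stage -/
theorem exists_compact_open_descend (U : Set c.pt) (hUo : IsOpen U) (hUc : IsCompact U) :
    ∃ (i : J) (Ui : Set (F.obj i)), IsOpen Ui ∧ IsCompact Ui ∧ c.π.app i ⁻¹' Ui = U := by
  have hB := isTopologicalBasis_lim hF hFm hc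
  have key : ∃ (i : J) (Ui : Set (F.obj i)), IsOpen Ui ∧ IsCompact Ui ∧ U ⊆ c.π.app i ⁻¹' Ui ∧
      c.π.app i ⁻¹' Ui ⊆ U := by
    refine hUc.induction_on (p := fun s => ∃ (i : J) (Ui : Set (F.obj i)), IsOpen Ui ∧
      IsCompact Ui ∧ s ⊆ c.π.app i ⁻¹' Ui ∧ c.π.app i ⁻¹' Ui ⊆ U) ?_ ?_ ?_ ?_
    · obtain ⟨j⟩ := IsCofiltered.nonempty (C := J)
      exact ⟨j, ∅, isOpen_empty, isCompact_empty, by simp, by simp⟩
    · rintro s t hst ⟨i, Ui, hUi, hUic, h1, h2⟩
      exact ⟨i, Ui, hUi, hUic, hst.trans h1, h2⟩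
    · rintro s t ⟨i, Ui, hUi, hUic, h1, h2⟩ ⟨j, Uj, hUj, hUjc, h3, h4⟩
      let k := IsCofiltered.min i j
      let a : k ⟶ i := IsCofiltered.minToLeft i j
      let b : k ⟶ j := IsCofiltered.minToRight i j
      refine ⟨k, F.map a ⁻¹' Ui ∪ F.map b ⁻¹' Uj,
        (hUi.preimage (continuous_map a)).union (hUj.preimage (continuous_map b)),
        ((hFm a).isCompact_preimage_of_isOpen hUi hUic).union
          ((hFm b).isCompact_preimage_of_isOpen hUj hUjc), ?_, ?_⟩
      · rintro x (hx | hx)
        · left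
          change F.map a (c.π.app k x) ∈ Ui
          rw [naturality]
          exact h1 hx
        · right
          change F.map b (c.π.app k x) ∈ Uj
          rw [naturality]
          exact h3 hx
      · rintro x (hx | hx)
        · apply h2
          change F.map a (c.π.app k x) ∈ Ui at hx
          rwa [naturality] at hx
        · apply h4
          change F.map b (c.π.app k x) ∈ Uj at hx
          rwa [naturality] at hx
    · intro x hx
      obtain ⟨W, ⟨j, V, hV, rfl⟩, hxW, hWU⟩ := hB.exists_subset_of_mem_open hx hUo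
      have hWo : IsOpen (c.π.app j ⁻¹' V) := hV.1.preimage (continuous_proj j)
      exact ⟨_, mem_nhdsWithin_of_mem_nhds (hWo.mem_nhds hxW), j, V, hV.1, hV.2, subset_rfl, hWU⟩
  obtain ⟨i, Ui, hUi, hUic, h1, h2⟩ := key
  exact ⟨i, Ui, hUi, hUic, Subset.antisymm h2 h1⟩

include hF hc in
theorem t0Space_lim : T0Space c.pt := by
  refine ⟨fun x y hxy => ?_⟩
  apply ext_of_isLimit hc
  intro j
  exact (hxy.map (continuous_proj j)).eq

include hF hFm hc in
theorem prespectralSpace_lim : PrespectralSpace c.pt := by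
  refine PrespectralSpace.of_isTopologicalBasis (isTopologicalBasis_lim hF hFm hc) ?_
  rintro _ ⟨j, V, hV, rfl⟩
  exact (isSpectralMap_proj hF hFm hc j).isCompact_preimage_of_isOpen hV.1 hV.2

include hF hFm hc in
theorem quasiSeparatedSpace_lim : QuasiSeparatedSpace c.pt := by
  refine ⟨fun U V hUo hUc hVo hVc => ?_⟩
  obtain ⟨i, Ui, hUi, hUic, rfl⟩ := exists_compact_open_descend hF hFm hc U hUo hUc
  obtain ⟨j, Vj, hVj, hVjc, rfl⟩ := exists_compact_open_descend hF hFm hc V hVo hVc
  let k := IsCofiltered.min i j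
  let a : k ⟶ i := IsCofiltered.minToLeft i j
  let b : k ⟶ j := IsCofiltered.minToRight i j
  have : c.π.app i ⁻¹' Ui ∩ c.π.app j ⁻¹' Vj =
      c.π.app k ⁻¹' (F.map a ⁻¹' Ui ∩ F.map b ⁻¹' Vj) := by
    ext x
    simp only [mem_inter_iff, mem_preimage]
    rw [naturality, naturality]
  rw [this]
  refine (isSpectralMap_proj hF hFm hc k).isCompact_preimage_of_isOpen
    ((hUi.preimage (continuous_map a)).inter (hVj.preimage (continuous_map b))) ?_
  exact QuasiSeparatedSpace.inter_isCompact _ _ (hUi.preimage (continuous_map a))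
    ((hFm a).isCompact_preimage_of_isOpen hUi hUic) (hVj.preimage (continuous_map b))
    ((hFm b).isCompact_preimage_of_isOpen hVj hVjc)

include hF hFm hc in
theorem quasiSober_lim : QuasiSober c.pt := by
  refine ⟨fun {S} hirr hcl => ?_⟩
  have hirrj : ∀ j, IsIrreducible (closure (c.π.app j '' S)) := fun j =>
    (hirr.image _ (continuous_proj j).continuousOn).closure
  choose ξ hξ using fun j => QuasiSober.sober (hirrj j) isClosed_closure
  have hcompat : ∀ {i j : J} (a : i ⟶ j), F.map a (ξ i) = ξ j := by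
    intro i j a
    have h1 : IsGenericPoint (F.map a (ξ i)) (closure (F.map a '' closure (c.π.app i '' S))) :=
      (hξ i).image (continuous_map a)
    have h2 : closure (F.map a '' closure (c.π.app i '' S)) = closure (c.π.app j '' S) := by
      rw [closure_image_closure (continuous_map a), ← Set.image_comp]
      congr 2
      ext x
      exact naturality F c a x
    rw [h2] at h1
    exact h1.eq (hξ j)
  obtain ⟨x, hx⟩ := exists_of_compatible hc ξ hcompat
  refine ⟨x, ?_⟩
  have hB := isTopologicalBasis_lim hF hFm hc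
  rw [isGenericPoint_def]
  apply Subset.antisymm
  · refine closure_minimal (singleton_subset_iff.mpr ?_) hcl
    rw [← hcl.closure_eq, hB.mem_closure_iff]
    rintro _ ⟨j, V, hV, rfl⟩ hxV
    have hξV : ξ j ∈ V := by rw [← hx j]; exact hxV
    have hmem : ξ j ∈ closure (c.π.app j '' S) := (hξ j).mem
    obtain ⟨_, hzV, ⟨z, hzS, rfl⟩⟩ := mem_closure_iff.mp hmem V hV.1 hξV
    exact ⟨z, hzV, hzS⟩
  · intro z hzS
    rw [hB.mem_closure_iff]
    rintro _ ⟨j, V, hV, rfl⟩ hzV
    refine ⟨x, ?_, rfl⟩
    change c.π.app j x ∈ V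
    rw [hx j]
    exact ((hξ j).mem_open_set_iff hV.1).mpr ⟨c.π.app j z, subset_closure ⟨z, hzS, rfl⟩, hzV⟩

include hF hFm hc in
theorem spectralSpace_lim : SpectralSpace c.pt :=
  { toT0Space := t0Space_lim hF hc
    toCompactSpace := compactSpace_lim hF hFm hc
    toQuasiSober := quasiSober_lim hF hFm hc
    toQuasiSeparatedSpace := quasiSeparatedSpace_lim hF hFm hc
    toPrespectralSpace := prespectralSpace_lim hF hFm hc }

end Groth.Agent.Lib.helper11.SpecLim
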