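import Mathlib.Topology.Spectral.Basic
import Mathlib.Topology.Sober
import Mathlib.Topology.QuasiSeparated

/-!
Products of spectral spaces.
-/

set_option autoImplicit false
universe u v

namespace Groth.Agent.Lib.helper11.Spec

open Topology Set TopologicalSpace

variable {X : Type u} {Y : Type v} [TopologicalSpace X] [TopologicalSpace Y]

theorem quasiSober_prod [QuasiSober X] [QuasiSober Y] : QuasiSober (X × Y) := by
  refine ⟨fun {S} hirr hcl => ?_⟩
  have h1 : IsIrreducible (closure (Prod.fst '' S)) :=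
    (hirr.image _ continuous_fst.continuousOn).closure
  have h2 : IsIrreducible (closure (Prod.snd '' S)) :=
    (hirr.image _ continuous_snd.continuousOn).closure
  obtain ⟨ξ₁, hξ₁⟩ := QuasiSober.sober h1 isClosed_closure
  obtain ⟨ξ₂, hξ₂⟩ := QuasiSober.sober h2 isClosed_closure
  refine ⟨(ξ₁, ξ₂), ?_⟩
  rw [isGenericPoint_def]
  have hcl' : closure ({(ξ₁, ξ₂)} : Set (X × Y)) =
      closure (Prod.fst '' S) ×ˢ closure (Prod.snd '' S) := by
    rw [← Set.singleton_prod_singleton, closure_prod_eq, hξ₁.def, hξ₂.def]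
  apply Subset.antisymm
  · have hmem : (ξ₁, ξ₂) ∈ S := by
      by_contra hnot
      have : (ξ₁, ξ₂) ∈ Sᶜ := hnot
      obtain ⟨U, V, hU, hV, hξU, hξV, hUV⟩ := isOpen_prod_iff.mp hcl.isOpen_compl ξ₁ ξ₂ this
      have hU' : (S ∩ (U ×ˢ (univ : Set Y))).Nonempty := by
        have : ξ₁ ∈ closure (Prod.fst '' S) := hξ₁.mem
        obtain ⟨_, hzU, ⟨s, hs, rfl⟩⟩ := mem_closure_iff.mp this U hU hξU
        exact ⟨s, hs, hzU, trivial⟩
      have hV' : (S ∩ ((univ : Set X) ×ˢ V)).Nonempty := by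
        have : ξ₂ ∈ closure (Prod.snd '' S) := hξ₂.mem
        obtain ⟨_, hzV, ⟨s, hs, rfl⟩⟩ := mem_closure_iff.mp this V hV hξV
        exact ⟨s, hs, trivial, hzV⟩
      obtain ⟨s, hsS, ⟨hs1, -⟩, ⟨-, hs2⟩⟩ := hirr.isPreirreducible _ _ (hU.prod isOpen_univ)
        (isOpen_univ.prod hV) hU' hV'
      exact hUV (show s ∈ U ×ˢ V from ⟨hs1, hs2⟩) hsS
    exact closure_minimal (singleton_subset_iff.mpr hmem) hcl
  · rw [hcl']
    intro s hs
    exact ⟨subset_closure ⟨s, hs, rfl⟩, subset_closure ⟨s, hs, rfl⟩⟩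

theorem prespectralSpace_prod [PrespectralSpace X] [PrespectralSpace Y] :
    PrespectralSpace (X × Y) := by
  refine PrespectralSpace.of_isTopologicalBasis
    (PrespectralSpace.isTopologicalBasis.prod PrespectralSpace.isTopologicalBasis) ?_
  rintro _ ⟨U, hU, V, hV, rfl⟩
  exact hU.2.prod hV.2

theorem quasiSeparatedSpace_prod [PrespectralSpace X] [PrespectralSpace Y]
    [QuasiSeparatedSpace X] [QuasiSeparatedSpace Y] : QuasiSeparatedSpace (X × Y) := by
  let b : {U : Set X // IsOpen U ∧ IsCompact U} × {V : Set Y // IsOpen V ∧ IsCompact V} →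
      Set (X × Y) := fun p => p.1.1 ×ˢ p.2.1
  have hb : range b = image2 (· ×ˢ ·) {U : Set X | IsOpen U ∧ IsCompact U}
      {V : Set Y | IsOpen V ∧ IsCompact V} := by
    ext s
    constructor
    · rintro ⟨⟨⟨U, hU⟩, ⟨V, hV⟩⟩, rfl⟩
      exact ⟨U, hU, V, hV, rfl⟩
    · rintro ⟨U, hU, V, hV, rfl⟩
      exact ⟨⟨⟨U, hU⟩, ⟨V, hV⟩⟩, rfl⟩
  refine QuasiSeparatedSpace.of_isTopologicalBasis (b := b) ?_ ?_
  · rw [hb]
    exact PrespectralSpace.isTopologicalBasis.prod PrespectralSpace.isTopologicalBasis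
  · rintro ⟨⟨U, hU⟩, ⟨V, hV⟩⟩ ⟨⟨U', hU'⟩, ⟨V', hV'⟩⟩
    simp only [b, Set.prod_inter_prod]
    exact (QuasiSeparatedSpace.inter_isCompact U U' hU.1 hU.2 hU'.1 hU'.2).prod
      (QuasiSeparatedSpace.inter_isCompact V V' hV.1 hV.2 hV'.1 hV'.2)

theorem spectralSpace_prod [SpectralSpace X] [SpectralSpace Y] : SpectralSpace (X × Y) :=
  { toT0Space := inferInstance, toCompactSpace := inferInstance, toQuasiSober := quasiSober_prod,
    toQuasiSeparatedSpace := quasiSeparatedSpace_prod, toPrespectralSpace := prespectralSpace_prod }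

end Groth.Agent.Lib.helper11.Spec
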