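import Groth.Agent.Lib.helper11.Spectral
import Groth.Agent.Lib.helper11.ConstrMore

/-!
Constructibly closed subsets of spectral spaces are spectral.
-/

set_option autoImplicit false
universe u

namespace Groth.Agent.Lib.helper11.Spec

open Topology Set Groth.Agent.Lib.helper11

variable {X : Type u} [TopologicalSpace X]

theorem isSpectralMap_val_of_isClosed_constr [SpectralSpace X] (E : Set X)
    (hE : IsClosed[constructibleTopology X] E) : IsSpectralMap (Subtype.val : E → X) := by
  refine ⟨continuous_subtype_val, fun V hVo hVc => ?_⟩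
  rw [Topology.IsEmbedding.subtypeVal.isCompact_iff, Subtype.image_preimage_coe]
  apply isCompact_of_isClosed_constr
  exact @IsClosed.inter X E V (constructibleTopology X) hE (isClosed_constr_of_isCompact_isOpen hVc hVo)

theorem spectralSpace_of_isClosed_constr [SpectralSpace X] (E : Set X)
    (hE : IsClosed[constructibleTopology X] E) : SpectralSpace E := by
  have hspec := isSpectralMap_val_of_isClosed_constr E hE
  have hcomp : CompactSpace E := isCompact_iff_compactSpace.mp (isCompact_of_isClosed_constr hE)
  have hpre : PrespectralSpace E := PrespectralSpace.of_isInducing _ IsInducing.subtypeVal hspec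
  have hqs : QuasiSeparatedSpace E := by
    refine ⟨fun U V hUo hUc hVo hVc => ?_⟩
    obtain ⟨U', hU'c, hU'o, rfl⟩ := exists_isCompact_isOpen_preimage_eq E U hUc hUo
    obtain ⟨V', hV'c, hV'o, rfl⟩ := exists_isCompact_isOpen_preimage_eq E V hVc hVo
    rw [← Set.preimage_inter]
    exact hspec.isCompact_preimage_of_isOpen (hU'o.inter hV'o)
      (QuasiSeparatedSpace.inter_isCompact U' V' hU'o hU'c hV'o hV'c)
  have hsob : QuasiSober E := by
    refine ⟨fun {S} hirr hcl => ?_⟩
    set Z : Set X := closure (Subtype.val '' S) with hZ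
    have hZirr : IsIrreducible Z := (hirr.image _ continuous_subtype_val.continuousOn).closure
    obtain ⟨ξ, hξ⟩ := QuasiSober.sober hZirr isClosed_closure
    -- `val '' S = E ∩ Z`
    have hSZ : (Subtype.val : E → X) '' S = E ∩ Z := by
      obtain ⟨K, hK, rfl⟩ := isClosed_induced_iff.mp hcl
      rw [Subtype.image_preimage_coe] at hZ ⊢
      apply Subset.antisymm
      · exact fun x hx => ⟨hx.1, hZ ▸ subset_closure hx⟩
      · rintro x ⟨hxE, hxZ⟩
        refine ⟨hxE, ?_⟩
        rw [hZ] at hxZ
        exact closure_minimal inter_subset_right hK hxZ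
    have hcl' : IsClosed[constructibleTopology X] ((Subtype.val : E → X) '' S) := by
      rw [hSZ]
      exact @IsClosed.inter X E Z (constructibleTopology X) hE
        (isClosed_constr_of_isClosed isClosed_closure)
    have hne : ((Subtype.val : E → X) '' S).Nonempty := hirr.nonempty.image _
    obtain ⟨z, hzS, hz⟩ := exists_mem_inter_sInter hcl' hne {V | IsOpen V ∧ IsCompact V ∧ ξ ∈ V}
      (fun V hV => ⟨hV.1, hV.2.1⟩)
      (fun V hV => by
        have hξcl : ξ ∈ closure ((Subtype.val : E → X) '' S) := hξ.mem
        obtain ⟨w, hwV, hwS⟩ := mem_closure_iff.mp hξcl V hV.1 hV.2.2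
        exact ⟨w, hwS, hwV⟩)
      (fun V hV W hW => ⟨hV.1.inter hW.1,
        QuasiSeparatedSpace.inter_isCompact V W hV.1 hV.2.1 hW.1 hW.2.1, hV.2.2, hW.2.2⟩)
    have h1 : z ⤳ ξ := by
      rw [specializes_iff_forall_open]
      intro U hU hξU
      obtain ⟨V, ⟨hVo, hVc⟩, hξV, hVU⟩ :=
        PrespectralSpace.isTopologicalBasis.exists_subset_of_mem_open hξU hU
      exact hVU (hz V ⟨hVo, hVc, hξV⟩)
    have h2 : ξ ⤳ z := hξ.specializes (subset_closure hzS)
    have hzξ : z = ξ := (h1.antisymm h2).eq
    subst hzξ
    obtain ⟨s, hsS, rfl⟩ := hzS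
    refine ⟨s, ?_⟩
    rw [isGenericPoint_def, IsInducing.subtypeVal.closure_eq_preimage_closure_image,
      Set.image_singleton, hξ.def]
    ext x
    constructor
    · intro hx
      have : (x : X) ∈ E ∩ Z := ⟨x.2, hx⟩
      rw [← hSZ] at this
      obtain ⟨y, hyS, hy⟩ := this
      rwa [Subtype.val_injective hy] at hyS
    · intro hx
      exact subset_closure ⟨x, hx, rfl⟩
  exact { toT0Space := inferInstance, toCompactSpace := hcomp, toQuasiSober := hsob,
          toQuasiSeparatedSpace := hqs, toPrespectralSpace := hpre }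

end Groth.Agent.Lib.helper11.Spec
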