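import Groth.Agent.Lib.helper11.TrivRes
import Mathlib.RingTheory.Ideal.MinimalPrime.Basic
import Mathlib.RingTheory.Ideal.GoingUp
import Mathlib.RingTheory.Finiteness.Defs
import Mathlib.RingTheory.IntegralClosure.Algebra.Basic

/-! Structure of universal homeomorphisms `A ⊆ B`: existence of elements with `b², b³ ∈ A`. -/

set_option autoImplicit false
universe u
open CategoryTheory CategoryTheory.Limits AlgebraicGeometry MorphismProperty

namespace Groth.Agent.Lib.helper11.SqCube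

open Groth.Agent.Lib.helper11.UnivHomeo Groth.Agent.Lib.helper11.TrivRes

section pow

variable {B : Type u} [CommRing B] (R : Subring B)

theorem pow_mem_of_le {g : B} {n : ℕ} (hn0 : 0 < n) (hn : g ^ n ∈ R) (hn1 : g ^ (n + 1) ∈ R)
    (m : ℕ) (hm : n * n ≤ m) : g ^ m ∈ R := by
  have hq : n ≤ m / n := (Nat.le_div_iff_mul_le hn0).mpr hm
  have hr : m % n < n := Nat.mod_lt _ hn0
  have e : m = n * (m / n - m % n) + (n + 1) * (m % n) := by
    have h1 := Nat.div_add_mod m n
    have h2 : m % n ≤ m / n := le_trans hr.le hq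
    generalize m / n = q at h1 h2 ⊢
    generalize m % n = r at h1 h2 ⊢
    obtain ⟨d, rfl⟩ := Nat.exists_eq_add_of_le h2
    rw [Nat.add_sub_cancel_left, ← h1]
    ring
  rw [e, pow_add, pow_mul, pow_mul]
  exact R.mul_mem (R.pow_mem hn _) (R.pow_mem hn1 _)

/-- the power trick: from `g ∉ R` with two consecutive powers in `R` produce `b ∉ R` with
`b², b³ ∈ R`. -/
theorem exists_sq_cube_of_pow {g : B} (hg : g ∉ R) {n : ℕ} (hn : g ^ n ∈ R)
    (hn1 : g ^ (n + 1) ∈ R) : ∃ b, b ∉ R ∧ b ^ 2 ∈ R ∧ b ^ 3 ∈ R := by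
  classical
  have hn0 : 0 < n := by
    rcases Nat.eq_zero_or_pos n with rfl | h
    · exfalso
      apply hg
      simpa using hn1
    · exact h
  have h1 : 1 ≤ n * n := Nat.mul_pos hn0 hn0
  have hP1 : g ^ 1 ∉ R := by simpa using hg
  set m₀ := Nat.findGreatest (fun m => g ^ m ∉ R) (n * n) with hm₀
  have hspec : g ^ m₀ ∉ R := Nat.findGreatest_spec (P := fun m => g ^ m ∉ R) h1 hP1
  have hm1 : 1 ≤ m₀ := Nat.le_findGreatest (P := fun m => g ^ m ∉ R) h1 hP1
  have hgt : ∀ k, m₀ < k → g ^ k ∈ R := by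
    intro k hk
    by_cases hkn : k ≤ n * n
    · by_contra hc
      exact Nat.findGreatest_is_greatest (P := fun m => g ^ m ∉ R) hk hkn hc
    · exact pow_mem_of_le R hn0 hn hn1 k (le_of_not_ge hkn)
  refine ⟨g ^ m₀, hspec, ?_, ?_⟩
  · rw [← pow_mul]
    exact hgt _ (by omega)
  · rw [← pow_mul]
    exact hgt _ (by omega)

end pow

section core

variable {A B : Type u} [CommRing A] [CommRing B] (φ : A →+* B)

/-- the conductor ideal `{a | a B ⊆ A}` of `A` in `B`. -/
def conductor : Ideal A where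
  carrier := {a | ∀ b : B, φ a * b ∈ φ.range}
  add_mem' := by
    intro a a' ha ha' b
    rw [map_add, add_mul]
    exact φ.range.add_mem (ha b) (ha' b)
  zero_mem' := by
    intro b
    rw [map_zero, zero_mul]
    exact φ.range.zero_mem
  smul_mem' := by
    intro c a ha b
    rw [smul_eq_mul, map_mul, mul_assoc]
    exact φ.range.mul_mem ⟨c, rfl⟩ (ha b)

theorem mem_conductor {a : A} : a ∈ conductor φ ↔ ∀ b : B, φ a * b ∈ φ.range := Iff.rfl

theorem conductor_map (x : B) (hx : x ∈ (conductor φ).map φ) : ∃ i ∈ conductor φ, φ i = x := by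
  induction hx using Submodule.span_induction with
  | mem x hx =>
    obtain ⟨i, hi, rfl⟩ := hx
    exact ⟨i, hi, rfl⟩
  | zero => exact ⟨0, (conductor φ).zero_mem, map_zero _⟩
  | add x y _ _ hx hy =>
    obtain ⟨i, hi, rfl⟩ := hx
    obtain ⟨j, hj, rfl⟩ := hy
    exact ⟨i + j, (conductor φ).add_mem hi hj, map_add _ _ _⟩
  | smul b x _ hx =>
    obtain ⟨i, hi, rfl⟩ := hx
    obtain ⟨a, ha⟩ := hi b
    refine ⟨a, fun b' => ?_, ?_⟩
    · rw [ha, mul_assoc]
      exact hi _
    · rw [ha, smul_eq_mul, mul_comm]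

theorem core (hinj : Function.Injective φ) (hns : ¬ Function.Surjective φ) (hfin : φ.Finite)
    (hspec : ∀ Q₁ Q₂ : Ideal B, Q₁.IsPrime → Q₂.IsPrime → Q₁.comap φ = Q₂.comap φ → Q₁ = Q₂) :
    (∃ b : B, b ∉ φ.range ∧ b ^ 2 ∈ φ.range ∧ b ^ 3 ∈ φ.range) ∨
    ∃ (Q : Ideal B) (_ : Q.IsPrime), (∀ f ∈ Q, ∃ s, φ s ∉ Q ∧ φ s * f ∈ φ.range) ∧
      ∃ b, ¬ TrivAt φ Q b := by
  classical
  letI := φ.toAlgebra
  haveI : Module.Finite A B := hfin
  have halg : ∀ a : A, algebraMap A B a = φ a := fun _ => rfl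
  set I := conductor φ with hI
  have hItop : I ≠ ⊤ := by
    intro h
    apply hns
    intro b
    have : (1 : A) ∈ I := by rw [h]; trivial
    simpa using this b
  obtain ⟨⟨p, hp⟩⟩ := Ideal.nonempty_minimalPrimes hItop
  haveI hpprime : p.IsPrime := hp.1.1
  have hIp : I ≤ p := hp.1.2
  obtain ⟨Q, -, hQ, hQp⟩ := Ideal.exists_ideal_over_prime_of_isIntegral p (⊥ : Ideal B) (by
    intro a ha
    rw [Ideal.mem_comap, Ideal.mem_bot, halg] at ha
    have : a = 0 := hinj (by rw [ha, map_zero])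
    rw [this]
    exact zero_mem _)
  have hQp' : ∀ s : A, φ s ∈ Q ↔ s ∈ p := fun s => by
    rw [← hQp]
    rfl
  -- Claim 2
  have claim2 : ∀ f ∈ Q, ∃ (n : ℕ) (s : A), φ s ∉ Q ∧ φ s * f ^ n ∈ I.map φ := by
    intro f hfQ
    let M : Submonoid B :=
      { carrier := {x | ∃ (s : A) (n : ℕ), s ∉ p ∧ x = φ s * f ^ n}
        one_mem' := ⟨1, 0, fun h => hpprime.ne_top ((Ideal.eq_top_iff_one _).mpr h), by simp⟩
        mul_mem' := by
          rintro _ _ ⟨s₁, n₁, h₁, rfl⟩ ⟨s₂, n₂, h₂, rfl⟩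
          refine ⟨s₁ * s₂, n₁ + n₂, fun h => (hpprime.mem_or_mem h).elim h₁ h₂, ?_⟩
          rw [map_mul, pow_add]
          ring }
    by_cases hdis : Disjoint ((I.map φ : Ideal B) : Set B) (M : Set B)
    · exfalso
      obtain ⟨Q', hQ'prime, hJQ', hQ'M⟩ := Ideal.exists_le_prime_disjoint (I.map φ) M hdis
      have h1 : I ≤ Q'.comap φ := Ideal.map_le_iff_le_comap.mp hJQ'
      have h2 : Q'.comap φ ≤ p := by
        intro a ha
        by_contra hap
        exact Set.disjoint_left.mp hQ'M (Ideal.mem_comap.mp ha) ⟨a, 0, hap, by simp⟩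
      have h3 : p ≤ Q'.comap φ := hp.2 ⟨Ideal.comap_isPrime φ Q', h1⟩ h2
      have h4 : Q'.comap φ = Q.comap φ := by
        rw [le_antisymm h2 h3]
        exact hQp.symm
      have h5 : Q' = Q := hspec Q' Q hQ'prime hQ h4
      have hfM : f ∈ (M : Set B) := ⟨1, 1, fun h => hpprime.ne_top
        ((Ideal.eq_top_iff_one _).mpr h), by simp⟩
      have hfQ' : f ∈ (Q' : Set B) := by
        rw [h5]
        exact hfQ
      exact Set.disjoint_left.mp hQ'M hfQ' hfM
    · obtain ⟨x, hxJ, s, n, hs, rfl⟩ := Set.not_disjoint_iff.mp hdis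
      exact ⟨n, s, fun h => hs ((hQp' s).mp h), hxJ⟩
  by_cases hA : ∃ f ∈ Q, ∀ s, φ s ∉ Q → φ s * f ∉ φ.range
  · left
    obtain ⟨f, hfQ, hf⟩ := hA
    obtain ⟨n, s, hs, hmem⟩ := claim2 f hfQ
    have hg : φ s * f ∉ φ.range := hf s hs
    have h1 : (φ s * f) ^ (n + 1) ∈ I.map φ := by
      have : (φ s * f) ^ (n + 1) = (φ s ^ n * f) * (φ s * f ^ n) := by ring
      rw [this]
      exact Ideal.mul_mem_left _ _ hmem
    have h2 : (φ s * f) ^ (n + 1 + 1) ∈ I.map φ := by
      rw [pow_succ]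
      exact Ideal.mul_mem_right _ _ h1
    obtain ⟨i₁, -, hi₁⟩ := conductor_map φ _ h1
    obtain ⟨i₂, -, hi₂⟩ := conductor_map φ _ h2
    exact exists_sq_cube_of_pow φ.range hg ⟨i₁, hi₁⟩ ⟨i₂, hi₂⟩
  · right
    push Not at hA
    refine ⟨Q, hQ, hA, ?_⟩
    by_contra hall
    push Not at hall
    have key : ∀ b : B, ∃ t : A, t ∉ p ∧ φ t * b ∈ φ.range := by
      intro b
      obtain ⟨a, s, hs, hmem⟩ := hall b
      obtain ⟨s', hs', a', ha'⟩ := hA _ hmem
      refine ⟨s' * s, ?_, ?_⟩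
      · rw [← hQp', map_mul]
        exact fun h => (hQ.mem_or_mem h).elim hs' hs
      · refine ⟨a' + s' * a, ?_⟩
        rw [map_add, ha', map_mul, map_mul]
        ring
    choose t ht1 ht2 using key
    obtain ⟨S, hS⟩ := (Module.finite_def.mp (inferInstance : Module.Finite A B))
    set T : A := ∏ b ∈ S, t b with hT
    have hTp : T ∉ p := by
      rw [hT, Ideal.IsPrime.prod_mem_iff]
      push Not
      exact fun b _ => ht1 b
    apply hTp
    apply hIp
    let N : Submodule A B :=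
      { carrier := {b | φ T * b ∈ φ.range}
        add_mem' := by
          intro b b' hb hb'
          change φ T * (b + b') ∈ φ.range
          rw [mul_add]
          exact φ.range.add_mem hb hb'
        zero_mem' := by
          change φ T * 0 ∈ φ.range
          rw [mul_zero]
          exact φ.range.zero_mem
        smul_mem' := by
          intro c b hb
          change φ T * (c • b) ∈ φ.range
          rw [Algebra.smul_def, halg, mul_left_comm]
          exact φ.range.mul_mem ⟨c, rfl⟩ hb }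
    have hSN : (S : Set B) ⊆ N := by
      intro b hb
      obtain ⟨c, hc⟩ := Finset.dvd_prod_of_mem t hb
      change φ T * b ∈ φ.range
      rw [hT, hc, map_mul, mul_comm (φ (t b)), mul_assoc]
      exact φ.range.mul_mem ⟨c, rfl⟩ (ht2 b)
    have : (⊤ : Submodule A B) ≤ N := by
      rw [← hS]
      exact Submodule.span_le.mpr hSN
    intro b
    exact this (Submodule.mem_top (x := b))

end core

end Groth.Agent.Lib.helper11.SqCube
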