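import Mathlib.Topology.Category.TopCat.Limits.Basic
import Mathlib.Topology.Category.TopCat.Limits.Cofiltered

/-!
Elementary API for a limit cone in `TopCat`: points are compatible families.
-/

set_option autoImplicit false
universe u

namespace Groth.Agent.Lib.helper11.TopLim

open CategoryTheory CategoryTheory.Limits Topology

variable {J : Type u} [SmallCategory J] (F : J ⥤ TopCat.{u}) (c : Cone F)

theorem naturality {i j : J} (a : i ⟶ j) (x : c.pt) : F.map a (c.π.app i x) = c.π.app j x := by
  rw [← c.w a]
  rfl

variable {F c}

theorem exists_of_compatible (hc : IsLimit c) (u : ∀ j, F.obj j)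
    (hu : ∀ {i j : J} (a : i ⟶ j), F.map a (u i) = u j) : ∃ x : c.pt, ∀ j, c.π.app j x = u j := by
  let s : Cone F :=
    { pt := TopCat.of PUnit.{u + 1}
      π :=
        { app := fun j => TopCat.ofHom ⟨fun _ => u j, continuous_const⟩
          naturality := by
            intro i j a
            ext p
            exact (hu a).symm } }
  refine ⟨hc.lift s PUnit.unit, fun j => ?_⟩
  exact ConcreteCategory.congr_hom (hc.fac s j) PUnit.unit

theorem ext_of_isLimit (hc : IsLimit c) (x y : c.pt) (h : ∀ j, c.π.app j x = c.π.app j y) :
    x = y := by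
  let fx : TopCat.of PUnit.{u + 1} ⟶ c.pt := TopCat.ofHom ⟨fun _ => x, continuous_const⟩
  let fy : TopCat.of PUnit.{u + 1} ⟶ c.pt := TopCat.ofHom ⟨fun _ => y, continuous_const⟩
  have : fx = fy := by
    apply hc.hom_ext
    intro j
    ext p
    exact h j
  exact ConcreteCategory.congr_hom this PUnit.unit

theorem isInducing_pi (hc : IsLimit c) :
    IsInducing (fun (x : c.pt) (j : J) => c.π.app j x) := by
  constructor
  rw [TopCat.induced_of_isLimit c hc]
  simp only [Pi.topologicalSpace, induced_iInf, induced_compose]
  rfl

theorem continuous_proj (j : J) : Continuous (c.π.app j) := (c.π.app j).hom.continuous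

theorem continuous_map {i j : J} (a : i ⟶ j) : Continuous (F.map a) := (F.map a).hom.continuous

end Groth.Agent.Lib.helper11.TopLim
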