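import Mathlib.Algebra.Algebra.Subalgebra.Lattice
import Mathlib.RingTheory.Adjoin.Basic
import Mathlib.Data.List.Basic

/-! Towers of elementary extensions inside an algebra, indexed by lists. -/

set_option autoImplicit false
universe u

namespace Groth.Agent.Lib.helper11.Tower

variable {A B : Type u} [CommRing A] [CommRing B] [Algebra A B]

/-- the subalgebra generated by the entries of a list. -/
noncomputable abbrev adj (A : Type u) {B : Type u} [CommRing A] [CommRing B] [Algebra A B]
    (l : List B) : Subalgebra A B := Algebra.adjoin A {b | b ∈ l}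

/-- a list is a `P`-tower when each entry satisfies `P` relative to the subalgebra generated by the
earlier entries. -/
def Good (P : Subalgebra A B → B → Prop) (l : List B) : Prop :=
  ∀ (i : ℕ) (h : i < l.length), P (adj A (l.take i)) l[i]

theorem prev_eq (l : List B) (i : Fin l.length) :
    {b : B | ∃ j : Fin l.length, j < i ∧ b = l.get j} = {b | b ∈ l.take i} := by
  ext b
  simp only [Set.mem_setOf_eq, List.mem_take_iff_getElem]
  constructor
  · rintro ⟨j, hj, rfl⟩
    exact ⟨j.1, lt_min hj j.2, rfl⟩
  · rintro ⟨k, hk, rfl⟩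
    exact ⟨⟨k, (lt_min_iff.mp hk).2⟩, (lt_min_iff.mp hk).1, rfl⟩

theorem good_iff (P : Subalgebra A B → B → Prop) (l : List B) :
    (∀ i : Fin l.length, P (Algebra.adjoin A
      {b : B | ∃ j : Fin l.length, j < i ∧ b = l.get j}) (l.get i)) ↔ Good P l := by
  constructor
  · intro h i hi
    have := h ⟨i, hi⟩
    rw [prev_eq] at this
    exact this
  · intro h i
    rw [prev_eq]
    exact h i.1 i.2

theorem adj_mono {l l' : List B} (h : ∀ b ∈ l, b ∈ l') : adj A l ≤ adj A l' :=
  Algebra.adjoin_mono fun b hb => h b hb

variable {P : Subalgebra A B → B → Prop}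

theorem Good.nil : Good P ([] : List B) := fun i h => by simp at h

theorem Good.append (hmono : ∀ S S' b, S ≤ S' → P S b → P S' b) {l₁ l₂ : List B}
    (h₁ : Good P l₁) (h₂ : Good P l₂) : Good P (l₁ ++ l₂) := by
  intro i hi
  by_cases hlt : i < l₁.length
  · rw [List.getElem_append_left hlt, List.take_append_of_le_length hlt.le]
    exact h₁ i hlt
  · have hge : l₁.length ≤ i := not_lt.mp hlt
    rw [List.getElem_append_right hge]
    have hi' : i - l₁.length < l₂.length := by
      rw [List.length_append] at hi
      omega
    refine hmono _ _ _ ?_ (h₂ (i - l₁.length) hi')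
    apply adj_mono
    intro b hb
    rw [List.take_append]
    exact List.mem_append_right _ hb

theorem Good.concat {l : List B} {b : B} (h : Good P l) (hb : P (adj A l) b) :
    Good P (l ++ [b]) := by
  intro i hi
  by_cases hlt : i < l.length
  · rw [List.getElem_append_left hlt, List.take_append_of_le_length hlt.le]
    exact h i hlt
  · have hge : l.length ≤ i := not_lt.mp hlt
    have hi' : i = l.length := by
      rw [List.length_append, List.length_singleton] at hi
      omega
    subst hi'
    rw [List.getElem_concat_length rfl, List.take_left' rfl]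
    exact hb

/-- tower induction: a property closed under the algebra operations and under the elementary
steps holds on the subalgebra generated by a tower. -/
theorem Good.induction {l : List B} (hl : Good P l) (M : B → Prop)
    (halg : ∀ a, M (algebraMap A B a)) (hadd : ∀ x y, M x → M y → M (x + y))
    (hmul : ∀ x y, M x → M y → M (x * y))
    (hstep : ∀ (S : Subalgebra A B) (b : B), (∀ x ∈ S, M x) → P S b → M b) :
    ∀ x ∈ adj A l, M x := by
  have hgen : ∀ (i : ℕ) (h : i < l.length), M l[i] := by
    intro i
    induction i using Nat.strong_induction_on with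
    | _ i ih =>
      intro h
      refine hstep _ _ ?_ (hl i h)
      intro x hx
      induction hx using Algebra.adjoin_induction with
      | mem x hx =>
        obtain ⟨k, hk, rfl⟩ := List.mem_take_iff_getElem.mp hx
        exact ih k (lt_min_iff.mp hk).1 (lt_min_iff.mp hk).2
      | algebraMap a => exact halg a
      | add x y _ _ hx hy => exact hadd x y hx hy
      | mul x y _ _ hx hy => exact hmul x y hx hy
  intro x hx
  induction hx using Algebra.adjoin_induction with
  | mem x hx =>
    obtain ⟨k, hk, rfl⟩ := List.mem_iff_getElem.mp hx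
    exact hgen k hk
  | algebraMap a => exact halg a
  | add x y _ _ hx hy => exact hadd x y hx hy
  | mul x y _ _ hx hy => exact hmul x y hx hy

/-- the subalgebra of elements reachable by `P`-towers. -/
def reach (hmono : ∀ S S' b, S ≤ S' → P S b → P S' b) : Subalgebra A B where
  carrier := {b | ∃ l, Good P l ∧ b ∈ adj A l}
  mul_mem' := by
    rintro x y ⟨l₁, h₁, hx⟩ ⟨l₂, h₂, hy⟩
    refine ⟨l₁ ++ l₂, h₁.append hmono h₂, ?_⟩
    exact Subalgebra.mul_mem _ (adj_mono (fun b hb => List.mem_append_left _ hb) hx)
      (adj_mono (fun b hb => List.mem_append_right _ hb) hy)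
  add_mem' := by
    rintro x y ⟨l₁, h₁, hx⟩ ⟨l₂, h₂, hy⟩
    refine ⟨l₁ ++ l₂, h₁.append hmono h₂, ?_⟩
    exact Subalgebra.add_mem _ (adj_mono (fun b hb => List.mem_append_left _ hb) hx)
      (adj_mono (fun b hb => List.mem_append_right _ hb) hy)
  algebraMap_mem' := fun a => ⟨[], Good.nil, Subalgebra.algebraMap_mem _ a⟩

theorem mem_reach (hmono : ∀ S S' b, S ≤ S' → P S b → P S' b) {b : B} :
    b ∈ reach hmono ↔ ∃ l, Good P l ∧ b ∈ adj A l := Iff.rfl

/-- a step relative to `reach` stays in `reach`, provided `P` only depends on finitely many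
memberships (here: given explicitly as two elements). -/
theorem mem_reach_of_step (hmono : ∀ S S' b, S ≤ S' → P S b → P S' b) {b : B}
    (h : ∃ l, Good P l ∧ P (adj A l) b) : b ∈ reach hmono := by
  obtain ⟨l, hl, hb⟩ := h
  refine ⟨l ++ [b], hl.concat hb, ?_⟩
  exact Algebra.subset_adjoin (by simp)

theorem exists_good_of_finset (hmono : ∀ S S' b, S ≤ S' → P S b → P S' b)
    (h : ∀ b : B, b ∈ reach hmono) (E : Finset B) :
    ∃ l : List B, (↑E : Set B) ⊆ adj A l ∧ Good P l := by
  classical
  induction E using Finset.induction_on with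
  | empty => exact ⟨[], by simp, Good.nil⟩
  | insert e E _ ih =>
    obtain ⟨l₁, hE, h₁⟩ := ih
    obtain ⟨l₂, h₂, he⟩ := h e
    refine ⟨l₁ ++ l₂, ?_, h₁.append hmono h₂⟩
    intro x hx
    rw [Finset.coe_insert, Set.mem_insert_iff] at hx
    rcases hx with rfl | hx
    · exact adj_mono (fun b hb => List.mem_append_right _ hb) he
    · exact adj_mono (fun b hb => List.mem_append_left _ hb) (hE hx)

end Groth.Agent.Lib.helper11.Tower
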