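import Mathlib
import Groth.Agent.Lib.helper11.LimOpenMap
import Groth.Agent.Lib.helper11.LfpConv

/-!
# Universal openness can be tested on affine spaces (EGA IV 8.10.2 / Stacks 0EUJ)
-/

set_option autoImplicit false
universe u
open CategoryTheory CategoryTheory.Limits AlgebraicGeometry Topology TopologicalSpace

namespace Groth.Agent.Lib.helper11.UOpenAff

open AffineSpace Groth.Agent.Lib.helper11.LimOpenMap

/-- Base change of an open base change along a preimmersion is open. -/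
lemma isOpenMap_fst_comp_of_isPreimmersion {X Y Z Z' : Scheme.{u}} (a : Z' ⟶ Z) [IsPreimmersion a]
    (q : Z ⟶ Y) (f : X ⟶ Y) (h : IsOpenMap (pullback.fst q f)) :
    IsOpenMap (pullback.fst (a ≫ q) f) := by
  have t : IsPullback (pullback.fst q f) (pullback.snd q f) q f := IsPullback.of_hasPullback q f
  have s : IsPullback (pullback.fst (a ≫ q) f) (pullback.snd (a ≫ q) f) (a ≫ q) f :=
    IsPullback.of_hasPullback _ f
  have hsq := IsPullback.of_bot' s t
  set u := t.lift (pullback.fst (a ≫ q) f ≫ a) (pullback.snd (a ≫ q) f)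
    (by rw [Category.assoc, s.w]) with hu
  haveI : IsPreimmersion u := MorphismProperty.of_isPullback hsq ‹_›
  intro W hW
  obtain ⟨W₁, hW₁, rfl⟩ := u.isEmbedding.isInducing.isOpen_iff.mp hW
  rw [image_preimage_of_isPullback hsq.flip]
  exact (h _ hW₁).preimage a.continuous

lemma isOpenMap_map_of_equiv {n₁ n₂ : Type u} (e : n₁ ≃ n₂) {S T : Scheme.{u}} (f : S ⟶ T)
    (h : IsOpenMap (map n₂ f)) : IsOpenMap (map n₁ f) := by
  have h1 : ∀ Z : Scheme.{u}, reindex e Z ≫ reindex e.symm Z = 𝟙 _ := by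
    intro Z
    apply AffineSpace.hom_ext <;> simp
  have h2 : ∀ Z : Scheme.{u}, reindex e.symm Z ≫ reindex e Z = 𝟙 _ := by
    intro Z
    apply AffineSpace.hom_ext <;> simp
  have : ∀ Z : Scheme.{u}, IsIso (reindex e Z) := fun Z => ⟨_, h1 Z, h2 Z⟩
  have : map n₁ f = inv (reindex e S) ≫ map n₂ f ≫ reindex e T := by
    rw [IsIso.eq_inv_comp, map_reindex]
  rw [this]
  simp only [Scheme.Hom.comp_base, TopCat.hom_comp, ContinuousMap.coe_comp]
  exact ((reindex e T).isOpenEmbedding.isOpenMap.comp h).comp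
    (inv (reindex e S)).isOpenEmbedding.isOpenMap


/-- Adding a dummy variable: a finite type algebra is a quotient of a polynomial ring in
`n + 1` variables. -/
lemma exists_surjective_succ (R C : Type u) [CommRing R] [CommRing C] [Algebra R C]
    [Algebra.FiniteType R C] :
    ∃ (n : ℕ) (ψ : MvPolynomial (ULift.{u} (Fin (n + 1))) R →ₐ[R] C), Function.Surjective ψ := by
  obtain ⟨n, φ, hφ⟩ := Algebra.FiniteType.iff_quotient_mvPolynomial''.mp
    (inferInstance : Algebra.FiniteType R C)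
  let κ : ULift.{u} (Fin (n + 1)) → MvPolynomial (Fin n) R :=
    fun i => Fin.lastCases 0 (fun k => MvPolynomial.X k) i.down
  let ι : Fin n → ULift.{u} (Fin (n + 1)) := fun k => ⟨Fin.castSucc k⟩
  refine ⟨n, φ.comp (MvPolynomial.aeval κ), ?_⟩
  intro c
  obtain ⟨p, rfl⟩ := hφ c
  refine ⟨MvPolynomial.rename ι p, ?_⟩
  show φ (MvPolynomial.aeval κ (MvPolynomial.rename ι p)) = φ p
  congr 1
  rw [MvPolynomial.aeval_rename]
  have : κ ∘ ι = MvPolynomial.X := by
    funext k
    show Fin.lastCases 0 (fun k => MvPolynomial.X k) (Fin.castSucc k) = MvPolynomial.X k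
    rw [Fin.lastCases_castSucc]
  rw [this, MvPolynomial.aeval_X_left]
  rfl

/-- The stage maps are open. -/
lemma isOpenMap_fst_of_finiteType {X Y : Scheme.{u}} (f : X ⟶ Y)
    (H : ∀ n : ℕ, 0 < n → IsOpenMap (map (ULift.{u} (Fin n)) f))
    {R : CommRingCat.{u}} (iU : Spec R ⟶ Y) [IsOpenImmersion iU] (C : Type u) [CommRing C]
    [Algebra R C] [Algebra.FiniteType R C] :
    IsOpenMap (pullback.fst (Spec.map (CommRingCat.ofHom (algebraMap R C)) ≫ iU) f) := by
  obtain ⟨n, ψ, hψ⟩ := exists_surjective_succ R C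
  let σ := ULift.{u} (Fin (n + 1))
  let cl : Spec (CommRingCat.of C) ⟶ Spec (CommRingCat.of (MvPolynomial σ R)) :=
    Spec.map (CommRingCat.ofHom ψ.toRingHom)
  haveI : IsClosedImmersion cl := IsClosedImmersion.spec_of_surjective _ hψ
  have hfac : Spec.map (CommRingCat.ofHom (algebraMap R C)) =
      cl ≫ Spec.map (CommRingCat.ofHom (MvPolynomial.C : R →+* MvPolynomial σ R)) := by
    rw [← Spec.map_comp, ← CommRingCat.ofHom_comp]
    congr 2
    ext r
    exact (ψ.commutes r).symm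
  rw [hfac, Category.assoc]
  apply isOpenMap_fst_comp_of_isPreimmersion
  -- now the polynomial ring
  let m : Spec (CommRingCat.of (MvPolynomial σ R)) ⟶ 𝔸(σ; Y) := (SpecIso σ R).inv ≫ map σ iU
  haveI : IsOpenImmersion (map σ iU) :=
    MorphismProperty.of_isPullback (P := @IsOpenImmersion) (isPullback_map (n := σ) iU).flip ‹_›
  haveI : IsOpenImmersion m := inferInstance
  have hq : Spec.map (CommRingCat.ofHom (MvPolynomial.C : R →+* MvPolynomial σ R)) ≫ iU =
      m ≫ (𝔸(σ; Y) ↘ Y) := by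
    show _ = ((SpecIso σ R).inv ≫ map σ iU) ≫ (𝔸(σ; Y) ↘ Y)
    rw [Category.assoc, map_over, ← Category.assoc, SpecIso_inv_over]
  rw [hq]
  apply isOpenMap_fst_comp_of_isPreimmersion
  have hpb := isPullback_map (n := σ) f
  have : pullback.fst (𝔸(σ; Y) ↘ Y) f = hpb.isoPullback.inv ≫ map σ f :=
    (hpb.isoPullback_inv_fst).symm
  rw [this]
  have hσ : IsOpenMap (map σ f) := H (n + 1) (Nat.succ_pos n)
  simp only [Scheme.Hom.comp_base, TopCat.hom_comp, ContinuousMap.coe_comp]
  exact hσ.comp hpb.isoPullback.inv.isOpenEmbedding.isOpenMap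


open Groth.Agent.Lib.helper28.FPColim Groth.Agent.Lib.helper11.LfpConv in
/-- Affine base changes (into an affine open) are open. -/
lemma isOpenMap_fst_of_affine {X Y : Scheme.{u}} (f : X ⟶ Y)
    (H : ∀ n : ℕ, 0 < n → IsOpenMap (map (ULift.{u} (Fin n)) f))
    {R : CommRingCat.{u}} (iU : Spec R ⟶ Y) [IsOpenImmersion iU] (B : Type u) [CommRing B]
    [Algebra R B] :
    IsOpenMap (pullback.fst (Spec.map (CommRingCat.ofHom (algebraMap R B)) ≫ iU) f) := by
  have hτ : ∀ {j k : (Idx R B)ᵒᵖ} (φ : j ⟶ k),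
      (DS R B).map φ ≫ (tS R B iU).app k = (tS R B iU).app j := by
    intro j k φ
    have := (tS R B iU).naturality φ
    simpa using this
  refine isOpenMap_fst_of_stages (DS R B) (fun j => (tS R B iU).app j) hτ (cS R B) (hcS R B)
    (Spec.map (CommRingCat.ofHom (algebraMap R B)) ≫ iU) (fun j => cS_tS R B iU j) f ?_
  intro j
  haveI : Algebra.FinitePresentation R (PS R B j.unop.S ⧸ j.unop.J) :=
    Algebra.FinitePresentation.quotient j.unop.fg
  exact isOpenMap_fst_of_finiteType f H iU (PS R B j.unop.S ⧸ j.unop.J)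

/-- **Core**: if all the maps `𝔸ⁿ_X ⟶ 𝔸ⁿ_Y` (`n > 0`) are open then `f` is universally open. -/
theorem universallyOpen_of_forall_isOpenMap_map {X Y : Scheme.{u}} (f : X ⟶ Y)
    (H : ∀ n : ℕ, 0 < n → IsOpenMap (map (ULift.{u} (Fin n)) f)) : UniversallyOpen f := by
  refine ⟨MorphismProperty.universally_mk' _ _ fun {T} g _ => ?_⟩
  -- an affine open cover of `T` refining the preimage of an affine cover of `Y`
  have hex : ∀ t : T, ∃ (U : Y.Opens) (V : T.Opens), IsAffineOpen U ∧ IsAffineOpen V ∧ t ∈ V ∧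
      V ≤ g ⁻¹ᵁ U := by
    intro t
    obtain ⟨_, ⟨U, hU, rfl⟩, hgU, -⟩ := Y.isBasis_affineOpens.exists_subset_of_mem_open
      (Set.mem_univ (g t)) isOpen_univ
    obtain ⟨_, ⟨V, hV, rfl⟩, htV, hVU⟩ := T.isBasis_affineOpens.exists_subset_of_mem_open
      (show t ∈ ((g ⁻¹ᵁ U : T.Opens) : Set T) from hgU) (g ⁻¹ᵁ U).2
    exact ⟨U, V, hU, hV, htV, hVU⟩
  choose U V hU hV htV hVU using hex
  have hcov : IsOpenCover V := IsOpenCover.mk (by
    rw [eq_top_iff]
    intro t _
    exact TopologicalSpace.Opens.mem_iSup.mpr ⟨t, htV t⟩)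
  let 𝒱 := T.openCoverOfIsOpenCover V hcov
  refine (IsZariskiLocalAtTarget.iff_of_openCover (P := topologically @IsOpenMap) 𝒱).mpr
    fun t => ?_
  refine (MorphismProperty.cancel_left_of_respectsIso _
    ((pullbackRightPullbackFstIso ..).inv ≫ (pullbackSymmetry ..).hom) _).mp ?_
  suffices h : IsOpenMap (pullback.fst ((V t).ι ≫ g) f) by
    simpa [Scheme.Cover.pullbackHom, 𝒱] using! h
  -- factor `(V t).ι ≫ g` through `Spec`
  letI : Algebra Γ(Y, U t) Γ(T, V t) := (g.appLE (U t) (V t) (hVU t)).hom.toAlgebra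
  have hsq : (hV t).fromSpec ≫ g =
      Spec.map (CommRingCat.ofHom (algebraMap Γ(Y, U t) Γ(T, V t))) ≫ (hU t).fromSpec :=
    (IsAffineOpen.SpecMap_appLE_fromSpec g (hU t) (hV t) (hVU t)).symm
  have hfac : (V t).ι ≫ g = (hV t).isoSpec.hom ≫
      Spec.map (CommRingCat.ofHom (algebraMap Γ(Y, U t) Γ(T, V t))) ≫ (hU t).fromSpec := by
    rw [← hsq, ← Category.assoc, IsAffineOpen.isoSpec_hom_fromSpec]
  rw [hfac]
  apply isOpenMap_fst_comp_of_isPreimmersion
  exact isOpenMap_fst_of_affine f H (hU t).fromSpec Γ(T, V t)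

end Groth.Agent.Lib.helper11.UOpenAff
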