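import Mathlib
import Groth.Agent.Lib.helper11.UOpenAff

/-!
# Closedness of base changes along finitely presented morphisms from affine spaces
-/

set_option autoImplicit false
universe u
open CategoryTheory CategoryTheory.Limits AlgebraicGeometry Topology TopologicalSpace

namespace Groth.Agent.Lib.helper11.UClosedAff

open AffineSpace Groth.Agent.Lib.helper11.LimOpenMap Groth.Agent.Lib.helper11.UOpenAff

/-- Base change of a closed base change along a preimmersion is closed. -/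
lemma isClosedMap_fst_comp_of_isPreimmersion {X Y Z Z' : Scheme.{u}} (a : Z' ⟶ Z)
    [IsPreimmersion a] (q : Z ⟶ Y) (f : X ⟶ Y) (h : IsClosedMap (pullback.fst q f)) :
    IsClosedMap (pullback.fst (a ≫ q) f) := by
  have t : IsPullback (pullback.fst q f) (pullback.snd q f) q f := IsPullback.of_hasPullback q f
  have s : IsPullback (pullback.fst (a ≫ q) f) (pullback.snd (a ≫ q) f) (a ≫ q) f :=
    IsPullback.of_hasPullback _ f
  have hsq := IsPullback.of_bot' s t
  set u := t.lift (pullback.fst (a ≫ q) f ≫ a) (pullback.snd (a ≫ q) f)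
    (by rw [Category.assoc, s.w]) with hu
  haveI : IsPreimmersion u := MorphismProperty.of_isPullback hsq ‹_›
  intro W hW
  obtain ⟨W₁, hW₁, rfl⟩ := u.isEmbedding.isInducing.isClosed_iff.mp hW
  rw [image_preimage_of_isPullback hsq.flip]
  exact (h _ hW₁).preimage a.continuous

/-- The stage maps are closed. -/
lemma isClosedMap_fst_of_finiteType {X Y : Scheme.{u}} (f : X ⟶ Y)
    (H : ∀ n : ℕ, IsClosedMap (pullback.snd f (𝔸(ULift.{u} (Fin n); Y) ↘ Y)))
    {R : CommRingCat.{u}} (iU : Spec R ⟶ Y) [IsOpenImmersion iU] (C : Type u) [CommRing C]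
    [Algebra R C] [Algebra.FiniteType R C] :
    IsClosedMap (pullback.fst (Spec.map (CommRingCat.ofHom (algebraMap R C)) ≫ iU) f) := by
  obtain ⟨n, ψ, hψ⟩ := exists_surjective_succ R C
  let σ := ULift.{u} (Fin (n + 1))
  let cl : Spec (CommRingCat.of C) ⟶ Spec (CommRingCat.of (MvPolynomial σ R)) :=
    Spec.map (CommRingCat.ofHom ψ.toRingHom)
  haveI : IsClosedImmersion cl := IsClosedImmersion.spec_of_surjective _ hψ
  have hfac : Spec.map (CommRingCat.ofHom (algebraMap R C)) =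
      cl ≫ Spec.map (CommRingCat.ofHom (MvPolynomial.C : R →+* MvPolynomial σ R)) := by
    rw [← Spec.map_comp, ← CommRingCat.ofHom_comp]
    congr 2
    ext r
    exact (ψ.commutes r).symm
  rw [hfac, Category.assoc]
  apply isClosedMap_fst_comp_of_isPreimmersion
  let m : Spec (CommRingCat.of (MvPolynomial σ R)) ⟶ 𝔸(σ; Y) := (SpecIso σ R).inv ≫ map σ iU
  haveI : IsOpenImmersion (map σ iU) :=
    MorphismProperty.of_isPullback (P := @IsOpenImmersion) (isPullback_map (n := σ) iU).flip ‹_›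
  haveI : IsOpenImmersion m := inferInstance
  have hq : Spec.map (CommRingCat.ofHom (MvPolynomial.C : R →+* MvPolynomial σ R)) ≫ iU =
      m ≫ (𝔸(σ; Y) ↘ Y) := by
    show _ = ((SpecIso σ R).inv ≫ map σ iU) ≫ (𝔸(σ; Y) ↘ Y)
    rw [Category.assoc, map_over, ← Category.assoc, SpecIso_inv_over]
  rw [hq]
  apply isClosedMap_fst_comp_of_isPreimmersion
  have : pullback.fst (𝔸(σ; Y) ↘ Y) f =
      (pullbackSymmetry (𝔸(σ; Y) ↘ Y) f).hom ≫ pullback.snd f (𝔸(σ; Y) ↘ Y) :=
    (pullbackSymmetry_hom_comp_snd _ _).symm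
  rw [this]
  simp only [Scheme.Hom.comp_base, TopCat.hom_comp, ContinuousMap.coe_comp]
  exact (H (n + 1)).comp (pullbackSymmetry (𝔸(σ; Y) ↘ Y) f).hom.homeomorph.isClosedMap

/-- If all the maps `X ×_Y 𝔸ⁿ_Y ⟶ 𝔸ⁿ_Y` are closed, then so is every base change of `f` along
a morphism locally of finite type. -/
theorem isClosedMap_snd_of_locallyOfFiniteType {X Y : Scheme.{u}} (f : X ⟶ Y)
    (H : ∀ n : ℕ, IsClosedMap (pullback.snd f (𝔸(ULift.{u} (Fin n); Y) ↘ Y)))
    {T : Scheme.{u}} (g : T ⟶ Y) [LocallyOfFiniteType g] : IsClosedMap (pullback.snd f g) := by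
  suffices hfst : IsClosedMap (pullback.fst g f) by
    have : pullback.snd f g = (pullbackSymmetry f g).hom ≫ pullback.fst g f :=
      (pullbackSymmetry_hom_comp_fst _ _).symm
    rw [this]
    simp only [Scheme.Hom.comp_base, TopCat.hom_comp, ContinuousMap.coe_comp]
    exact hfst.comp (pullbackSymmetry f g).hom.homeomorph.isClosedMap
  have hex : ∀ t : T, ∃ (U : Y.Opens) (V : T.Opens), IsAffineOpen U ∧ IsAffineOpen V ∧ t ∈ V ∧
      V ≤ g ⁻¹ᵁ U := by
    intro t
    obtain ⟨_, ⟨U, hU, rfl⟩, hgU, -⟩ := Y.isBasis_affineOpens.exists_subset_of_mem_open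
      (Set.mem_univ (g t)) isOpen_univ
    obtain ⟨_, ⟨V, hV, rfl⟩, htV, hVU⟩ := T.isBasis_affineOpens.exists_subset_of_mem_open
      (show t ∈ ((g ⁻¹ᵁ U : T.Opens) : Set T) from hgU) (g ⁻¹ᵁ U).2
    exact ⟨U, V, hU, hV, htV, hVU⟩
  choose U V hU hV htV hVU using hex
  have hcov : IsOpenCover V := IsOpenCover.mk (by
    rw [eq_top_iff]
    intro t _
    exact TopologicalSpace.Opens.mem_iSup.mpr ⟨t, htV t⟩)
  let 𝒱 := T.openCoverOfIsOpenCover V hcov
  refine (IsZariskiLocalAtTarget.iff_of_openCover (P := topologically @IsClosedMap) 𝒱).mpr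
    fun t => ?_
  refine (MorphismProperty.cancel_left_of_respectsIso _
    ((pullbackRightPullbackFstIso ..).inv ≫ (pullbackSymmetry ..).hom) _).mp ?_
  suffices h : IsClosedMap (pullback.fst ((V t).ι ≫ g) f) by
    simpa [Scheme.Cover.pullbackHom, 𝒱] using! h
  letI : Algebra Γ(Y, U t) Γ(T, V t) := (g.appLE (U t) (V t) (hVU t)).hom.toAlgebra
  haveI : Algebra.FiniteType Γ(Y, U t) Γ(T, V t) :=
    HasRingHomProperty.appLE (P := @LocallyOfFiniteType) g ‹_› ⟨U t, hU t⟩ ⟨V t, hV t⟩ (hVU t)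
  have hsq : (hV t).fromSpec ≫ g =
      Spec.map (CommRingCat.ofHom (algebraMap Γ(Y, U t) Γ(T, V t))) ≫ (hU t).fromSpec :=
    (IsAffineOpen.SpecMap_appLE_fromSpec g (hU t) (hV t) (hVU t)).symm
  have hfac : (V t).ι ≫ g = (hV t).isoSpec.hom ≫
      Spec.map (CommRingCat.ofHom (algebraMap Γ(Y, U t) Γ(T, V t))) ≫ (hU t).fromSpec := by
    rw [← hsq, ← Category.assoc, IsAffineOpen.isoSpec_hom_fromSpec]
  rw [hfac]
  apply isClosedMap_fst_comp_of_isPreimmersion
  exact isClosedMap_fst_of_finiteType f H (hU t).fromSpec Γ(T, V t)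

end Groth.Agent.Lib.helper11.UClosedAff
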