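import Groth.Agent.Lib.helper11.SqCube2

/-! Ring-level calculus for universal homeomorphisms of spectra. -/

set_option autoImplicit false
universe u
open CategoryTheory CategoryTheory.Limits AlgebraicGeometry MorphismProperty

namespace Groth.Agent.Lib.helper11.UHRing

open Groth.Agent.Lib.helper11.UnivHomeo Groth.Agent.Lib.helper11.SqCube

/-- `Spec α` is a universal homeomorphism. -/
abbrev UH {A B : Type u} [CommRing A] [CommRing B] (α : A →+* B) : Prop :=
  FlatMor.IsUnivHomeo (Spec.map (CommRingCat.ofHom α))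

section
variable {A B C : Type u} [CommRing A] [CommRing B] [CommRing C]

theorem uh_iff (α : A →+* B) : UH α ↔ α.IsIntegral ∧
    (∀ (K : Type u) [Field K] (σ τ : B →+* K), σ.comp α = τ.comp α → σ = τ) ∧
    ∀ a, α a = 0 → IsNilpotent a := by
  rw [UH, isUnivHomeo_iff]
  constructor
  · rintro ⟨h1, h2, h3⟩
    exact ⟨isIntegral_of_univClosed_SpecMap α, (univInj_SpecMap_iff α).mp h2,
      ker_nil_of_surjective α h3⟩
  · rintro ⟨h1, h2, h3⟩
    exact ⟨univClosed_SpecMap_of_isIntegral α h1, (univInj_SpecMap_iff α).mpr h2,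
      surjective_of_integral_of_ker_nil α h1 h3⟩

theorem spec_inj_of_epi (α : A →+* B)
    (hepi : ∀ (K : Type u) [Field K] (σ τ : B →+* K), σ.comp α = τ.comp α → σ = τ)
    (Q₁ Q₂ : Ideal B) (h₁ : Q₁.IsPrime) (h₂ : Q₂.IsPrime)
    (e : Q₁.comap α = Q₂.comap α) : Q₁ = Q₂ := by
  haveI : UniversallyInjective (Spec.map (CommRingCat.ofHom α)) := (univInj_SpecMap_iff α).mpr hepi
  have hi := (Spec.map (CommRingCat.ofHom α)).injective
  have : (⟨Q₁, h₁⟩ : Spec (CommRingCat.of B)) = ⟨Q₂, h₂⟩ := hi (PrimeSpectrum.ext e)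
  exact congrArg PrimeSpectrum.asIdeal this

theorem spec_surj (α : A →+* B) (hint : α.IsIntegral) (hnil : ∀ a, α a = 0 → IsNilpotent a)
    (p : Ideal A) [p.IsPrime] : ∃ Q : Ideal B, Q.IsPrime ∧ Q.comap α = p := by
  have := surjective_of_integral_of_ker_nil α hint hnil
  obtain ⟨q, hq⟩ := this.surj ⟨p, inferInstance⟩
  exact ⟨q.asIdeal, q.2, congrArg PrimeSpectrum.asIdeal hq⟩

theorem uh_comp (α : A →+* B) (β : B →+* C) (hα : UH α) (hβ : UH β) : UH (β.comp α) := by
  rw [uh_iff] at hα hβ ⊢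
  obtain ⟨a1, a2, a3⟩ := hα
  obtain ⟨b1, b2, b3⟩ := hβ
  refine ⟨a1.trans _ _ b1, ?_, ?_⟩
  · intro K _ σ τ h
    apply b2
    apply a2
    rw [RingHom.comp_assoc, RingHom.comp_assoc]
    exact h
  · intro a ha
    obtain ⟨n, hn⟩ := b3 (α a) ha
    obtain ⟨m, hm⟩ := a3 (a ^ n) (by rw [map_pow, hn])
    exact ⟨n * m, by rw [pow_mul, hm]⟩

theorem uh_cancel (α : A →+* B) (β : B →+* C) (hα : UH α) (hβα : UH (β.comp α)) : UH β := by
  rw [uh_iff] at hα hβα ⊢
  obtain ⟨a1, a2, a3⟩ := hα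
  obtain ⟨c1, c2, c3⟩ := hβα
  refine ⟨RingHom.IsIntegral.tower_top α β c1, ?_, ?_⟩
  · intro K _ σ τ h
    apply c2
    rw [← RingHom.comp_assoc, ← RingHom.comp_assoc, h]
  · intro b hb
    rw [← mem_nilradical, nilradical_eq_sInf, Ideal.mem_sInf]
    intro q hq
    haveI : q.IsPrime := hq
    obtain ⟨r, hr, hrp⟩ := spec_surj (β.comp α) c1 c3 (q.comap α)
    have : r.comap β = q := by
      refine spec_inj_of_epi α a2 _ _ (Ideal.comap_isPrime β r) hq ?_
      rw [Ideal.comap_comap]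
      exact hrp
    rw [← this, Ideal.mem_comap, hb]
    exact zero_mem _

theorem uh_of_surjective (α : A →+* B) (hs : Function.Surjective α)
    (hnil : ∀ a, α a = 0 → IsNilpotent a) : UH α := by
  rw [uh_iff]
  refine ⟨RingHom.isIntegral_of_surjective α hs, ?_, hnil⟩
  intro K _ σ τ h
  ext b
  obtain ⟨a, rfl⟩ := hs b
  exact congrArg (fun f : A →+* K => f a) h

theorem uh_id : UH (RingHom.id A) :=
  uh_of_surjective _ (fun a => ⟨a, rfl⟩) (fun a ha => by
    rw [RingHom.id_apply] at ha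
    rw [ha]
    exact IsNilpotent.zero)

theorem uh_of_bijective (α : A →+* B) (hb : Function.Bijective α) : UH α :=
  uh_of_surjective α hb.2 (fun a ha => by
    have : a = 0 := hb.1 (by rw [ha, map_zero])
    rw [this]
    exact IsNilpotent.zero)

end

end Groth.Agent.Lib.helper11.UHRing
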