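import Mathlib
import Groth.Prelude.Def_CAlg2

/-!
# Going down from a unibranch local ring (non-reduced version) — helper11 library
-/

set_option autoImplicit false
universe u

namespace Groth.Agent.Lib.helper11.UnibranchGD2

open IsLocalRing

theorem exists_prime_le' {A A' B C : Type*} [CommRing A] [CommRing A'] [CommRing B] [CommRing C]
    [Algebra A A'] [Algebra A B] [Algebra A' C] [Algebra B C] [Algebra A C]
    [IsScalarTower A A' C] [IsScalarTower A B C]
    [IsLocalRing A] [IsLocalRing A'] [IsDomain A'] [IsIntegrallyClosed A'] [IsDomain C]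
    [FaithfulSMul A' C] [Algebra.IsIntegral A' C] [FaithfulSMul B C] [Algebra.IsIntegral B C]
    [Algebra.IsIntegral A A']
    (n : Ideal B) [n.IsPrime] (hn : n.comap (algebraMap A B) = maximalIdeal A)
    (p : Ideal A) [p.IsPrime] (hker : RingHom.ker (algebraMap A A') ≤ p) :
    ∃ q : Ideal B, q.IsPrime ∧ q ≤ n ∧ q.comap (algebraMap A B) = p := by
  obtain ⟨nbar, -, hnbar_prime, hnbar⟩ :=
    Ideal.exists_ideal_over_prime_of_isIntegral n (⊥ : Ideal C) (by
      rw [← RingHom.ker_eq_comap_bot,
        (RingHom.injective_iff_ker_eq_bot _).mp (FaithfulSMul.algebraMap_injective B C)]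
      exact bot_le)
  obtain ⟨p', -, hp'_prime, hp'⟩ :=
    Ideal.exists_ideal_over_prime_of_isIntegral p (⊥ : Ideal A') (by
      rw [← RingHom.ker_eq_comap_bot]; exact hker)
  let m' := nbar.comap (algebraMap A' C)
  haveI : m'.IsPrime := Ideal.comap_isPrime _ _
  have hm'A : m'.comap (algebraMap A A') = maximalIdeal A := by
    rw [Ideal.comap_comap, ← IsScalarTower.algebraMap_eq, IsScalarTower.algebraMap_eq A B C,
      ← Ideal.comap_comap, hnbar, hn]
  have hm'max : m'.IsMaximal :=
    Ideal.isMaximal_of_isIntegral_of_isMaximal_comap (R := A) m'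
      (hm'A ▸ maximalIdeal.isMaximal A)
  have hm' : m' = maximalIdeal A' := IsLocalRing.eq_maximalIdeal hm'max
  have hle : p' ≤ m' := hm' ▸ IsLocalRing.le_maximalIdeal hp'_prime.ne_top
  haveI : nbar.LiesOver m' := ⟨rfl⟩
  obtain ⟨qbar, hqbar_le, hqbar_prime, hqbar_over⟩ :=
    Ideal.exists_ideal_le_liesOver_of_le (R := A') (S := C) (p := p') (q := m') nbar hle
  refine ⟨qbar.comap (algebraMap B C), Ideal.comap_isPrime _ _, ?_, ?_⟩
  · rw [← hnbar]; exact Ideal.comap_mono hqbar_le
  · have h1 : qbar.comap (algebraMap A' C) = p' := hqbar_over.over.symm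
    rw [Ideal.comap_comap, ← IsScalarTower.algebraMap_eq, IsScalarTower.algebraMap_eq A A' C,
      ← Ideal.comap_comap, h1, hp']

theorem exists_prime_le_of_isUnibranch' {A B : Type u} [CommRing A] [IsLocalRing A]
    (hA : CAlg2.IsUnibranch A) [CommRing B] [IsDomain B] [Algebra A B]
    (hker : ∀ a : A, algebraMap A B a = 0 → IsNilpotent a) [Algebra.IsIntegral A B] (n : Ideal B)
    [n.IsPrime] (hn : n.comap (algebraMap A B) = IsLocalRing.maximalIdeal A) (p : Ideal A)
    [p.IsPrime] :
    ∃ q : Ideal B, q.IsPrime ∧ q ≤ n ∧ q.comap (algebraMap A B) = p := by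
  haveI : IsDomain (CAlg2.red A) := hA.1
  haveI : IsLocalRing (CAlg2.normRed A) := hA.2
  haveI : IsIntegrallyClosed (CAlg2.normRed A) :=
    integralClosure.isIntegrallyClosedOfFiniteExtension (R := CAlg2.red A)
      (FractionRing (CAlg2.red A)) (L := FractionRing (CAlg2.red A))
  haveI : IsScalarTower A (CAlg2.red A) (CAlg2.normRed A) :=
    IsScalarTower.of_algebraMap_eq (fun a => rfl)
  let g₀ : CAlg2.red A →+* B := Ideal.Quotient.lift (nilradical A) (algebraMap A B) (by
    intro a ha
    have h1 : IsNilpotent (algebraMap A B a) := (mem_nilradical.mp ha).map _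
    exact h1.eq_zero)
  have hg₀ : Function.Injective g₀ := by
    rw [injective_iff_map_eq_zero]
    intro x hx
    obtain ⟨a, rfl⟩ := Ideal.Quotient.mk_surjective x
    have h1 : algebraMap A B a = 0 := hx
    exact (Ideal.Quotient.eq_zero_iff_mem).mpr (mem_nilradical.mpr (hker a h1))
  let g : CAlg2.red A →+* FractionRing B := (algebraMap B (FractionRing B)).comp g₀
  have hg : Function.Injective g := (IsFractionRing.injective B (FractionRing B)).comp hg₀
  let φ : FractionRing (CAlg2.red A) →+* FractionRing B := IsFractionRing.lift hg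
  have hφ : ∀ x : CAlg2.red A, φ (algebraMap (CAlg2.red A) (FractionRing (CAlg2.red A)) x) = g x :=
    IsFractionRing.lift_algebraMap hg
  have hint : ∀ x : CAlg2.normRed A, φ x.1 ∈ integralClosure B (FractionRing B) := by
    intro x
    have hx : IsIntegral (CAlg2.red A) x.1 := x.2
    exact hx.map_of_comp_eq g₀ φ (by ext y; exact (hφ y).symm)
  let ι : CAlg2.normRed A →+* integralClosure B (FractionRing B) :=
    (φ.comp (integralClosure (CAlg2.red A) (FractionRing (CAlg2.red A))).val.toRingHom).codRestrict
      (integralClosure B (FractionRing B)) hint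
  letI : Algebra (CAlg2.normRed A) (integralClosure B (FractionRing B)) := ι.toAlgebra
  haveI : IsScalarTower A B (integralClosure B (FractionRing B)) :=
    IsScalarTower.of_algebraMap_eq (fun a => rfl)
  haveI : IsScalarTower A (CAlg2.normRed A) (integralClosure B (FractionRing B)) := by
    refine IsScalarTower.of_algebraMap_eq (fun a => Subtype.ext ?_)
    show algebraMap A (FractionRing B) a
      = φ (algebraMap A (FractionRing (CAlg2.red A)) a)
    rw [IsScalarTower.algebraMap_apply A (CAlg2.red A) (FractionRing (CAlg2.red A)), hφ,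
      IsScalarTower.algebraMap_apply A B (FractionRing B)]
    rfl
  haveI : FaithfulSMul (CAlg2.normRed A) (integralClosure B (FractionRing B)) := by
    rw [faithfulSMul_iff_algebraMap_injective]
    intro x y hxy
    have h1 : φ x.1 = φ y.1 := congrArg Subtype.val hxy
    exact Subtype.ext (φ.injective h1)
  haveI : Algebra.IsIntegral A (integralClosure B (FractionRing B)) :=
    Algebra.IsIntegral.trans (R := A) (A := B) (B := integralClosure B (FractionRing B))
  haveI : Algebra.IsIntegral (CAlg2.normRed A) (integralClosure B (FractionRing B)) :=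
    Algebra.IsIntegral.tower_top (R := A)
  haveI : Algebra.IsIntegral A (CAlg2.normRed A) :=
    Algebra.IsIntegral.trans (R := A) (A := CAlg2.red A) (B := CAlg2.normRed A)
  have hkerA' : RingHom.ker (algebraMap A (CAlg2.normRed A)) ≤ p := by
    intro a ha
    have h0 : algebraMap A (CAlg2.normRed A) a = 0 := ha
    have h1 : algebraMap A (FractionRing (CAlg2.red A)) a = 0 := by
      have := congrArg Subtype.val h0
      exact this
    rw [IsScalarTower.algebraMap_apply A (CAlg2.red A) (FractionRing (CAlg2.red A))] at h1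
    have h2 : algebraMap A (CAlg2.red A) a = 0 :=
      IsFractionRing.injective (CAlg2.red A) (FractionRing (CAlg2.red A))
        (h1.trans (map_zero _).symm)
    have h3 : a ∈ nilradical A := (Ideal.Quotient.eq_zero_iff_mem).mp h2
    exact (nilradical_le_prime p) h3
  exact exists_prime_le' (A := A) (A' := CAlg2.normRed A) (B := B)
    (C := integralClosure B (FractionRing B)) n hn p hkerA'

end Groth.Agent.Lib.helper11.UnibranchGD2
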