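import Mathlib
import Groth.Prelude.Def_EGA43
import Groth.Agent.Lib.helper4.QcClosure

/-!
# Universal openness at a point and base change to the local scheme — helper11 library
-/

set_option autoImplicit false
universe u
open CategoryTheory CategoryTheory.Limits AlgebraicGeometry Topology TopologicalSpace

namespace Groth.Agent.Lib.helper11.UnivOpenAt

lemma isOpenAt_of_iso {P Q T : Scheme.{u}} (θ : P ≅ Q) (s : P ⟶ T) (s' : Q ⟶ T)
    (hs : θ.hom ≫ s' = s) (z : P)
    (h : EGA43.IsOpenAt s'.base (θ.hom z)) : EGA43.IsOpenAt s.base z := by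
  intro U hU
  have h1 : θ.hom '' U ∈ nhds (θ.hom z) := θ.hom.isOpenEmbedding.isOpenMap.image_mem_nhds hU
  have h2 := h _ h1
  have e1 : s'.base '' (θ.hom '' U) = s.base '' U := by
    rw [← Set.image_comp, ← hs]; rfl
  have e2 : s'.base (θ.hom z) = s.base z := by
    rw [← hs]; rfl
  rw [e1, e2] at h2
  exact h2

theorem isUnivOpenAt_baseChange {X Y L : Scheme.{u}} (f : X ⟶ Y) (j : L ⟶ Y) (x : X)
    (x₁ : ↥(pullback f j)) (hx₁ : (pullback.fst f j).base x₁ = x) (H : EGA43.IsUnivOpenAt f x) :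
    EGA43.IsUnivOpenAt (pullback.snd f j) x₁ := by
  intro T h z hz
  let θ := pullbackLeftPullbackSndIso f j h
  apply isOpenAt_of_iso θ (pullback.snd _ h) (pullback.snd f (h ≫ j))
    (pullbackLeftPullbackSndIso_hom_snd f j h) z
  apply H T (h ≫ j) (θ.hom z)
  have e1 : (pullback.fst f (h ≫ j)).base (θ.hom z)
      = (θ.hom ≫ pullback.fst f (h ≫ j)) z := rfl
  rw [e1, pullbackLeftPullbackSndIso_hom_fst]
  show (pullback.fst f j).base ((pullback.fst (pullback.snd f j) h).base z) = x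
  rw [hz, hx₁]

lemma mem_nhds_of_isConstructible_primeSpectrum {R : Type u} [CommRing R]
    {E : Set (PrimeSpectrum R)} (hE : IsConstructible E) (p : PrimeSpectrum R)
    (h : ∀ q, q ⤳ p → q ∈ E) : E ∈ nhds p := by
  obtain ⟨S, _, φ, hφ⟩ := PrimeSpectrum.exists_range_eq_of_isConstructible hE.compl
  have hp : p ∉ closure Eᶜ := by
    intro hcl
    rw [← hφ] at hcl
    obtain ⟨q, hq⟩ := Groth.Agent.H4Qc.exists_specializes_of_mem_closure_range_comap φ p hcl
    have h1 : PrimeSpectrum.comap φ q ∈ E := h _ hq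
    have h2 : PrimeSpectrum.comap φ q ∈ Eᶜ := hφ ▸ ⟨q, rfl⟩
    exact h2 h1
  have : p ∈ interior E := by
    rw [← compl_compl E, interior_compl]
    exact hp
  exact mem_interior_iff_mem_nhds.mp this

lemma mem_nhds_of_isConstructible_of_isAffine {S : Scheme.{u}} [IsAffine S] {E : Set S}
    (hE : IsConstructible E) (s : S) (h : ∀ q : S, q ⤳ s → q ∈ E) : E ∈ nhds s := by
  let ρ := S.isoSpec
  let E₂ : Set (Spec Γ(S, ⊤)) := ρ.inv ⁻¹' E
  have hE₂ : IsConstructible E₂ := ρ.inv.isConstructible_preimage hE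
  have h2 : E₂ ∈ nhds (ρ.hom s) := by
    apply mem_nhds_of_isConstructible_primeSpectrum hE₂
    intro q hq
    show ρ.inv q ∈ E
    apply h
    have := hq.map ρ.inv.continuous
    rwa [Scheme.hom_inv_apply] at this
  have h3 := ρ.hom.continuous.continuousAt.preimage_mem_nhds h2
  convert h3 using 1
  ext t
  simp [E₂]

lemma congrHom_hom_snd {C : Type*} [Category C] {X Y Z : C} {f₁ f₂ : X ⟶ Z} {g₁ g₂ : Y ⟶ Z}
    (h₁ : f₁ = f₂) (h₂ : g₁ = g₂) [HasPullback f₁ g₁] [HasPullback f₂ g₂] :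
    (pullback.congrHom h₁ h₂).hom ≫ pullback.snd f₂ g₂ = pullback.snd f₁ g₁ := by
  rw [pullback.congrHom_hom, pullback.lift_snd, Category.comp_id]

lemma congrHom_hom_fst {C : Type*} [Category C] {X Y Z : C} {f₁ f₂ : X ⟶ Z} {g₁ g₂ : Y ⟶ Z}
    (h₁ : f₁ = f₂) (h₂ : g₁ = g₂) [HasPullback f₁ g₁] [HasPullback f₂ g₂] :
    (pullback.congrHom h₁ h₂).hom ≫ pullback.fst f₂ g₂ = pullback.fst f₁ g₁ := by
  rw [pullback.congrHom_hom, pullback.lift_fst, Category.comp_id]

/-- Step 3: generalizations of `f' x'` are hit from any neighbourhood of `x'`. -/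
lemma exists_mem_of_generalization {X Y : Scheme.{u}} (f : X ⟶ Y) (x : X)
    (x₁ : ↥(pullback f (Y.fromSpecStalk (f.base x))))
    (hx₁ : (pullback.fst f (Y.fromSpecStalk (f.base x))).base x₁ = x)
    (H₁ : EGA43.IsUnivOpenAt (pullback.snd f (Y.fromSpecStalk (f.base x))) x₁)
    {Y' : Scheme.{u}} (g : Y' ⟶ Y) (x' : ↥(pullback f g))
    (hx' : (pullback.fst f g).base x' = x) (U' : (pullback f g).Opens) (hx'U' : x' ∈ U')
    (y'' : Y') (hy'' : y'' ⤳ (pullback.snd f g).base x') :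
    ∃ u ∈ U', (pullback.snd f g).base u = y'' := by
  let jy : Spec (Y.presheaf.stalk (f.base x)) ⟶ Y := Y.fromSpecStalk (f.base x)
  let f' := pullback.snd f g
  let f₁ := pullback.snd f jy
  let y' : Y' := f' x'
  let a := pullback.fst g jy
  let b := pullback.snd g jy
  haveI : IsPreimmersion a := MorphismProperty.pullback_fst (P := @IsPreimmersion) _ _ inferInstance
  haveI : IsPreimmersion (pullback.fst f jy) :=
    MorphismProperty.pullback_fst (P := @IsPreimmersion) _ _ inferInstance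
  have hgy' : g y' = f x := by
    have h1 : g y' = (pullback.snd f g ≫ g) x' := rfl
    rw [h1, ← pullback.condition]
    show f ((pullback.fst f g).base x') = f x
    rw [hx']
  have hr' : g y' ∈ Set.range jy := by
    show g y' ∈ Set.range (Y.fromSpecStalk (f.base x))
    rw [Scheme.range_fromSpecStalk, hgy']
    exact specializes_rfl
  have hr'' : g y'' ∈ Set.range jy := by
    show g y'' ∈ Set.range (Y.fromSpecStalk (f.base x))
    rw [Scheme.range_fromSpecStalk]
    have := hy''.map g.continuous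
    show g y'' ⤳ f x
    rw [← hgy']
    exact this
  obtain ⟨ℓ', hℓ'⟩ := hr'
  obtain ⟨ℓ'', hℓ''⟩ := hr''
  obtain ⟨y'₁, h1a, h1b⟩ :=
    Scheme.Pullback.exists_preimage_pullback (f := g) (g := jy) y' ℓ' hℓ'.symm
  obtain ⟨y''₁, h2a, h2b⟩ :=
    Scheme.Pullback.exists_preimage_pullback (f := g) (g := jy) y'' ℓ'' hℓ''.symm
  have hsp : y''₁ ⤳ y'₁ := by
    apply (a.isEmbedding.isInducing.specializes_iff).mp
    show a y''₁ ⤳ a y'₁
    rw [h1a, h2a]
    exact hy''
  let α := pullbackLeftPullbackSndIso f g a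
  let β : pullback f (a ≫ g) ≅ pullback f (b ≫ jy) := pullback.congrHom rfl pullback.condition
  let γ := pullbackLeftPullbackSndIso f jy b
  let κ : pullback f' a ≅ pullback f₁ b := α ≪≫ β ≪≫ γ.symm
  have hβ_snd : β.hom ≫ pullback.snd f (b ≫ jy) = pullback.snd f (a ≫ g) :=
    congrHom_hom_snd _ _
  have hβ_fst : β.hom ≫ pullback.fst f (b ≫ jy) = pullback.fst f (a ≫ g) :=
    congrHom_hom_fst _ _
  have hγ_snd : γ.inv ≫ pullback.snd f₁ b = pullback.snd f (b ≫ jy) :=
    pullbackLeftPullbackSndIso_inv_snd_snd f jy b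
  have hγ_fst : γ.inv ≫ pullback.fst f₁ b ≫ pullback.fst f jy = pullback.fst f (b ≫ jy) :=
    pullbackLeftPullbackSndIso_inv_fst f jy b
  have hα_snd : α.hom ≫ pullback.snd f (a ≫ g) = pullback.snd f' a :=
    pullbackLeftPullbackSndIso_hom_snd f g a
  have hα_fst : α.hom ≫ pullback.fst f (a ≫ g) = pullback.fst f' a ≫ pullback.fst f g :=
    pullbackLeftPullbackSndIso_hom_fst f g a
  have hκ_snd : κ.hom ≫ pullback.snd f₁ b = pullback.snd f' a := by
    show (α.hom ≫ β.hom ≫ γ.inv) ≫ pullback.snd f₁ b = pullback.snd f' a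
    rw [Category.assoc, Category.assoc, hγ_snd, hβ_snd, hα_snd]
  have hκ_fst : κ.hom ≫ pullback.fst f₁ b ≫ pullback.fst f jy =
      pullback.fst f' a ≫ pullback.fst f g := by
    show (α.hom ≫ β.hom ≫ γ.inv) ≫ pullback.fst f₁ b ≫ pullback.fst f jy = _
    rw [Category.assoc, Category.assoc, hγ_fst, hβ_fst, hα_fst]
  obtain ⟨w₀, hw1, hw2⟩ :=
    Scheme.Pullback.exists_preimage_pullback (f := f') (g := a) x' y'₁ h1a.symm
  let z := κ.hom w₀
  have hz1 : (pullback.fst f₁ b).base z = x₁ := by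
    apply (pullback.fst f jy).isEmbedding.injective
    have e1 : (pullback.fst f jy) ((pullback.fst f₁ b).base z)
        = (κ.hom ≫ pullback.fst f₁ b ≫ pullback.fst f jy) w₀ := rfl
    rw [e1, hκ_fst]
    show (pullback.fst f g) ((pullback.fst f' a) w₀) = (pullback.fst f jy) x₁
    rw [hw1]
    exact hx'.trans hx₁.symm
  have hz2 : (pullback.snd f₁ b).base z = y'₁ := by
    have e1 : (pullback.snd f₁ b).base z = (κ.hom ≫ pullback.snd f₁ b) w₀ := rfl
    rw [e1, hκ_snd]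
    exact hw2
  have hopen := H₁ _ b z hz1
  let cmap : pullback f₁ b ⟶ pullback f g := κ.inv ≫ pullback.fst f' a
  let N : Set ↥(pullback f₁ b) := cmap ⁻¹' (U' : Set ↥(pullback f g))
  have hcz : cmap z = x' := by
    show (pullback.fst f' a) (κ.inv (κ.hom w₀)) = x'
    rw [Scheme.hom_inv_apply]
    exact hw1
  have hN : N ∈ nhds z := by
    apply (U'.2.preimage cmap.continuous).mem_nhds
    show cmap z ∈ U'
    rw [hcz]; exact hx'U'
  have h5 := hopen N hN
  rw [hz2] at h5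
  have h6 : y''₁ ∈ (pullback.snd f₁ b).base '' N := mem_of_mem_nhds (hsp h5)
  obtain ⟨w, hwN, hw⟩ := h6
  refine ⟨cmap w, hwN, ?_⟩
  have hκ_snd' : κ.inv ≫ pullback.snd f' a = pullback.snd f₁ b := by
    rw [← hκ_snd, Iso.inv_hom_id_assoc]
  have e1 : (pullback.snd f g).base (cmap w) = (κ.inv ≫ pullback.fst f' a ≫ f') w := rfl
  rw [e1, pullback.condition, reassoc_of% hκ_snd']
  show a ((pullback.snd f₁ b).base w) = y''
  rw [hw]
  exact h2a

theorem isUnivOpenAt_of_baseChange_fromSpecStalk {X Y : Scheme.{u}} (f : X ⟶ Y)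
    [LocallyOfFinitePresentation f] (x : X)
    (x₁ : ↥(pullback f (Y.fromSpecStalk (f.base x))))
    (hx₁ : (pullback.fst f (Y.fromSpecStalk (f.base x))).base x₁ = x)
    (H₁ : EGA43.IsUnivOpenAt (pullback.snd f (Y.fromSpecStalk (f.base x))) x₁) :
    EGA43.IsUnivOpenAt f x := by
  intro Y' g x' hx' U hU
  let f' := pullback.snd f g
  let y' : Y' := f'.base x'
  obtain ⟨V', hV', hy'V', -⟩ :=
    exists_isAffineOpen_mem_and_subset (x := y') (U := ⊤) trivial
  obtain ⟨W, hWU, hW, hx'W⟩ := mem_nhds_iff.mp hU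
  let W' : (pullback f g).Opens := ⟨W, hW⟩ ⊓ f' ⁻¹ᵁ V'
  have hx'W' : x' ∈ W' := ⟨hx'W, hy'V'⟩
  obtain ⟨U', hU', hx'U', hU'W'⟩ := exists_isAffineOpen_mem_and_subset hx'W'
  have hU'V' : U' ≤ f' ⁻¹ᵁ V' := fun t ht => (hU'W' ht).2
  let r : U'.toScheme ⟶ V'.toScheme := f'.resLE V' U' hU'V'
  have hr : r ≫ V'.ι = U'.ι ≫ f' := Scheme.Hom.resLE_comp_ι f' hU'V'
  haveI : IsAffine U'.toScheme := hU'
  haveI : IsAffine V'.toScheme := hV'
  haveI : QuasiCompact r := inferInstance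
  have hcons : IsConstructible (Set.range r) := by
    rw [← Set.image_univ]; exact r.isConstructible_image IsConstructible.univ
  have hnhd : Set.range r ∈ nhds (⟨y', hy'V'⟩ : V'.toScheme) := by
    apply mem_nhds_of_isConstructible_of_isAffine hcons
    intro q hq
    have hq' : (V'.ι q) ⤳ y' := hq.map V'.ι.continuous
    obtain ⟨u, huU', hu⟩ := exists_mem_of_generalization f x x₁ hx₁ H₁ g x' hx' U' hx'U'
      (V'.ι q) hq'
    refine ⟨⟨u, huU'⟩, ?_⟩
    apply V'.ι.isOpenEmbedding.injective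
    have e1 : V'.ι (r ⟨u, huU'⟩) = (r ≫ V'.ι) ⟨u, huU'⟩ := rfl
    rw [e1, hr]
    exact hu
  have h4 : V'.ι '' (Set.range r) ∈ nhds y' :=
    V'.ι.isOpenEmbedding.isOpenMap.image_mem_nhds hnhd
  refine Filter.mem_of_superset h4 ?_
  rintro _ ⟨_, ⟨u, rfl⟩, rfl⟩
  refine ⟨u.1, hWU (hU'W' u.2).1, ?_⟩
  have e1 : V'.ι (r u) = (r ≫ V'.ι) u := rfl
  rw [e1, hr]
  rfl

end Groth.Agent.Lib.helper11.UnivOpenAt
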