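import Mathlib
import Groth.Prelude.Def_CAlg2
import Groth.Agent.Lib.helper11.UnibranchGD2

/-!
# Lifting generizations through quasi-finite algebras over unibranch rings — helper11 library
-/

set_option autoImplicit false
universe u

namespace Groth.Agent.Lib.helper11.ZMTLift

open IsLocalRing

/-- Primes of the integral closure not containing `r` lift to `S` when `S[1/r] = R'[1/r]`. -/
theorem exists_prime_of_zmt {R S : Type*} [CommRing R] [CommRing S] [Algebra R S] (r : S)
    (hr : IsIntegral R r) (hS : ∀ x : S, ∃ m : ℕ, IsIntegral R (r ^ m * x))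
    (p : Ideal S) [p.IsPrime] (hrp : r ∉ p) (n' : Ideal (integralClosure R S)) [n'.IsPrime]
    (hn' : n' ≤ p.comap (algebraMap (integralClosure R S) S)) :
    ∃ p' : Ideal S, p'.IsPrime ∧ p' ≤ p ∧ p'.comap (algebraMap (integralClosure R S) S) = n' := by
  let r' : integralClosure R S := ⟨r, hr⟩
  have hr'n : r' ∉ n' := fun h => hrp (hn' h)
  have key : ∀ s ∈ Ideal.map (algebraMap (integralClosure R S) S) n',
      ∃ (m : ℕ) (h : IsIntegral R (r ^ m * s)), (⟨r ^ m * s, h⟩ : integralClosure R S) ∈ n' := by
    intro s hs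
    refine Submodule.span_induction (p := fun s _ => ∃ (m : ℕ) (h : IsIntegral R (r ^ m * s)),
      (⟨r ^ m * s, h⟩ : integralClosure R S) ∈ n') ?_ ?_ ?_ ?_ hs
    · rintro _ ⟨a, ha, rfl⟩
      have ha2 : IsIntegral R (r ^ 0 * algebraMap (integralClosure R S) S a) := by
        rw [pow_zero, one_mul]; exact a.2
      refine ⟨0, ha2, ?_⟩
      have : (⟨r ^ 0 * algebraMap (integralClosure R S) S a, ha2⟩ :
          integralClosure R S) = a :=
        Subtype.ext (show r ^ 0 * algebraMap (integralClosure R S) S a = (a : S) by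
          rw [pow_zero, one_mul]; rfl)
      rw [this]; exact ha
    · refine ⟨0, by simpa using isIntegral_zero, ?_⟩
      have : (⟨r ^ 0 * (0 : S), by simpa using isIntegral_zero⟩ : integralClosure R S) = 0 :=
        Subtype.ext (by simp)
      rw [this]; exact n'.zero_mem
    · rintro x y _ _ ⟨m₁, h₁, hx⟩ ⟨m₂, h₂, hy⟩
      have e : r ^ (m₁ + m₂) * (x + y) = r ^ m₂ * (r ^ m₁ * x) + r ^ m₁ * (r ^ m₂ * y) := by ring
      have hI : IsIntegral R (r ^ (m₁ + m₂) * (x + y)) := by
        rw [e]; exact ((hr.pow m₂).mul h₁).add ((hr.pow m₁).mul h₂)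
      refine ⟨m₁ + m₂, hI, ?_⟩
      have : (⟨r ^ (m₁ + m₂) * (x + y), hI⟩ : integralClosure R S)
          = r' ^ m₂ * ⟨r ^ m₁ * x, h₁⟩ + r' ^ m₁ * ⟨r ^ m₂ * y, h₂⟩ := Subtype.ext e
      rw [this]
      exact n'.add_mem (n'.mul_mem_left _ hx) (n'.mul_mem_left _ hy)
    · rintro a x _ ⟨m, h, hx⟩
      obtain ⟨m', h'⟩ := hS a
      have e : r ^ (m + m') * (a • x) = (r ^ m' * a) * (r ^ m * x) := by
        rw [smul_eq_mul]; ring
      have hI : IsIntegral R (r ^ (m + m') * (a • x)) := by rw [e]; exact h'.mul h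
      refine ⟨m + m', hI, ?_⟩
      have : (⟨r ^ (m + m') * (a • x), hI⟩ : integralClosure R S)
          = ⟨r ^ m' * a, h'⟩ * ⟨r ^ m * x, h⟩ := Subtype.ext e
      rw [this]
      exact n'.mul_mem_left _ hx
  have hcm : (Ideal.map (algebraMap (integralClosure R S) S) n').comap
      (algebraMap (integralClosure R S) S) = n' := by
    refine le_antisymm ?_ Ideal.le_comap_map
    intro a ha
    obtain ⟨m, h, hm⟩ := key _ ha
    have : (⟨r ^ m * algebraMap (integralClosure R S) S a, h⟩ : integralClosure R S)
        = r' ^ m * a := Subtype.ext rfl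
    rw [this] at hm
    rcases Ideal.IsPrime.mem_or_mem inferInstance hm with h1 | h1
    · exact absurd (Ideal.IsPrime.mem_of_pow_mem inferInstance m h1) hr'n
    · exact h1
  obtain ⟨p', hp', hp'n⟩ := (Ideal.comap_map_eq_self_iff_of_isPrime n').mp hcm
  refine ⟨p', hp', ?_, hp'n⟩
  intro s hs
  obtain ⟨m, h⟩ := hS s
  have h1 : (⟨r ^ m * s, h⟩ : integralClosure R S) ∈ p'.comap
      (algebraMap (integralClosure R S) S) := by
    show r ^ m * s ∈ p'
    exact p'.mul_mem_left _ hs
  rw [hp'n] at h1
  have h2 : r ^ m * s ∈ p := hn' h1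
  rcases Ideal.IsPrime.mem_or_mem inferInstance h2 with h3 | h3
  · exact absurd (Ideal.IsPrime.mem_of_pow_mem inferInstance m h3) hrp
  · exact h3

open Groth.Agent.Lib.helper11 in
/-- Going down to a prime `𝔫D` of an integral domain `D` over `R`, when `R_q` is unibranch. -/
theorem exists_prime_le_of_domain {R D A : Type u} [CommRing R] [CommRing D] [IsDomain D]
    [Algebra R D] [Algebra.IsIntegral R D] (q : Ideal R) [q.IsPrime] [CommRing A] [Algebra R A]
    [IsLocalization.AtPrime A q] [IsLocalRing A] (hA : CAlg2.IsUnibranch A)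
    (hkerD : ∀ x : R, algebraMap R D x = 0 → ∀ q' : Ideal R, q'.IsPrime → x ∈ q')
    (𝔫D : Ideal D) [𝔫D.IsPrime] (h𝔫D : 𝔫D.comap (algebraMap R D) = q)
    (q' : Ideal R) [q'.IsPrime] (hq' : q' ≤ q) :
    ∃ 𝔮D : Ideal D, 𝔮D.IsPrime ∧ 𝔮D ≤ 𝔫D ∧ 𝔮D.comap (algebraMap R D) = q' := by
  have hMD : Algebra.algebraMapSubmonoid D q.primeCompl ≤ nonZeroDivisors D := by
    rintro _ ⟨s, hs, rfl⟩
    apply mem_nonZeroDivisors_of_ne_zero
    intro h0
    exact hs (hkerD s h0 q inferInstance)
  haveI : IsDomain (Localization (Algebra.algebraMapSubmonoid D q.primeCompl)) :=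
    IsLocalization.isDomain_localization hMD
  letI : Algebra A (Localization (Algebra.algebraMapSubmonoid D q.primeCompl)) :=
    localizationAlgebra q.primeCompl D
  haveI : Algebra.IsIntegral A (Localization (Algebra.algebraMapSubmonoid D q.primeCompl)) :=
    ⟨isIntegral_localization (M := q.primeCompl) (Rₘ := A)
      (Sₘ := Localization (Algebra.algebraMapSubmonoid D q.primeCompl))⟩
  have hcomm : ∀ x : R, algebraMap A (Localization (Algebra.algebraMapSubmonoid D q.primeCompl))
      (algebraMap R A x) = algebraMap D _ (algebraMap R D x) :=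
    fun x => IsLocalization.map_eq _ x
  have hker : ∀ a : A, algebraMap A (Localization (Algebra.algebraMapSubmonoid D q.primeCompl)) a
      = 0 → IsNilpotent a := by
    intro a ha
    obtain ⟨x, s, rfl⟩ := IsLocalization.exists_mk'_eq q.primeCompl a
    have h1 : algebraMap A (Localization (Algebra.algebraMapSubmonoid D q.primeCompl))
        (algebraMap R A x) = 0 := by
      have := IsLocalization.mk'_spec A x s
      rw [← this, map_mul, ha, zero_mul]
    rw [hcomm] at h1
    have h2 : algebraMap R D x = 0 := (IsLocalization.to_map_eq_zero_iff _ hMD).mp h1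
    have h3 : x ∈ nilradical R := by
      rw [nilradical_eq_sInf, Ideal.mem_sInf]
      intro J hJ
      exact hkerD x h2 J hJ
    have h4 : IsNilpotent (algebraMap R A x) := (mem_nilradical.mp h3).map _
    rw [IsLocalization.mk'_eq_mul_mk'_one]
    exact (Commute.all _ _).isNilpotent_mul_right h4
  have hdisj : Disjoint (Algebra.algebraMapSubmonoid D q.primeCompl : Set D) (𝔫D : Set D) := by
    rw [Set.disjoint_left]
    rintro _ ⟨s, hs, rfl⟩ hmem
    have h1 : s ∈ 𝔫D.comap (algebraMap R D) := hmem
    rw [h𝔫D] at h1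
    exact hs h1
  haveI hnprime : (𝔫D.map (algebraMap D
      (Localization (Algebra.algebraMapSubmonoid D q.primeCompl)))).IsPrime :=
    IsLocalization.isPrime_of_isPrime_disjoint _ _ 𝔫D inferInstance hdisj
  have hn_comap : (𝔫D.map (algebraMap D
      (Localization (Algebra.algebraMapSubmonoid D q.primeCompl)))).comap (algebraMap D _) = 𝔫D :=
    IsLocalization.comap_map_of_isPrime_disjoint _ _ inferInstance hdisj
  have hcomp : (algebraMap A (Localization (Algebra.algebraMapSubmonoid D q.primeCompl))).comp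
      (algebraMap R A) = (algebraMap D _).comp (algebraMap R D) := RingHom.ext hcomm
  have hnA : (𝔫D.map (algebraMap D
      (Localization (Algebra.algebraMapSubmonoid D q.primeCompl)))).comap (algebraMap A _)
      = maximalIdeal A := by
    have h1 : ((𝔫D.map (algebraMap D
        (Localization (Algebra.algebraMapSubmonoid D q.primeCompl)))).comap
        (algebraMap A _)).comap (algebraMap R A) = q := by
      rw [Ideal.comap_comap, hcomp, ← Ideal.comap_comap, hn_comap, h𝔫D]
    rw [← IsLocalization.map_comap q.primeCompl A ((𝔫D.map (algebraMap D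
        (Localization (Algebra.algebraMapSubmonoid D q.primeCompl)))).comap (algebraMap A _)),
      Ideal.under_def, h1]
    exact IsLocalization.AtPrime.map_eq_maximalIdeal q A
  have hdisj' : Disjoint (q.primeCompl : Set R) (q' : Set R) := by
    rw [Set.disjoint_left]
    intro s hs hsq'
    exact hs (hq' hsq')
  haveI : (q'.map (algebraMap R A)).IsPrime :=
    IsLocalization.isPrime_of_isPrime_disjoint q.primeCompl A q' inferInstance hdisj'
  have hpA : (q'.map (algebraMap R A)).comap (algebraMap R A) = q' :=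
    IsLocalization.comap_map_of_isPrime_disjoint q.primeCompl A inferInstance hdisj'
  obtain ⟨𝔮B, h𝔮B_prime, h𝔮B_le, h𝔮B_comap⟩ :=
    UnibranchGD2.exists_prime_le_of_isUnibranch' hA hker _ hnA (q'.map (algebraMap R A))
  refine ⟨𝔮B.comap (algebraMap D _), Ideal.comap_isPrime _ _, ?_, ?_⟩
  · rw [← hn_comap]
    exact Ideal.comap_mono h𝔮B_le
  · rw [Ideal.comap_comap, ← hcomp, ← Ideal.comap_comap, h𝔮B_comap, hpA]

open Groth.Agent.Lib.helper11 in
/-- Generizations lift through a finite type algebra quasi-finite at `p`, over a base whose local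
ring at the image of `p` is unibranch, provided a "generic" prime `P₀ ≤ p` lies over the
intersection of all primes of the base. -/
theorem exists_prime_le_of_quasiFiniteAt {R S : Type u} [CommRing R] [CommRing S] [Algebra R S]
    [Algebra.FiniteType R S] (p : Ideal S) [p.IsPrime] [Algebra.QuasiFiniteAt R p]
    (P₀ : Ideal S) [P₀.IsPrime] (hP₀ : P₀ ≤ p)
    (hQ₀ : ∀ q' : Ideal R, q'.IsPrime → P₀.comap (algebraMap R S) ≤ q')
    (A : Type u) [CommRing A] [Algebra R A] [IsLocalization.AtPrime A (p.comap (algebraMap R S))]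
    [IsLocalRing A] (hA : CAlg2.IsUnibranch A)
    (q' : Ideal R) [q'.IsPrime] (hq' : q' ≤ p.comap (algebraMap R S)) :
    ∃ p' : Ideal S, p'.IsPrime ∧ p' ≤ p ∧ p'.comap (algebraMap R S) = q' := by
  obtain ⟨r, hrp, hr, hS⟩ := Algebra.zariskisMainProperty_iff.mp
    (Algebra.ZariskisMainProperty.of_finiteType (R := R) p)
  have hP'𝔫 : P₀.comap (algebraMap (integralClosure R S) S)
      ≤ p.comap (algebraMap (integralClosure R S) S) := Ideal.comap_mono hP₀
  haveI : (P₀.comap (algebraMap (integralClosure R S) S)).IsPrime := Ideal.comap_isPrime _ _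
  haveI : (p.comap (algebraMap (integralClosure R S) S)).IsPrime := Ideal.comap_isPrime _ _
  have h𝔫D_comap : ((p.comap (algebraMap (integralClosure R S) S)).map
      (Ideal.Quotient.mk (P₀.comap (algebraMap (integralClosure R S) S)))).comap
      (Ideal.Quotient.mk (P₀.comap (algebraMap (integralClosure R S) S)))
      = p.comap (algebraMap (integralClosure R S) S) := by
    rw [Ideal.comap_map_of_surjective _ Ideal.Quotient.mk_surjective, ← RingHom.ker_eq_comap_bot,
      Ideal.mk_ker]
    exact sup_eq_left.mpr hP'𝔫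
  haveI : ((p.comap (algebraMap (integralClosure R S) S)).map
      (Ideal.Quotient.mk (P₀.comap (algebraMap (integralClosure R S) S)))).IsPrime :=
    Ideal.map_isPrime_of_surjective Ideal.Quotient.mk_surjective
      (by rw [Ideal.mk_ker]; exact hP'𝔫)
  have hkerD : ∀ x : R, algebraMap R (integralClosure R S ⧸
      P₀.comap (algebraMap (integralClosure R S) S)) x = 0 →
      ∀ q' : Ideal R, q'.IsPrime → x ∈ q' := by
    intro x hx q' hq'
    have h1 : Ideal.Quotient.mk (P₀.comap (algebraMap (integralClosure R S) S))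
        (algebraMap R (integralClosure R S) x) = 0 := hx
    have h2 : algebraMap R (integralClosure R S) x ∈
        P₀.comap (algebraMap (integralClosure R S) S) := Ideal.Quotient.eq_zero_iff_mem.mp h1
    exact hQ₀ q' hq' h2
  have h𝔫D : ((p.comap (algebraMap (integralClosure R S) S)).map
      (Ideal.Quotient.mk (P₀.comap (algebraMap (integralClosure R S) S)))).comap
      (algebraMap R _) = p.comap (algebraMap R S) := by
    have h2 : ((p.comap (algebraMap (integralClosure R S) S)).map
        (Ideal.Quotient.mk (P₀.comap (algebraMap (integralClosure R S) S)))).comap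
        (algebraMap R _) = (((p.comap (algebraMap (integralClosure R S) S)).map
        (Ideal.Quotient.mk (P₀.comap (algebraMap (integralClosure R S) S)))).comap
        (Ideal.Quotient.mk (P₀.comap (algebraMap (integralClosure R S) S)))).comap
        (algebraMap R (integralClosure R S)) := rfl
    rw [h2, h𝔫D_comap]
    rfl
  obtain ⟨𝔮D, h𝔮D_prime, h𝔮D_le, h𝔮D_comap⟩ :=
    exists_prime_le_of_domain (D := integralClosure R S ⧸
      P₀.comap (algebraMap (integralClosure R S) S)) (A := A) (p.comap (algebraMap R S)) hA hkerD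
      _ h𝔫D q' hq'
  haveI : (𝔮D.comap (Ideal.Quotient.mk
      (P₀.comap (algebraMap (integralClosure R S) S)))).IsPrime := Ideal.comap_isPrime _ _
  have h𝔫'_le : 𝔮D.comap (Ideal.Quotient.mk (P₀.comap (algebraMap (integralClosure R S) S)))
      ≤ p.comap (algebraMap (integralClosure R S) S) := by
    rw [← h𝔫D_comap]
    exact Ideal.comap_mono h𝔮D_le
  have h𝔫'_R : (𝔮D.comap (Ideal.Quotient.mk
      (P₀.comap (algebraMap (integralClosure R S) S)))).comap
      (algebraMap R (integralClosure R S)) = q' := h𝔮D_comap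
  obtain ⟨p', hp'_prime, hp'_le, hp'_comap⟩ := exists_prime_of_zmt r hr hS p hrp _ h𝔫'_le
  refine ⟨p', hp'_prime, hp'_le, ?_⟩
  rw [IsScalarTower.algebraMap_eq R (integralClosure R S) S, ← Ideal.comap_comap, hp'_comap,
    h𝔫'_R]

end Groth.Agent.Lib.helper11.ZMTLift
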