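import Mathlib
import Groth.Prelude.Def_CAlg2
import Groth.Prelude.Def_EGA43
import Groth.Agent.Lib.helper11.ZMTLift
import Groth.Agent.Lib.helper11.UnivOpenAt

/-!
# Quasi-finite dominant morphisms are open at points with unibranch image — helper11 library
-/

set_option autoImplicit false
universe u
open CategoryTheory AlgebraicGeometry TopologicalSpace Topology

namespace Groth.Agent.Lib.helper11.UnibranchOpen

lemma primeIdealOf_le_of_specializes {X : Scheme.{u}} {U : X.Opens} (hU : IsAffineOpen U)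
    (a b : U) (h : a.1 ⤳ b.1) :
    (hU.primeIdealOf a).asIdeal ≤ (hU.primeIdealOf b).asIdeal := by
  have h1 : a ⤳ b := (Topology.IsInducing.subtypeVal.specializes_iff).mp h
  have h2 : hU.isoSpec.hom a ⤳ hU.isoSpec.hom b := h1.map hU.isoSpec.hom.continuous
  exact (PrimeSpectrum.le_iff_specializes _ _).mpr h2

theorem isOpenAt_of_isUnibranch {X Y : Scheme.{u}} [IrreducibleSpace X] [IrreducibleSpace Y]
    (f : X ⟶ Y) [LocallyOfFinitePresentation f] [LocallyQuasiFinite f] [IsDominant f]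
    (x : X) (hy : CAlg2.IsUnibranch (Y.presheaf.stalk (f.base x))) :
    EGA43.IsOpenAt f.base x := by
  intro U hU
  obtain ⟨_, ⟨V, hV : IsAffineOpen V, rfl⟩, hyV, -⟩ :=
    Y.isBasis_affineOpens.exists_subset_of_mem_open (Set.mem_univ (f.base x)) isOpen_univ
  obtain ⟨U', hU'U, hU'open, hxU'⟩ := mem_nhds_iff.mp hU
  obtain ⟨_, ⟨W, hW : IsAffineOpen W, rfl⟩, hxW, hWsub⟩ :=
    X.isBasis_affineOpens.exists_subset_of_mem_open
      (show x ∈ U' ∩ (f ⁻¹ᵁ V : Set X) from ⟨hxU', hyV⟩) (hU'open.inter (f ⁻¹ᵁ V).2)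
  have hWV : W ≤ f ⁻¹ᵁ V := fun z hz => (hWsub hz).2
  have hWU : (W : Set X) ⊆ U := fun z hz => hU'U (hWsub hz).1
  refine Filter.mem_of_superset ?_ (Set.image_mono hWU)
  -- ring data
  letI : Algebra Γ(Y, V) Γ(X, W) := (f.appLE V W hWV).hom.toAlgebra
  have hfp : (f.appLE V W hWV).hom.FinitePresentation :=
    HasRingHomProperty.appLE (P := @LocallyOfFinitePresentation) f inferInstance ⟨V, hV⟩ ⟨W, hW⟩ hWV
  haveI : Algebra.FinitePresentation Γ(Y, V) Γ(X, W) := hfp
  haveI : Algebra.FiniteType Γ(Y, V) Γ(X, W) := inferInstance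
  have hqf : (f.appLE V W hWV).hom.QuasiFinite := LocallyQuasiFinite.quasiFinite_appLE hV hW hWV
  haveI : Algebra.QuasiFinite Γ(Y, V) Γ(X, W) := hqf
  let px := hW.primeIdealOf ⟨x, hxW⟩
  let qy := hV.primeIdealOf ⟨f.base x, hyV⟩
  have hpq : px.asIdeal.comap (algebraMap Γ(Y, V) Γ(X, W)) = qy.asIdeal :=
    congrArg PrimeSpectrum.asIdeal (IsAffineOpen.comap_primeIdealOf_appLE V hV W hW hWV hxW)
  -- generic point
  have hηx : genericPoint X ⤳ x := genericPoint_specializes x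
  have hηW : genericPoint X ∈ W := hηx.mem_open W.2 hxW
  let P₀ := hW.primeIdealOf ⟨genericPoint X, hηW⟩
  have hP₀ : P₀.asIdeal ≤ px.asIdeal := primeIdealOf_le_of_specializes hW _ _ hηx
  have hP₀q : P₀.asIdeal.comap (algebraMap Γ(Y, V) Γ(X, W))
      = (hV.primeIdealOf ⟨f.base (genericPoint X), hWV hηW⟩).asIdeal :=
    congrArg PrimeSpectrum.asIdeal (IsAffineOpen.comap_primeIdealOf_appLE V hV W hW hWV hηW)
  have hdense : ∀ y₂ : Y, f.base (genericPoint X) ⤳ y₂ := by
    intro y₂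
    rw [specializes_iff_mem_closure]
    have h1 : IsGenericPoint (f.base (genericPoint X)) (closure (f.base '' Set.univ)) :=
      (genericPoint_spec X).image f.continuous
    rw [h1.def, Set.image_univ, f.denseRange.closure_range]
    trivial
  have hQ₀ : ∀ q' : Ideal Γ(Y, V), q'.IsPrime →
      P₀.asIdeal.comap (algebraMap Γ(Y, V) Γ(X, W)) ≤ q' := by
    intro q' hq'
    rw [hP₀q]
    let y₂ : V := hV.isoSpec.inv ⟨q', hq'⟩
    have h1 := primeIdealOf_le_of_specializes hV ⟨f.base (genericPoint X), hWV hηW⟩ y₂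
      (hdense y₂.1)
    have h2 : hV.primeIdealOf y₂ = ⟨q', hq'⟩ := Scheme.inv_hom_apply hV.isoSpec _
    rw [h2] at h1
    exact h1
  letI : Algebra Γ(Y, V) (Y.presheaf.stalk (f.base x)) :=
    TopCat.Presheaf.algebra_section_stalk Y.presheaf (⟨f.base x, hyV⟩ : V)
  haveI : IsLocalization.AtPrime (Y.presheaf.stalk (f.base x))
      (px.asIdeal.comap (algebraMap Γ(Y, V) Γ(X, W))) := by
    have h := hV.isLocalization_stalk ⟨f.base x, hyV⟩
    have e : (px.asIdeal.comap (algebraMap Γ(Y, V) Γ(X, W))).primeCompl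
        = qy.asIdeal.primeCompl := by
      ext a
      show a ∉ px.asIdeal.comap (algebraMap Γ(Y, V) Γ(X, W)) ↔ a ∉ qy.asIdeal
      rw [hpq]
    show IsLocalization (px.asIdeal.comap (algebraMap Γ(Y, V) Γ(X, W))).primeCompl _
    rw [e]; exact h
  -- the constructible set
  let g : (W : Scheme.{u}) ⟶ V := f.resLE V W hWV
  have hg : ∀ w : W, (g w).1 = f.base w.1 := by
    intro w
    have := congrArg (fun m => m.base w) (Scheme.Hom.resLE_comp_ι f hWV)
    exact this
  haveI : IsAffine (V : Scheme.{u}) := hV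
  haveI : IsAffine (W : Scheme.{u}) := hW
  have hE : IsConstructible (Set.range g) := by
    rw [← Set.image_univ]
    exact g.isConstructible_image IsConstructible.univ
  have key : Set.range g ∈ nhds (⟨f.base x, hyV⟩ : V) := by
    apply UnivOpenAt.mem_nhds_of_isConstructible_of_isAffine hE
    intro y'' hy''
    have hq'le : (hV.primeIdealOf y'').asIdeal ≤ px.asIdeal.comap (algebraMap Γ(Y, V) Γ(X, W)) := by
      rw [hpq]
      exact primeIdealOf_le_of_specializes hV y'' ⟨f.base x, hyV⟩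
        ((Topology.IsInducing.subtypeVal.specializes_iff).mpr hy'')
    obtain ⟨p', hp'_prime, hp'_le, hp'_comap⟩ :=
      ZMTLift.exists_prime_le_of_quasiFiniteAt px.asIdeal P₀.asIdeal hP₀ hQ₀
        (Y.presheaf.stalk (f.base x)) hy (hV.primeIdealOf y'').asIdeal hq'le
    let z' : W := hW.isoSpec.inv ⟨p', hp'_prime⟩
    have hz' : hW.primeIdealOf z' = ⟨p', hp'_prime⟩ := Scheme.inv_hom_apply hW.isoSpec _
    refine ⟨z', Subtype.ext ?_⟩
    rw [hg]
    have h1 := IsAffineOpen.comap_primeIdealOf_appLE V hV W hW hWV z'.2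
    have h2 : hV.primeIdealOf ⟨f.base z'.1, hWV z'.2⟩ = hV.primeIdealOf y'' := by
      rw [← h1]
      apply PrimeSpectrum.ext
      show (hW.primeIdealOf ⟨z'.1, z'.2⟩).asIdeal.comap (algebraMap Γ(Y, V) Γ(X, W)) = _
      have h3 : hW.primeIdealOf ⟨z'.1, z'.2⟩ = ⟨p', hp'_prime⟩ := hz'
      rw [h3]
      exact hp'_comap
    have h4 := hV.fromSpec_primeIdealOf ⟨f.base z'.1, hWV z'.2⟩
    rw [h2, hV.fromSpec_primeIdealOf] at h4
    exact h4.symm
  have h5 : (Scheme.Opens.ι V).base '' (Set.range g) ∈ nhds (f.base x) :=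
    (Scheme.Opens.ι V).isOpenEmbedding.isOpenMap.image_mem_nhds key
  refine Filter.mem_of_superset h5 ?_
  rintro _ ⟨_, ⟨w, rfl⟩, rfl⟩
  exact ⟨w.1, w.2, (hg w).symm⟩

end Groth.Agent.Lib.helper11.UnibranchOpen
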