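import Groth.Prelude.Def_HTop
import Mathlib.Tactic

/-!
# V coverings: base change and composition (helper11)
-/

set_option autoImplicit false

universe w w' u

open CategoryTheory CategoryTheory.Limits AlgebraicGeometry Opposite HTop

namespace Groth.Agent.Lib.helper11.VCover

variable {T : Scheme.{u}}

theorem isExtVal_comp {V W W' : CommRingCat.{u}} [IsDomain V] [ValuationRing V] [IsDomain W]
    [ValuationRing W] [IsDomain W'] [ValuationRing W'] {φ : V ⟶ W} {ψ : W ⟶ W'}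
    (hφ : IsExtVal V W φ) (hψ : IsExtVal W W' ψ) : IsExtVal V W' (φ ≫ ψ) := by
  refine ⟨?_, ?_⟩
  · change Function.Injective (ψ.hom.comp φ.hom)
    exact hψ.1.comp hφ.1
  · change IsLocalHom (ψ.hom.comp φ.hom)
    haveI := hφ.2
    haveI := hψ.2
    exact RingHom.isLocalHom_comp _ _

theorem hasValLift_bind (E : PreZeroHypercover.{w} T) (F : ∀ j, PreZeroHypercover.{w'} (E.X j))
    (hE : HasValLift E) (hF : ∀ j, HasValLift (F j)) : HasValLift (E.bind F) := by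
  intro V _ _ g
  obtain ⟨W, hWd, hWv, φ, hφ, j, g', hg'⟩ := hE V g
  haveI := hWd
  haveI := hWv
  obtain ⟨W', hW'd, hW'v, ψ, hψ, i, g'', hg''⟩ := hF j W g'
  haveI := hW'd
  haveI := hW'v
  refine ⟨W', hW'd, hW'v, φ ≫ ψ, isExtVal_comp hφ hψ, ⟨j, i⟩, g'', ?_⟩
  change g'' ≫ ((F j).f i ≫ E.f j) = Spec.map (φ ≫ ψ) ≫ g
  rw [Spec.map_comp, ← Category.assoc g'', hg'', Category.assoc, hg', Category.assoc]

theorem isStandardV_bind (E : PreZeroHypercover.{w} T) (hE : IsStandardV E)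
    (F : ∀ j, PreZeroHypercover.{w'} (E.X j)) (hF : ∀ j, IsStandardV (F j)) :
    IsStandardV (E.bind F) where
  isAffine := hE.isAffine
  finite_index := by
    haveI := hE.finite_index
    haveI : ∀ j, Finite (F j).I₀ := fun j => (hF j).finite_index
    exact inferInstanceAs (Finite (Σ j : E.I₀, (F j).I₀))
  isAffine_obj := fun ji => (hF ji.1).isAffine_obj ji.2
  lift := hasValLift_bind E F hE.lift (fun j => (hF j).lift)

theorem hasValLift_pullback₁ {T' : Scheme.{u}} (g : T' ⟶ T) (E : PreZeroHypercover.{w} T)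
    (hE : HasValLift E) : HasValLift (E.pullback₁ g) := by
  intro V _ _ h
  obtain ⟨W, hWd, hWv, φ, hext, j, g', hg'⟩ := hE V (h ≫ g)
  refine ⟨W, hWd, hWv, φ, hext, j,
    pullback.lift (Spec.map φ ≫ h) g' (by rw [Category.assoc, hg']), ?_⟩
  exact pullback.lift_fst _ _ _

theorem isStandardV_pullback₁ {T' : Scheme.{u}} [IsAffine T'] (g : T' ⟶ T)
    (E : PreZeroHypercover.{w} T) (hE : IsStandardV E) : IsStandardV (E.pullback₁ g) where
  isAffine := inferInstance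
  finite_index := hE.finite_index
  isAffine_obj := fun j => by
    haveI := hE.isAffine
    haveI := hE.isAffine_obj j
    exact inferInstanceAs (IsAffine (pullback g (E.f j)))
  lift := hasValLift_pullback₁ g E hE.lift

/-- a morphism from the spectrum of a local ring whose closed point lands in an open `W`
factors through `W` -/
theorem exists_lift_of_closedPoint_mem {T' : Scheme.{u}} {U' W : T'.Opens} (hWU : W ≤ U')
    (V : CommRingCat.{u}) [IsLocalRing V] (h : Spec V ⟶ (U' : Scheme.{u}))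
    (hy : (h (IsLocalRing.closedPoint V)).1 ∈ W) :
    ∃ h' : Spec V ⟶ (W : Scheme.{u}), h' ≫ T'.homOfLE hWU = h := by
  refine ⟨IsOpenImmersion.lift (T'.homOfLE hWU) h ?_, IsOpenImmersion.lift_fac _ _ _⟩
  rintro _ ⟨p, rfl⟩
  have h1 : h p ⤳ h (IsLocalRing.closedPoint V) :=
    (IsLocalRing.specializes_closedPoint p).map h.continuous
  have h2 : (h p).1 ⤳ (h (IsLocalRing.closedPoint V)).1 := h1.map continuous_subtype_val
  have h3 : (h p).1 ∈ W := h2.mem_open W.2 hy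
  exact ⟨⟨(h p).1, h3⟩, by rw [Scheme.homOfLE_apply']; rfl⟩

theorem isVCover_pullback₁ {T' : Scheme.{u}} (g : T' ⟶ T) (E : PreZeroHypercover.{w} T)
    (hE : IsVCover E) : IsVCover (E.pullback₁ g) := by
  classical
  intro U'
  have hU' : IsAffineOpen (U' : T'.Opens) := U'.2
  -- Step 1: local data
  have loc : ∀ x : (U' : T'.Opens), ∃ (Ux : T.Opens) (_ : IsAffineOpen Ux) (Wx : T'.Opens)
      (_ : IsAffineOpen Wx), x.1 ∈ Wx ∧ Wx ≤ g ⁻¹ᵁ Ux ∧ Wx ≤ U' := by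
    intro x
    obtain ⟨Ux, hUx, hgx, -⟩ :=
      exists_isAffineOpen_mem_and_subset (x := g x.1) (U := ⊤) trivial
    have hx : x.1 ∈ (g ⁻¹ᵁ Ux) ⊓ (U' : T'.Opens) := ⟨hgx, x.2⟩
    obtain ⟨Wx, hWx, hxW, hWsub⟩ := exists_isAffineOpen_mem_and_subset hx
    exact ⟨Ux, hUx, Wx, hWx, hxW, fun y hy => (hWsub hy).1, fun y hy => (hWsub hy).2⟩
  choose Ux hUx Wx hWx hxW hWU hWU' using loc
  -- Step 2: finite subcover
  obtain ⟨T₀, hT₀⟩ := hU'.isCompact.elim_nhds_subcover' (fun x hx => (Wx ⟨x, hx⟩ : Set T'))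
    (fun x hx => (Wx ⟨x, hx⟩).isOpen.mem_nhds (hxW ⟨x, hx⟩))
  -- Step 3: standard covers
  have std : ∀ x : (U' : T'.Opens), ∃ G : PreZeroHypercover.{0} ((Ux x : T.Opens) : Scheme.{u}),
      IsStandardV G ∧ RefinesOver (Ux x).ι G E := fun x => hE ⟨Ux x, hUx x⟩
  choose G hG hGref using std
  choose iE hE₀ hEw using hGref
  let r : ∀ x, ((Wx x : T'.Opens) : Scheme.{u}) ⟶ ((Ux x : T.Opens) : Scheme.{u}) :=
    fun x => g.resLE (Ux x) (Wx x) (hWU x)
  let e := T₀.equivFin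
  let pt : Fin T₀.card → (U' : T'.Opens) := fun k => (e.symm k).1
  let K : PreZeroHypercover.{0} ((U' : T'.Opens) : Scheme.{u}) :=
    { I₀ := Σ k : Fin T₀.card, (G (pt k)).I₀
      X := fun kj => pullback (r (pt kj.1)) ((G (pt kj.1)).f kj.2)
      f := fun kj => pullback.fst _ _ ≫ T'.homOfLE (hWU' (pt kj.1)) }
  refine ⟨K, ⟨hU', ?_, ?_, ?_⟩, ?_⟩
  · haveI : ∀ k, Finite (G (pt k)).I₀ := fun k => (hG (pt k)).finite_index
    exact inferInstanceAs (Finite (Σ k : Fin T₀.card, (G (pt k)).I₀))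
  · rintro ⟨k, j⟩
    haveI : IsAffine ((Wx (pt k) : T'.Opens) : Scheme.{u}) := hWx (pt k)
    haveI : IsAffine ((Ux (pt k) : T.Opens) : Scheme.{u}) := hUx (pt k)
    haveI : IsAffine ((G (pt k)).X j) := (hG (pt k)).isAffine_obj j
    exact inferInstanceAs (IsAffine (pullback (r (pt k)) ((G (pt k)).f j)))
  · intro V _ _ h
    -- the closed point lands in some `Wx x`
    have hy : (h (IsLocalRing.closedPoint V)).1 ∈ (U' : Set T') := (h (IsLocalRing.closedPoint V)).2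
    obtain ⟨x, hxT, hyx⟩ := Set.mem_iUnion₂.1 (hT₀ hy)
    have hpt : pt (e ⟨x, hxT⟩) = x := by simp [pt]
    obtain ⟨h', hh'⟩ := exists_lift_of_closedPoint_mem (hWU' (pt (e ⟨x, hxT⟩))) V h
      (by rw [hpt]; exact hyx)
    obtain ⟨W, hWd, hWv, φ, hext, j, g', hg'⟩ :=
      hasValLift_pullback₁ (r (pt (e ⟨x, hxT⟩))) (G (pt (e ⟨x, hxT⟩)))
        (hG (pt (e ⟨x, hxT⟩))).lift V h'
    refine ⟨W, hWd, hWv, φ, hext, ⟨e ⟨x, hxT⟩, j⟩, g', ?_⟩
    change g' ≫ (pullback.fst _ _ ≫ T'.homOfLE _) = Spec.map φ ≫ h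
    have hg'' : g' ≫ pullback.fst _ _ = Spec.map φ ≫ h' := hg'
    rw [← Category.assoc, hg'', Category.assoc, hh']
  · rintro ⟨k, j⟩
    refine ⟨iE (pt k) j, pullback.lift (K.f ⟨k, j⟩ ≫ (U' : T'.Opens).ι)
      (pullback.snd _ _ ≫ hE₀ (pt k) j) ?_, ?_⟩
    · change (((pullback.fst _ _ ≫ T'.homOfLE _) ≫ (U' : T'.Opens).ι) ≫ g) = _
      rw [Category.assoc, Category.assoc, Category.assoc, hEw, Scheme.homOfLE_ι_assoc,
        ← Scheme.Hom.resLE_comp_ι g (hWU (pt k)), ← Category.assoc, ← Category.assoc,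
        pullback.condition]
    · exact pullback.lift_fst _ _ _

theorem isVCover_bind (E : PreZeroHypercover.{w} T) (hE : IsVCover E)
    (F : ∀ i, PreZeroHypercover.{w'} (E.X i)) (hF : ∀ i, IsVCover (F i)) :
    IsVCover (E.bind F) := by
  intro U
  obtain ⟨G, hG, hGref⟩ := hE U
  choose iE h₀ hw using hGref
  have hP : ∀ j, IsVCover ((F (iE j)).pullback₁ (h₀ j)) :=
    fun j => isVCover_pullback₁ (h₀ j) _ (hF (iE j))
  have hHex : ∀ j, ∃ H : PreZeroHypercover.{0} (((⊤ : (G.X j).Opens)) : Scheme.{u}),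
      IsStandardV H ∧ RefinesOver (⊤ : (G.X j).Opens).ι H ((F (iE j)).pullback₁ (h₀ j)) := by
    intro j
    haveI : IsAffine (G.X j) := hG.isAffine_obj j
    exact hP j ⟨⊤, isAffineOpen_top (G.X j)⟩
  choose H hH hHref using hHex
  choose iF₀ k₀₀ kw₀ using hHref
  let iF : ∀ j, (H j).I₀ → (F (iE j)).I₀ := iF₀
  let k₀ : ∀ j l, (H j).X l ⟶ pullback (h₀ j) ((F (iE j)).f (iF j l)) := k₀₀
  have kw : ∀ j l, k₀ j l ≫ pullback.fst (h₀ j) ((F (iE j)).f (iF j l)) =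
      (H j).f l ≫ (⊤ : (G.X j).Opens).ι := kw₀
  clear_value iF k₀
  let K : PreZeroHypercover.{0} ((U : T.Opens) : Scheme.{u}) :=
    { I₀ := Σ j : G.I₀, (H j).I₀
      X := fun jl => (H jl.1).X jl.2
      f := fun jl => (H jl.1).f jl.2 ≫ (⊤ : (G.X jl.1).Opens).ι ≫ G.f jl.1 }
  refine ⟨K, ⟨hG.isAffine, ?_, ?_, ?_⟩, ?_⟩
  · haveI := hG.finite_index
    haveI : ∀ j, Finite (H j).I₀ := fun j => (hH j).finite_index
    exact inferInstanceAs (Finite (Σ j : G.I₀, (H j).I₀))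
  · rintro ⟨j, l⟩
    exact (hH j).isAffine_obj l
  · intro V _ _ g
    obtain ⟨W, hWd, hWv, φ, hφ, j, g', hg'⟩ := hG.lift V g
    haveI := hWd
    haveI := hWv
    let g'' : Spec W ⟶ ((⊤ : (G.X j).Opens) : Scheme.{u}) :=
      IsOpenImmersion.lift (⊤ : (G.X j).Opens).ι g' (by
        rw [Scheme.Opens.range_ι]
        intro x _
        trivial)
    have hg'' : g'' ≫ (⊤ : (G.X j).Opens).ι = g' := IsOpenImmersion.lift_fac _ _ _
    obtain ⟨W', hW'd, hW'v, ψ, hψ, l, g3, hg3⟩ := (hH j).lift W g''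
    haveI := hW'd
    haveI := hW'v
    refine ⟨W', hW'd, hW'v, φ ≫ ψ, isExtVal_comp hφ hψ, ⟨j, l⟩, g3, ?_⟩
    change g3 ≫ ((H j).f l ≫ (⊤ : (G.X j).Opens).ι ≫ G.f j) = Spec.map (φ ≫ ψ) ≫ g
    rw [Spec.map_comp, ← Category.assoc g3, hg3, Category.assoc, ← Category.assoc g'', hg'', hg',
      Category.assoc]
  · rintro ⟨j, l⟩
    refine ⟨⟨iE j, iF j l⟩, k₀ j l ≫ pullback.snd _ _, ?_⟩
    change (k₀ j l ≫ pullback.snd _ _) ≫ ((F (iE j)).f (iF j l) ≫ E.f (iE j)) =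
      ((H j).f l ≫ (⊤ : (G.X j).Opens).ι ≫ G.f j) ≫ (U : T.Opens).ι
    have h1 : k₀ j l ≫ pullback.fst (h₀ j) ((F (iE j)).f (iF j l)) =
        (H j).f l ≫ (⊤ : (G.X j).Opens).ι := kw j l
    have h2 : pullback.snd (h₀ j) ((F (iE j)).f (iF j l)) ≫ (F (iE j)).f (iF j l) =
        pullback.fst _ _ ≫ h₀ j := pullback.condition.symm
    calc (k₀ j l ≫ pullback.snd _ _) ≫ ((F (iE j)).f (iF j l) ≫ E.f (iE j))
        = k₀ j l ≫ (pullback.snd _ _ ≫ (F (iE j)).f (iF j l)) ≫ E.f (iE j) := by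
          simp only [Category.assoc]
      _ = k₀ j l ≫ (pullback.fst _ _ ≫ h₀ j) ≫ E.f (iE j) :=
          congrArg (fun z => k₀ j l ≫ z ≫ E.f (iE j)) h2
      _ = (k₀ j l ≫ pullback.fst _ _) ≫ h₀ j ≫ E.f (iE j) := by simp only [Category.assoc]
      _ = ((H j).f l ≫ (⊤ : (G.X j).Opens).ι) ≫ G.f j ≫ (U : T.Opens).ι := by rw [h1, hw]
      _ = _ := by simp only [Category.assoc]

end Groth.Agent.Lib.helper11.VCover
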