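import Mathlib.AlgebraicGeometry.ValuativeCriterion
import Groth.Prelude.Def_HTop

/-! Valuation-ring lifts and specializations: helper lemmas for the V topology rows. -/

set_option autoImplicit false
universe w u
open CategoryTheory CategoryTheory.Limits AlgebraicGeometry IsLocalRing

namespace Groth.Agent.Lib.helper11.ValLift

/-- the generic point of the spectrum of a domain -/
noncomputable def gpt (A : CommRingCat.{u}) [IsDomain A] : ↥(Spec A) :=
  (⟨⊥, Ideal.isPrime_bot⟩ : PrimeSpectrum A)

theorem gpt_specializes (A : CommRingCat.{u}) [IsDomain A] (x : ↥(Spec A)) : gpt A ⤳ x := by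
  refine (PrimeSpectrum.le_iff_specializes (R := A) _ _).mp ?_
  change (⊥ : Ideal A) ≤ _
  exact bot_le

theorem specializes_closedPoint' (A : CommRingCat.{u}) [IsLocalRing A] (x : ↥(Spec A)) :
    x ⤳ (closedPoint A : ↥(Spec A)) :=
  IsLocalRing.specializes_closedPoint (R := A) x

/-- the image of the unique point of `Spec K` in `Spec A` for an injective map `A → K` to a field
is the generic point. -/
theorem SpecMap_apply_eq_gpt {A K : CommRingCat.{u}} [IsDomain A] [IsDomain K] (φ : A ⟶ K)
    (hφ : Function.Injective φ.hom) (x : ↥(Spec K)) (hx : x = gpt K) :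
    Spec.map φ x = gpt A := by
  subst hx
  refine PrimeSpectrum.ext ?_
  change Ideal.comap φ.hom ⊥ = ⊥
  rw [← RingHom.ker_eq_comap_bot]
  exact (RingHom.injective_iff_ker_eq_bot _).mp hφ

theorem eq_gpt_of_field (K : Type u) [Field K] (x : ↥(Spec (.of K))) :
    x = gpt (.of K) := by
  haveI : Subsingleton (PrimeSpectrum K) := inferInstance
  exact Subsingleton.elim (α := PrimeSpectrum K) _ _

/-- **Lemma A**: a specialization in a scheme is realised by a valuation ring of the residue field
of its generic point. -/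
theorem exists_valuationRing_of_specializes {P : Scheme.{u}} {p' p : P} (h : p' ⤳ p) :
    ∃ (A : ValuationSubring (P.residueField p')) (q : Spec (.of A) ⟶ P),
      q (closedPoint A) = p ∧
      Spec.map (CommRingCat.ofHom (algebraMap A (P.residueField p'))) ≫ q =
        P.fromSpecResidueField p' := by
  let φ : P.presheaf.stalk p ⟶ P.residueField p' :=
    P.presheaf.stalkSpecializes h ≫ P.residue p'
  obtain ⟨A, hA, hA_local⟩ := exists_factor_valuationRing φ.hom
  let ψ : P.presheaf.stalk p ⟶ .of A := CommRingCat.ofHom (φ.hom.codRestrict _ hA)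
  refine ⟨A, Spec.map ψ ≫ P.fromSpecStalk p, ?_, ?_⟩
  · rw [Scheme.Hom.comp_apply]
    have : Spec.map ψ (closedPoint A) = closedPoint (P.presheaf.stalk p) :=
      comap_closedPoint (S := A) (φ.hom.codRestrict A.toSubring hA)
    rw [this, P.fromSpecStalk_closedPoint]
  · rw [Scheme.fromSpecResidueField, ← Scheme.SpecMap_stalkSpecializes_fromSpecStalk h]
    simp_rw [← Spec.map_comp_assoc]
    rfl

/-- **Lemma B**: a map of valuation rings whose `Spec` preserves closed and generic points is an
extension of valuation rings. -/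
theorem isExtVal_of_points {V W : CommRingCat.{u}} [IsDomain V] [ValuationRing V] [IsDomain W]
    [ValuationRing W] (φ : V ⟶ W)
    (h1 : Spec.map φ (closedPoint W) = closedPoint V) (h2 : Spec.map φ (gpt W) = gpt V) :
    HTop.IsExtVal V W φ := by
  constructor
  · rw [RingHom.injective_iff_ker_eq_bot, RingHom.ker_eq_comap_bot]
    exact congrArg PrimeSpectrum.asIdeal h2
  · exact (isLocalHom_iff_comap_closedPoint φ.hom).mpr h1

theorem isExtVal_points {V W : CommRingCat.{u}} [IsDomain V] [ValuationRing V] [IsDomain W]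
    [ValuationRing W] (φ : V ⟶ W) (h : HTop.IsExtVal V W φ) :
    Spec.map φ (closedPoint W) = closedPoint V ∧ Spec.map φ (gpt W) = gpt V := by
  constructor
  · exact (isLocalHom_iff_comap_closedPoint φ.hom).mp h.2
  · refine PrimeSpectrum.ext ?_
    change Ideal.comap φ.hom ⊥ = ⊥
    rw [← RingHom.ker_eq_comap_bot]
    exact (RingHom.injective_iff_ker_eq_bot _).mp h.1

/-- a morphism from a local scheme factors through any open immersion whose range contains the
image of the closed point. -/
theorem exists_lift_of_closedPoint_mem {R : CommRingCat.{u}} [IsLocalRing R] {X Y : Scheme.{u}}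
    (q : Spec R ⟶ X) (ι : Y ⟶ X) [IsOpenImmersion ι]
    (h : q (closedPoint R) ∈ Set.range ι) : ∃ q' : Spec R ⟶ Y, q' ≫ ι = q := by
  refine ⟨IsOpenImmersion.lift ι q ?_, IsOpenImmersion.lift_fac _ _ _⟩
  rintro _ ⟨x, rfl⟩
  exact ((specializes_closedPoint' R x).map q.continuous).mem_open
    ι.isOpenEmbedding.isOpen_range h

/-- **L1**: a specialization in `Spec V ×_T X` lying over `generic ⤳ closed` in `Spec V` gives a
lift of `Spec V → T` to `X` after an extension of valuation rings. -/
theorem exists_lift_of_specializes {T X : Scheme.{u}} (f : X ⟶ T) (V : CommRingCat.{u})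
    [IsDomain V] [ValuationRing V] (g : Spec V ⟶ T) (w' w : ↑(pullback g f)) (hw : w' ⤳ w)
    (h1 : pullback.fst g f w' = gpt V) (h2 : pullback.fst g f w = closedPoint V) :
    ∃ (W : CommRingCat.{u}) (_ : IsDomain W) (_ : ValuationRing W) (φ : V ⟶ W),
      HTop.IsExtVal V W φ ∧ ∃ g' : Spec W ⟶ X, g' ≫ f = Spec.map φ ≫ g ∧
        g' (closedPoint W) = pullback.snd g f w := by
  obtain ⟨A, q, hq1, hq2⟩ := exists_valuationRing_of_specializes hw
  obtain ⟨W, hW⟩ : ∃ W : CommRingCat.{u}, W = .of A := ⟨_, rfl⟩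
  subst hW
  haveI : IsDomain (CommRingCat.of A) := inferInstanceAs (IsDomain A)
  haveI : ValuationRing (CommRingCat.of A) := inferInstanceAs (ValuationRing A)
  obtain ⟨φ, hφ⟩ : ∃ φ : V ⟶ .of A, Spec.map φ = q ≫ pullback.fst g f :=
    ⟨Spec.preimage (q ≫ pullback.fst g f), Spec.map_preimage _⟩
  refine ⟨.of A, inferInstance, inferInstance, φ, ?_, q ≫ pullback.snd g f, ?_, ?_⟩
  · apply isExtVal_of_points
    · rw [hφ, Scheme.Hom.comp_apply, hq1, h2]
    · obtain ⟨x⟩ : Nonempty ↥(Spec (.of ((pullback g f).residueField w'))) := inferInstance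
      have hx := eq_gpt_of_field _ x
      have hinj : Function.Injective
          (CommRingCat.ofHom (algebraMap A ((pullback g f).residueField w'))).hom :=
        Subtype.val_injective
      have := SpecMap_apply_eq_gpt
        (CommRingCat.ofHom (algebraMap A ((pullback g f).residueField w'))) hinj x hx
      rw [← this, hφ, ← Scheme.Hom.comp_apply, reassoc_of% hq2, Scheme.Hom.comp_apply,
        Scheme.fromSpecResidueField_apply, h1]
  · rw [Category.assoc, ← pullback.condition, ← Category.assoc, ← hφ]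
  · rw [Scheme.Hom.comp_apply, hq1]

/-- the generic point of `Spec A`, `A` a valuation subring of a residue field, maps to the
generic point of the specialization it realises. -/
theorem apply_gpt_of_comp_eq {P : Scheme.{u}} {p' : P} (A : ValuationSubring (P.residueField p'))
    (q : Spec (.of A) ⟶ P)
    (hq : Spec.map (CommRingCat.ofHom (algebraMap A (P.residueField p'))) ≫ q =
        P.fromSpecResidueField p') :
    haveI : IsDomain (CommRingCat.of A) := inferInstanceAs (IsDomain A)
    q (gpt (.of A)) = p' := by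
  haveI : IsDomain (CommRingCat.of A) := inferInstanceAs (IsDomain A)
  obtain ⟨x⟩ : Nonempty ↥(Spec (.of (P.residueField p'))) := inferInstance
  have hx := eq_gpt_of_field _ x
  have hinj : Function.Injective
      (CommRingCat.ofHom (algebraMap A (P.residueField p'))).hom :=
    Subtype.val_injective
  have := SpecMap_apply_eq_gpt
    (CommRingCat.ofHom (algebraMap A (P.residueField p'))) hinj x hx
  rw [← this, ← Scheme.Hom.comp_apply, hq, Scheme.fromSpecResidueField_apply]

/-- valuation-ring lifting gives lifting of specializations after any base change. -/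
theorem exists_specializes_of_lift {X Y : Scheme.{u}} (f : X ⟶ Y)
    (H : ∀ (V : CommRingCat.{u}) [IsDomain V] [ValuationRing V] (g : Spec V ⟶ Y),
      ∃ (W : CommRingCat.{u}) (_ : IsDomain W) (_ : ValuationRing W) (φ : V ⟶ W),
        HTop.IsExtVal V W φ ∧ ∃ g' : Spec W ⟶ X, g' ≫ f = Spec.map φ ≫ g)
    (Z : Scheme.{u}) (g : Z ⟶ Y) (z' z : Z) (hz : z' ⤳ z) :
    ∃ w' w : ↑(pullback g f), w' ⤳ w ∧ pullback.fst g f w' = z' ∧ pullback.fst g f w = z := by
  obtain ⟨A, q, hq1, hq2⟩ := exists_valuationRing_of_specializes hz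
  haveI : IsDomain (CommRingCat.of A) := inferInstanceAs (IsDomain A)
  haveI : ValuationRing (CommRingCat.of A) := inferInstanceAs (ValuationRing A)
  have hq3 := apply_gpt_of_comp_eq A q hq2
  obtain ⟨W, hW1, hW2, φ, hφ, g', hg'⟩ := H (.of A) (q ≫ g)
  obtain ⟨hφ1, hφ2⟩ := isExtVal_points φ hφ
  let l : Spec W ⟶ pullback g f := pullback.lift (Spec.map φ ≫ q) g' (by
    rw [Category.assoc, hg'])
  refine ⟨l (gpt W), l (closedPoint W), (gpt_specializes W _).map l.continuous, ?_, ?_⟩
  · rw [← Scheme.Hom.comp_apply, pullback.lift_fst, Scheme.Hom.comp_apply, hφ2, hq3]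
  · rw [← Scheme.Hom.comp_apply, pullback.lift_fst, Scheme.Hom.comp_apply, hφ1, hq1]

/-- a jointly surjective family of flat morphisms has the valuation-ring lifting property. -/
theorem hasValLift_of_flat {T : Scheme.{u}} (E : PreZeroHypercover.{w} T)
    (hflat : ∀ j, Flat (E.f j)) (hsurj : ∀ t : T, ∃ (j : E.I₀) (x : E.X j), E.f j x = t) :
    HTop.HasValLift E := by
  intro V _ _ g
  obtain ⟨j, x, hx⟩ := hsurj (g (closedPoint V))
  obtain ⟨w, hw1, hw2⟩ := Scheme.Pullback.exists_preimage_pullback (f := g) (g := E.f j)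
    (closedPoint V) x hx.symm
  haveI := hflat j
  have hgen : GeneralizingMap (pullback.fst g (E.f j)) := Flat.generalizingMap _
  obtain ⟨w', hw', hw'1⟩ := hgen (a := w) (b := gpt V) (gpt_specializes V _)
  obtain ⟨W, hW1, hW2, φ, hφ, g', hg', -⟩ :=
    exists_lift_of_specializes (E.f j) V g w' w hw' hw'1 hw1
  exact ⟨W, hW1, hW2, φ, hφ, j, g', hg'⟩

/-- family version of `exists_specializes_of_lift`. -/
theorem exists_specializes_of_hasValLift {T : Scheme.{u}} (E : PreZeroHypercover.{w} T)
    (H : HTop.HasValLift E) (Z : Scheme.{u}) (g : Z ⟶ T) (z' z : Z) (hz : z' ⤳ z) :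
    ∃ (j : E.I₀) (w' w : ↑(pullback g (E.f j))), w' ⤳ w ∧ pullback.fst g (E.f j) w' = z' ∧
      pullback.fst g (E.f j) w = z := by
  obtain ⟨A, q, hq1, hq2⟩ := exists_valuationRing_of_specializes hz
  haveI : IsDomain (CommRingCat.of A) := inferInstanceAs (IsDomain A)
  haveI : ValuationRing (CommRingCat.of A) := inferInstanceAs (ValuationRing A)
  have hq3 := apply_gpt_of_comp_eq A q hq2
  obtain ⟨W, hW1, hW2, φ, hφ, j, g', hg'⟩ := H (.of A) (q ≫ g)
  obtain ⟨hφ1, hφ2⟩ := isExtVal_points φ hφ
  let l : Spec W ⟶ pullback g (E.f j) := pullback.lift (Spec.map φ ≫ q) g' (by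
    rw [Category.assoc, hg'])
  refine ⟨j, l (gpt W), l (closedPoint W), (gpt_specializes W _).map l.continuous, ?_, ?_⟩
  · rw [← Scheme.Hom.comp_apply, pullback.lift_fst, Scheme.Hom.comp_apply, hφ2, hq3]
  · rw [← Scheme.Hom.comp_apply, pullback.lift_fst, Scheme.Hom.comp_apply, hφ1, hq1]

/-- specializations in the base lift to some member of a family with the lifting property. -/
theorem exists_specializes_of_hasValLift' {T : Scheme.{u}} (E : PreZeroHypercover.{w} T)
    (H : HTop.HasValLift E) (z' z : T) (hz : z' ⤳ z) :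
    ∃ (j : E.I₀) (x' x : E.X j), x' ⤳ x ∧ E.f j x' = z' ∧ E.f j x = z := by
  obtain ⟨j, w', w, hw, h1, h2⟩ := exists_specializes_of_hasValLift E H T (𝟙 T) z' z hz
  refine ⟨j, pullback.snd (𝟙 T) (E.f j) w', pullback.snd (𝟙 T) (E.f j) w,
    hw.map (pullback.snd (𝟙 T) (E.f j)).continuous, ?_, ?_⟩
  · rw [← Scheme.Hom.comp_apply, ← pullback.condition, Scheme.Hom.comp_apply, h1]
    rfl
  · rw [← Scheme.Hom.comp_apply, ← pullback.condition, Scheme.Hom.comp_apply, h2]
    rfl

/-- a family with the lifting property is jointly surjective. -/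
theorem surj_of_hasValLift {T : Scheme.{u}} (E : PreZeroHypercover.{w} T)
    (H : HTop.HasValLift E) (t : T) : ∃ (j : E.I₀) (x : E.X j), E.f j x = t := by
  obtain ⟨j, x', x, -, -, hx⟩ := exists_specializes_of_hasValLift' E H t t specializes_rfl
  exact ⟨j, x, hx⟩

/-- image of a closed set under a morphism of affine schemes is closed as soon as it is stable
under specialization. -/
theorem isClosed_image_of_stable {X Y : Scheme.{u}} [IsAffine X] [IsAffine Y] (f : X ⟶ Y)
    (Z : Set X) (hZ : IsClosed Z) (H : StableUnderSpecialization (f '' Z)) :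
    IsClosed (f '' Z) := by
  have hnat : X.isoSpec.hom ≫ Spec.map f.appTop = f ≫ Y.isoSpec.hom :=
    Scheme.isoSpec_hom_naturality f
  have hZ' : IsClosed (X.isoSpec.hom '' Z) :=
    (X.isoSpec.hom.homeomorph.isClosed_image).mpr hZ
  have himg : (Spec.map f.appTop) '' (X.isoSpec.hom '' Z) = Y.isoSpec.hom '' (f '' Z) := by
    rw [Set.image_image, Set.image_image]
    refine Set.image_congr' fun x => ?_
    rw [← Scheme.Hom.comp_apply, ← Scheme.Hom.comp_apply, hnat]
  have hst : StableUnderSpecialization (Y.isoSpec.hom '' (f '' Z)) := by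
    rintro y' y hy ⟨a', ha', rfl⟩
    obtain ⟨a, rfl⟩ := Y.isoSpec.hom.homeomorph.surjective y
    refine ⟨a, H ?_ ha', rfl⟩
    exact (Y.isoSpec.hom.homeomorph.isInducing.specializes_iff).mp hy
  have hcl : IsClosed (Y.isoSpec.hom '' (f '' Z)) := by
    rw [← himg]
    refine PrimeSpectrum.isClosed_image_of_stableUnderSpecialization f.appTop.hom
      (X.isoSpec.hom '' Z) hZ' ?_
    change StableUnderSpecialization ((Spec.map f.appTop) '' (X.isoSpec.hom '' Z))
    rw [himg]
    exact hst
  exact (Y.isoSpec.hom.homeomorph.isClosed_image).mp hcl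

/-- **Lemma Q**: a subset of the (affine) target of a standard V covering is open as soon as all
its preimages in the members are open. -/
theorem isOpen_of_isStandardV {T : Scheme.{u}} (F : PreZeroHypercover.{w} T)
    (hF : HTop.IsStandardV F) (S : Set T) (hS : ∀ j, IsOpen ((F.f j) ⁻¹' S)) : IsOpen S := by
  haveI := hF.isAffine
  haveI := hF.finite_index
  haveI := hF.isAffine_obj
  obtain ⟨d, hd⟩ : ∃ d : ∐ F.X ⟶ T, ∀ j, Sigma.ι F.X j ≫ d = F.f j :=
    ⟨Sigma.desc F.f, fun j => Sigma.ι_desc _ _⟩
  rw [← isClosed_compl_iff]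
  have hpre : IsClosed (d ⁻¹' Sᶜ) := by
    rw [Set.preimage_compl, isClosed_compl_iff]
    have : d ⁻¹' S = ⋃ j, (Sigma.ι F.X j) '' ((F.f j) ⁻¹' S) := by
      ext x
      constructor
      · intro hx
        obtain ⟨j, y, rfl⟩ := (sigmaOpenCover F.X).exists_eq x
        refine Set.mem_iUnion.mpr ⟨j, y, ?_, rfl⟩
        change F.f j y ∈ S
        rw [← hd j, Scheme.Hom.comp_apply]
        exact hx
      · intro hx
        obtain ⟨j, y, hy, rfl⟩ := Set.mem_iUnion.mp hx
        change d (Sigma.ι F.X j y) ∈ S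
        rw [← Scheme.Hom.comp_apply, hd j]
        exact hy
    rw [this]
    exact isOpen_iUnion fun j => (Sigma.ι F.X j).isOpenEmbedding.isOpenMap _ (hS j)
  have hsurj : Function.Surjective d := by
    intro t
    obtain ⟨j, x, hx⟩ := surj_of_hasValLift F hF.lift t
    refine ⟨Sigma.ι F.X j x, ?_⟩
    rw [← Scheme.Hom.comp_apply, hd j, hx]
  have himg : d '' (d ⁻¹' Sᶜ) = Sᶜ := Set.image_preimage_eq _ hsurj
  rw [← himg]
  apply isClosed_image_of_stable d _ hpre
  rw [himg]
  intro z' z hz hz'
  obtain ⟨j, x', x, hx, h1, h2⟩ := exists_specializes_of_hasValLift' F hF.lift z' z hz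
  have hcl : IsClosed ((F.f j) ⁻¹' Sᶜ) := by
    rw [Set.preimage_compl, isClosed_compl_iff]
    exact hS j
  have : x ∈ (F.f j) ⁻¹' Sᶜ := hx.mem_closed hcl (by
    change F.f j x' ∈ Sᶜ
    rw [h1]
    exact hz')
  rw [← h2]
  exact this

end Groth.Agent.Lib.helper11.ValLift
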