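import Groth.Agent.Lib.helper11.ValLift
import Groth.Agent.Lib.helper11.VCover
import Groth.Agent.S7473
import Mathlib.AlgebraicGeometry.Sites.SheafQuasiCompact

/-! Sheaf condition for the V topology: reduction to Zariski + standard V coverings. -/

set_option autoImplicit false
universe v w w' u
open CategoryTheory CategoryTheory.Limits AlgebraicGeometry Opposite HTop

namespace Groth.Agent.Lib.helper11.VSheaf

variable {T : Scheme.{u}}

theorem HasValLift.of_hom {E : PreZeroHypercover.{w} T} {E' : PreZeroHypercover.{w'} T}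
    (φ : E.Hom E') (h : HasValLift E) : HasValLift E' := by
  intro V _ _ g
  obtain ⟨W, h1, h2, ψ, hψ, j, g', hg'⟩ := h V g
  exact ⟨W, h1, h2, ψ, hψ, φ.s₀ j, g' ≫ φ.h₀ j, by rw [Category.assoc, φ.w₀, hg']⟩

theorem hasValLift_restrictIndex (E : PreZeroHypercover.{w} T) {ι : Type w'} (f : ι → E.I₀)
    (hf : Function.Surjective f) (h : HasValLift E) : HasValLift (E.restrictIndex f) := by
  intro V _ _ g
  obtain ⟨W, h1, h2, ψ, hψ, j, g', hg'⟩ := h V g
  obtain ⟨i, rfl⟩ := hf j
  exact ⟨W, h1, h2, ψ, hψ, i, g', hg'⟩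

theorem isStandardV_restrictIndex (E : PreZeroHypercover.{w} T) {ι : Type w'} (f : ι → E.I₀)
    (hf : Function.Surjective f) [Finite ι] (h : IsStandardV E) :
    IsStandardV (E.restrictIndex f) :=
  ⟨h.isAffine, ‹_›, fun i => h.isAffine_obj (f i), hasValLift_restrictIndex E f hf h.lift⟩

theorem IsVCover.of_hom {E : PreZeroHypercover.{w} T} {E' : PreZeroHypercover.{w'} T}
    (φ : E.Hom E') (h : IsVCover E) : IsVCover E' := fun U => by
  obtain ⟨F, hF, href⟩ := h U
  exact ⟨F, hF, href.of_hom φ⟩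

theorem isVCover_of_isStandardV (E : PreZeroHypercover.{w} T) (h : IsStandardV E) :
    IsVCover E := by
  intro U
  haveI : IsAffine (U.1 : Scheme.{u}) := U.2
  haveI := h.finite_index
  obtain ⟨n, ⟨e⟩⟩ := Finite.exists_equiv_fin E.I₀
  have hstd := VCover.isStandardV_pullback₁ U.1.ι E h
  refine ⟨(E.pullback₁ U.1.ι).restrictIndex e.symm,
    isStandardV_restrictIndex _ _ e.symm.surjective hstd, ?_⟩
  intro i
  exact ⟨e.symm i, pullback.snd _ _, pullback.condition.symm⟩

/-- the comparison `E.pullback₁ g ⟶ E.pullback₂ g`. -/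
noncomputable def pullback₁₂ {T' : Scheme.{u}} (g : T' ⟶ T) (E : PreZeroHypercover.{w} T) :
    (E.pullback₁ g).Hom (E.pullback₂ g) where
  s₀ := fun i => i
  h₀ := fun i => (pullbackSymmetry _ _).hom
  w₀ := fun i => pullbackSymmetry_hom_comp_snd _ _

theorem hasValLift_pullback₂ {T' : Scheme.{u}} (g : T' ⟶ T) (E : PreZeroHypercover.{w} T)
    (h : HasValLift E) : HasValLift (E.pullback₂ g) :=
  HasValLift.of_hom (pullback₁₂ g E) (VCover.hasValLift_pullback₁ g E h)

theorem isVCover_pullback₂ {T' : Scheme.{u}} (g : T' ⟶ T) (E : PreZeroHypercover.{w} T)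
    (h : IsVCover E) : IsVCover (E.pullback₂ g) :=
  IsVCover.of_hom (pullback₁₂ g E) (VCover.isVCover_pullback₁ g E h)

theorem isStandardV_pullback₂_pullback₂ {V V' : Scheme.{u}} [IsAffine V']
    (E : PreZeroHypercover.{w} T) (hE : IsStandardV E) (f : V ⟶ T) (g : V' ⟶ V) :
    IsStandardV ((E.pullback₂ f).pullback₂ g) := by
  haveI := hE.isAffine
  haveI := hE.isAffine_obj
  refine ⟨inferInstance, hE.finite_index, fun j => ?_, ?_⟩
  · haveI : IsAffine (pullback (E.f j) (g ≫ f)) := inferInstance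
    exact .of_isIso (pullbackLeftPullbackSndIso (E.f j) f g).hom
  · exact hasValLift_pullback₂ g _ (hasValLift_pullback₂ f E hE.lift)

theorem aff0 (V : Scheme.{u}) (i : V.affineOneHypercover.I₀) :
    IsAffine (V.affineOneHypercover.X i) := by
  change IsAffine (V.affineCover.X i)
  infer_instance

theorem aff1 (V : Scheme.{u}) (i j : V.affineOneHypercover.I₀)
    (k : V.affineOneHypercover.I₁ i j) : IsAffine (V.affineOneHypercover.Y k) := by
  change IsAffine ((pullback (V.affineCover.f i) (V.affineCover.f j)).affineCover.X k)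
  infer_instance

section Sheaf

variable (F : Scheme.{u}ᵒᵖ ⥤ Type v)

theorem isSheafFor_of_hom {S : Scheme.{u}} {𝒰 : PreZeroHypercover.{w} S}
    {𝒱 : PreZeroHypercover.{w'} S} (f : 𝒰.Hom 𝒱) (H₁ : Presieve.IsSheafFor F 𝒰.presieve₀)
    (H₂ : ∀ {X : Scheme.{u}} (f : X ⟶ S), Presieve.IsSeparatedFor F (𝒰.pullback₂ f).presieve₀) :
    Presieve.IsSheafFor F 𝒱.presieve₀ := by
  rw [Presieve.isSheafFor_iff_generate]
  apply Presieve.isSheafFor_subsieve_aux (S := .generate 𝒰.presieve₀)
  · rw [← Sieve.generate_le_iff, Sieve.generate_sieve, Sieve.generate_le_iff,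
      PreZeroHypercover.presieve₀, Presieve.ofArrows_le_iff]
    intro i
    rw [← f.w₀]
    exact ⟨_, f.h₀ i, 𝒱.f _, ⟨_⟩, rfl⟩
  · rwa [← Presieve.isSheafFor_iff_generate]
  · intro Y f hf
    rw [← Sieve.pullbackArrows_comm, ← Presieve.isSeparatedFor_iff_generate,
      ← PreZeroHypercover.presieve₀_pullback₁]
    apply H₂

variable (hzar : Presieve.IsSheaf Scheme.zariskiTopology F)
  (hstd : ∀ (T : Scheme.{u}) (E : PreZeroHypercover.{u} T), IsStandardV E →
    Presieve.IsSheafFor F E.presieve₀)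

include hstd in
theorem sheaf_of_std (E : PreZeroHypercover.{w} T) (hE : IsStandardV E) :
    Presieve.IsSheafFor F E.presieve₀ := by
  haveI := hE.finite_index
  obtain ⟨n, ⟨e⟩⟩ := Finite.exists_equiv_fin E.I₀
  let e' : ULift.{u} (Fin n) ≃ E.I₀ := Equiv.ulift.trans e.symm
  rw [← E.presieve₀_reindex e']
  exact hstd T _ (isStandardV_restrictIndex E e' e'.surjective hE)

include hzar hstd in
theorem sheaf_pullback_std {V : Scheme.{u}} (E : PreZeroHypercover.{w} T) (hE : IsStandardV E)
    (f : V ⟶ T) : Presieve.IsSheafFor F (E.pullback₂ f).presieve₀ := by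
  refine V.affineOneHypercover.isSheafFor_of_pullback hzar (fun i => ?_) (fun i j k => ?_)
  · rw [← Sieve.pullbackArrows_comm, ← Presieve.isSheafFor_iff_generate,
      ← PreZeroHypercover.presieve₀_pullback₁]
    haveI := aff0 V i
    exact sheaf_of_std F hstd _ (isStandardV_pullback₂_pullback₂ E hE f _)
  · rw [← Sieve.pullbackArrows_comm, ← Presieve.isSeparatedFor_iff_generate,
      ← PreZeroHypercover.presieve₀_pullback₁]
    haveI := aff1 V i j k
    exact (sheaf_of_std F hstd _ (isStandardV_pullback₂_pullback₂ E hE f _)).isSeparatedFor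

include hzar hstd in
theorem sheaf_of_vcover_affine [IsAffine T] (E : PreZeroHypercover.{w} T) (hE : IsVCover E) :
    Presieve.IsSheafFor F E.presieve₀ := by
  obtain ⟨F₀, hF₀, href⟩ := hE ⟨⊤, isAffineOpen_top T⟩
  let F₁ : PreZeroHypercover.{0} T := ⟨F₀.I₀, F₀.X, fun j => F₀.f j ≫ (⊤ : T.Opens).ι⟩
  have hF₁ : IsStandardV F₁ := by
    refine ⟨inferInstance, hF₀.finite_index, hF₀.isAffine_obj, ?_⟩
    intro V _ _ g
    obtain ⟨W, h1, h2, ψ, hψ, j, g', hg'⟩ := hF₀.lift V (g ≫ T.topIso.inv)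
    refine ⟨W, h1, h2, ψ, hψ, j, g', ?_⟩
    change g' ≫ F₀.f j ≫ (⊤ : T.Opens).ι = _
    rw [← Category.assoc, hg', Category.assoc, Category.assoc, Scheme.toIso_inv_ι,
      Category.comp_id]
  choose s h hh using href
  let φ : F₁.Hom E := ⟨s, h, hh⟩
  exact isSheafFor_of_hom F φ (sheaf_of_std F hstd F₁ hF₁)
    (fun f => (sheaf_pullback_std F hzar hstd F₁ hF₁ f).isSeparatedFor)

include hzar hstd in
theorem sheaf_of_vcover (E : PreZeroHypercover.{w} T) (hE : IsVCover E) :
    Presieve.IsSheafFor F E.presieve₀ := by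
  refine T.affineOneHypercover.isSheafFor_of_pullback hzar (fun i => ?_) (fun i j k => ?_)
  · rw [← Sieve.pullbackArrows_comm, ← Presieve.isSheafFor_iff_generate,
      ← PreZeroHypercover.presieve₀_pullback₁]
    haveI := aff0 T i
    exact sheaf_of_vcover_affine F hzar hstd _ (isVCover_pullback₂ _ E hE)
  · rw [← Sieve.pullbackArrows_comm, ← Presieve.isSeparatedFor_iff_generate,
      ← PreZeroHypercover.presieve₀_pullback₁]
    haveI := aff1 T i j k
    exact (sheaf_of_vcover_affine F hzar hstd _ (isVCover_pullback₂ _ E hE)).isSeparatedFor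

include hzar hstd in
theorem isVSheaf_of : IsVSheaf F := by
  intro X R hR
  rw [vPrecoverage, PreZeroHypercoverFamily.mem_precoverage_iff] at hR
  obtain ⟨E, hE, rfl⟩ := hR
  exact sheaf_of_vcover F hzar hstd E hE

omit hzar hstd in
theorem zariski_of_isVSheaf (hV : IsVSheaf F) : Presieve.IsSheaf Scheme.zariskiTopology F := by
  change Presieve.IsSheaf (Scheme.precoverage IsOpenImmersion).toGrothendieck F
  rw [Precoverage.isSheaf_toGrothendieck_iff_of_isStableUnderBaseChange]
  intro X R hR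
  apply hV
  have h1 : R ∈ Scheme.fpqcPrecoverage X := Scheme.zariskiPrecoverage_le_fpqcPrecoverage _ hR
  rw [Precoverage.mem_iff_exists_zeroHypercover] at h1
  obtain ⟨𝒰, rfl⟩ := h1
  rw [presieve₀_mem_vPrecoverage_iff]
  exact Groth.Agent.S7473.result 𝒰

omit hzar hstd in
theorem std_of_isVSheaf (hV : IsVSheaf F) (E : PreZeroHypercover.{w} T) (hE : IsStandardV E) :
    Presieve.IsSheafFor F E.presieve₀ :=
  hV _ ((presieve₀_mem_vPrecoverage_iff E).mpr (isVCover_of_isStandardV E hE))

omit hstd in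
include hzar in
theorem isSheafFor_sigma_iff' (E : PreZeroHypercover.{u} T) [Finite E.I₀] :
    Presieve.IsSheafFor F (.singleton (Sigma.desc E.f)) ↔ Presieve.IsSheafFor F E.presieve₀ := by
  have : PreservesLimitsOfShape (Discrete (E.I₀ × E.I₀)) F :=
    preservesLimitsOfShape_discrete_of_isSheaf_zariskiTopology hzar
  have : PreservesLimitsOfShape (Discrete E.I₀) F :=
    preservesLimitsOfShape_discrete_of_isSheaf_zariskiTopology hzar
  exact Presieve.isSheafFor_sigmaDesc_iff E.f (coproductIsCoproduct _)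
    (FinitaryExtensive.isVanKampen_finiteCoproducts (coproductIsCoproduct _)).isUniversal F

end Sheaf

theorem isStandardV_singleton_sigma (E : PreZeroHypercover.{u} T) (hE : IsStandardV E) :
    IsStandardV (PreZeroHypercover.singleton.{w'} (Sigma.desc E.f)) := by
  haveI := hE.isAffine
  haveI := hE.isAffine_obj
  haveI := hE.finite_index
  refine ⟨inferInstance, inferInstanceAs (Finite PUnit), fun _ => ?_, ?_⟩
  · change IsAffine (∐ E.X)
    infer_instance
  · intro V _ _ g
    obtain ⟨W, h1, h2, ψ, hψ, j, g', hg'⟩ := hE.lift V g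
    refine ⟨W, h1, h2, ψ, hψ, ⟨⟩, g' ≫ Sigma.ι E.X j, ?_⟩
    change (g' ≫ Sigma.ι E.X j) ≫ Sigma.desc E.f = _
    rw [Category.assoc, Sigma.ι_desc, hg']

end Groth.Agent.Lib.helper11.VSheaf
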