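import Groth.Agent.Lib.helper11.AbsFlat
import Mathlib.AlgebraicGeometry.Morphisms.WeaklyEtale
import Mathlib.AlgebraicGeometry.Morphisms.Flat
import Mathlib.AlgebraicGeometry.AffineScheme
import Mathlib.Tactic

/-! Weakly étale morphisms of schemes vs. weakly étale algebras. -/

namespace Groth.Agent.Lib.helper11.WEtSch

open AlgebraicGeometry CategoryTheory Limits TensorProduct

universe u

theorem weaklyEtale_SpecMap_iff {R S : CommRingCat.{u}} (φ : R ⟶ S) :
    WeaklyEtale (Spec.map φ) ↔ (letI := φ.hom.toAlgebra; Algebra.WeaklyEtale R S) := by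
  letI := φ.hom.toAlgebra
  have hφ : φ = CommRingCat.ofHom (algebraMap R S) := rfl
  rw [weaklyEtale_iff, Algebra.weaklyEtale_iff]
  have h1 : Flat (Spec.map φ) ↔ Module.Flat R S := by
    rw [Flat.SpecMap_iff]
    exact RingHom.flat_algebraMap_iff
  have h2 : Flat (pullback.diagonal (Spec.map φ)) ↔
      (Algebra.TensorProduct.lmul' R (S := S)).Flat := by
    rw [hφ, diagonal_SpecMap R S, MorphismProperty.cancel_right_of_respectsIso @Flat,
      Flat.SpecMap_iff]
    rfl
  rw [h1, h2]

theorem weaklyEtale_iff_affineOpens {X S : Scheme.{u}} (f : X ⟶ S) :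
    WeaklyEtale f ↔ ∀ (U : X.Opens) (V : S.Opens) (_ : IsAffineOpen U) (_ : IsAffineOpen V)
      (hUV : U ≤ f ⁻¹ᵁ V),
      (letI := (f.appLE V U hUV).hom.toAlgebra
       Algebra.WeaklyEtale Γ(S, V) Γ(X, U)) := by
  constructor
  · intro hf U V hU hV hUV
    rw [← weaklyEtale_SpecMap_iff]
    have h1 : WeaklyEtale (Spec.map (f.appLE V U hUV) ≫ hV.fromSpec) := by
      rw [IsAffineOpen.SpecMap_appLE_fromSpec f hV hU hUV]
      infer_instance
    exact WeaklyEtale.of_comp _ hV.fromSpec
  · intro h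
    -- choose affine neighbourhoods
    have hex : ∀ x : X, ∃ (U : X.Opens) (V : S.Opens), IsAffineOpen U ∧ IsAffineOpen V ∧ x ∈ U ∧
        U ≤ f ⁻¹ᵁ V := by
      intro x
      obtain ⟨V, hV, hfx, -⟩ := TopologicalSpace.Opens.isBasis_iff_nbhd.mp S.isBasis_affineOpens
        (TopologicalSpace.Opens.mem_top (f x))
      obtain ⟨U, hU, hx, e⟩ := TopologicalSpace.Opens.isBasis_iff_nbhd.mp X.isBasis_affineOpens
        (show x ∈ f ⁻¹ᵁ V from hfx)
      exact ⟨U, V, hU, hV, hx, e⟩
    choose U V hU hV hxU hUV using hex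
    rw [IsZariskiLocalAtSource.iff_of_iSup_eq_top (P := @WeaklyEtale) U]
    · intro x
      have h1 : WeaklyEtale (Spec.map (f.appLE (V x) (U x) (hUV x))) :=
        (weaklyEtale_SpecMap_iff _).2 (h (U x) (V x) (hU x) (hV x) (hUV x))
      have h2 : (U x).ι ≫ f = (hU x).isoSpec.hom ≫
          Spec.map (f.appLE (V x) (U x) (hUV x)) ≫ (hV x).fromSpec := by
        rw [IsAffineOpen.SpecMap_appLE_fromSpec f (hV x) (hU x) (hUV x),
          IsAffineOpen.isoSpec_hom_fromSpec_assoc]
      rw [h2]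
      infer_instance
    · rw [eq_top_iff]
      rintro x -
      simp only [TopologicalSpace.Opens.mem_iSup]
      exact ⟨x, hxU x⟩

/-- The source of a weakly étale morphism with reduced target is reduced. -/
theorem isReduced_of_weaklyEtale {X Y : Scheme.{u}} (f : X ⟶ Y) [WeaklyEtale f] [IsReduced Y] :
    IsReduced X := by
  have hstalk : ∀ x : X, _root_.IsReduced (X.presheaf.stalk x) := by
    intro x
    obtain ⟨V, hV, hfx, -⟩ := TopologicalSpace.Opens.isBasis_iff_nbhd.mp Y.isBasis_affineOpens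
      (TopologicalSpace.Opens.mem_top (f x))
    obtain ⟨U, hU, hx, e⟩ := TopologicalSpace.Opens.isBasis_iff_nbhd.mp X.isBasis_affineOpens
      (show x ∈ f ⁻¹ᵁ V from hfx)
    have hwe := (weaklyEtale_iff_affineOpens f).1 inferInstance U V hU hV e
    have hred : _root_.IsReduced Γ(X, U) := by
      letI := (f.appLE V U e).hom.toAlgebra
      exact AbsFlat.isReduced_of_weaklyEtale Γ(Y, V) Γ(X, U)
    letI := X.presheaf.algebra_section_stalk ⟨x, hx⟩
    have hloc := hU.isLocalization_stalk ⟨x, hx⟩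
    exact isReduced_localizationPreserves ((hU.primeIdealOf ⟨x, hx⟩).asIdeal.primeCompl)
      (X.presheaf.stalk x) hred
  exact isReduced_of_isReduced_stalk X

end Groth.Agent.Lib.helper11.WEtSch
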